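import Groth.Agent.GrpFieldLib.HomogTop
import Groth.Agent.GrpSchLib.FieldDim
import Groth.Agent.GrpSchLib.ReducedPoints

/-!
# Dimension of schemes with a transitive action
-/

set_option backward.isDefEq.respectTransparency false
set_option backward.isDefEq.respectTransparency.types false

universe u

open CategoryTheory MonoidalCategory CartesianMonoidalCategory MonObj GrpObj AlgebraicGeometry
open Limits TopologicalSpace
open scoped CategoryTheory.Obj
open Groth.Agent.GrpSchLib (IsMaxPt left_comp_apply bc bcProj)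

namespace Groth.Agent.GrpFieldLib

variable {K : Type u} [Field K] {G X : Over (Spec (CommRingCat.of K))} [GrpObj G]
  [LocallyOfFiniteType G.hom] [LocallyOfFiniteType X.hom] (a : AlgGrp.Action G X)

theorem exists_rationalPt_of_nonempty [IsAlgClosed K] {Y : Over (Spec (CommRingCat.of K))}
    [LocallyOfFiniteType Y.hom] {Z : Set Y.left} (hZ : IsClosed Z) (hne : Z.Nonempty) :
    ∃ y : 𝟙_ _ ⟶ Y, y.left (pt K) ∈ Z := by
  have := LocallyOfFiniteType.jacobsonSpace Y.hom
  obtain ⟨y, hy, hyc⟩ := nonempty_inter_closedPoints hne hZ.isLocallyClosed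
  refine ⟨Over.homMk (pointOfClosedPoint Y.hom y hyc) (pointOfClosedPoint_comp Y.hom y hyc), ?_⟩
  show pointOfClosedPoint Y.hom y hyc (pt K) ∈ Z
  rw [pointOfClosedPoint_apply]
  exact hy

/-- Over an algebraically closed field all components have the same dimension. -/
theorem height_eq_of_isMaxPt_of_isAlgClosed [IsAlgClosed K] (hΦ : Surjective (lift a.act (snd G X)).left)
    {c c' : X.left} (hc : IsMaxPt c) (hc' : IsMaxPt c') : Order.height c = Order.height c' := by
  have := LocallyOfFiniteType.jacobsonSpace X.hom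
  obtain ⟨x₀, hx, hxc⟩ := nonempty_inter_closedPoints (Z := closure {c}) ⟨c, subset_closure rfl⟩
    isClosed_closure.isLocallyClosed
  obtain ⟨x, hxm⟩ := exists_rationalPt_of_nonempty (Y := X) hxc ⟨x₀, rfl⟩
  obtain ⟨x₁, hx', hxc'⟩ := nonempty_inter_closedPoints (Z := closure {c'}) ⟨c', subset_closure rfl⟩
    isClosed_closure.isLocallyClosed
  obtain ⟨g₀, hg₀⟩ := exists_orbitMap_eq a hΦ x x₁
  obtain ⟨g, hg⟩ := exists_rationalPt_of_nonempty (Y := G) (Z := (a.orbitMap x).left ⁻¹' {x₁})
    (hxc'.preimage (a.orbitMap x).left.continuous) ⟨g₀, hg₀⟩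
  let τ := (transl (X := X) a g).hom.left
  haveI : IsIso τ := ((Over.forget _).mapIso (transl (X := X) a g)).isIso_hom
  have hx0 : x.left (pt K) = x₀ := hxm
  have h1 : τ x₀ = x₁ := by
    rw [← hx0, ← left_comp_apply]
    have : x ≫ (transl (X := X) a g).hom = g ≫ a.orbitMap x := by
      simp only [transl, AlgGrp.Action.orbitMap, ← Category.assoc, comp_lift, Category.comp_id]
      rw [toUnit_unique (x ≫ toUnit X) (𝟙 _), Category.id_comp, toUnit_unique (g ≫ toUnit G) (𝟙 _),
        Category.id_comp]
    rw [this, left_comp_apply]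
    exact hg
  have hmax : IsMaxPt (τ c) := hc.map τ.isOpenEmbedding.generalizingMap
  have h2 : τ c ⤳ x₁ := h1 ▸ (specializes_iff_mem_closure.mpr hx).map τ.continuous
  rw [GrpSchLib.height_apply_of_isIntegralHom τ c,
    hmax.eq (uniComp_homog a hΦ) hc' h2 (specializes_iff_mem_closure.mpr hx')]

/-- All components have the same dimension. -/
theorem height_eq_of_isMaxPt (hΦ : Surjective (lift a.act (snd G X)).left)
    {c c' : X.left} (hc : IsMaxPt c) (hc' : IsMaxPt c') : Order.height c = Order.height c' := by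
  let φ := algebraMap K (AlgebraicClosure K)
  have : LocallyOfFiniteType (bc G φ).hom := inferInstanceAs (LocallyOfFiniteType (pullback.snd G.hom _))
  have : LocallyOfFiniteType (bc X φ).hom := inferInstanceAs (LocallyOfFiniteType (pullback.snd X.hom _))
  have : IsIntegralHom (Spec.map (CommRingCat.ofHom φ)) :=
    (IsIntegralHom.SpecMap_iff).mpr (algebraMap_isIntegral_iff.mpr inferInstance)
  have : Surjective (Spec.map (CommRingCat.ofHom φ)) := GrpSchLib.surjective_spec_map_field _
  have hex : ∀ {c : X.left}, IsMaxPt c → ∃ d, IsMaxPt d ∧ bcProj X φ d = c := fun {c} hc => by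
    obtain ⟨c₁, hc₁⟩ := (bcProj X φ).surjective c
    obtain ⟨d, hd, hdc⟩ := GrpSchLib.exists_isMaxPt c₁
    exact ⟨d, hd, hc _ (hc₁ ▸ hdc.map (bcProj X φ).continuous)⟩
  obtain ⟨d, hd, hdc⟩ := hex hc
  obtain ⟨d', hd', hdc'⟩ := hex hc'
  have h := height_eq_of_isMaxPt_of_isAlgClosed _ (surjective_bcAction (Spec.map (CommRingCat.ofHom φ)) a hΦ) hd hd'
  rw [GrpSchLib.height_apply_of_isIntegralHom (bcProj X φ) d,
    GrpSchLib.height_apply_of_isIntegralHom (bcProj X φ) d', hdc, hdc'] at h
  exact h

omit [GrpObj G] [LocallyOfFiniteType G.hom] in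
theorem topologicalKrullDim_closure (c : X.left) :
    topologicalKrullDim ↥(closure ({c} : Set X.left)) = ((Order.height c : ℕ∞) : WithBot ℕ∞) := by
  obtain ⟨T, j, hj, hjr⟩ := GrpSchLib.exists_over_range_eq (closure {c}) isClosed_closure
  haveI : LocallyOfFiniteType T.hom := by
    rw [← Over.w j]; infer_instance
  have := GrpSchLib.irreducibleSpace_of_range j (hjr ▸ isIrreducible_singleton.closure)
  have hjη : j.left (genericPoint T.left) = c := by
    obtain ⟨t, ht⟩ : c ∈ Set.range j.left := hjr ▸ subset_closure rfl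
    have h1 : j.left (genericPoint T.left) ∈ closure {c} := hjr ▸ ⟨_, rfl⟩
    exact (((genericPoint_specializes t).map j.left.continuous).trans (ht ▸ specializes_rfl)).antisymm
      (specializes_iff_mem_closure.mpr h1) |>.eq
  rw [((j.left.isEmbedding.toHomeomorph).trans (Homeomorph.setCongr hjr)).symm.isHomeomorph.topologicalKrullDim_eq,
    VarDim.topologicalKrullDim_eq_iSup_deg T.hom, ← hjη, ← GrpSchLib.height_apply_of_isIntegralHom j.left,
    VarDim.height_eq_deg T.hom]
  refine le_antisymm (iSup_le fun t => ?_) (le_iSup_of_le _ le_rfl)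
  exact_mod_cast VarDim.deg_le_of_specializes T.hom (genericPoint_specializes t)

theorem topologicalKrullDim_connectedComponent_eq [QuasiSeparatedSpace X.left]
    (hΦ : Surjective (lift a.act (snd G X)).left) (x y : X.left) :
    topologicalKrullDim ↥(connectedComponent x) = topologicalKrullDim ↥(connectedComponent y) := by
  obtain ⟨c, hc, hcx⟩ := GrpSchLib.exists_isMaxPt x
  obtain ⟨c', hc', hcy⟩ := GrpSchLib.exists_isMaxPt y
  rw [connectedComponent_eq_closure a hΦ hc hcx, connectedComponent_eq_closure a hΦ hc' hcy,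
    topologicalKrullDim_closure, topologicalKrullDim_closure, height_eq_of_isMaxPt a hΦ hc hc']

end Groth.Agent.GrpFieldLib
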