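import Groth.Agent.GrpFieldLib.SCOm
import Groth.Agent.GrpSchLib.Action
import Mathlib.AlgebraicGeometry.Morphisms.Separated

/-! The open subset swept out by the neutral component from a separated open subset, and its
separatedness. -/

universe u

open CategoryTheory Limits AlgebraicGeometry MonoidalCategory CartesianMonoidalCategory MonObj GrpObj
open scoped CategoryTheory.Obj

namespace Groth.Agent.GrpFieldLib.SecComp

open Groth.Agent.GrpSchLib Groth.Agent.GrpSchLib.Neutral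

variable {S : Scheme.{u}} (G : Over S) [GrpObj G] [LocallyOfFiniteType G.hom]

theorem exists_preimage_of_isPullback {P A B C : Scheme.{u}} {p : P ⟶ A} {q : P ⟶ B} {f : A ⟶ C} {g : B ⟶ C}
    (h : IsPullback p q f g) (x : A) (y : B) (hxy : f x = g y) : ∃ z, p z = x ∧ q z = y := by
  obtain ⟨w, hw1, hw2⟩ := Scheme.Pullback.exists_preimage_pullback (f := f) (g := g) x y hxy
  refine ⟨h.isoPullback.inv w, ?_, ?_⟩
  · rw [← hw1, ← Scheme.Hom.comp_apply, h.isoPullback_inv_fst]
  · rw [← hw2, ← Scheme.Hom.comp_apply, h.isoPullback_inv_snd]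

/-- The image in `Y` of an open set of `G ×_S Y` met with the neutral components. -/
def omega (Y : Over S) (W : Set (G ⊗ Y).left) : Set Y.left :=
  (snd G Y).left '' (W ∩ (fst G Y).left ⁻¹' SGA3x.neutralSet G)

theorem omega_eq (Y : Over S) (W : Set (G ⊗ Y).left) :
    omega G Y W = (Red.bc Y.hom G).hom '' (W ∩ SGA3x.neutralSet (Red.bc Y.hom G)) := by
  rw [neutralSet_bc]
  rfl

theorem isOpen_omega
    (hdim : IsLocallyConstant (fun s : S => topologicalKrullDim ↥(G.hom.base ⁻¹' {s})))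
    (Y : Over S) {W : Set (G ⊗ Y).left} (hW : IsOpen W) : IsOpen (omega G Y W) := by
  haveI : LocallyOfFiniteType (Red.bc Y.hom G).hom :=
    inferInstanceAs (LocallyOfFiniteType (pullback.snd G.hom Y.hom))
  rw [omega_eq]
  exact isOpen_image_inter_neutralSet (Red.bc Y.hom G) (isLocallyConstant_dim_bc G Y.hom hdim) hW

theorem mem_omega_inter_iff (Y : Over S) {W : Set (G ⊗ Y).left} (hW : IsOpen W) {W' : Set (G ⊗ Y).left}
    (hW' : IsOpen W') (y : Y.left) : y ∈ omega G Y (W ∩ W') ↔ y ∈ omega G Y W ∧ y ∈ omega G Y W' := by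
  simp only [omega_eq]
  exact mem_image_inter_iff (Red.bc Y.hom G) hW hW' y

omit [GrpObj G] [LocallyOfFiniteType G.hom] in
theorem isPullback_whiskerLeft_snd {X Y : Over S} (f : Y ⟶ X) :
    IsPullback (G ◁ f) (snd G Y) (snd G X) f :=
  IsPullback.of_isLimit' ⟨by simp⟩ (Limits.PullbackCone.IsLimit.mk _
    (fun c => lift (c.fst ≫ fst G X) c.snd)
    (fun c => by
      apply CartesianMonoidalCategory.hom_ext
      · simp
      · simpa using c.condition.symm)
    (fun c => by simp)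
    (fun c m h1 h2 => by
      apply CartesianMonoidalCategory.hom_ext
      · rw [lift_fst, ← h1]; simp
      · simpa using h2))

omit [LocallyOfFiniteType G.hom] in
theorem omega_whiskerLeft {X Y : Over S} (f : Y ⟶ X) (W : Set (G ⊗ X).left) :
    omega G Y ((G ◁ f).left ⁻¹' W) = f.left ⁻¹' omega G X W := by
  have hpb := (isPullback_whiskerLeft_snd G f).map (Over.forget S)
  ext y
  constructor
  · rintro ⟨z, ⟨hzW, hzN⟩, rfl⟩
    refine ⟨(G ◁ f).left z, ⟨hzW, ?_⟩, ?_⟩
    · show (fst G X).left ((G ◁ f).left z) ∈ SGA3x.neutralSet G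
      rw [← left_comp_apply, whiskerLeft_fst]
      exact hzN
    · rw [← left_comp_apply, whiskerLeft_snd, left_comp_apply]
  · rintro ⟨w, ⟨hwW, hwN⟩, hw⟩
    obtain ⟨z, e1, e2⟩ := exists_preimage_of_isPullback (p := (G ◁ f).left) (q := (snd G Y).left) hpb w y hw
    refine ⟨z, ⟨by show (G ◁ f).left z ∈ W; rw [e1]; exact hwW, ?_⟩, e2⟩
    show (fst G Y).left z ∈ SGA3x.neutralSet G
    rw [← whiskerLeft_fst G f, left_comp_apply, e1]
    exact hwN

variable {G} {X : Over S} (a : AlgGrp.Action G X)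

/-- `(g, x) ↦ g⁻¹ x`. -/
noncomputable def backAct : G ⊗ X ⟶ X := (actShear a).inv ≫ snd G X

omit [LocallyOfFiniteType G.hom] in
theorem act_image_eq (U : Set X.left) :
    a.act.left '' {z : ↥(G ⊗ X).left | (fst G X).left z ∈ SGA3x.neutralSet G ∧ (snd G X).left z ∈ U} =
      omega G X ((backAct a).left ⁻¹' U) := by
  have hf : ∀ w, (fst G X).left ((actShear a).inv.left w) = (fst G X).left w := fun w => by
    rw [← left_comp_apply]; simp [actShear]
  have hs : ∀ z, (snd G X).left ((actShear a).hom.left z) = a.act.left z := fun z => by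
    rw [← left_comp_apply, actShear_hom_snd]
  have hih : ∀ z, (actShear a).inv.left ((actShear a).hom.left z) = z := fun z => by
    rw [← left_comp_apply, Iso.hom_inv_id]; rfl
  have hhi : ∀ w, (actShear a).hom.left ((actShear a).inv.left w) = w := fun w => by
    rw [← left_comp_apply, Iso.inv_hom_id]; rfl
  ext x
  constructor
  · rintro ⟨z, ⟨hzN, hzU⟩, rfl⟩
    refine ⟨(actShear a).hom.left z, ⟨?_, ?_⟩, hs z⟩
    · show (backAct a).left _ ∈ U
      rw [backAct, left_comp_apply, hih]; exact hzU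
    · show (fst G X).left _ ∈ SGA3x.neutralSet G
      rw [← hf, hih]; exact hzN
  · rintro ⟨w, ⟨hwU, hwN⟩, rfl⟩
    refine ⟨(actShear a).inv.left w, ⟨?_, ?_⟩, by rw [← hs, hhi]⟩
    · rw [hf]; exact hwN
    · have : (backAct a).left w ∈ U := hwU
      rwa [backAct, left_comp_apply] at this

omit [LocallyOfFiniteType G.hom] in
theorem act_back {T : Over S} (g : T ⟶ G) (x : T ⟶ X) :
    lift g (lift g x ≫ backAct a) ≫ a.act = x := by
  have h1 : lift g x ≫ backAct a = lift g⁻¹ x ≫ a.act := by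
    simp only [backAct, actShear, Category.assoc, lift_snd]
    rw [← Category.assoc, comp_lift, GrpObj.comp_inv, lift_fst, lift_snd]
  rw [h1, act_mul, mul_inv_cancel, act_one]

/-- The swept open subset is separated when the original one is. -/
theorem isSeparated_omega
    (hdim : IsLocallyConstant (fun s : S => topologicalKrullDim ↥(G.hom.base ⁻¹' {s})))
    (U : X.left.Opens) (hU : IsSeparated (U.ι ≫ X.hom)) (V : X.left.Opens)
    (hV : (V : Set X.left) = omega G X ((backAct a).left ⁻¹' U)) : IsSeparated (V.ι ≫ X.hom) := by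
  let Vo : Over S := Over.mk (V.ι ≫ X.hom)
  let Uo : Over S := Over.mk (U.ι ≫ X.hom)
  let iV : Vo ⟶ X := Over.homMk V.ι rfl
  let iU : Uo ⟶ X := Over.homMk U.ι rfl
  haveI : Mono iV := (Over.forget S).mono_of_mono_map (inferInstanceAs (Mono V.ι))
  haveI : Mono iU := (Over.forget S).mono_of_mono_map (inferInstanceAs (Mono U.ι))
  let Y : Over S := Vo ⊗ Vo
  let y₁ : Y ⟶ X := fst Vo Vo ≫ iV
  let y₂ : Y ⟶ X := snd Vo Vo ≫ iV
  let b₁ : G ⊗ Y ⟶ X := (G ◁ y₁) ≫ backAct a
  let b₂ : G ⊗ Y ⟶ X := (G ◁ y₂) ≫ backAct a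
  have hsat : ∀ (f : Y ⟶ X), (∀ p, f.left p ∈ V) → ∀ p,
      p ∈ omega G Y ((G ◁ f ≫ backAct a).left ⁻¹' U) := by
    intro f hf p
    have : (G ◁ f ≫ backAct a).left ⁻¹' (U : Set X.left) = (G ◁ f).left ⁻¹' ((backAct a).left ⁻¹' U) := by
      ext z; simp only [Set.mem_preimage, left_comp_apply]
    rw [this, omega_whiskerLeft]
    exact hV.le (hf p)
  let W : (G ⊗ Y).left.Opens := b₁.left ⁻¹ᵁ U ⊓ b₂.left ⁻¹ᵁ U
  let Z : Over S := Over.mk (W.ι ≫ (G ⊗ Y).hom)
  let iW : Z ⟶ G ⊗ Y := Over.homMk W.ι rfl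
  have hlift : ∀ b : G ⊗ Y ⟶ X, (∀ w ∈ W, b.left w ∈ U) → ∃ c : Z ⟶ Uo, c ≫ iU = iW ≫ b := by
    intro b hb
    have hr : Set.range (iW ≫ b).left ⊆ Set.range U.ι := by
      rintro _ ⟨z, rfl⟩
      rw [Scheme.Opens.range_ι, left_comp_apply]
      exact hb _ z.2
    refine ⟨Over.homMk (IsOpenImmersion.lift U.ι (iW ≫ b).left hr) ?_,
      Over.OverMorphism.ext (IsOpenImmersion.lift_fac _ _ _)⟩
    show _ ≫ U.ι ≫ X.hom = _
    rw [← Category.assoc, IsOpenImmersion.lift_fac, Over.w]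
  obtain ⟨c₁, hc₁⟩ := hlift b₁ fun w hw => hw.1
  obtain ⟨c₂, hc₂⟩ := hlift b₂ fun w hw => hw.2
  -- the diagonals
  let dV : Vo ⟶ Y := lift (𝟙 Vo) (𝟙 Vo)
  let dU : Uo ⟶ Uo ⊗ Uo := lift (𝟙 Uo) (𝟙 Uo)
  let q : Z ⟶ Y := iW ≫ snd G Y
  have hback : ∀ {T : Over S} (t : T ⟶ Z) (f : Y ⟶ X),
      t ≫ iW ≫ G ◁ f ≫ backAct a = lift (t ≫ iW ≫ fst G Y) (t ≫ q ≫ f) ≫ backAct a := by
    intro T t f
    rw [← Category.assoc, ← Category.assoc]
    congr 1
    apply CartesianMonoidalCategory.hom_ext <;> simp [q]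
  have heq : ∀ {T : Over S} (t : T ⟶ Z), t ≫ c₁ = t ≫ c₂ ↔ t ≫ q ≫ y₁ = t ≫ q ≫ y₂ := by
    intro T t
    rw [← cancel_mono iU, Category.assoc, Category.assoc, hc₁, hc₂]
    simp only [b₁, b₂, hback]
    refine ⟨fun h => ?_, fun h => by rw [h]⟩
    have := congrArg (fun m : T ⟶ X => lift (t ≫ iW ≫ fst G Y) m ≫ a.act) h
    simpa only [act_back] using this
  have hclU : IsClosed (Set.range dU.left) := by
    haveI : IsSeparated Uo.hom := hU
    haveI : IsClosedImmersion dU.left := IsSeparated.isClosedImmersion_diagonal (f := Uo.hom)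
    exact dU.left.isClosedEmbedding.isClosed_range
  -- the locus where the two points agree is closed in `Z`
  have hsets : (lift c₁ c₂).left ⁻¹' Set.range dU.left = q.left ⁻¹' Set.range dV.left := by
    have h1 : ∀ {T : Over S} (t : T ⟶ Z), (∃ u : T ⟶ Uo, u ≫ dU = t ≫ lift c₁ c₂) ↔ t ≫ c₁ = t ≫ c₂ := by
      intro T t
      constructor
      · rintro ⟨u, hu⟩
        have e1 := congrArg (· ≫ fst Uo Uo) hu
        have e2 := congrArg (· ≫ snd Uo Uo) hu
        simp [dU] at e1 e2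
        rw [← e1, ← e2]
      · intro h
        exact ⟨t ≫ c₁, by apply CartesianMonoidalCategory.hom_ext <;> simp [dU, h]⟩
    have h2 : ∀ {T : Over S} (t : T ⟶ Z), (∃ u : T ⟶ Vo, u ≫ dV = t ≫ q) ↔ t ≫ q ≫ y₁ = t ≫ q ≫ y₂ := by
      intro T t
      constructor
      · rintro ⟨u, hu⟩
        rw [← Category.assoc, ← hu, ← Category.assoc t, ← hu]
        simp [dV, y₁, y₂]
      · intro h
        refine ⟨t ≫ q ≫ fst Vo Vo, ?_⟩
        replace h : (t ≫ q ≫ fst Vo Vo) ≫ iV = (t ≫ q ≫ snd Vo Vo) ≫ iV := by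
          simpa [y₁, y₂, q] using h
        rw [cancel_mono] at h
        apply CartesianMonoidalCategory.hom_ext
        · simp [dV]
        · simpa [dV] using h
    have h3 : ∀ {A B : Over S} (d : A ⟶ B) (r : Z ⟶ B),
        r.left ⁻¹' Set.range d.left = Set.range (pullback.fst r d).left := by
      intro A B d r
      have hpb := (IsPullback.of_hasPullback r d).map (Over.forget S)
      ext z
      constructor
      · rintro ⟨x, hx⟩
        obtain ⟨w, hw, -⟩ := exists_preimage_of_isPullback (p := (pullback.fst r d).left)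
          (q := (pullback.snd r d).left) hpb z x hx.symm
        exact ⟨w, hw⟩
      · rintro ⟨w, rfl⟩
        refine ⟨(pullback.snd r d).left w, ?_⟩
        rw [← left_comp_apply, ← left_comp_apply, pullback.condition]
    rw [h3 dU (lift c₁ c₂), h3 dV q]
    refine subset_antisymm ?_ ?_
    · obtain ⟨u, hu⟩ := (h2 (pullback.fst (lift c₁ c₂) dU)).2 ((heq _).1 ((h1 _).1 ⟨_, pullback.condition.symm⟩))
      rintro _ ⟨w, rfl⟩
      exact ⟨(pullback.lift (pullback.fst (lift c₁ c₂) dU) u hu.symm).left w,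
        by rw [← left_comp_apply, pullback.lift_fst]⟩
    · obtain ⟨u, hu⟩ := (h1 (pullback.fst q dV)).2 ((heq _).2 ((h2 _).1 ⟨_, pullback.condition.symm⟩))
      rintro _ ⟨w, rfl⟩
      exact ⟨(pullback.lift (pullback.fst q dV) u hu.symm).left w,
        by rw [← left_comp_apply, pullback.lift_fst]⟩
  have hC : IsOpen (q.left ⁻¹' Set.range dV.left)ᶜ := by
    rw [← hsets]
    exact (hclU.preimage (lift c₁ c₂).left.continuous).isOpen_compl
  let O : Set (G ⊗ Y).left := iW.left '' (q.left ⁻¹' Set.range dV.left)ᶜ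
  have hO : IsOpen O := W.ι.isOpenEmbedding.isOpenMap _ hC
  have hOm : (Set.range dV.left)ᶜ = omega G Y O := by
    refine subset_antisymm (fun p hp => ?_) ?_
    · obtain ⟨z, ⟨⟨hz1, hz2⟩, hzN⟩, rfl⟩ :=
        (mem_omega_inter_iff G Y (U.isOpen.preimage b₁.left.continuous) (U.isOpen.preimage b₂.left.continuous) p).2
          ⟨hsat y₁ (fun p => by rw [left_comp_apply]; exact ((fst Vo Vo).left p).2) p,
            hsat y₂ (fun p => by rw [left_comp_apply]; exact ((snd Vo Vo).left p).2) p⟩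
      refine ⟨z, ⟨⟨⟨z, hz1, hz2⟩, ?_, rfl⟩, hzN⟩, rfl⟩
      intro h
      refine hp ?_
      have : q.left ⟨z, hz1, hz2⟩ ∈ Set.range dV.left := h
      rwa [left_comp_apply] at this
    · rintro _ ⟨_, ⟨⟨w, hw, rfl⟩, -⟩, rfl⟩ hp
      refine hw ?_
      show q.left w ∈ Set.range dV.left
      rwa [left_comp_apply]
  have hclosed : IsClosed (Set.range dV.left) := by
    rw [← isOpen_compl_iff, hOm]
    exact isOpen_omega G hdim Y hO
  haveI : IsClosedImmersion (pullback.diagonal Vo.hom) :=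
    IsClosedImmersion.of_isPreimmersion _ hclosed
  exact ⟨inferInstanceAs (IsClosedImmersion (pullback.diagonal Vo.hom))⟩

end Groth.Agent.GrpFieldLib.SecComp
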