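import Groth.Agent.GrpFieldLib.SCPoints

/-! Constructibility and openness of the component of the marked point. -/

namespace Groth.Agent.GrpFieldLib.SecComp

open MvPolynomial PrimeSpectrum Topology

universe u

theorem isOpen_constructibleTopology {X : Type u} [TopologicalSpace X] [CompactSpace X]
    {s : Set X} (hs : IsConstructible s) :
    IsOpen[constructibleTopology X] s ∧ IsOpen[constructibleTopology X] sᶜ := by
  induction hs using IsConstructible.empty_union_induction with
  | open_retrocompact U ho hc =>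
    exact ⟨hc.isCompact.isOpen_constructibleTopology_of_isOpen ho,
      IsCompact.isOpen_constructibleTopology_of_isClosed (by rw [compl_compl]; exact hc.isCompact)
        ho.isClosed_compl⟩
  | union s _ t _ hs' ht' =>
    refine ⟨by letI := constructibleTopology X; exact IsOpen.union hs'.1 ht'.1, ?_⟩
    rw [Set.compl_union]
    letI := constructibleTopology X
    exact IsOpen.inter hs'.2 ht'.2
  | compl s _ h => exact ⟨h.2, by rw [compl_compl]; exact h.1⟩

/-- A set which near every point is constant on a constructible set is constructible. -/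
theorem isConstructible_of_locally {R : Type u} [CommRing R] (s : Set (PrimeSpectrum R))
    (h : ∀ x, ∃ U, IsConstructible U ∧ x ∈ U ∧ (U ⊆ s ∨ U ⊆ sᶜ)) : IsConstructible s := by
  classical
  choose U hU hxU hs using h
  let W : PrimeSpectrum R → Set (WithConstructibleTopology (PrimeSpectrum R)) :=
    fun x => WithTopology.ofTopology ⁻¹' U x
  have hW : ∀ x, IsOpen (W x) := fun x => by
    rw [WithConstructibleTopology.isOpen_iff]
    exact (isOpen_constructibleTopology (hU x)).1
  obtain ⟨t, ht⟩ := (isCompact_univ (X := WithConstructibleTopology (PrimeSpectrum R))).elim_finite_subcover W hW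
    (fun x _ => Set.mem_iUnion.2 ⟨WithTopology.ofTopology x, hxU _⟩)
  have : s = ⋃ x ∈ {x | x ∈ t ∧ U x ⊆ s}, U x := by
    ext y
    simp only [Set.mem_iUnion, Set.mem_setOf_eq, exists_prop]
    refine ⟨fun hy => ?_, fun ⟨x, ⟨_, hx⟩, hyx⟩ => hx hyx⟩
    obtain ⟨x, hxt, hyx⟩ : ∃ x ∈ t, y ∈ U x := by
      have := ht (Set.mem_univ (WithTopology.toTopology _ y))
      simpa [W] using this
    exact ⟨x, ⟨hxt, (hs x).resolve_right fun h => h hyx hy⟩, hyx⟩
  rw [this]
  exact IsConstructible.biUnion (t.finite_toSet.subset fun x hx => hx.1) fun x _ => hU x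

theorem isConstructible_preimage_comap {R S : Type u} [CommRing R] [CommRing S] (f : R →+* S)
    {s : Set (PrimeSpectrum R)} (hs : IsConstructible s) : IsConstructible (comap f ⁻¹' s) := by
  obtain ⟨C, rfl⟩ := exists_constructibleSetData_iff.2 hs
  rw [← ConstructibleSetData.toSet_map]
  exact (C.map f).isConstructible_toSet

variable {σ : Type} [Fintype σ] {A : Type u} [CommRing A] (D : Datum A σ)

theorem isConstructible_zeroLocus_singleton {R : Type u} [CommRing R] (r : R) :
    IsConstructible (zeroLocus {r} : Set (PrimeSpectrum R)) := by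
  rw [← compl_compl (zeroLocus {r}), ← basicOpen_eq_zeroLocus_compl]
  exact isConstructible_basicOpen.compl

/-- The variables of the algebra of factorisations through the marked point. -/
abbrev PtVar (D : Datum A σ) : Type := box σ D.P.totalDegree ⊕ box σ D.P.totalDegree

/-- The generic first factor. -/
noncomputable def Datum.genQ : MvPolynomial σ (MvPolynomial (PtVar D) A) :=
  genPoly (box σ D.P.totalDegree) (fun i => X (Sum.inl i))

/-- The generic second factor. -/
noncomputable def Datum.genR : MvPolynomial σ (MvPolynomial (PtVar D) A) :=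
  genPoly (box σ D.P.totalDegree) (fun i => X (Sum.inr i))

/-- The equations. -/
noncomputable def Datum.ptEqs : Set (MvPolynomial (PtVar D) A) :=
  Set.range (fun m => coeff m (D.genQ * D.genR - MvPolynomial.map MvPolynomial.C D.P)) ∪
    {eval (MvPolynomial.C ∘ D.pt) D.genQ}

/-- The algebra of factorisations through the marked point. -/
abbrev Datum.PtRing : Type u := MvPolynomial (PtVar D) A ⧸ Ideal.span D.ptEqs

theorem Datum.fg_ptEqs : (Ideal.span D.ptEqs).FG :=
  Submodule.fg_def.2 ⟨_, (finite_range_coeff _).union (Set.toFinite _), rfl⟩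

/-- The universal first factor. -/
noncomputable def Datum.uQ : MvPolynomial σ D.PtRing := MvPolynomial.map (Ideal.Quotient.mk _) D.genQ

/-- The universal second factor. -/
noncomputable def Datum.uR : MvPolynomial σ D.PtRing := MvPolynomial.map (Ideal.Quotient.mk _) D.genR

theorem Datum.uQ_mul_uR : D.uQ * D.uR = MvPolynomial.map (algebraMap A D.PtRing) D.P := by
  rw [← sub_eq_zero]
  ext m
  have h : Ideal.Quotient.mk (Ideal.span D.ptEqs)
      (coeff m (D.genQ * D.genR - MvPolynomial.map MvPolynomial.C D.P)) = 0 :=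
    Ideal.Quotient.eq_zero_iff_mem.2 (Ideal.subset_span (s := D.ptEqs) (Or.inl ⟨m, rfl⟩))
  rw [← coeff_map, map_sub, map_mul, map_map] at h
  rw [coeff_zero]
  exact h

theorem Datum.eval_uQ : eval (algebraMap A D.PtRing ∘ D.pt) D.uQ = 0 := by
  have h : Ideal.Quotient.mk (Ideal.span D.ptEqs) (eval (MvPolynomial.C ∘ D.pt) D.genQ) = 0 :=
    Ideal.Quotient.eq_zero_iff_mem.2 (Ideal.subset_span (s := D.ptEqs) (Or.inr rfl))
  rw [← eval_map_comp (Ideal.Quotient.mk (Ideal.span D.ptEqs))] at h
  exact h

theorem totalDegree_map_le {R S : Type u} [CommRing R] [CommRing S] (f : R →+* S) (p : MvPolynomial σ R) :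
    (MvPolynomial.map f p).totalDegree ≤ p.totalDegree :=
  Finset.sup_mono (support_map_subset _ _)

/-- The component is constructible. -/
theorem Datum.isConstructible_comp : IsConstructible D.comp := by
  classical
  refine isConstructible_of_locally _ fun x => ?_
  by_cases hP : D.P ∈ x.asIdeal
  swap
  · exact ⟨basicOpen D.P, isConstructible_basicOpen, hP,
      Or.inr fun y hy hmem => hy (D.subset_compl_g hmem).2⟩
  by_cases hg : D.g ∈ x.asIdeal
  · exact ⟨zeroLocus {D.g}, isConstructible_zeroLocus_singleton _, by simpa [mem_zeroLocus] using hg,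
      Or.inr fun y hy hmem => (D.subset_compl_g hmem).1 (by simpa [mem_zeroLocus] using hy)⟩
  let χ := geomPt x
  have hχ : RingHom.ker χ = x.asIdeal := ker_geomPt x
  obtain ⟨Q, R, hQR, hQ, hQ0⟩ := D.exists_factor (phiOf χ)
  obtain ⟨hQd, hRd⟩ := totalDegree_le_of_mul hQR (D.Pk_ne_zero _)
  have hPd : (D.Pk (phiOf χ)).totalDegree ≤ D.P.totalDegree := totalDegree_map_le _ _
  -- the point of the algebra of factorisations
  let val : PtVar D → AlgebraicClosure x.asIdeal.ResidueField :=
    Sum.elim (fun i => coeff i.1 Q) (fun i => coeff i.1 R)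
  let θ₀ : MvPolynomial (PtVar D) A →+* AlgebraicClosure x.asIdeal.ResidueField := eval₂Hom (phiOf χ) val
  have hθC : θ₀.comp MvPolynomial.C = phiOf χ := by ext b; simp [θ₀]
  have hgQ : MvPolynomial.map θ₀ D.genQ = Q := by
    rw [Datum.genQ, map_genPoly]
    refine Eq.trans ?_ (genPoly_coeff _ (support_subset_box (hQd.trans hPd)))
    congr 1; funext i; simp [θ₀, val]
  have hgR : MvPolynomial.map θ₀ D.genR = R := by
    rw [Datum.genR, map_genPoly]
    refine Eq.trans ?_ (genPoly_coeff _ (support_subset_box (hRd.trans hPd)))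
    congr 1; funext i; simp [θ₀, val]
  let θ : D.PtRing →+* AlgebraicClosure x.asIdeal.ResidueField := Ideal.Quotient.lift _ θ₀ (by
    intro a ha
    refine RingHom.mem_ker.1 ((Ideal.span_le.2 ?_) ha)
    rintro a (⟨m, rfl⟩ | rfl)
    · show θ₀ (coeff m _) = 0
      rw [← coeff_map, map_sub, map_mul, hgQ, hgR, map_map, hθC, ← Datum.Pk, ← hQR, sub_self, coeff_zero]
    · show θ₀ _ = 0
      rw [← eval_map_comp θ₀, hgQ, ← Function.comp_assoc, show θ₀ ∘ MvPolynomial.C = phiOf χ from
        congrArg DFunLike.coe hθC, hQ0])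
  have hθA : θ.comp (algebraMap A D.PtRing) = phiOf χ := hθC
  have hθQ : MvPolynomial.map θ D.uQ = Q := by rw [Datum.uQ, map_map]; exact hgQ
  let p : PrimeSpectrum D.PtRing := ⟨RingHom.ker θ, RingHom.ker_isPrime θ⟩
  have hpE : p ∈ irrSet D.uQ := mem_irrSet θ p rfl (by rw [hθQ]; exact hQ)
  let F := comap (MvPolynomial.map (σ := σ) (algebraMap A D.PtRing))
  let ev : MvPolynomial σ D.PtRing →+* AlgebraicClosure x.asIdeal.ResidueField := eval₂Hom θ (valOf χ)
  have hev : ev.comp (MvPolynomial.map (algebraMap A D.PtRing)) = χ := by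
    refine ringHom_ext (fun r => ?_) (fun i => ?_)
    · simp only [RingHom.comp_apply, map_C, ev, eval₂Hom_C]
      exact RingHom.congr_fun hθA r
    · simp [ev, valOf]
  let y : PrimeSpectrum (MvPolynomial σ D.PtRing) := ⟨RingHom.ker ev, RingHom.ker_isPrime ev⟩
  have hFy : F y = x := by
    apply PrimeSpectrum.ext
    rw [← hχ, ← hev]; rfl
  have hyp : comap (MvPolynomial.C : D.PtRing →+* MvPolynomial σ D.PtRing) y = p := by
    apply PrimeSpectrum.ext
    show Ideal.comap _ (RingHom.ker ev) = RingHom.ker θ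
    rw [RingHom.comap_ker]
    congr 1
    exact RingHom.ext fun r => by simp [ev]
  let g'' := MvPolynomial.map (σ := σ) (algebraMap A D.PtRing) D.g
  let P'' := MvPolynomial.map (σ := σ) (algebraMap A D.PtRing) D.P
  let E := comap (MvPolynomial.C : D.PtRing →+* MvPolynomial σ D.PtRing) ⁻¹' irrSet D.uQ
  have hE : IsConstructible E :=
    isConstructible_preimage_comap (R := D.PtRing) (S := MvPolynomial σ D.PtRing) _ (isConstructible_irrSet D.uQ)
  have hfp : RingHom.FinitePresentation (A := MvPolynomial σ A) (B := MvPolynomial σ D.PtRing)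
      (MvPolynomial.map (algebraMap A D.PtRing)) := by
    haveI : Algebra.FinitePresentation A D.PtRing := Algebra.FinitePresentation.quotient D.fg_ptEqs
    have h1 : RingHom.FinitePresentation (A := D.PtRing) (B := MvPolynomial σ D.PtRing) MvPolynomial.C := by
      rw [← MvPolynomial.algebraMap_eq]
      exact RingHom.finitePresentation_algebraMap.2 inferInstance
    have h2 : RingHom.FinitePresentation (A := A) (B := MvPolynomial σ D.PtRing)
        ((MvPolynomial.map (σ := σ) (algebraMap A D.PtRing)).comp MvPolynomial.C) := by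
      have : (MvPolynomial.map (σ := σ) (algebraMap A D.PtRing)).comp MvPolynomial.C =
          MvPolynomial.C.comp (algebraMap A D.PtRing) := by ext r; simp
      rw [this]
      exact h1.comp (RingHom.finitePresentation_algebraMap.2 inferInstance)
    refine RingHom.FinitePresentation.of_comp_finiteType (MvPolynomial.C : A →+* MvPolynomial σ A) h2 ?_
    rw [← MvPolynomial.algebraMap_eq]
    exact RingHom.finiteType_algebraMap.2 inferInstance
  have key : ∀ z ∈ E, g'' ∉ z.asIdeal → (F z ∈ D.comp ↔ D.uQ ∈ z.asIdeal) := by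
    intro z hz hgz
    let χz := geomPt z
    have hker : RingHom.ker (χz.comp (MvPolynomial.map (algebraMap A D.PtRing))) = (F z).asIdeal := by
      rw [← RingHom.comap_ker, ker_geomPt]; rfl
    rw [D.mem_comp_iff _ (F z) hker]
    let θz := phiOf χz
    have hφ : phiOf (χz.comp (MvPolynomial.map (algebraMap A D.PtRing))) = θz.comp (algebraMap A D.PtRing) := by
      ext r; simp [phiOf, θz]
    have hval : valOf (χz.comp (MvPolynomial.map (algebraMap A D.PtRing))) = valOf χz := by
      funext i; simp [valOf]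
    rw [hφ, hval]
    have hirr : Irreducible (MvPolynomial.map θz D.uQ) :=
      irreducible_map_of_mem θz _ (by
        show RingHom.ker (χz.comp MvPolynomial.C) = _
        rw [← RingHom.comap_ker, ker_geomPt]; rfl) hz
    have hfac : D.Pk (θz.comp (algebraMap A D.PtRing)) =
        MvPolynomial.map θz D.uQ * MvPolynomial.map θz D.uR := by
      rw [← map_mul, D.uQ_mul_uR, Datum.Pk, map_map]
    have h0 : eval (⇑(θz.comp (algebraMap A D.PtRing)) ∘ D.pt) (MvPolynomial.map θz D.uQ) = 0 := by
      rw [show ⇑(θz.comp (algebraMap A D.PtRing)) ∘ D.pt = θz ∘ (algebraMap A D.PtRing ∘ D.pt) from rfl,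
        eval_map_comp, D.eval_uQ, map_zero]
    rw [D.inC_iff_of_factor _ hfac hirr h0]
    have hgz' : eval (valOf χz) (MvPolynomial.map (θz.comp (algebraMap A D.PtRing)) D.g) ≠ 0 := by
      rw [← map_map, eval_valOf]
      exact fun h => hgz ((ker_geomPt z).le (RingHom.mem_ker.2 h))
    rw [eval_valOf]
    exact ⟨fun h => (ker_geomPt z).le (RingHom.mem_ker.2 h.2),
      fun h => ⟨hgz', RingHom.mem_ker.1 ((ker_geomPt z).ge h)⟩⟩
  have hyE : y ∈ E := by
    have := hyp.symm ▸ hpE
    exact this
  have hyg : g'' ∉ y.asIdeal := fun h => hg (hFy ▸ h)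
  by_cases hx : D.comp x
  · refine ⟨F '' (E ∩ basicOpen g'' ∩ zeroLocus {D.uQ}),
      isConstructible_comap_image hfp ((hE.inter isConstructible_basicOpen).inter
        (isConstructible_zeroLocus_singleton (R := MvPolynomial σ D.PtRing) D.uQ)), ⟨y, ⟨⟨hyE, hyg⟩, ?_⟩, hFy⟩, Or.inl ?_⟩
    · rw [mem_zeroLocus, Set.singleton_subset_iff]
      exact (key y hyE hyg).1 (hFy ▸ hx)
    · rintro _ ⟨z, ⟨⟨hz, hgz⟩, hzQ⟩, rfl⟩
      rw [mem_zeroLocus, Set.singleton_subset_iff] at hzQ
      exact (key z hz hgz).2 hzQ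
  · refine ⟨F '' (E ∩ basicOpen g'' ∩ basicOpen D.uQ),
      isConstructible_comap_image hfp ((hE.inter isConstructible_basicOpen).inter
        isConstructible_basicOpen), ⟨y, ⟨⟨hyE, hyg⟩, fun h => hx ?_⟩, hFy⟩, Or.inr ?_⟩
    · exact hFy ▸ (key y hyE hyg).2 h
    · rintro _ ⟨z, ⟨⟨hz, hgz⟩, hzQ⟩, rfl⟩ hmem
      exact hzQ ((key z hz hgz).1 hmem)

/-- The component is open in the hypersurface. -/
theorem Datum.isOpen_comp_union : IsOpen (D.comp ∪ (zeroLocus {D.P})ᶜ) := by
  refine isOpen_of_stableUnderGeneralization_of_isConstructible ?_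
    (D.isConstructible_comp.union (isConstructible_zeroLocus_singleton _).compl)
  intro q' q hsp hmem
  rw [← PrimeSpectrum.le_iff_specializes] at hsp
  by_cases hPq : D.P ∈ q.asIdeal
  · rcases hmem with hmem | hmem
    · exact Or.inl (D.mem_comp_of_le hsp hPq hmem)
    · exact absurd (by simpa [mem_zeroLocus] using hsp hPq) hmem
  · exact Or.inr fun h => hPq (by simpa [mem_zeroLocus] using h)

/-- A point of the component and the marked point have a common generisation inside the fibre. -/
theorem Datum.exists_generic {q : PrimeSpectrum (MvPolynomial σ A)} (hq : q ∈ D.comp) :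
    ∃ ζ : PrimeSpectrum (MvPolynomial σ A), ζ ⤳ q ∧ ζ ⤳ D.sec (comap MvPolynomial.C q) ∧
      D.P ∈ ζ.asIdeal ∧ D.g ∉ ζ.asIdeal ∧ comap MvPolynomial.C ζ = comap MvPolynomial.C q := by
  obtain ⟨hg, Q, R, hQR, hQ, hQ0, hv⟩ := hq
  let k := AlgebraicClosure q.asIdeal.ResidueField
  let φ := phiOf (geomPt q)
  let F := comap (MvPolynomial.map (σ := σ) φ)
  haveI : (Ideal.span {Q}).IsPrime := (Ideal.span_singleton_prime hQ.ne_zero).2 hQ.prime
  let η : PrimeSpectrum (MvPolynomial σ k) := ⟨Ideal.span {Q}, inferInstance⟩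
  let gk := MvPolynomial.map φ D.g
  let Z : Set (PrimeSpectrum (MvPolynomial σ k)) := {z | Q ∈ z.asIdeal ∧ gk ∉ z.asIdeal}
  have hη : η ∈ Z := by
    refine ⟨Ideal.mem_span_singleton_self Q, fun h => ?_⟩
    obtain ⟨t, ht⟩ := Ideal.mem_span_singleton.1 h
    refine D.eval_g_pt φ ?_
    rw [show MvPolynomial.map φ D.g = Q * t from ht, map_mul, hQ0, zero_mul]
  have hpts : ∀ w : σ → k, eval w Q = 0 → eval w gk ≠ 0 →
      (⟨RingHom.ker (eval w), RingHom.ker_isPrime _⟩ : PrimeSpectrum (MvPolynomial σ k)) ∈ Z :=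
    fun w h1 h2 => ⟨RingHom.mem_ker.2 h1, fun h => h2 (RingHom.mem_ker.1 h)⟩
  have hsp : ∀ z ∈ Z, η ⤳ z := fun z hz =>
    (PrimeSpectrum.le_iff_specializes _ _).1 ((Ideal.span_singleton_le_iff_mem _).2 hz.1)
  have key : ∀ w ∈ Z, ∀ z, F w = z → F η ⤳ z := fun w hw z h =>
    h ▸ (hsp w hw).map (PrimeSpectrum.continuous_comap _)
  refine ⟨F η, key _ (hpts _ hv hg) q ?_, key _ (hpts _ hQ0 (D.eval_g_pt φ)) _ ?_, ?_⟩
  · apply PrimeSpectrum.ext
    show Ideal.comap _ (RingHom.ker _) = _
    refine Eq.trans ?_ (ker_geomPt q)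
    rw [RingHom.comap_ker]
    congr 1
    ext p <;> simp [φ, phiOf, valOf]
  · apply PrimeSpectrum.ext
    show Ideal.comap _ (RingHom.ker _) = Ideal.comap _ (Ideal.comap _ q.asIdeal)
    refine Eq.trans ?_ (congrArg (fun I => Ideal.comap _ (Ideal.comap _ I)) (ker_geomPt q))
    rw [RingHom.comap_ker, RingHom.comap_ker, RingHom.comap_ker]
    congr 1
    ext p <;> simp [φ, phiOf]
  · obtain ⟨hzQ, hzg⟩ := hη
    refine ⟨?_, hzg, ?_⟩
    · show MvPolynomial.map φ D.P ∈ η.asIdeal
      rw [show MvPolynomial.map φ D.P = Q * R from hQR]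
      exact η.asIdeal.mul_mem_right _ hzQ
    · apply PrimeSpectrum.ext
      show Ideal.comap _ (Ideal.comap _ η.asIdeal) = Ideal.comap _ q.asIdeal
      ext r
      simp only [Ideal.mem_comap, map_C]
      rw [show (MvPolynomial.C r ∈ q.asIdeal ↔ φ r = 0) from
        ⟨fun h => (ker_geomPt q).ge h, fun h => (ker_geomPt q).le h⟩]
      refine ⟨fun h => ?_, fun h => by rw [h, C_0]; exact η.asIdeal.zero_mem⟩
      by_contra h0
      exact η.isPrime.ne_top (Ideal.eq_top_of_isUnit_mem _ h ((isUnit_iff_ne_zero.2 h0).map MvPolynomial.C))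

end Groth.Agent.GrpFieldLib.SecComp
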