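import Groth.Agent.GrpFieldLib.SVRat
import Groth.Agent.DSPtsLib.Basic
import Groth.Agent.GrpSchLib.SmoothReduced
import Groth.Agent.GrpSchLib.FibreDimGrp
import Groth.Agent.FibDim.RelDim
import Groth.Agent.GrpFieldLib.SCOpen
import Groth.Agent.GrpFieldLib.SCAction
import Groth.Agent.GrpSchLib.CharZeroPts
import Groth.Prelude.Def_AGF

/-! Solvability and nilpotency of the geometric fibres of a group scheme. -/

universe u

open CategoryTheory CategoryTheory.Limits AlgebraicGeometry MonoidalCategory CartesianMonoidalCategory MonObj GrpObj Topology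
open scoped CategoryTheory.Obj commutatorElement

namespace Groth.Agent.GrpFieldLib.SolvBound

open Groth.Agent.GrpSchLib Groth.Agent.GrpSchLib.Neutral

section GroupWords

variable {Γ : Type u} [Group Γ]

theorem commutator_closure_eq (A B : Set Γ) (hA : ∀ g, ∀ a ∈ A, g * a * g⁻¹ ∈ A)
    (hB : ∀ g, ∀ b ∈ B, g * b * g⁻¹ ∈ B) :
    ⁅Subgroup.closure A, Subgroup.closure B⁆ = Subgroup.closure (Set.image2 (fun a b => ⁅a, b⁆) A B) := by
  let N := Subgroup.closure (Set.image2 (fun a b => ⁅a, b⁆) A B)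
  have hN : ∀ g, ∀ x ∈ N, g * x * g⁻¹ ∈ N := by
    intro g x hx
    induction hx using Subgroup.closure_induction with
    | mem x hx =>
      obtain ⟨a, ha, b, hb, rfl⟩ := hx
      exact Subgroup.subset_closure ⟨_, hA g a ha, _, hB g b hb, (by simp only [commutatorElement_def]; group)⟩
    | one => simpa using N.one_mem
    | mul x y _ _ hx hy => simpa [_root_.mul_assoc] using N.mul_mem hx hy
    | inv x _ hx => simpa [_root_.mul_assoc] using N.inv_mem hx
  have h1 : ∀ a ∈ A, ∀ b ∈ Subgroup.closure B, ⁅a, b⁆ ∈ N := by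
    intro a ha b hb
    induction hb using Subgroup.closure_induction with
    | mem b hb => exact Subgroup.subset_closure ⟨a, ha, b, hb, rfl⟩
    | one => rw [commutatorElement_one_right]; exact N.one_mem
    | mul x y _ _ hx hy =>
      have : ⁅a, x * y⁆ = ⁅a, x⁆ * (x * ⁅a, y⁆ * x⁻¹) := by simp only [commutatorElement_def]; group
      rw [this]
      exact N.mul_mem hx (hN x _ hy)
    | inv x _ hx =>
      have : ⁅a, x⁻¹⁆ = x⁻¹ * ⁅a, x⁆⁻¹ * (x⁻¹)⁻¹ := by simp only [commutatorElement_def]; group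
      rw [this]
      exact hN x⁻¹ _ (N.inv_mem hx)
  refine le_antisymm (Subgroup.commutator_le.2 fun a ha b hb => ?_) ((Subgroup.closure_le _).2 ?_)
  · induction ha using Subgroup.closure_induction with
    | mem a ha => exact h1 a ha b hb
    | one => rw [commutatorElement_one_left]; exact N.one_mem
    | mul x y _ _ hx hy =>
      have : ⁅x * y, b⁆ = x * ⁅y, b⁆ * x⁻¹ * ⁅x, b⁆ := by simp only [commutatorElement_def]; group
      rw [this]
      exact N.mul_mem (hN x _ hy) hx
    | inv x _ hx =>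
      have : ⁅x⁻¹, b⁆ = x⁻¹ * ⁅x, b⁆⁻¹ * (x⁻¹)⁻¹ := by simp only [commutatorElement_def]; group
      rw [this]
      exact hN x⁻¹ _ (N.inv_mem hx)
  · rintro _ ⟨a, ha, b, hb, rfl⟩
    exact Subgroup.commutator_mem_commutator (Subgroup.subset_closure ha) (Subgroup.subset_closure hb)

theorem eq_bot_congr {Γ' : Type u} [Group Γ'] (e : Γ ≃* Γ') :
    (∀ n, derivedSeries Γ n = ⊥ ↔ derivedSeries Γ' n = ⊥) ∧
      ∀ n, (⊤ : Subgroup Γ).lowerCentralSeries n = ⊥ ↔ (⊤ : Subgroup Γ').lowerCentralSeries n = ⊥ := by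
  refine ⟨fun n => ?_, fun n => ?_⟩
  · rw [← map_derivedSeries_eq (f := e.toMonoidHom) e.surjective n, Subgroup.map_eq_bot_iff_of_injective]
    exact e.injective
  · have : (⊤ : Subgroup Γ).map e.toMonoidHom = ⊤ := Subgroup.map_top_of_surjective _ e.surjective
    rw [← this, ← Subgroup.map_lowerCentralSeries, Subgroup.map_eq_bot_iff_of_injective]
    exact e.injective

end GroupWords

variable {S : Scheme.{u}} (G : Over S) [GrpObj G]

section Words

/-- The derived word of depth `n`. -/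
noncomputable def wordD : ℕ → Σ P : Over S, P ⟶ G
  | 0 => ⟨G, 𝟙 G⟩
  | n + 1 => ⟨(wordD n).1 ⊗ (wordD n).1,
      (fst _ _ ≫ (wordD n).2) * (snd _ _ ≫ (wordD n).2) * (fst _ _ ≫ (wordD n).2)⁻¹ *
        (snd _ _ ≫ (wordD n).2)⁻¹⟩

/-- The iterated commutator word of length `n + 1`. -/
noncomputable def wordN : ℕ → Σ P : Over S, P ⟶ G
  | 0 => ⟨G, 𝟙 G⟩
  | n + 1 => ⟨(wordN n).1 ⊗ G,
      (fst _ _ ≫ (wordN n).2) * snd _ _ * (fst _ _ ≫ (wordN n).2)⁻¹ * (snd _ _)⁻¹⟩

variable {G}

/-- The values of a word. -/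
def vals (w : Σ P : Over S, P ⟶ G) (X : Over S) : Set (X ⟶ G) := Set.range fun f : X ⟶ w.1 => f ≫ w.2

theorem vals_wordD_zero (X : Over S) : vals (wordD G 0) X = Set.univ :=
  Set.eq_univ_of_forall fun f => ⟨f, Category.comp_id f⟩

theorem vals_wordN_zero (X : Over S) : vals (wordN G 0) X = Set.univ :=
  Set.eq_univ_of_forall fun f => ⟨f, Category.comp_id f⟩

theorem vals_wordD_succ (n : ℕ) (X : Over S) :
    vals (wordD G (n + 1)) X = Set.image2 (fun a b : X ⟶ G => ⁅a, b⁆) (vals (wordD G n) X) (vals (wordD G n) X) := by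
  ext x
  constructor
  · rintro ⟨f, rfl⟩
    refine ⟨_, ⟨f ≫ fst _ _, rfl⟩, _, ⟨f ≫ snd _ _, rfl⟩, ?_⟩
    simp only [wordD, commutatorElement_def, MonObj.comp_mul, GrpObj.comp_inv, Category.assoc]
  · rintro ⟨_, ⟨a, rfl⟩, _, ⟨b, rfl⟩, rfl⟩
    refine ⟨lift a b, ?_⟩
    simp only [wordD, commutatorElement_def, MonObj.comp_mul, GrpObj.comp_inv, lift_fst_assoc, lift_snd_assoc]

theorem vals_wordN_succ (n : ℕ) (X : Over S) :
    vals (wordN G (n + 1)) X = Set.image2 (fun a b : X ⟶ G => ⁅a, b⁆) (vals (wordN G n) X) Set.univ := by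
  ext x
  constructor
  · rintro ⟨f, rfl⟩
    refine ⟨_, ⟨f ≫ fst _ _, rfl⟩, f ≫ snd _ _, Set.mem_univ _, ?_⟩
    simp only [wordN, commutatorElement_def, MonObj.comp_mul, GrpObj.comp_inv, Category.assoc]
  · rintro ⟨_, ⟨a, rfl⟩, b, -, rfl⟩
    refine ⟨lift a b, ?_⟩
    simp only [wordN, commutatorElement_def, MonObj.comp_mul, GrpObj.comp_inv, lift_fst_assoc, lift_snd]

theorem derivedSeries_eq_closure (n : ℕ) (X : Over S) :
    derivedSeries (X ⟶ G) n = Subgroup.closure (vals (wordD G n) X) ∧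
      ∀ g, ∀ a ∈ vals (wordD G n) X, g * a * g⁻¹ ∈ vals (wordD G n) X := by
  induction n with
  | zero => simp [vals_wordD_zero]
  | succ n ih =>
    obtain ⟨ih1, ih2⟩ := ih
    rw [derivedSeries_succ, ih1, vals_wordD_succ, commutator_closure_eq _ _ ih2 ih2]
    refine ⟨rfl, ?_⟩
    rintro g _ ⟨a, ha, b, hb, rfl⟩
    exact ⟨_, ih2 g a ha, _, ih2 g b hb, (by simp only [commutatorElement_def]; group)⟩

theorem lowerCentralSeries_eq_closure (n : ℕ) (X : Over S) :
    (⊤ : Subgroup (X ⟶ G)).lowerCentralSeries n = Subgroup.closure (vals (wordN G n) X) ∧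
      ∀ g, ∀ a ∈ vals (wordN G n) X, g * a * g⁻¹ ∈ vals (wordN G n) X := by
  induction n with
  | zero => simp [vals_wordN_zero]
  | succ n ih =>
    obtain ⟨ih1, ih2⟩ := ih
    have hu : ∀ g : X ⟶ G, ∀ a ∈ (Set.univ : Set (X ⟶ G)), g * a * g⁻¹ ∈ (Set.univ : Set (X ⟶ G)) :=
      fun _ _ _ => Set.mem_univ _
    rw [Subgroup.lowerCentralSeries_succ, ih1, vals_wordN_succ, ← Subgroup.closure_univ,
      commutator_closure_eq _ _ ih2 hu]
    refine ⟨rfl, ?_⟩
    rintro g _ ⟨a, ha, b, -, rfl⟩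
    exact ⟨_, ih2 g a ha, _, Set.mem_univ (g * b * g⁻¹), (by simp only [commutatorElement_def]; group)⟩

theorem derivedSeries_eq_bot_iff (n : ℕ) (X : Over S) :
    derivedSeries (X ⟶ G) n = ⊥ ↔ ∀ f : X ⟶ (wordD G n).1, f ≫ (wordD G n).2 = 1 := by
  rw [(derivedSeries_eq_closure n X).1, Subgroup.closure_eq_bot_iff]
  exact ⟨fun h f => h ⟨f, rfl⟩, fun h => by rintro _ ⟨f, rfl⟩; exact h f⟩

theorem lowerCentralSeries_eq_bot_iff (n : ℕ) (X : Over S) :
    (⊤ : Subgroup (X ⟶ G)).lowerCentralSeries n = ⊥ ↔ ∀ f : X ⟶ (wordN G n).1, f ≫ (wordN G n).2 = 1 := by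
  rw [(lowerCentralSeries_eq_closure n X).1, Subgroup.closure_eq_bot_iff]
  exact ⟨fun h f => h ⟨f, rfl⟩, fun h => by rintro _ ⟨f, rfl⟩; exact h f⟩

theorem tensor_property {P : MorphismProperty Scheme.{u}} [P.IsStableUnderBaseChange]
    [P.IsStableUnderComposition] {A B : Over S} (hA : P A.hom) (hB : P B.hom) : P (A ⊗ B).hom := by
  have h : P (pullback.fst A.hom B.hom) := MorphismProperty.pullback_fst _ _ hB
  exact P.comp_mem _ _ h hA

variable (G) in
theorem word_property {P : MorphismProperty Scheme.{u}} [P.IsStableUnderBaseChange]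
    [P.IsStableUnderComposition] (hG : P G.hom) (n : ℕ) : P (wordD G n).1.hom ∧ P (wordN G n).1.hom := by
  induction n with
  | zero => exact ⟨hG, hG⟩
  | succ n ih => exact ⟨tensor_property ih.1 ih.1, tensor_property ih.2 hG⟩

end Words

section Vanish

variable {G} {P : Over S}

/-- The points of the base over which a morphism to `G` is pointwise trivial. -/
def vanishSet (ψ : P ⟶ G) : Set S :=
  {s | ∀ p : P.left, P.hom p = s → ψ.left p ∈ Set.range (unit G)}

theorem one_left (T : Over S) : (1 : T ⟶ G).left = T.hom ≫ unit G := by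
  have h : (1 : T ⟶ G) = toUnit T ≫ η[G] := by rw [MonObj.one_eq_one, MonObj.comp_one]
  rw [h, Over.comp_left]
  congr 1

theorem mem_range_of_eq_one {T : Over S} (h : T ⟶ G) (h1 : h = 1) (t : T.left) :
    h.left t ∈ Set.range (unit G) := by
  subst h1
  exact ⟨T.hom t, by rw [one_left, Scheme.Hom.comp_apply]⟩

theorem eq_one_of_range [IsSeparated G.hom] {T : Over S} [IsReduced T.left] (h : T ⟶ G)
    (hr : ∀ t, h.left t ∈ Set.range (unit G)) : h = 1 := by
  haveI : IsClosedImmersion (unit G) := by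
    haveI : IsClosedImmersion (unit G ≫ G.hom) := by
      rw [show unit G ≫ G.hom = 𝟙 S from Over.w η[G]]
      infer_instance
    exact IsClosedImmersion.of_comp (unit G) G.hom
  haveI : IsClosedImmersion (pullback.fst h.left (unit G)) :=
    MorphismProperty.pullback_fst _ _ ‹IsClosedImmersion (unit G)›
  haveI : Surjective (pullback.fst h.left (unit G)) := by
    refine ⟨fun t => ?_⟩
    have : t ∈ Set.range (pullback.fst h.left (unit G)) := by
      rw [Scheme.Pullback.range_fst]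
      exact hr t
    exact this
  haveI := isIso_of_isClosedImmersion_of_surjective (pullback.fst h.left (unit G))
  obtain ⟨l, hl⟩ : ∃ l : T.left ⟶ S, h.left = l ≫ unit G :=
    ⟨inv (pullback.fst h.left (unit G)) ≫ pullback.snd _ _, by
      rw [Category.assoc, ← pullback.condition, IsIso.inv_hom_id_assoc]⟩
  refine Over.OverMorphism.ext ?_
  rw [one_left, hl]
  congr 1
  have := Over.w h
  rw [hl, Category.assoc, show unit G ≫ G.hom = 𝟙 S from Over.w η[G], Category.comp_id] at this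
  exact this

theorem isClosed_vanishSet [IsSeparated G.hom] (ψ : P ⟶ G) [UniversallyOpen P.hom] :
    IsClosed (vanishSet ψ) := by
  haveI : IsClosedImmersion (unit G) := by
    haveI : IsClosedImmersion (unit G ≫ G.hom) := by
      rw [show unit G ≫ G.hom = 𝟙 S from Over.w η[G]]
      infer_instance
    exact IsClosedImmersion.of_comp (unit G) G.hom
  have : (vanishSet ψ)ᶜ = P.hom '' (ψ.left ⁻¹' Set.range (unit G))ᶜ := by
    ext s
    simp only [vanishSet, Set.mem_compl_iff, Set.mem_setOf_eq, not_forall, Set.mem_image, Set.mem_preimage]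
    exact ⟨fun ⟨p, hp, h⟩ => ⟨p, h, hp⟩, fun ⟨p, h, hp⟩ => ⟨p, hp, h⟩⟩
  rw [← isOpen_compl_iff, this]
  exact P.hom.isOpenMap _ ((unit G).isClosedEmbedding.isClosed_range.preimage ψ.left.continuous).isOpen_compl

variable {k : Type u} [Field k] (g : Spec (CommRingCat.of k) ⟶ S) {s : S}
  (hg : g (IsLocalRing.closedPoint k) = s)

include hg

theorem hom_eq (q : ↥(pullback P.hom g)) : P.hom (pullback.fst P.hom g q) = s := by
  rw [← Scheme.Hom.comp_apply, pullback.condition, Scheme.Hom.comp_apply, ← hg]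
  exact congrArg g (Subsingleton.elim _ _)

omit hg in
/-- Over the old unit there is only the new unit. -/
theorem mem_range_unit_bc {q : ↥(pullback G.hom g)} (h : pullback.fst G.hom g q ∈ Set.range (unit G)) :
    q ∈ Set.range (unit (Red.bc g G)) := by
  let u' : Spec (CommRingCat.of k) ⟶ pullback G.hom g := unit (Red.bc g G)
  have h1 : u' ≫ pullback.fst G.hom g = g ≫ unit G := by
    have e1 : ((Over.pullback g).map η[G]).left ≫ pullback.fst G.hom g =
        pullback.fst (𝟙_ (Over S)).hom g ≫ η[G].left := pullback.lift_fst _ _ _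
    have e2 : (Functor.LaxMonoidal.ε (Over.pullback g)).left ≫ pullback.fst (𝟙_ (Over S)).hom g = g := by
      have h4 : (Functor.LaxMonoidal.ε (Over.pullback g)).left ≫ pullback.snd (𝟙_ (Over S)).hom g = 𝟙 _ :=
        Over.w (Functor.LaxMonoidal.ε (Over.pullback g))
      have h5 : pullback.fst (𝟙_ (Over S)).hom g = pullback.snd (𝟙_ (Over S)).hom g ≫ g := by
        rw [← pullback.condition]
        exact (Category.comp_id _).symm
      rw [h5, reassoc_of% h4]
    show (η[Red.bc g G]).left ≫ pullback.fst G.hom g = g ≫ η[G].left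
    rw [show η[Red.bc g G] = Functor.LaxMonoidal.ε (Over.pullback g) ≫ (Over.pullback g).map η[G] from rfl,
      Over.comp_left, Category.assoc, e1, reassoc_of% e2]
  have h2 : u' ≫ pullback.snd G.hom g = 𝟙 _ := Over.w η[Red.bc g G]
  have sq : IsPullback g u' (unit G) (pullback.fst G.hom g) := by
    refine IsPullback.of_bot ?_ h1.symm (IsPullback.of_hasPullback G.hom g)
    rw [h2, show unit G ≫ G.hom = 𝟙 S from Over.w η[G]]
    exact IsPullback.of_vert_isIso ⟨by simp⟩
  obtain ⟨t, ht⟩ := h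
  obtain ⟨z, -, hz⟩ := Groth.Agent.GrpFieldLib.SecComp.exists_preimage_of_isPullback sq t q ht
  exact ⟨z, hz⟩

omit hg in
theorem bc_map_eq {T : Over S} (ψ : T ⟶ G) :
    Groth.Agent.DSPtsLib.theta g (𝟙 (Red.bc g T)) ≫ ψ =
      Groth.Agent.DSPtsLib.theta g ((Over.pullback g).map ψ) := by
  refine Over.OverMorphism.ext ?_
  rw [Over.comp_left, Groth.Agent.DSPtsLib.theta_left, Groth.Agent.DSPtsLib.theta_left]
  erw [pullback.lift_fst, Category.id_comp]

theorem eq_one_of_mem_vanishSet (ψ : P ⟶ G) (hs : s ∈ vanishSet ψ) [IsReduced (Red.bc g P).left]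
    (Y : Over (Spec (CommRingCat.of k))) (f : (Over.map g).obj Y ⟶ P) : f ≫ ψ = 1 := by
  obtain ⟨a, rfl⟩ := (Groth.Agent.DSPtsLib.theta_bijective g (Y := Y) (H := P)).2 f
  rw [← Category.comp_id a, Groth.Agent.DSPtsLib.theta_comp, Category.assoc, bc_map_eq]
  haveI : IsSeparated (Red.bc g G).hom := CharZeroPts.isSeparated_grp _
  haveI : IsReduced ((Over.pullback g).obj P).left := ‹IsReduced (Red.bc g P).left›
  rw [eq_one_of_range (G := Red.bc g G) ((Over.pullback g).map ψ) fun q => mem_range_unit_bc g ?_]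
  · have h1 : Groth.Agent.DSPtsLib.theta g (1 : Red.bc g P ⟶ Red.bc g G) = 1 := by
      have := Groth.Agent.DSPtsLib.theta_mul g (1 : Red.bc g P ⟶ Red.bc g G) 1
      rw [_root_.mul_one] at this
      exact left_eq_mul.1 this
    exact (congrArg _ h1).trans (MonObj.comp_one _)
  · have : (((Over.pullback g).map ψ).left ≫ pullback.fst G.hom g) q = (pullback.fst P.hom g ≫ ψ.left) q :=
      congrArg (fun m : pullback P.hom g ⟶ G.left => m q) (pullback.lift_fst _ _ _)
    rw [Scheme.Hom.comp_apply, Scheme.Hom.comp_apply] at this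
    rw [this]
    exact hs _ (hom_eq g hg q)

theorem mem_vanishSet_of_rational [IsAlgClosed k] (ψ : P ⟶ G) [LocallyOfFiniteType P.hom]
    (h : ∀ f : (Over.map g).obj (𝟙_ (Over (Spec (CommRingCat.of k)))) ⟶ P, f ≫ ψ = 1) :
    s ∈ vanishSet ψ := by
  intro p hp
  by_contra hne
  obtain ⟨q₀, hq₀, -⟩ := Scheme.Pullback.exists_preimage_pullback (f := P.hom) (g := g) p
    (IsLocalRing.closedPoint k) (hp.trans hg.symm)
  haveI : LocallyOfFiniteType (Red.bc g P).hom :=
    MorphismProperty.pullback_snd (P := @LocallyOfFiniteType) _ _ ‹_›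
  haveI : JacobsonSpace ↥(Red.bc g P).left := LocallyOfFiniteType.jacobsonSpace (Red.bc g P).hom
  haveI : IsSeparated (Red.bc g G).hom := CharZeroPts.isSeparated_grp _
  haveI : IsClosedImmersion (unit (Red.bc g G)) := by
    haveI : IsClosedImmersion (unit (Red.bc g G) ≫ (Red.bc g G).hom) := by
      rw [show unit (Red.bc g G) ≫ (Red.bc g G).hom = 𝟙 _ from Over.w η[Red.bc g G]]
      infer_instance
    exact IsClosedImmersion.of_comp (unit (Red.bc g G)) (Red.bc g G).hom
  let m : (Red.bc g P).left ⟶ (Red.bc g G).left := ((Over.pullback g).map ψ).left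
  have hm : ∀ q, pullback.fst G.hom g (m q) = ψ.left (pullback.fst P.hom g q) := fun q => by
    have : (m ≫ pullback.fst G.hom g) q = (pullback.fst P.hom g ≫ ψ.left) q :=
      congrArg (fun m : pullback P.hom g ⟶ G.left => m q) (pullback.lift_fst _ _ _)
    rwa [Scheme.Hom.comp_apply, Scheme.Hom.comp_apply] at this
  obtain ⟨q, hqO, hqc⟩ := nonempty_inter_closedPoints (Z := m ⁻¹' (Set.range (unit (Red.bc g G)))ᶜ)
    ⟨q₀, fun ⟨z, hz⟩ => hne (by
      rw [← hq₀, ← hm, ← hz, bc_unit]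
      exact ⟨_, rfl⟩)⟩
    (((unit (Red.bc g G)).isClosedEmbedding.isClosed_range.isOpen_compl).preimage m.continuous).isLocallyClosed
  obtain ⟨r, rfl⟩ := exists_pt_eq (H := Red.bc g P) hqc
  refine hqO (mem_range_unit_bc g ?_)
  rw [hm]
  have := mem_range_of_eq_one _ (h (Groth.Agent.DSPtsLib.theta g r)) (IsLocalRing.closedPoint k)
  rw [Over.comp_left, Scheme.Hom.comp_apply, Groth.Agent.DSPtsLib.theta_left, Scheme.Hom.comp_apply] at this
  exact this

end Vanish

section Fibre

variable {k : Type u} [Field k] [IsAlgClosed k] (g : Spec (CommRingCat.of k) ⟶ S) {s : S}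
  (hg : g (IsLocalRing.closedPoint k) = s)

/-- Points of the base change as points over the old base. -/
noncomputable def thetaEquiv (Y : Over (Spec (CommRingCat.of k))) :
    (Y ⟶ Red.bc g G) ≃* ((Over.map g).obj Y ⟶ G) :=
  { Equiv.ofBijective (Groth.Agent.DSPtsLib.theta g) (Groth.Agent.DSPtsLib.theta_bijective g) with
    map_mul' := Groth.Agent.DSPtsLib.theta_mul g }

variable [LocallyOfFiniteType G.hom] [QuasiCompact G.hom]

include hg

omit [IsAlgClosed k] in
theorem dim_bc {d : ℕ} (hd : topologicalKrullDim ↥(G.hom ⁻¹' {s}) ≤ (d : WithBot ℕ∞)) :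
    topologicalKrullDim ↥(Red.bc g G).left ≤ (d : WithBot ℕ∞) := by
  haveI : LocallyOfFiniteType (Red.bc g G).hom :=
    MorphismProperty.pullback_snd (P := @LocallyOfFiniteType) _ _ inferInstance
  haveI : LocallyOfFiniteType (pullback.snd G.hom g) := ‹LocallyOfFiniteType (Red.bc g G).hom›
  let z : Spec (CommRingCat.of k) := IsLocalRing.closedPoint k
  have h := FibreDimGrp.dim_eq (Red.bc g G) z
  have h' : FlatMor.fibreDimAt (Red.bc g G).hom (unit (Red.bc g G) z) =
      FlatMor.fibreDimAt G.hom (pullback.fst G.hom g (unit (Red.bc g G) z)) :=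
    FibDim.fibreDimAt_baseChange (IsPullback.of_hasPullback G.hom g) _
  have hu : (Red.bc g G).hom ⁻¹' {z} = Set.univ := Set.eq_univ_of_forall fun y => Subsingleton.elim _ _
  have e : topologicalKrullDim ↥(Red.bc g G).left = topologicalKrullDim ↥((Red.bc g G).hom ⁻¹' {z}) := by
    rw [hu]
    exact ((Homeomorph.Set.univ _).isHomeomorph.topologicalKrullDim_eq).symm
  rw [e, h, h', FibreDimGrp.fibreDimAt_eq, hom_eq (P := G) g hg]
  exact hd

omit [IsAlgClosed k] [LocallyOfFiniteType G.hom] [QuasiCompact G.hom] hg in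
theorem smooth_bc_tensor {A B : Over S} (hA : Smooth (Red.bc g A).hom) (hB : Smooth (Red.bc g B).hom) :
    Smooth (Red.bc g (A ⊗ B)).hom := by
  let e := Functor.Monoidal.μIso (Over.pullback g) A B
  have he : e.inv.left ≫ ((Over.pullback g).obj A ⊗ (Over.pullback g).obj B).hom = (Red.bc g (A ⊗ B)).hom :=
    Over.w e.inv
  rw [← he]
  haveI : IsIso e.inv.left := inferInstanceAs (IsIso ((Over.forget _).map e.inv))
  exact MorphismProperty.comp_mem @Smooth _ _ inferInstance (tensor_property (P := @Smooth) hA hB)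

omit [IsAlgClosed k] [LocallyOfFiniteType G.hom] [QuasiCompact G.hom] hg in
theorem smooth_bc_word (hsm : Smooth (Red.bc g G).hom) (n : ℕ) :
    Smooth (Red.bc g (wordD G n).1).hom ∧ Smooth (Red.bc g (wordN G n).1).hom := by
  induction n with
  | zero => exact ⟨hsm, hsm⟩
  | succ n ih => exact ⟨smooth_bc_tensor g ih.1 ih.1, smooth_bc_tensor g ih.2 hsm⟩

theorem mem_vanishSet_iff (hsm : Smooth (Red.bc g G).hom) {B d : ℕ}
    (hd : topologicalKrullDim ↥(G.hom ⁻¹' {s}) ≤ (d : WithBot ℕ∞))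
    (hB : ∀ f : Fin (B + 1) → (𝟙_ (Over (Spec (CommRingCat.of k))) ⟶ Red.bc g G),
      ∃ i j, i ≠ j ∧ (f i)⁻¹ * f j ∈ neutralSub (H := Red.bc g G)) :
    (Red.IsSolvableGrp (Red.bc g G) ↔ s ∈ vanishSet (wordD G (B + d)).2) ∧
      (AGF.IsNilpotentGrp (Red.bc g G) ↔ s ∈ vanishSet (wordN G (B + d)).2) := by
  haveI hlf : ∀ n, LocallyOfFiniteType (wordD G n).1.hom := fun n =>
    (word_property G (P := @LocallyOfFiniteType) ‹_› n).1
  haveI hlf' : ∀ n, LocallyOfFiniteType (wordN G n).1.hom := fun n =>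
    (word_property G (P := @LocallyOfFiniteType) ‹_› n).2
  haveI hred : ∀ n, IsReduced (Red.bc g (wordD G n).1).left := fun n =>
    haveI := (smooth_bc_word G g hsm n).1
    isReduced_of_smooth_field (Red.bc g (wordD G n).1).hom
  haveI hred' : ∀ n, IsReduced (Red.bc g (wordN G n).1).left := fun n =>
    haveI := (smooth_bc_word G g hsm n).2
    isReduced_of_smooth_field (Red.bc g (wordN G n).1).hom
  haveI : LocallyOfFiniteType (Red.bc g G).hom :=
    MorphismProperty.pullback_snd (P := @LocallyOfFiniteType) _ _ inferInstance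
  haveI : QuasiCompact (Red.bc g G).hom :=
    MorphismProperty.pullback_snd (P := @QuasiCompact) _ _ inferInstance
  obtain ⟨hbD, hbN⟩ := bounds (H := Red.bc g G) (B := B) (d := d) (dim_bc G g hg hd) hB
  refine ⟨⟨fun ⟨n, hn⟩ => ?_, fun h => ⟨B + d, fun X => ?_⟩⟩, ⟨fun ⟨n, hn⟩ => ?_, fun h => ⟨B + d, fun X => ?_⟩⟩⟩
  · refine mem_vanishSet_of_rational g hg _ ((derivedSeries_eq_bot_iff _ _).1 ?_)
    exact ((eq_bot_congr (thetaEquiv G g _)).1 _).1 (hbD n (hn _))
  · exact ((eq_bot_congr (thetaEquiv G g X)).1 _).2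
      ((derivedSeries_eq_bot_iff _ _).2 fun f => eq_one_of_mem_vanishSet g hg _ h X f)
  · refine mem_vanishSet_of_rational g hg _ ((lowerCentralSeries_eq_bot_iff _ _).1 ?_)
    exact ((eq_bot_congr (thetaEquiv G g _)).2 _).1 (hbN ⟨n, hn _⟩)
  · rw [← Subgroup.lowerCentralSeries_eq_bot_iff_upperCentralSeries_eq_top]
    exact ((eq_bot_congr (thetaEquiv G g X)).2 _).2
      ((lowerCentralSeries_eq_bot_iff _ _).2 fun f => eq_one_of_mem_vanishSet g hg _ h X f)

end Fibre

end Groth.Agent.GrpFieldLib.SolvBound
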