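import Groth.Agent.GrpFieldLib.DominantFlat
import Groth.Agent.GrpSchLib.Neutral

/-! A homomorphism to a reduced group scheme over a field whose image is a neighbourhood of the unit is flat. -/

set_option backward.isDefEq.respectTransparency false
set_option backward.isDefEq.respectTransparency.types false

universe u

open CategoryTheory MonoidalCategory CartesianMonoidalCategory MonObj AlgebraicGeometry Limits

namespace Groth.Agent.GrpFieldLib

variable {S : Scheme.{u}} {G H : Over S} [GrpObj G] [GrpObj H]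

/-- Every point of the source of a surjective homomorphism is a product of two points lying over
maximal points of the target. -/
theorem exists_mul_eq_over_maximal' (f : G ⟶ H) [IsMonHom f] (W : H.left.Opens) (hW : (W : Set H.left) ⊆ Set.range f.left)
    (he : ∀ s, GrpSchLib.Neutral.unit H s ∈ W) (x : G.left)
    (hx : Flat (G.left.fromSpecResidueField x ≫ G.hom)) :
    ∃ z : ↥(G ⊗ G).left, μ[G].left.base z = x ∧
      closure {f.left ((fst G G).left.base z)} ∈ irreducibleComponents ↥H.left ∧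
      closure {f.left ((snd G G).left.base z)} ∈ irreducibleComponents ↥H.left := by
  let Y : Over S := Over.mk (G.left.fromSpecResidueField x ≫ G.hom)
  let gy : Y ⟶ G := Over.homMk (G.left.fromSpecResidueField x) rfl
  let a : Y ⊗ H ⟶ H := snd Y H
  let b : Y ⊗ H ⟶ H := (snd Y H)⁻¹ * (fst Y H ≫ gy ≫ f)
  let σ : Y ⊗ H ⟶ Y ⊗ H := lift (fst Y H) b
  let τ : Y ⊗ H ⟶ Y ⊗ H := lift (fst Y H) ((fst Y H ≫ gy ≫ f) * (snd Y H)⁻¹)
  have hστ : σ ≫ τ = 𝟙 _ := by
    apply CartesianMonoidalCategory.hom_ext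
    · simp [σ, τ]
    · simp [σ, τ, b, MonObj.comp_mul, GrpObj.comp_inv]
  have hτσ : τ ≫ σ = 𝟙 _ := by
    apply CartesianMonoidalCategory.hom_ext
    · simp [σ, τ]
    · simp [σ, τ, b, MonObj.comp_mul, GrpObj.comp_inv]
  have : IsIso σ := ⟨τ, hστ, hτσ⟩
  have : IsIso σ.left := inferInstanceAs (IsIso ((Over.forget S).map σ))
  have : Flat Y.hom := hx
  have ha : Flat a.left := inferInstanceAs (Flat (pullback.snd Y.hom H.hom))
  have hb : Flat b.left := by
    have e : σ ≫ a = b := lift_snd _ _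
    rw [← e, Over.comp_left]; infer_instance
  obtain ⟨p₀, -, hp₀⟩ := Scheme.Pullback.exists_preimage_pullback (f := Y.hom) (g := H.hom)
    (IsLocalRing.closedPoint (G.left.residueField x)) (GrpSchLib.Neutral.unit H (G.hom x)) (by
      show G.hom.base ((G.left.fromSpecResidueField x).base _) = H.hom.base _
      rw [Scheme.fromSpecResidueField_apply]
      exact (GrpSchLib.Neutral.hom_unit H _).symm)
  obtain ⟨q, hq, hqp⟩ : ∃ q : ↥(Y ⊗ H).left, closure {q} ∈ irreducibleComponents ↥(Y ⊗ H).left ∧ q ⤳ p₀ := by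
    have hmem := irreducibleComponent_mem_irreducibleComponents p₀
    obtain ⟨q, hq⟩ := QuasiSober.sober hmem.1 (isClosed_irreducibleComponent (x := p₀))
    exact ⟨q, hq.def.symm ▸ hmem, hq.specializes mem_irreducibleComponent⟩
  have hqW : (snd Y H).left q ∈ W := (hqp.map (snd Y H).left.continuous).mem_open W.2 (by
    show pullback.snd Y.hom H.hom p₀ ∈ W
    rw [hp₀]; exact he _)
  obtain ⟨g, hg⟩ := hW hqW
  obtain ⟨p, hp', -⟩ := Scheme.exists_preimage_of_isPullback
    ((FpqcDescLib.isPullback_whiskerLeft f Y).map (Over.forget S)) q g (by simpa using hg.symm)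
  have hp : (Y ◁ f).left p = q := hp'
  let a' : Y ⊗ G ⟶ G := snd Y G
  let b' : Y ⊗ G ⟶ G := (snd Y G)⁻¹ * (fst Y G ≫ gy)
  refine ⟨(lift a' b').left.base p, ?_, ?_, ?_⟩
  · have e : lift a' b' ≫ μ[G] = fst Y G ≫ gy := by
      rw [← Hom.mul_def]; exact mul_inv_cancel_left _ _
    rw [← Scheme.Hom.comp_apply, ← Over.comp_left, e, Over.comp_left, Scheme.Hom.comp_apply]
    exact Scheme.fromSpecResidueField_apply _ _
  · have e : lift a' b' ≫ fst G G ≫ f = (Y ◁ f) ≫ a := by simp [a, a']
    rw [← Scheme.Hom.comp_apply, ← Scheme.Hom.comp_apply, ← Over.comp_left, ← Over.comp_left,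
      e, Over.comp_left, Scheme.Hom.comp_apply, hp]
    exact GrpPtsLib.mem_irreducibleComponents_of_generalizingMap a.left.continuous
      (Flat.generalizingMap a.left) hq
  · have e : lift a' b' ≫ snd G G ≫ f = (Y ◁ f) ≫ b := by
      simp [b, b', MonObj.comp_mul, MonObj.mul_comp, GrpObj.comp_inv, GrpObj.inv_comp]
    rw [← Scheme.Hom.comp_apply, ← Scheme.Hom.comp_apply, ← Over.comp_left, ← Over.comp_left,
      e, Over.comp_left, Scheme.Hom.comp_apply, hp]
    exact GrpPtsLib.mem_irreducibleComponents_of_generalizingMap b.left.continuous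
      (Flat.generalizingMap b.left) hq

theorem flat_of_range_nhd {k : Type u} [Field k] {G H : Over (Spec (CommRingCat.of k))} [GrpObj G]
    [GrpObj H] (f : G ⟶ H) [IsMonHom f] [IsReduced H.left]
    (W : H.left.Opens) (hW : (W : Set H.left) ⊆ Set.range f.left) (he : ∀ s, GrpSchLib.Neutral.unit H s ∈ W) :
    Flat f.left := by
  have hflat : ∀ {X : Scheme.{u}} (g : X ⟶ Spec (CommRingCat.of k)), Flat g := fun g => by
    have : Subsingleton (Spec (CommRingCat.of k)) := inferInstanceAs (Subsingleton (PrimeSpectrum k))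
    infer_instance
  refine Flat.of_stalkMap f.left fun x => ?_
  obtain ⟨z, hz, h1, h2⟩ := exists_mul_eq_over_maximal' f W hW he x (hflat _)
  subst hz
  haveI : Flat ((Over.forget (Spec (CommRingCat.of k))).map (fst H G)) :=
    MorphismProperty.pullback_fst _ _ (hflat G.hom)
  haveI : Flat ((Over.forget (Spec (CommRingCat.of k))).map (snd H H)) :=
    MorphismProperty.pullback_snd _ _ (hflat H.hom)
  let p : ↥(H ⊗ G).left := (f ▷ G).left z
  have hA : ((f ▷ G).left.stalkMap z).hom.Flat :=
    (S5223.result ((FpqcDescLib.isPullback_whiskerRight f G).map (Over.forget _)).flip z).mpr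
      (flat_stalkMap_of_maximal f.left _ h1)
  have hp : (snd H G).left p = (snd G G).left z := by
    show ((f ▷ G).left ≫ (snd H G).left) z = _
    rw [← Over.comp_left, whiskerRight_snd]
  have hB : ((H ◁ f).left.stalkMap p).hom.Flat :=
    (S5223.result ((FpqcDescLib.isPullback_whiskerLeft f H).map (Over.forget _)).flip p).mpr
      (flat_stalkMap_of_maximal f.left _ (hp ▸ h2))
  have hμH : Flat (μ[H]).left := by
    let σ : H ⊗ H ⟶ H ⊗ H := lift (fst H H) μ[H]
    let τ : H ⊗ H ⟶ H ⊗ H := lift (fst H H) ((fst H H)⁻¹ * snd H H)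
    have hστ : σ ≫ τ = 𝟙 _ := by
      apply CartesianMonoidalCategory.hom_ext
      · simp [σ, τ]
      · simp [σ, τ, MonObj.comp_mul, GrpObj.comp_inv, MonObj.mul_eq_mul]
    have hτσ : τ ≫ σ = 𝟙 _ := by
      apply CartesianMonoidalCategory.hom_ext
      · simp [σ, τ]
      · simp [σ, τ, MonObj.comp_mul, GrpObj.comp_inv, MonObj.mul_eq_mul]
    have : IsIso σ := ⟨τ, hστ, hτσ⟩
    have : IsIso σ.left := inferInstanceAs (IsIso ((Over.forget _).map σ))
    rw [show μ[H] = σ ≫ snd H H from (lift_snd _ _).symm, Over.comp_left]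
    have : Flat (snd H H).left := MorphismProperty.pullback_snd _ _ (hflat H.hom)
    infer_instance
  have hμG : Flat (μ[G]).left := by
    let σ : G ⊗ G ⟶ G ⊗ G := lift (fst G G) μ[G]
    let τ : G ⊗ G ⟶ G ⊗ G := lift (fst G G) ((fst G G)⁻¹ * snd G G)
    have hστ : σ ≫ τ = 𝟙 _ := by
      apply CartesianMonoidalCategory.hom_ext
      · simp [σ, τ]
      · simp [σ, τ, MonObj.comp_mul, GrpObj.comp_inv, MonObj.mul_eq_mul]
    have hτσ : τ ≫ σ = 𝟙 _ := by
      apply CartesianMonoidalCategory.hom_ext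
      · simp [σ, τ]
      · simp [σ, τ, MonObj.comp_mul, GrpObj.comp_inv, MonObj.mul_eq_mul]
    have : IsIso σ := ⟨τ, hστ, hτσ⟩
    have : IsIso σ.left := inferInstanceAs (IsIso ((Over.forget _).map σ))
    rw [show μ[G] = σ ≫ snd G G from (lift_snd _ _).symm, Over.comp_left]
    have : Flat (snd G G).left := MorphismProperty.pullback_snd _ _ (hflat G.hom)
    infer_instance
  have hw : (μ[G]).left ≫ f.left = (f ▷ G).left ≫ (H ◁ f).left ≫ (μ[H]).left := by
    rw [← Over.comp_left, ← Over.comp_left, ← Over.comp_left, IsMonHom.mul_hom f,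
      MonoidalCategory.tensorHom_def, Category.assoc]
  refine flat_stalkMap_cancel _ f.left z (Flat.stalkMap _ z) ?_
  rw [hw]
  exact flat_stalkMap_comp _ _ z hA (flat_stalkMap_comp _ _ _ hB (Flat.stalkMap _ _))

end Groth.Agent.GrpFieldLib
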