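import Groth.Agent.GrpSchLib.TwConstClopen

/-!
# Clopen pieces of twisted constant schemes with a finite fibre, over bases with locally connected etale covers
-/

universe u

open CategoryTheory CategoryTheory.Limits AlgebraicGeometry MorphismProperty TopologicalSpace

namespace Groth.Agent.GrpFieldLib.TwClopen

set_option backward.isDefEq.respectTransparency.types false

theorem quasiCompact_of_finite_fibre {S : Scheme.{u}} [ConnectedSpace S]
    (hlc : ∀ (S' : Scheme.{u}) (f : S' ⟶ S) [Etale f], LocallyConnectedSpace S') (P : Over S)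
    (hP : TwC.IsTwConst TwC.Topology.etale P) {Z : Scheme.{u}} (z : Z ⟶ P.left) [IsOpenImmersion z]
    [IsClosedImmersion z] (hs : ∃ s : S, Set.Finite ((z ≫ P.hom) ⁻¹' {s})) : QuasiCompact (z ≫ P.hom) := by
  let g := z ≫ P.hom
  have loc : ∀ t : S, ∃ (S' : Scheme.{u}) (f : S' ⟶ S) (C : Set S'), Etale f ∧ IsOpen C ∧ t ∈ f '' C ∧
      ((∃ v ∈ C, IsCompact (g ⁻¹' {f v})) → ∀ A ⊆ C, IsCompact A → IsCompact (g ⁻¹' (f '' A))) := by
    intro t
    obtain ⟨S', f, hf, ⟨s', rfl⟩, I, ⟨e⟩⟩ := hP t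
    haveI := hf
    haveI := hlc S' f
    refine ⟨S', f, connectedComponent s', hf, isOpen_connectedComponent, ⟨s', mem_connectedComponent, rfl⟩, ?_⟩
    rintro ⟨v, hvC, hv⟩ A hA hAc
    let r : pullback g f ⟶ pullback P.hom f :=
      pullback.map _ _ _ _ z (𝟙 _) (𝟙 _) (Category.comp_id _) (by rw [Category.comp_id, Category.id_comp])
    have hr : IsPullback (pullback.fst g f) r z (pullback.fst P.hom f) := by
      refine IsPullback.of_bot ?_ (pullback.lift_fst _ _ _).symm (IsPullback.of_hasPullback P.hom f)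
      rw [pullback.lift_snd, Category.comp_id]
      exact IsPullback.of_hasPullback g f
    haveI : IsClosedImmersion r := MorphismProperty.of_isPullback (P := @IsClosedImmersion) hr inferInstance
    haveI : IsOpenImmersion r := MorphismProperty.of_isPullback (P := @IsOpenImmersion) hr inferInstance
    let c : pullback g f ⟶ ∐ fun _ : I => S' := r ≫ e.hom.left
    have hc : c ≫ (Sigma.desc fun _ : I => 𝟙 _) = pullback.snd g f := by
      show (r ≫ e.hom.left) ≫ _ = _
      rw [Category.assoc]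
      refine (congrArg (r ≫ ·) (Over.w e.hom)).trans ?_
      exact (pullback.lift_snd _ _ _).trans (Category.comp_id _)
    haveI : IsClosedImmersion c := inferInstanceAs (IsClosedImmersion (r ≫ e.hom.left))
    haveI : IsOpenImmersion c := inferInstanceAs (IsOpenImmersion (r ≫ e.hom.left))
    have h := GrpSchLib.TwConstClopen.isCompact_of_compact_fibre I isPreconnected_connectedComponent c hvC
      (by rw [hc]; exact GrpSchLib.TwConstClopen.isCompact_fibre_bc g f v hv) A hA hAc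
    rw [hc] at h
    have him : g ⁻¹' (f '' A) = pullback.fst g f '' (pullback.snd g f ⁻¹' A) := by
      ext w
      constructor
      · rintro ⟨a, ha, haw⟩
        obtain ⟨x, hx1, hx2⟩ := Scheme.Pullback.exists_preimage_pullback (f := g) (g := f) w a haw.symm
        exact ⟨x, by rw [Set.mem_preimage, hx2]; exact ha, hx1⟩
      · rintro ⟨x, hx, rfl⟩
        refine ⟨_, hx, ?_⟩
        rw [← Scheme.Hom.comp_apply, ← pullback.condition, Scheme.Hom.comp_apply]
    rw [him]
    exact h.image (pullback.fst g f).continuous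
  choose S' f C hf hC htC hcomp using loc
  have hopen : ∀ t, IsOpen (f t '' C t) := fun t => by
    haveI := hf t
    exact (f t).isOpenMap _ (hC t)
  let G : Set S := {t | IsCompact (g ⁻¹' {t})}
  have hiff : ∀ t, ∀ x ∈ f t '' C t, x ∈ G → f t '' C t ⊆ G := by
    rintro t _ ⟨v, hv, rfl⟩ hvG _ ⟨w, hw, rfl⟩
    simpa [G] using hcomp t ⟨v, hv, hvG⟩ {w} (Set.singleton_subset_iff.mpr hw) isCompact_singleton
  have hGo : IsClopen G := by
    refine ⟨⟨isOpen_iff_mem_nhds.mpr fun t ht => ?_⟩, isOpen_iff_mem_nhds.mpr fun t ht => ?_⟩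
    · refine Filter.mem_of_superset ((hopen t).mem_nhds (htC t)) fun x hx hxG => ?_
      exact ht (hiff t x hx hxG (htC t))
    · exact Filter.mem_of_superset ((hopen t).mem_nhds (htC t)) (hiff t t (htC t) ht)
  obtain ⟨s, hs⟩ := hs
  have hG : G = Set.univ := hGo.eq_univ ⟨s, hs.isCompact⟩
  refine (quasiCompact_iff_forall_isAffineOpen).mpr fun V hV => ?_
  have hloc : ∀ t ∈ (V : Set S), ∃ A ⊆ C t, IsCompact A ∧ IsOpen (f t '' A) ∧ t ∈ f t '' A ∧ f t '' A ⊆ V := by
    intro t ht
    obtain ⟨v, hv, hvt⟩ := htC t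
    haveI := hf t
    obtain ⟨A, hA, hvA, hAsub⟩ := exists_isAffineOpen_mem_and_subset
      (show v ∈ (⟨C t, hC t⟩ ⊓ f t ⁻¹ᵁ V : (S' t).Opens) from ⟨hv, show f t v ∈ V by rw [hvt]; exact ht⟩)
    exact ⟨A, fun x hx => (hAsub hx).1, hA.isCompact, (f t).isOpenMap _ A.2, ⟨v, hvA, hvt⟩,
      Set.image_subset_iff.mpr fun x hx => (hAsub hx).2⟩
  choose! A hAC hAc hAo htA hAV using hloc
  obtain ⟨F, hFV, hFfin, hF⟩ := hV.isCompact.elim_finite_subcover_image (b := (V : Set S)) (c := fun t => f t '' A t)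
    hAo (fun t ht => Set.mem_iUnion₂.mpr ⟨t, ht, htA t ht⟩)
  have heq : ((g ⁻¹ᵁ V : Z.Opens) : Set Z) = ⋃ t ∈ F, g ⁻¹' (f t '' A t) := by
    ext w
    constructor
    · intro hw
      obtain ⟨t, htF, hwt⟩ := Set.mem_iUnion₂.mp (hF hw)
      exact Set.mem_iUnion₂.mpr ⟨t, htF, hwt⟩
    · intro hw
      obtain ⟨t, htF, hwt⟩ := Set.mem_iUnion₂.mp hw
      exact hAV t (hFV htF) hwt
  rw [heq]
  refine hFfin.isCompact_biUnion fun t ht => hcomp t ?_ _ (hAC t (hFV ht)) (hAc t (hFV ht))
  obtain ⟨v, hv, hvt⟩ := htC t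
  exact ⟨v, hv, by rw [hvt]; exact (Set.ext_iff.mp hG t).mpr trivial⟩

/-- An open and closed subscheme of a quasi-isotrivial twisted constant scheme with a finite fibre is finite. -/
theorem isFinite_of_finite_fibre {S : Scheme.{u}} [ConnectedSpace S]
    (hlc : ∀ (S' : Scheme.{u}) (f : S' ⟶ S) [Etale f], LocallyConnectedSpace S') (P : Over S)
    (hP : TwC.IsTwConst TwC.Topology.etale P) {Z : Scheme.{u}} (z : Z ⟶ P.left) [IsOpenImmersion z]
    [IsClosedImmersion z] (hs : ∃ s : S, Set.Finite ((z ≫ P.hom) ⁻¹' {s})) : IsFinite (z ≫ P.hom) := by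
  haveI := quasiCompact_of_finite_fibre hlc P hP z hs
  choose S' f hf ht hI using hP
  haveI : ∀ t, Etale (f t) := hf
  haveI : Flat (Sigma.desc f) := IsZariskiLocalAtSource.sigmaDesc (P := @Flat) fun _ => inferInstance
  refine GrpSchLib.TwConstClosed.isFinite_of_snd (z ≫ P.hom) (Sigma.desc f) (fun V hV => ?_) ?_
  · have hloc : ∀ t ∈ (V : Set S), ∃ A : Set ↥(∐ S'), IsOpen A ∧ IsCompact A ∧ IsOpen (Sigma.desc f '' A) ∧
        t ∈ Sigma.desc f '' A ∧ Sigma.desc f '' A ⊆ V := by
      intro t htV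
      obtain ⟨v, hv⟩ := ht t
      obtain ⟨A, hA, hvA, hAsub⟩ := exists_isAffineOpen_mem_and_subset
        (show v ∈ f t ⁻¹ᵁ V from show f t v ∈ V by rw [hv]; exact htV)
      have himg : Sigma.desc f '' (Sigma.ι S' t '' (A : Set _)) = f t '' (A : Set _) := by
        rw [Set.image_image]
        exact Set.image_congr fun x _ => by rw [← Scheme.Hom.comp_apply, Sigma.ι_desc]
      refine ⟨Sigma.ι S' t '' (A : Set _), (Sigma.ι S' t).isOpenEmbedding.isOpenMap _ A.2,
        hA.isCompact.image (Sigma.ι S' t).continuous, ?_⟩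
      rw [himg]
      exact ⟨(f t).isOpenMap _ A.2, ⟨v, hvA, hv⟩, Set.image_subset_iff.mpr fun x hx => hAsub hx⟩
    choose! A hAo hAc hAio htA hAV using hloc
    obtain ⟨F, hFV, hFfin, hF⟩ := hV.isCompact.elim_finite_subcover_image (b := (V : Set S))
      (c := fun t => Sigma.desc f '' A t) hAio (fun t ht => Set.mem_iUnion₂.mpr ⟨t, ht, htA t ht⟩)
    refine ⟨⟨⋃ t ∈ F, A t, isOpen_biUnion fun t h => hAo t (hFV h)⟩,
      hFfin.isCompact_biUnion fun t h => hAc t (hFV h), ?_⟩
    show Sigma.desc f '' (⋃ t ∈ F, A t) = _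
    rw [Set.image_iUnion₂]
    exact subset_antisymm (Set.iUnion₂_subset fun t h => hAV t (hFV h)) hF
  · rw [IsZariskiLocalAtTarget.iff_of_openCover (P := @IsFinite) (sigmaOpenCover S')]
    intro t
    obtain ⟨I, ⟨e⟩⟩ := hI t
    haveI := GrpSchLib.TwConstClosed.isFinite_snd P z (f t) e
    have hsq : IsPullback (pullback.fst (pullback.snd (z ≫ P.hom) (Sigma.desc f)) (Sigma.ι S' t) ≫
        pullback.fst (z ≫ P.hom) (Sigma.desc f))
        (pullback.snd (pullback.snd (z ≫ P.hom) (Sigma.desc f)) (Sigma.ι S' t)) (z ≫ P.hom) (f t) := by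
      rw [← Sigma.ι_desc f t]
      exact (IsPullback.of_hasPullback _ _).paste_horiz (IsPullback.of_hasPullback _ _)
    show IsFinite (pullback.snd (pullback.snd (z ≫ P.hom) (Sigma.desc f)) (Sigma.ι S' t))
    rw [← hsq.isoPullback_hom_snd]
    infer_instance

end Groth.Agent.GrpFieldLib.TwClopen
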