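import Groth.Agent.GrpFieldLib.TwUnibranch
import Groth.Agent.GrpFieldLib.TwClopen
import Groth.Agent.FibDim.BaseField
import Groth.Agent.EtFound.Descent
import Mathlib.AlgebraicGeometry.Morphisms.FlatRank
import Mathlib.AlgebraicGeometry.ValuativeCriterion

/-!
# Twisted constant schemes: separatedness and the structure over irreducible geometrically unibranch bases
-/

set_option autoImplicit false
set_option backward.isDefEq.respectTransparency false
set_option backward.isDefEq.respectTransparency.types false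

universe u

open CategoryTheory CategoryTheory.Limits AlgebraicGeometry TopologicalSpace

namespace Groth.Agent.GrpFieldLib.TwSplit

theorem isSeparated_sigma {S : Scheme.{u}} (I : Type u) : IsSeparated (Sigma.desc fun _ : I => 𝟙 S) := by
  let c := Sigma.desc fun _ : I => 𝟙 S
  let p₁ := pullback.fst c c
  let p₂ := pullback.snd c c
  let W : I → Set ↥(∐ fun _ : I => S) := fun i => Set.range (Sigma.ι (fun _ : I => S) i)
  have hW : ∀ i, IsOpen (W i) := fun i => (Sigma.ι (fun _ : I => S) i).isOpenEmbedding.isOpen_range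
  have hcov : ∀ x, ∃ i, x ∈ W i := fun x => by
    obtain ⟨⟨i, y⟩, hy⟩ := (sigmaMk fun _ : I => S).surjective x
    exact ⟨i, y, by rwa [sigmaMk_mk] at hy⟩
  have hdisj : ∀ x i j, x ∈ W i → x ∈ W j → i = j := by
    rintro _ i j ⟨a, rfl⟩ ⟨b, hb⟩
    exact ((Sigma.mk.inj ((sigmaMk fun _ : I => S).injective (a₁ := ⟨j, b⟩) (a₂ := ⟨i, a⟩)
      (by rw [sigmaMk_mk, sigmaMk_mk]; exact hb))).1).symm
  have hrange : Set.range (pullback.diagonal c) = ⋃ i, p₁ ⁻¹' W i ∩ p₂ ⁻¹' W i := by
    refine subset_antisymm ?_ fun z hz => ?_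
    · rintro _ ⟨y, rfl⟩
      obtain ⟨i, hi⟩ := hcov y
      refine Set.mem_iUnion.2 ⟨i, ?_, ?_⟩
      · show p₁ (pullback.diagonal c y) ∈ W i
        rw [← Scheme.Hom.comp_apply, pullback.diagonal_fst]; exact hi
      · show p₂ (pullback.diagonal c y) ∈ W i
        rw [← Scheme.Hom.comp_apply, pullback.diagonal_snd]; exact hi
    · obtain ⟨i, hz1, hz2⟩ := Set.mem_iUnion.1 hz
      let O : (pullback c c).Opens := ⟨p₁ ⁻¹' W i ∩ p₂ ⁻¹' W i,
        ((hW i).preimage p₁.continuous).inter ((hW i).preimage p₂.continuous)⟩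
      let ι := Sigma.ι (fun _ : I => S) i
      have h1 : Set.range (O.ι ≫ p₁) ⊆ Set.range ι := by rintro _ ⟨a, rfl⟩; exact a.2.1
      have h2 : Set.range (O.ι ≫ p₂) ⊆ Set.range ι := by rintro _ ⟨a, rfl⟩; exact a.2.2
      have e1 := IsOpenImmersion.lift_fac ι (O.ι ≫ p₁) h1
      have e2 := IsOpenImmersion.lift_fac ι (O.ι ≫ p₂) h2
      have hl : IsOpenImmersion.lift ι (O.ι ≫ p₁) h1 = IsOpenImmersion.lift ι (O.ι ≫ p₂) h2 := by
        have hc : ι ≫ c = 𝟙 S := Sigma.ι_desc _ _
        have a1 := congrArg (· ≫ c) e1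
        have a2 := congrArg (· ≫ c) e2
        simp only [Category.assoc, hc, Category.comp_id] at a1 a2
        rw [a1, a2, show p₁ ≫ c = p₂ ≫ c from pullback.condition]
      have heq : O.ι = (O.ι ≫ p₁) ≫ pullback.diagonal c := by
        apply pullback.hom_ext
        · rw [Category.assoc, pullback.diagonal_fst, Category.comp_id]
        · rw [Category.assoc, pullback.diagonal_snd, Category.comp_id, ← e1, hl, e2]
      exact ⟨(O.ι ≫ p₁) ⟨z, hz1, hz2⟩, (Scheme.Hom.comp_apply _ (pullback.diagonal c) _).symm.trans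
        (congrArg (fun m => m ⟨z, hz1, hz2⟩) heq).symm⟩
  refine ⟨IsClosedImmersion.of_isPreimmersion (pullback.diagonal c) ?_⟩
  rw [hrange, ← isOpen_compl_iff]
  have : (⋃ i, p₁ ⁻¹' W i ∩ p₂ ⁻¹' W i)ᶜ = ⋃ i, ⋃ j, ⋃ (_ : i ≠ j), p₁ ⁻¹' W i ∩ p₂ ⁻¹' W j := by
    ext z
    simp only [Set.mem_compl_iff, Set.mem_iUnion, Set.mem_inter_iff, Set.mem_preimage, not_exists, exists_prop]
    constructor
    · intro h
      obtain ⟨i, hi⟩ := hcov (p₁ z)
      obtain ⟨j, hj⟩ := hcov (p₂ z)
      exact ⟨i, j, fun e => h i ⟨hi, e ▸ hj⟩, hi, hj⟩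
    · rintro ⟨i, j, hij, hi, hj⟩ k ⟨hk1, hk2⟩
      exact hij ((hdisj _ i k hi hk1).trans (hdisj _ k j hk2 hj))
  rw [this]
  exact isOpen_iUnion fun i => isOpen_iUnion fun j => isOpen_iUnion fun _ =>
    ((hW i).preimage p₁.continuous).inter ((hW j).preimage p₂.continuous)

/-- Twisted constant schemes are separated. -/
theorem isSeparated_of_isTwConst {S : Scheme.{u}} (P : Over S) (hP : TwC.IsTwConst TwC.Topology.etale P) :
    IsSeparated P.hom := by
  haveI := EtFound.fpqc_isSeparated.{u}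
  choose S' f hf hs I hI using hP
  haveI : ∀ s, Etale (f s) := hf
  let O : S → S.Opens := fun s => ⟨Set.range (f s), (f s).isOpenMap.isOpen_range⟩
  rw [IsZariskiLocalAtTarget.iff_of_iSup_eq_top (P := @IsSeparated) O
    (eq_top_iff.mpr fun x _ => Opens.mem_iSup.mpr ⟨x, hs x⟩)]
  intro s
  obtain ⟨e⟩ := hI s
  let f₀ : S' s ⟶ O s := IsOpenImmersion.lift (O s).ι (f s) (by rw [Scheme.Opens.range_ι]; rfl)
  have hf₀ : f₀ ≫ (O s).ι = f s := IsOpenImmersion.lift_fac _ _ _
  haveI : Etale f₀ := by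
    haveI : Etale (f₀ ≫ (O s).ι) := by rw [hf₀]; infer_instance
    exact Etale.of_comp f₀ (O s).ι
  haveI : Surjective f₀ := ⟨fun x => by
    obtain ⟨a, ha⟩ := x.2
    refine ⟨a, (O s).ι.isOpenEmbedding.injective ?_⟩
    rw [← Scheme.Hom.comp_apply, hf₀]
    exact ha⟩
  have h1 : IsSeparated (pullback.snd P.hom (f s)) := by
    have h2 : e.hom.left ≫ (Sigma.desc fun _ : I s => 𝟙 (S' s)) = pullback.snd P.hom (f s) := Over.w e.hom
    rw [← h2]
    haveI := isSeparated_sigma (S := S' s) (I s)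
    infer_instance
  have hsq : IsPullback (pullback.fst (P.hom ∣_ O s) f₀ ≫ (P.hom ⁻¹ᵁ O s).ι) (pullback.snd (P.hom ∣_ O s) f₀)
      P.hom (f s) := by
    rw [← hf₀]
    exact (IsPullback.of_hasPullback (P.hom ∣_ O s) f₀).paste_horiz (isPullback_morphismRestrict P.hom (O s)).flip
  refine MorphismProperty.of_isPullback_of_descendsAlong (P := @IsSeparated)
    (Q := @Surjective ⊓ @Flat ⊓ @LocallyOfFinitePresentation) (IsPullback.of_hasPullback (P.hom ∣_ O s) f₀).flip
    ⟨⟨inferInstance, inferInstance⟩, inferInstance⟩ ?_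
  rw [← hsq.isoPullback_hom_snd]
  infer_instance

variable {S : Scheme.{u}} [IrreducibleSpace S]

/-- Etale schemes over an irreducible geometrically unibranch base are locally connected. -/
theorem locallyConnectedSpace_of_etale (hS : ∀ s : S, CAlg2.IsGeomUnibranch (S.presheaf.stalk s))
    (S' : Scheme.{u}) (f : S' ⟶ S) [Etale f] : LocallyConnectedSpace S' := by
  rw [locallyConnectedSpace_iff_subsets_isOpen_isConnected]
  intro x F hF
  obtain ⟨V, hVF, hV, hxV⟩ := mem_nhds_iff.1 hF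
  let V' : S'.Opens := ⟨V, hV⟩
  let g := V'.ι ≫ f
  haveI := UnibEtale.locallyQuasiFinite_of_formallyUnramified g
  have hu : ∀ y : (V' : Scheme.{u}), (nilradical ((V' : Scheme.{u}).presheaf.stalk y)).IsPrime := fun y => by
    haveI : Etale ((⊤ : (V' : Scheme.{u}).Opens).ι ≫ g) := inferInstance
    exact nilradical_isPrime (UnibEtale.stalk_of_etale g y ⊤ trivial (hS _)).1
  have hC := irreducibleComponent_mem_irreducibleComponents (⟨x, hxV⟩ : (V' : Scheme.{u}))
  refine ⟨V'.ι '' irreducibleComponent ⟨x, hxV⟩, ?_,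
    V'.ι.isOpenEmbedding.isOpenMap _ ((UnibEtale.components g hu).2 _ hC).1,
    ⟨_, mem_irreducibleComponent, rfl⟩,
    (isIrreducible_irreducibleComponent.image _ V'.ι.continuous.continuousOn).isConnected⟩
  rintro _ ⟨a, -, rfl⟩
  exact hVF a.2

variable (hS : ∀ s : S, CAlg2.IsGeomUnibranch (S.presheaf.stalk s)) {P : Over S}
  (hP : TwC.IsTwConst TwC.Topology.etale P)
include hS hP

/-- The components of a twisted constant scheme are parametrised by its generic fibre. -/
theorem existsUnique_generic (x : P.left) :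
    ∃! l : P.left, P.hom l = genericPoint S ∧ x ∈ closure ({l} : Set P.left) := by
  haveI := etale_of_isTwConst P hP
  haveI := UnibEtale.locallyQuasiFinite_of_formallyUnramified P.hom
  have hu : ∀ y : P.left, (nilradical (P.left.presheaf.stalk y)).IsPrime := fun y => by
    haveI : Etale ((⊤ : P.left.Opens).ι ≫ P.hom) := inferInstance
    exact nilradical_isPrime (UnibEtale.stalk_of_etale P.hom y ⊤ trivial (hS _)).1
  obtain ⟨hone, hcomp⟩ := UnibEtale.components P.hom hu
  obtain ⟨Z, ⟨hZ, hxZ⟩, hZu⟩ := hone x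
  obtain ⟨l, ⟨hlZ, hl⟩, hlu⟩ := (hcomp Z hZ).2
  have hg := hZ.1.isGenericPoint_genericPoint (isClosed_of_mem_irreducibleComponents _ hZ)
  have hlg : hZ.1.genericPoint = l := hlu _ ⟨hg.mem, UnibEtale.map_generic P.hom hZ hg⟩
  refine ⟨l, ⟨hl, ?_⟩, fun l' hl' => ?_⟩
  · rw [← hlg, hg.def]; exact hxZ
  · obtain ⟨Z', ⟨hZ', hlZ'⟩, -⟩ := hone l'
    have hxZ' : x ∈ Z' := closure_minimal (Set.singleton_subset_iff.2 hlZ')
      (isClosed_of_mem_irreducibleComponents _ hZ') hl'.2
    exact hlu l' ⟨hZu Z' ⟨hZ', hxZ'⟩ ▸ hlZ', hl'.1⟩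

/-- The closure of a point of the generic fibre is a finite etale cover. -/
theorem exists_piece {l : P.left} (hl : P.hom l = genericPoint S) :
    ∃ U : P.left.Opens, (U : Set P.left) = closure ({l} : Set P.left) ∧ IsClosed (U : Set P.left) ∧
      IsFinite (U.ι ≫ P.hom) ∧ Etale (U.ι ≫ P.hom) ∧ Surjective (U.ι ≫ P.hom) := by
  haveI := etale_of_isTwConst P hP
  haveI := UnibEtale.locallyQuasiFinite_of_formallyUnramified P.hom
  have hu : ∀ y : P.left, (nilradical (P.left.presheaf.stalk y)).IsPrime := fun y => by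
    haveI : Etale ((⊤ : P.left.Opens).ι ≫ P.hom) := inferInstance
    exact nilradical_isPrime (UnibEtale.stalk_of_etale P.hom y ⊤ trivial (hS _)).1
  obtain ⟨hone, hcomp⟩ := UnibEtale.components P.hom hu
  obtain ⟨Z, ⟨hZ, hlZ⟩, -⟩ := hone l
  obtain ⟨l', -, hlu⟩ := (hcomp Z hZ).2
  have hg := hZ.1.isGenericPoint_genericPoint (isClosed_of_mem_irreducibleComponents _ hZ)
  have hlg : hZ.1.genericPoint = l :=
    (hlu _ ⟨hg.mem, UnibEtale.map_generic P.hom hZ hg⟩).trans (hlu l ⟨hlZ, hl⟩).symm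
  let U : P.left.Opens := ⟨Z, (hcomp Z hZ).1⟩
  have hUc : IsClosed (U : Set P.left) := isClosed_of_mem_irreducibleComponents _ hZ
  haveI : IsClosedImmersion U.ι := IsClosedImmersion.of_isPreimmersion U.ι (by rw [Scheme.Opens.range_ι]; exact hUc)
  haveI : IsFinite (U.ι ≫ P.hom) := by
    refine TwClopen.isFinite_of_finite_fibre (fun S' f _ => locallyConnectedSpace_of_etale hS S' f) P hP U.ι
      ⟨genericPoint S, Set.Subsingleton.finite fun a ha b hb => Subtype.ext ?_⟩
    exact (hlu a.1 ⟨a.2, (Scheme.Hom.comp_apply U.ι P.hom a).symm.trans ha⟩).trans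
      (hlu b.1 ⟨b.2, (Scheme.Hom.comp_apply U.ι P.hom b).symm.trans hb⟩).symm
  refine ⟨U, ?_, hUc, inferInstance, inferInstance, ⟨?_⟩⟩
  · show Z = _
    rw [← hlg, hg.def]
  · have hne : (Set.range (U.ι ≫ P.hom)).Nonempty := ⟨_, ⟨l, hlZ⟩, rfl⟩
    exact Set.range_eq_univ.1 (IsClopen.eq_univ
      ⟨(U.ι ≫ P.hom).isClosedMap.isClosed_range, (U.ι ≫ P.hom).isOpenMap.isOpen_range⟩ hne)

omit hS hP in
theorem fromSpecResidueField_base (s : S) (p : ↥(Spec (S.residueField s))) : S.fromSpecResidueField s p = s :=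
  Scheme.fromSpecResidueField_apply _ _

/-- A point of a piece with values in a field generic on the base makes it trivial. -/
theorem exists_iso_piece {K : Type u} [Field K] (j : Spec (CommRingCat.of K) ⟶ S) [IsPreimmersion j]
    (hj : j (IsLocalRing.closedPoint K) = genericPoint S) (τ : Spec (CommRingCat.of K) ⟶ P.left)
    (hτ : τ ≫ P.hom = j) :
    ∃ U : P.left.Opens, (U : Set P.left) = closure ({τ (IsLocalRing.closedPoint K)} : Set P.left) ∧
      IsIso (U.ι ≫ P.hom) := by
  have hl : P.hom (τ (IsLocalRing.closedPoint K)) = genericPoint S := by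
    rw [← Scheme.Hom.comp_apply, hτ, hj]
  obtain ⟨U, hUZ, hUc, hfin, het, hsu⟩ := exists_piece hS hP hl
  haveI := hfin
  haveI := het
  haveI := FibDim.subsingleton_spec_field K
  let p := U.ι ≫ P.hom
  have hlU : τ (IsLocalRing.closedPoint K) ∈ U := by
    show _ ∈ (U : Set P.left)
    rw [hUZ]; exact subset_closure rfl
  let τ' : Spec (CommRingCat.of K) ⟶ U := IsOpenImmersion.lift U.ι τ (by
    rintro _ ⟨a, rfl⟩
    rw [Subsingleton.elim (α := ↥(Spec (CommRingCat.of K))) a (IsLocalRing.closedPoint K), Scheme.Opens.range_ι]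
    exact hlU)
  have hτ' : τ' ≫ p = j := by rw [← Category.assoc, IsOpenImmersion.lift_fac, hτ]
  haveI : Subsingleton ↥(pullback p j) := by
    refine ⟨fun a b => ?_⟩
    refine (pullback.fst p j).isEmbedding.injective (Subtype.ext ?_)
    have key : ∀ c : ↥(pullback p j), P.hom (pullback.fst p j c).1 = genericPoint S := fun c => by
      have h := congrArg (fun m => m c) (pullback.condition (f := p) (g := j))
      simp only [Scheme.Hom.comp_apply] at h
      rw [Subsingleton.elim (α := ↥(Spec (CommRingCat.of K))) (pullback.snd p j c) (IsLocalRing.closedPoint K), hj] at h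
      exact h
    obtain ⟨m, -, hm⟩ := existsUnique_generic hS hP (τ (IsLocalRing.closedPoint K))
    have hmem : ∀ c : ↥(pullback p j), (pullback.fst p j c).1 = τ (IsLocalRing.closedPoint K) := fun c => by
      obtain ⟨m', -, hm'⟩ := existsUnique_generic hS hP (pullback.fst p j c).1
      refine (hm' _ ⟨key c, subset_closure rfl⟩).trans (hm' _ ⟨hl, ?_⟩).symm
      rw [← hUZ]; exact (pullback.fst p j c).2
    rw [hmem a, hmem b]
  let σ := pullback.lift τ' (𝟙 _) (hτ'.trans (Category.id_comp j).symm)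
  have hσ : σ ≫ pullback.snd p j = 𝟙 _ := pullback.lift_snd _ _ _
  haveI : IsIso (pullback.snd p j) := by
    haveI : Etale (pullback.snd p j) := inferInstance
    haveI : Etale (σ ≫ pullback.snd p j) := by rw [hσ]; infer_instance
    haveI : Etale σ := Etale.of_comp σ (pullback.snd p j)
    haveI : IsClosedImmersion (σ ≫ pullback.snd p j) := by rw [hσ]; infer_instance
    haveI : IsClosedImmersion σ := IsClosedImmersion.of_comp σ (pullback.snd p j)
    haveI : IsOpenImmersion σ := AlgebraicGeometry.IsOpenImmersion.of_flat_of_mono σ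
    haveI : IsIso σ := isIso_of_isOpenImmersion_of_opensRange_eq_top _ (eq_top_iff.mpr fun z _ =>
      ⟨IsLocalRing.closedPoint K, Subsingleton.elim _ z⟩)
    have : pullback.snd p j = inv σ := by rw [← cancel_epi σ, hσ, IsIso.hom_inv_id]
    rw [this]; infer_instance
  refine ⟨U, hUZ, ?_⟩
  haveI : PreconnectedSpace S := inferInstance
  rw [Scheme.Hom.isIso_iff_finrank_eq]
  funext s
  have h1 : p.finrank (j (IsLocalRing.closedPoint K)) = 1 := by
    rw [← Scheme.Hom.finrank_pullback_snd p j, Scheme.Hom.finrank_eq_one_of_isIso]; rfl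
  rw [(p.isLocallyConstant_finrank).apply_eq_of_preconnectedSpace s (j (IsLocalRing.closedPoint K))]
  exact h1

/-- Sections agreeing at a generic field valued point are equal. -/
theorem section_eq {K : Type u} [Field K] (j : Spec (CommRingCat.of K) ⟶ S) [IsPreimmersion j]
    (hj : j (IsLocalRing.closedPoint K) = genericPoint S) (σ₁ σ₂ : S ⟶ P.left) (h₁ : σ₁ ≫ P.hom = 𝟙 S)
    (h₂ : σ₂ ≫ P.hom = 𝟙 S) (h : j ≫ σ₁ = j ≫ σ₂) : σ₁ = σ₂ := by
  obtain ⟨U, hUZ, hiso⟩ := exists_iso_piece hS hP j hj (j ≫ σ₁) (by rw [Category.assoc, h₁, Category.comp_id])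
  have key : ∀ σ : S ⟶ P.left, σ ≫ P.hom = 𝟙 S → j ≫ σ = j ≫ σ₁ → σ = inv (U.ι ≫ P.hom) ≫ U.ι := by
    intro σ hσ hjσ
    have hr : Set.range σ ⊆ Set.range U.ι := by
      rintro _ ⟨s, rfl⟩
      rw [Scheme.Opens.range_ι, hUZ, ← hjσ, Scheme.Hom.comp_apply, hj]
      exact ((genericPoint_specializes s).map σ.continuous).mem_closure
    have hl : IsOpenImmersion.lift U.ι σ hr = inv (U.ι ≫ P.hom) := by
      rw [← cancel_mono (U.ι ≫ P.hom), IsIso.inv_hom_id, ← Category.assoc, IsOpenImmersion.lift_fac, hσ]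
    rw [← hl, IsOpenImmersion.lift_fac]
  rw [key σ₁ h₁ rfl, key σ₂ h₂ h.symm]

/-- Points over the generic point with values in a field extend to sections. -/
theorem exists_section {K : Type u} [Field K] (j : Spec (CommRingCat.of K) ⟶ S) [IsPreimmersion j]
    (hj : j (IsLocalRing.closedPoint K) = genericPoint S) (τ : Spec (CommRingCat.of K) ⟶ P.left)
    (hτ : τ ≫ P.hom = j) : ∃ σ : S ⟶ P.left, σ ≫ P.hom = 𝟙 S ∧ j ≫ σ = τ := by
  obtain ⟨U, hUZ, hiso⟩ := exists_iso_piece hS hP j hj τ hτ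
  refine ⟨inv (U.ι ≫ P.hom) ≫ U.ι, by rw [Category.assoc, IsIso.inv_hom_id], ?_⟩
  haveI := FibDim.subsingleton_spec_field K
  have hr : Set.range τ ⊆ Set.range U.ι := by
    rintro _ ⟨a, rfl⟩
    rw [Subsingleton.elim (α := ↥(Spec (CommRingCat.of K))) a (IsLocalRing.closedPoint K), Scheme.Opens.range_ι, hUZ]
    exact subset_closure rfl
  have hl : IsOpenImmersion.lift U.ι τ hr = j ≫ inv (U.ι ≫ P.hom) := by
    rw [← cancel_mono (U.ι ≫ P.hom), Category.assoc j, IsIso.inv_hom_id, Category.comp_id, ← Category.assoc,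
      IsOpenImmersion.lift_fac, hτ]
  rw [← Category.assoc, ← hl, IsOpenImmersion.lift_fac]

end Groth.Agent.GrpFieldLib.TwSplit
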