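import Groth.Agent.GrpFieldLib.HomogTransl
import Groth.Agent.FibDim.BaseField

/-!
# Geometric fibres of schemes over a base
-/

set_option backward.isDefEq.respectTransparency false
set_option backward.isDefEq.respectTransparency.types false

universe u

open CategoryTheory MonoidalCategory CartesianMonoidalCategory MonObj GrpObj AlgebraicGeometry
open Limits TopologicalSpace
open scoped CategoryTheory.Obj

namespace Groth.Agent.GrpFieldLib

variable {S : Scheme.{u}} (s : S) {k : Type u} [Field k] (φ : S.residueField s ⟶ CommRingCat.of k)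

/-- The point of the base given by an extension of its residue field. -/
noncomputable abbrev fibPt : Spec (CommRingCat.of k) ⟶ S := Spec.map φ ≫ S.fromSpecResidueField s

theorem fibPt_apply (p : ↥(Spec (CommRingCat.of k))) : fibPt s φ p = s := by
  rw [Scheme.Hom.comp_apply, Scheme.fromSpecResidueField_apply]

variable (Y : Over S)

/-- The geometric fibre maps to the fibre. -/
noncomputable def toFib : ((Over.pullback (fibPt s φ)).obj Y).left ⟶ Y.hom.fiber s :=
  pullback.lift (pullback.fst _ _) (pullback.snd Y.hom (fibPt s φ) ≫ Spec.map φ)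
    (by rw [pullback.condition, Category.assoc])

theorem toFib_fiberι : toFib s φ Y ≫ Y.hom.fiberι s = pullback.fst Y.hom (fibPt s φ) :=
  pullback.lift_fst _ _ _

theorem toFib_fiberι_apply (z : ((Over.pullback (fibPt s φ)).obj Y).left) :
    Y.hom.fiberι s (toFib s φ Y z) = pullback.fst Y.hom (fibPt s φ) z := by
  rw [← Scheme.Hom.comp_apply, toFib_fiberι]; rfl

theorem isPullback_toFib : IsPullback (toFib s φ Y) (pullback.snd Y.hom (fibPt s φ))
    (Y.hom.fiberToSpecResidueField s) (Spec.map φ) := by
  refine IsPullback.of_right (t := IsPullback.of_hasPullback Y.hom (S.fromSpecResidueField s)) ?_ (pullback.lift_snd _ _ _)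
  rw [show toFib s φ Y ≫ pullback.fst Y.hom (S.fromSpecResidueField s) = pullback.fst Y.hom (fibPt s φ) from
    pullback.lift_fst _ _ _]
  exact IsPullback.of_hasPullback Y.hom (fibPt s φ)

theorem surjective_toFib : Surjective (toFib s φ Y) :=
  MorphismProperty.of_isPullback (P := @Surjective) (isPullback_toFib s φ Y).flip
    (GrpSchLib.surjective_spec_map_field φ.hom)

theorem universallyOpen_toFib : UniversallyOpen (toFib s φ Y) :=
  haveI : UniversallyOpen (Spec.map φ) := inferInstance
  MorphismProperty.of_isPullback (P := @UniversallyOpen) (isPullback_toFib s φ Y).flip inferInstance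

theorem isClosedMap_toFib (hint : IsIntegralHom (Spec.map φ)) : IsClosedMap (toFib s φ Y) :=
  haveI : IsIntegralHom (toFib s φ Y) :=
    MorphismProperty.of_isPullback (P := @IsIntegralHom) (isPullback_toFib s φ Y).flip hint
  (toFib s φ Y).isClosedMap

theorem locallyOfFiniteType_pullback_snd [LocallyOfFiniteType (Y.hom.fiberToSpecResidueField s)] :
    LocallyOfFiniteType ((Over.pullback (fibPt s φ)).obj Y).hom :=
  MorphismProperty.of_isPullback (P := @LocallyOfFiniteType) (isPullback_toFib s φ Y) inferInstance

/-- Over a closed point of the fibre there are finitely many points of the geometric fibre, all closed. -/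
theorem finite_toFib_preimage [LocallyOfFiniteType (Y.hom.fiberToSpecResidueField s)]
    (hint : IsIntegralHom (Spec.map φ)) (x : Y.hom.fiber s) (hx : IsClosed ({x} : Set ↥(Y.hom.fiber s))) :
    (toFib s φ Y ⁻¹' {x}).Finite ∧ ∀ b ∈ toFib s φ Y ⁻¹' {x}, IsClosed ({b} : Set _) := by
  have hfin : (toFib s φ Y ⁻¹' {x}).Finite := by
    let i := (Y.hom.fiber s).fromSpecResidueField x
    haveI : IsClosedImmersion i := IsClosedImmersion.of_isPreimmersion i (by
      rw [Scheme.range_fromSpecResidueField]; exact hx)
    haveI : LocallyQuasiFinite (i ≫ Y.hom.fiberToSpecResidueField s) :=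
      LocallyQuasiFinite.of_injective fun p q _ => by
        haveI := FibDim.subsingleton_spec_field ((Y.hom.fiber s).residueField x)
        exact Subsingleton.elim p q
    let r := pullback.snd i (toFib s φ Y) ≫ pullback.snd Y.hom (fibPt s φ)
    have hpb : IsPullback (pullback.fst i (toFib s φ Y)) r (i ≫ Y.hom.fiberToSpecResidueField s) (Spec.map φ) :=
      (IsPullback.of_hasPullback i (toFib s φ Y)).paste_vert (isPullback_toFib s φ Y)
    haveI : LocallyQuasiFinite r :=
      MorphismProperty.of_isPullback (P := @LocallyQuasiFinite) hpb inferInstance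
    haveI : IsIntegralHom (toFib s φ Y) :=
      MorphismProperty.of_isPullback (P := @IsIntegralHom) (isPullback_toFib s φ Y).flip hint
    haveI : CompactSpace ↥(pullback i (toFib s φ Y)) :=
      QuasiCompact.compactSpace_of_compactSpace (pullback.fst i (toFib s φ Y))
    haveI : QuasiCompact r := (quasiCompact_iff_compactSpace r).mpr inferInstance
    have huniv : (Set.univ : Set ↥(pullback i (toFib s φ Y))).Finite := by
      refine (r.finite_preimage_singleton (IsLocalRing.closedPoint k)).subset fun p _ => ?_
      haveI := FibDim.subsingleton_spec_field k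
      exact Subsingleton.elim (α := ↥(Spec (CommRingCat.of k))) _ _
    refine (huniv.image (pullback.snd i (toFib s φ Y))).subset fun b hb => ?_
    obtain ⟨p, -, hp⟩ := Scheme.Pullback.exists_preimage_pullback (f := i) (g := toFib s φ Y)
      (IsLocalRing.closedPoint _) b (by rw [Scheme.fromSpecResidueField_apply]; exact hb.symm)
    exact ⟨p, trivial, hp⟩
  refine ⟨hfin, fun b hb => ?_⟩
  haveI : LocallyOfFiniteType (pullback.snd Y.hom (fibPt s φ)) := locallyOfFiniteType_pullback_snd s φ Y
  haveI : JacobsonSpace ↥((Over.pullback (fibPt s φ)).obj Y).left :=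
    LocallyOfFiniteType.jacobsonSpace (pullback.snd Y.hom (fibPt s φ))
  have hcl : IsClosed (toFib s φ Y ⁻¹' {x}) := hx.preimage (toFib s φ Y).continuous
  haveI : JacobsonSpace ↥(toFib s φ Y ⁻¹' {x}) := .of_isClosedEmbedding hcl.isClosedEmbedding_subtypeVal
  haveI := hfin.to_subtype
  have h : IsClosed ({⟨b, hb⟩} : Set ↥(toFib s φ Y ⁻¹' {x})) := isClosed_discrete _
  simpa using hcl.isClosedEmbedding_subtypeVal.isClosedMap _ h

variable {G X : Over S} [GrpObj G] (a : AlgGrp.Action G X) {S' : Scheme.{u}} (j : S' ⟶ S)

/-- The base changed action is computed by the action. -/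
theorem act_proj {Z : Over S'} (f : Z ⟶ (Over.pullback j).obj G) (g : Z ⟶ (Over.pullback j).obj X)
    {Z' : Over S} (f' : Z' ⟶ G) (g' : Z' ⟶ X) (r : Z'.left ⟶ Z.left)
    (hf : r ≫ f.left ≫ pullback.fst G.hom j = f'.left) (hg : r ≫ g.left ≫ pullback.fst X.hom j = g'.left) :
    r ≫ (lift f g ≫ (bcAction j a).act).left ≫ pullback.fst X.hom j = (lift f' g' ≫ a.act).left := by
  let F := Over.pullback j
  let ν : Z ⟶ F.obj (G ⊗ X) := lift f g ≫ Functor.LaxMonoidal.μ F G X
  have hfst : ∀ {A B : Over S} (e : A ⟶ B), (F.map e).left ≫ pullback.fst B.hom j = pullback.fst A.hom j ≫ e.left :=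
    fun e => pullback.lift_fst _ _ _
  have h1 : ν ≫ F.map (fst G X) = f := by simp [ν, F]
  have h2 : ν ≫ F.map (snd G X) = g := by simp [ν, F]
  have key : r ≫ ν.left ≫ pullback.fst (G ⊗ X).hom j = (lift f' g').left := by
    apply pullback.hom_ext
    · show (r ≫ ν.left ≫ pullback.fst (G ⊗ X).hom j) ≫ (fst G X).left = (lift f' g').left ≫ (fst G X).left
      rw [← Over.comp_left, lift_fst, ← hf, Category.assoc, Category.assoc, ← hfst, ← Category.assoc ν.left,
        ← Over.comp_left, h1]
    · show (r ≫ ν.left ≫ pullback.fst (G ⊗ X).hom j) ≫ (snd G X).left = (lift f' g').left ≫ (snd G X).left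
      rw [← Over.comp_left, lift_snd, ← hg, Category.assoc, Category.assoc, ← hfst, ← Category.assoc ν.left,
        ← Over.comp_left, h2]
  show r ≫ (lift f g ≫ Functor.LaxMonoidal.μ F G X ≫ F.map a.act).left ≫ pullback.fst X.hom j = _
  rw [← Category.assoc (lift f g), Over.comp_left, Category.assoc, hfst, ← Category.assoc ν.left, ← Category.assoc r,
    key, ← Over.comp_left]

/-- A quasi-section with trivial residue extension lifts points with values in fields. -/
theorem exists_lift_point {A B : Scheme.{u}} (h : A ⟶ B) (a : A) (hbij : Function.Bijective (h.residueFieldMap a))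
    {k : Type u} [Field k] (g : Spec (CommRingCat.of k) ⟶ B) (hg : g (IsLocalRing.closedPoint k) = h a) :
    ∃ t : Spec (CommRingCat.of k) ⟶ A, t (IsLocalRing.closedPoint k) = a ∧ t ≫ h = g := by
  haveI : IsIso (h.residueFieldMap a) := (ConcreteCategory.isIso_iff_bijective _).2 hbij
  let α := (B.residueFieldCongr hg.symm).hom ≫ B.descResidueField (Scheme.stalkClosedPointTo g)
  refine ⟨Spec.map (inv (h.residueFieldMap a) ≫ α) ≫ A.fromSpecResidueField a, ?_, ?_⟩
  · rw [Scheme.Hom.comp_apply, Scheme.fromSpecResidueField_apply]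
  · rw [Category.assoc, ← Scheme.Hom.SpecMap_residueFieldMap_fromSpecResidueField, ← Category.assoc, ← Spec.map_comp,
      IsIso.hom_inv_id_assoc, Spec.map_comp, Category.assoc, Scheme.residueFieldCongr_fromSpecResidueField,
      Scheme.descResidueField_stalkClosedPointTo_fromSpecResidueField]

end Groth.Agent.GrpFieldLib
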