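import Groth.Agent.GrpFieldLib.Dominant
import Groth.Agent.FDescent.FlatCancel

/-! A surjective homomorphism of group schemes over a field with reduced target is flat. -/

set_option backward.isDefEq.respectTransparency false
set_option backward.isDefEq.respectTransparency.types false

universe u

open CategoryTheory MonoidalCategory CartesianMonoidalCategory MonObj AlgebraicGeometry Limits

namespace Groth.Agent.GrpFieldLib

theorem flat_stalkMap_cancel {A B C : Scheme.{u}} (f : A ⟶ B) (g : B ⟶ C) (a : A)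
    (h1 : (f.stalkMap a).hom.Flat) (h2 : ((f ≫ g).stalkMap a).hom.Flat) :
    (g.stalkMap (f a)).hom.Flat := by
  rw [Scheme.Hom.stalkMap_comp, CommRingCat.hom_comp] at h2
  let R : Type u := C.presheaf.stalk ((f ≫ g) a)
  let M : Type u := B.presheaf.stalk (f a)
  let N : Type u := A.presheaf.stalk a
  let φ : R →+* M := (g.stalkMap (f a)).hom
  let ψ : M →+* N := (f.stalkMap a).hom
  algebraize [φ, ψ, ψ.comp φ]
  have : Module.Flat M N := h1
  have : Module.Flat R N := h2
  have : IsLocalHom (algebraMap M N) := f.toLRSHom.prop a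
  have : Module.FaithfullyFlat M N := Module.FaithfullyFlat.of_flat_of_isLocalHom
  exact Groth.Agent.FDescent.flat_cancel R M N

theorem flat_stalkMap_comp {A B C : Scheme.{u}} (f : A ⟶ B) (g : B ⟶ C) (a : A)
    (h1 : (f.stalkMap a).hom.Flat) (h2 : (g.stalkMap (f a)).hom.Flat) :
    ((f ≫ g).stalkMap a).hom.Flat := by
  rw [Scheme.Hom.stalkMap_comp, CommRingCat.hom_comp]
  exact RingHom.Flat.comp h2 h1

theorem isField_stalk_of_maximal {Y : Scheme.{u}} [IsReduced Y] (y : Y)
    (hy : closure {y} ∈ irreducibleComponents (Y : Type u)) : IsField (Y.presheaf.stalk y) := by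
  have hsub : ∀ q : Spec (Y.presheaf.stalk y), Y.fromSpecStalk y q = y := fun q => by
    have h2 : Y.fromSpecStalk y q ⤳ y := by
      have h : Y.fromSpecStalk y q ∈ Set.range (Y.fromSpecStalk y) := ⟨q, rfl⟩
      rwa [Scheme.range_fromSpecStalk] at h
    have h3 : Y.fromSpecStalk y q ∈ closure {y} := hy.2 isIrreducible_singleton.closure
      (closure_minimal (Set.singleton_subset_iff.mpr (specializes_iff_mem_closure.mp h2))
        isClosed_closure) (subset_closure rfl)
    exact (h2.antisymm (specializes_iff_mem_closure.mpr h3)).eq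
  haveI : Subsingleton (Spec (Y.presheaf.stalk y)) := ⟨fun a b =>
    (Y.fromSpecStalk y).isEmbedding.injective ((hsub a).trans (hsub b).symm)⟩
  haveI : Subsingleton (PrimeSpectrum (Y.presheaf.stalk y)) :=
    inferInstanceAs (Subsingleton (Spec (Y.presheaf.stalk y)))
  rw [IsLocalRing.isField_iff_maximalIdeal_eq, eq_bot_iff]
  intro a ha
  have hnil : IsNilpotent a := by
    rw [← mem_nilradical, nilradical_eq_sInf, Ideal.mem_sInf]
    intro P hP
    have he : (⟨P, hP⟩ : PrimeSpectrum (Y.presheaf.stalk y)) = IsLocalRing.closedPoint _ :=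
      Subsingleton.elim _ _
    rw [show P = IsLocalRing.maximalIdeal _ from congrArg PrimeSpectrum.asIdeal he]
    exact ha
  rw [Ideal.mem_bot, hnil.eq_zero]

theorem flat_stalkMap_of_maximal {X Y : Scheme.{u}} [IsReduced Y] (f : X ⟶ Y) (x : X)
    (hy : closure {f x} ∈ irreducibleComponents (Y : Type u)) : (f.stalkMap x).hom.Flat :=
  RingHom.Flat.of_isField (isField_stalk_of_maximal _ hy) _

theorem flat_of_surjective {k : Type u} [Field k] {G H : Over (Spec (CommRingCat.of k))} [GrpObj G]
    [GrpObj H] (f : G ⟶ H) [IsMonHom f] [Surjective f.left] [IsReduced H.left] : Flat f.left := by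
  have hflat : ∀ {X : Scheme.{u}} (g : X ⟶ Spec (CommRingCat.of k)), Flat g := fun g => by
    have : Subsingleton (Spec (CommRingCat.of k)) := inferInstanceAs (Subsingleton (PrimeSpectrum k))
    infer_instance
  refine Flat.of_stalkMap f.left fun x => ?_
  obtain ⟨z, hz, h1, h2⟩ := exists_mul_eq_over_maximal f x (hflat _)
  subst hz
  haveI : Flat ((Over.forget (Spec (CommRingCat.of k))).map (fst H G)) :=
    MorphismProperty.pullback_fst _ _ (hflat G.hom)
  haveI : Flat ((Over.forget (Spec (CommRingCat.of k))).map (snd H H)) :=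
    MorphismProperty.pullback_snd _ _ (hflat H.hom)
  let p : ↥(H ⊗ G).left := (f ▷ G).left z
  have hA : ((f ▷ G).left.stalkMap z).hom.Flat :=
    (S5223.result ((FpqcDescLib.isPullback_whiskerRight f G).map (Over.forget _)).flip z).mpr
      (flat_stalkMap_of_maximal f.left _ h1)
  have hp : (snd H G).left p = (snd G G).left z := by
    show ((f ▷ G).left ≫ (snd H G).left) z = _
    rw [← Over.comp_left, whiskerRight_snd]
  have hB : ((H ◁ f).left.stalkMap p).hom.Flat :=
    (S5223.result ((FpqcDescLib.isPullback_whiskerLeft f H).map (Over.forget _)).flip p).mpr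
      (flat_stalkMap_of_maximal f.left _ (hp ▸ h2))
  have hμH : Flat (μ[H]).left := by
    let σ : H ⊗ H ⟶ H ⊗ H := lift (fst H H) μ[H]
    let τ : H ⊗ H ⟶ H ⊗ H := lift (fst H H) ((fst H H)⁻¹ * snd H H)
    have hστ : σ ≫ τ = 𝟙 _ := by
      apply CartesianMonoidalCategory.hom_ext
      · simp [σ, τ]
      · simp [σ, τ, MonObj.comp_mul, GrpObj.comp_inv, MonObj.mul_eq_mul]
    have hτσ : τ ≫ σ = 𝟙 _ := by
      apply CartesianMonoidalCategory.hom_ext
      · simp [σ, τ]
      · simp [σ, τ, MonObj.comp_mul, GrpObj.comp_inv, MonObj.mul_eq_mul]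
    have : IsIso σ := ⟨τ, hστ, hτσ⟩
    have : IsIso σ.left := inferInstanceAs (IsIso ((Over.forget _).map σ))
    rw [show μ[H] = σ ≫ snd H H from (lift_snd _ _).symm, Over.comp_left]
    have : Flat (snd H H).left := MorphismProperty.pullback_snd _ _ (hflat H.hom)
    infer_instance
  have hμG : Flat (μ[G]).left := by
    let σ : G ⊗ G ⟶ G ⊗ G := lift (fst G G) μ[G]
    let τ : G ⊗ G ⟶ G ⊗ G := lift (fst G G) ((fst G G)⁻¹ * snd G G)
    have hστ : σ ≫ τ = 𝟙 _ := by
      apply CartesianMonoidalCategory.hom_ext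
      · simp [σ, τ]
      · simp [σ, τ, MonObj.comp_mul, GrpObj.comp_inv, MonObj.mul_eq_mul]
    have hτσ : τ ≫ σ = 𝟙 _ := by
      apply CartesianMonoidalCategory.hom_ext
      · simp [σ, τ]
      · simp [σ, τ, MonObj.comp_mul, GrpObj.comp_inv, MonObj.mul_eq_mul]
    have : IsIso σ := ⟨τ, hστ, hτσ⟩
    have : IsIso σ.left := inferInstanceAs (IsIso ((Over.forget _).map σ))
    rw [show μ[G] = σ ≫ snd G G from (lift_snd _ _).symm, Over.comp_left]
    have : Flat (snd G G).left := MorphismProperty.pullback_snd _ _ (hflat G.hom)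
    infer_instance
  have hw : (μ[G]).left ≫ f.left = (f ▷ G).left ≫ (H ◁ f).left ≫ (μ[H]).left := by
    rw [← Over.comp_left, ← Over.comp_left, ← Over.comp_left, IsMonHom.mul_hom f,
      MonoidalCategory.tensorHom_def, Category.assoc]
  refine flat_stalkMap_cancel _ f.left z (Flat.stalkMap _ z) ?_
  rw [hw]
  exact flat_stalkMap_comp _ _ z hA (flat_stalkMap_comp _ _ _ hB (Flat.stalkMap _ _))

theorem surjective_of_dominant {k : Type u} [Field k] {G H : Over (Spec (CommRingCat.of k))}
    [GrpObj G] [GrpObj H] (f : G ⟶ H) [IsMonHom f] [QuasiCompact f.left] [IsDominant f.left] :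
    Surjective f.left := by
  refine ⟨fun h => ?_⟩
  have : Subsingleton (Spec (CommRingCat.of k)) := inferInstanceAs (Subsingleton (PrimeSpectrum k))
  obtain ⟨z, hz, h1, h2⟩ := GrpPtsLib.exists_mul_eq_of_maximal H h inferInstance
  obtain ⟨a, ha⟩ := mem_range_of_maximal f.left _ h1
  obtain ⟨b, hb⟩ := mem_range_of_maximal f.left _ h2
  have hr : z ∈ Set.range (f ⊗ₘ f).left :=
    (Scheme.Pullback.range_map (f := G.hom) (g := G.hom) H.hom H.hom f.left f.left (𝟙 _)
      (by simp) (by simp)).symm ▸ ⟨⟨a, ha⟩, ⟨b, hb⟩⟩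
  obtain ⟨w, hw⟩ := hr
  refine ⟨μ[G].left w, ?_⟩
  have e : μ[G].left ≫ f.left = (f ⊗ₘ f).left ≫ μ[H].left := by
    rw [← Over.comp_left, ← Over.comp_left, IsMonHom.mul_hom f]
  rw [← Scheme.Hom.comp_apply, e, Scheme.Hom.comp_apply, hw]
  exact hz

end Groth.Agent.GrpFieldLib
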