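import Groth.Prelude.Def_TwC
import Groth.Agent.MorLib.QFSplit
import Groth.Agent.FlatMisc.QfSlice
import Groth.Agent.H23.LocNoethTop
import Mathlib.AlgebraicGeometry.Morphisms.FlatDescent
import Mathlib.AlgebraicGeometry.Sites.Fpqc

/-!
# Splittings of constant schemes and their descent along finite flat neighbourhoods
-/

set_option autoImplicit false
set_option backward.isDefEq.respectTransparency false
set_option backward.isDefEq.respectTransparency.types false

universe u

open CategoryTheory CategoryTheory.Limits AlgebraicGeometry TopologicalSpace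

namespace Groth.Agent.GrpFieldLib.TwSplit

variable {S : Scheme.{u}} {X : Over S}

/-- The section of a base change given by a morphism. -/
noncomputable def sec {S' : Scheme.{u}} {f : S' ⟶ S} (σ : S' ⟶ X.left) (h : σ ≫ X.hom = f) : S' ⟶ pullback X.hom f :=
  pullback.lift σ (𝟙 S') (by rw [h, Category.id_comp])

@[reassoc (attr := simp)]
theorem sec_fst {S' : Scheme.{u}} {f : S' ⟶ S} (σ : S' ⟶ X.left) (h : σ ≫ X.hom = f) :
    sec σ h ≫ pullback.fst X.hom f = σ := pullback.lift_fst _ _ _

@[reassoc (attr := simp)]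
theorem sec_snd {S' : Scheme.{u}} {f : S' ⟶ S} (σ : S' ⟶ X.left) (h : σ ≫ X.hom = f) :
    sec σ h ≫ pullback.snd X.hom f = 𝟙 S' := pullback.lift_snd _ _ _

variable (X) in
/-- A decomposition of a base change into copies of the base. -/
structure Splitting {S' : Scheme.{u}} (f : S' ⟶ S) (I : Type u) where
  /-- the morphisms -/
  σ : I → (S' ⟶ X.left)
  comm : ∀ i, σ i ≫ X.hom = f
  isOpen : ∀ i, IsOpenImmersion (sec (σ i) (comm i))
  disj : ∀ i j a b, sec (σ i) (comm i) a = sec (σ j) (comm j) b → i = j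
  cover : ∀ z, ∃ i a, sec (σ i) (comm i) a = z

/-- A constant base change splits. -/
noncomputable def Splitting.ofIso {S' : Scheme.{u}} {f : S' ⟶ S} {I : Type u} (e : Red.bc f X ≅ TwC.const S' I) :
    Splitting X f I :=
  have hs : ∀ i, Sigma.ι (fun _ : I => S') i ≫ e.inv.left ≫ pullback.snd X.hom f = 𝟙 S' := fun i => by
    refine (congrArg (Sigma.ι (fun _ : I => S') i ≫ ·) (Over.w e.inv)).trans ?_
    exact Sigma.ι_desc _ _
  have hc : ∀ i, (Sigma.ι (fun _ : I => S') i ≫ e.inv.left ≫ pullback.fst X.hom f) ≫ X.hom = f := fun i => by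
    rw [Category.assoc, Category.assoc, pullback.condition]
    simp only [← Category.assoc] at hs ⊢
    rw [hs i, Category.id_comp]
  have he : ∀ i, sec (X := X) (Sigma.ι (fun _ : I => S') i ≫ e.inv.left ≫ pullback.fst X.hom f) (hc i) =
      Sigma.ι (fun _ : I => S') i ≫ e.inv.left := fun i => by
    apply pullback.hom_ext
    · rw [sec_fst]; exact (Category.assoc _ _ _).symm
    · rw [sec_snd]; exact ((Category.assoc _ _ _).trans (hs i)).symm
  { σ := fun i => Sigma.ι (fun _ : I => S') i ≫ e.inv.left ≫ pullback.fst X.hom f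
    comm := hc
    isOpen := fun i => by rw [he i]; infer_instance
    disj := fun i j a b h => by
      rw [he, he, Scheme.Hom.comp_apply, Scheme.Hom.comp_apply] at h
      have h1 := e.inv.left.isOpenEmbedding.injective h
      have h2 := (sigmaMk fun _ : I => S').injective (a₁ := ⟨i, a⟩) (a₂ := ⟨j, b⟩)
        (by rw [sigmaMk_mk, sigmaMk_mk]; exact h1)
      exact (Sigma.mk.inj h2).1
    cover := fun z => by
      obtain ⟨⟨i, y⟩, hy⟩ := (sigmaMk fun _ : I => S').surjective (e.hom.left z)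
      rw [sigmaMk_mk] at hy
      refine ⟨i, y, ?_⟩
      rw [he, Scheme.Hom.comp_apply, hy]
      exact (Scheme.Hom.comp_apply e.hom.left e.inv.left z).symm.trans
        (congrArg (fun m : Red.bc f X ⟶ Red.bc f X => m.left z) e.hom_inv_id) }

/-- A splitting gives a constant base change. -/
theorem Splitting.nonempty_iso {S' : Scheme.{u}} {f : S' ⟶ S} {I : Type u} (P : Splitting X f I) :
    Nonempty (Red.bc f X ≅ TwC.const S' I) := by
  haveI := P.isOpen
  let d : (∐ fun _ : I => S') ⟶ pullback X.hom f := Sigma.desc fun i => sec (P.σ i) (P.comm i)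
  haveI : IsOpenImmersion d := isOpenImmersion_sigmaDesc _ _ fun i j hij =>
    Set.disjoint_iff_forall_ne.mpr fun _ ⟨a, ha⟩ _ ⟨b, hb⟩ h => hij (P.disj i j a b (ha.trans (h.trans hb.symm)))
  haveI : IsIso d := isIso_of_isOpenImmersion_of_opensRange_eq_top _ (eq_top_iff.mpr fun z _ => by
    obtain ⟨i, a, ha⟩ := P.cover z
    refine ⟨Sigma.ι (fun _ : I => S') i a, ?_⟩
    rw [← Scheme.Hom.comp_apply, Sigma.ι_desc]
    exact ha)
  refine ⟨(Over.isoMk (asIso d) ?_ : TwC.const S' I ≅ Red.bc f X).symm⟩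
  show d ≫ pullback.snd X.hom f = Sigma.desc fun _ : I => 𝟙 S'
  refine Sigma.hom_ext _ _ fun i => ?_
  simp only [d, Sigma.ι_desc, Sigma.ι_desc_assoc, sec_snd]

/-- The projection between base changes. -/
noncomputable def proj (X : Over S) {S' Z : Scheme.{u}} (f : S' ⟶ S) (r : Z ⟶ S') :
    pullback X.hom (r ≫ f) ⟶ pullback X.hom f :=
  pullback.lift (pullback.fst _ _) (pullback.snd X.hom (r ≫ f) ≫ r) (by rw [pullback.condition, Category.assoc])

theorem isPullback_proj (X : Over S) {S' Z : Scheme.{u}} (f : S' ⟶ S) (r : Z ⟶ S') :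
    IsPullback (proj X f r) (pullback.snd X.hom (r ≫ f)) (pullback.snd X.hom f) r := by
  refine IsPullback.of_right (t := IsPullback.of_hasPullback X.hom f) ?_ (pullback.lift_snd _ _ _)
  rw [show proj X f r ≫ pullback.fst X.hom f = pullback.fst X.hom (r ≫ f) from pullback.lift_fst _ _ _]
  exact IsPullback.of_hasPullback X.hom (r ≫ f)

theorem isPullback_sec {S' Z : Scheme.{u}} {f : S' ⟶ S} (r : Z ⟶ S') (σ : S' ⟶ X.left) (h : σ ≫ X.hom = f) :
    IsPullback (sec (f := r ≫ f) (r ≫ σ) (by rw [Category.assoc, h])) r (proj X f r) (sec σ h) := by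
  refine IsPullback.of_right (t := (isPullback_proj X f r).flip) ?_ ?_
  · rw [sec_snd, sec_snd]
    exact IsPullback.of_horiz_isIso ⟨by rw [Category.id_comp, Category.comp_id]⟩
  · apply pullback.hom_ext <;> simp [proj]

/-- Splittings can be pulled back. -/
noncomputable def Splitting.pullback {S' Z : Scheme.{u}} {f : S' ⟶ S} {I : Type u} (P : Splitting X f I) (r : Z ⟶ S') :
    Splitting X (r ≫ f) I where
  σ i := r ≫ P.σ i
  comm i := by rw [Category.assoc, P.comm]
  isOpen i := MorphismProperty.of_isPullback (P := @IsOpenImmersion) (isPullback_sec r (P.σ i) (P.comm i)).flip (P.isOpen i)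
  disj i j a b h := P.disj i j (r a) (r b) <| by
    rw [← Scheme.Hom.comp_apply, ← (isPullback_sec r _ _).w, Scheme.Hom.comp_apply, h,
      ← Scheme.Hom.comp_apply, (isPullback_sec r _ _).w, Scheme.Hom.comp_apply]
  cover z := by
    obtain ⟨i, a, ha⟩ := P.cover (proj X f r z)
    let hh := isPullback_sec r (P.σ i) (P.comm i)
    obtain ⟨w, hw, -⟩ := Scheme.Pullback.exists_preimage_pullback (f := proj X f r) (g := sec (P.σ i) (P.comm i))
      z a ha.symm
    refine ⟨i, hh.isoPullback.inv w, ?_⟩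
    rw [← Scheme.Hom.comp_apply, hh.isoPullback_inv_fst]
    exact hw

/-- A splitting along equal morphisms. -/
noncomputable def Splitting.congr {S' : Scheme.{u}} {f f' : S' ⟶ S} {I : Type u} (P : Splitting X f I) (h : f = f')
    (σ' : I → (S' ⟶ X.left)) (hσ : σ' = P.σ) (hc : ∀ i, σ' i ≫ X.hom = f') : Splitting X f' I where
  σ := σ'
  comm := hc
  isOpen i := by subst h hσ; exact P.isOpen i
  disj := by subst h hσ; exact P.disj
  cover := by subst h hσ; exact P.cover

/-- The points where a morphism has a given index. -/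
def Splitting.locus {S' : Scheme.{u}} {f : S' ⟶ S} {I : Type u} (P : Splitting X f I) (s : S' ⟶ X.left)
    (hs : s ≫ X.hom = f) (i : I) : Set S' :=
  sec s hs ⁻¹' Set.range (sec (P.σ i) (P.comm i))

theorem Splitting.isClopen_locus {S' : Scheme.{u}} {f : S' ⟶ S} {I : Type u} (P : Splitting X f I) (s : S' ⟶ X.left)
    (hs : s ≫ X.hom = f) (i : I) : IsClopen (P.locus s hs i) := by
  haveI := P.isOpen
  have ho : ∀ j, IsOpen (P.locus s hs j) := fun j =>
    ((sec (P.σ j) (P.comm j)).isOpenEmbedding.isOpen_range).preimage (sec s hs).continuous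
  refine ⟨⟨?_⟩, ho i⟩
  have h : (P.locus s hs i)ᶜ = ⋃ j ∈ {j | j ≠ i}, P.locus s hs j := by
    ext z
    simp only [Set.mem_compl_iff, Set.mem_iUnion, Set.mem_setOf_eq, exists_prop]
    refine ⟨fun hz => ?_, ?_⟩
    · obtain ⟨j, a, ha⟩ := P.cover (sec s hs z)
      exact ⟨j, fun e => hz (e ▸ ⟨a, ha⟩), a, ha⟩
    · rintro ⟨j, hji, a, ha⟩ ⟨b, hb⟩
      exact hji (P.disj j i a b (ha.trans hb.symm))
  rw [h]
  exact isOpen_biUnion fun j _ => ho j

theorem Splitting.comp_eq_of_range {S' V : Scheme.{u}} {f : S' ⟶ S} {I : Type u} (P : Splitting X f I) (s : S' ⟶ X.left)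
    (hs : s ≫ X.hom = f) (i : I) (v : V ⟶ S') (hv : ∀ x, v x ∈ P.locus s hs i) : v ≫ s = v ≫ P.σ i := by
  haveI := P.isOpen i
  have hr : Set.range (v ≫ sec s hs) ⊆ Set.range (sec (P.σ i) (P.comm i)) := by
    rintro _ ⟨x, rfl⟩
    exact hv x
  have h := IsOpenImmersion.lift_fac (sec (P.σ i) (P.comm i)) (v ≫ sec s hs) hr
  have hl : IsOpenImmersion.lift (sec (P.σ i) (P.comm i)) (v ≫ sec s hs) hr = v := by
    have h1 := congrArg (· ≫ pullback.snd X.hom f) h
    rwa [Category.assoc, Category.assoc, sec_snd, sec_snd, Category.comp_id, Category.comp_id] at h1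
  rw [hl] at h
  have h2 := congrArg (· ≫ pullback.fst X.hom f) h
  simpa using h2.symm

theorem Splitting.mem_locus {S' V : Scheme.{u}} {f : S' ⟶ S} {I : Type u} (P : Splitting X f I) (s : S' ⟶ X.left)
    (hs : s ≫ X.hom = f) (i : I) (v : V ⟶ S') (h : v ≫ s = v ≫ P.σ i) (x : V) : v x ∈ P.locus s hs i := by
  refine ⟨v x, ?_⟩
  rw [← Scheme.Hom.comp_apply, ← Scheme.Hom.comp_apply]
  refine congrArg (fun m : V ⟶ Limits.pullback X.hom f => m x) ?_
  apply pullback.hom_ext <;> simp [h]

/-- Points with values in a field over a purely inseparable point are determined by their image. -/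
theorem eq_of_isPurelyInseparable {Z U : Scheme.{u}} (p : Z ⟶ U) (v : Z)
    (hpi : letI := (p.residueFieldMap v).hom.toAlgebra
      IsPurelyInseparable ↑(U.residueField (p v)) ↑(Z.residueField v))
    {K : Type u} [Field K] (a b : Spec (CommRingCat.of K) ⟶ Z) (ha : a (IsLocalRing.closedPoint K) = v)
    (hb : b (IsLocalRing.closedPoint K) = v) (hab : a ≫ p = b ≫ p) : a = b := by
  letI := (p.residueFieldMap v).hom.toAlgebra
  haveI := hpi
  have key : ∀ c : Spec (CommRingCat.of K) ⟶ Z, c (IsLocalRing.closedPoint K) = v →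
      ∃ α : Z.residueField v ⟶ CommRingCat.of K, Spec.map α ≫ Z.fromSpecResidueField v = c := by
    intro c hc
    subst hc
    exact ⟨_, Scheme.descResidueField_stalkClosedPointTo_fromSpecResidueField K Z c⟩
  obtain ⟨α, rfl⟩ := key a ha
  obtain ⟨β, rfl⟩ := key b hb
  rw [Category.assoc, Category.assoc, ← Scheme.Hom.SpecMap_residueFieldMap_fromSpecResidueField,
    ← Category.assoc, ← Category.assoc, cancel_mono, ← Spec.map_comp, ← Spec.map_comp, Spec.map_inj] at hab
  have h : α.hom = β.hom :=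
    IsPurelyInseparable.injective_comp_algebraMap (U.residueField (p v)) (Z.residueField v) K
      (congrArg CommRingCat.Hom.hom hab)
  rw [CommRingCat.hom_ext h]

theorem locallyConnectedSpace_of_isLocallyNoetherian (Y : Scheme.{u}) [IsLocallyNoetherian Y] :
    LocallyConnectedSpace Y :=
  H23.LocNoethTop.locallyConnectedSpace fun y => by
    obtain ⟨A, hA, hyA, -⟩ := exists_isAffineOpen_mem_and_subset (show y ∈ (⊤ : Y.Opens) from trivial)
    haveI : IsNoetherianRing Γ(Y, A) := IsLocallyNoetherian.component_noetherian ⟨A, hA⟩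
    exact ⟨A, A.2.mem_nhds hyA, noetherianSpace_of_isAffineOpen A hA⟩

/-- Near a purely inseparable point of a finite flat covering a splitting descends. -/
theorem exists_descend {U Z : Scheme.{u}} [IsLocallyNoetherian U] (g : U ⟶ S) (p : Z ⟶ U) [IsFinite p] [Flat p]
    [LocallyOfFinitePresentation p] (u : U) (v : Z) (hv : p v = u) (huniq : ∀ w, p w = u → w = v)
    (hpi : letI := (p.residueFieldMap v).hom.toAlgebra
      IsPurelyInseparable ↑(U.residueField (p v)) ↑(Z.residueField v))
    {I : Type u} (P : Splitting X (p ≫ g) I) :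
    ∃ U' : U.Opens, u ∈ U' ∧ Nonempty (Splitting X (U'.ι ≫ g) I) := by
  let p₁ := pullback.fst p p
  let p₂ := pullback.snd p p
  haveI : IsLocallyNoetherian (pullback p p) := LocallyOfFiniteType.isLocallyNoetherian (p₁ ≫ p)
  haveI := locallyConnectedSpace_of_isLocallyNoetherian (pullback p p)
  have hcomm : ∀ i, (p₂ ≫ P.σ i) ≫ X.hom = p₁ ≫ p ≫ g := fun i => by
    rw [Category.assoc, P.comm, ← Category.assoc, ← Category.assoc, pullback.condition]
  let N : Set ↥(pullback p p) := ⋃ z ∈ (p₁ ≫ p) ⁻¹' {u}, connectedComponent z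
  have hN : IsOpen N := isOpen_biUnion fun _ _ => isOpen_connectedComponent
  have hNmem : ∀ i, ∀ z ∈ N, z ∈ (P.pullback p₁).locus (p₂ ≫ P.σ i) (hcomm i) i := by
    intro i z hz
    obtain ⟨z₀, hz₀, hzc⟩ := Set.mem_iUnion₂.1 hz
    refine ((P.pullback p₁).isClopen_locus _ (hcomm i) i).connectedComponent_subset ?_ hzc
    let k := (pullback p p).fromSpecResidueField z₀
    have hk : k (IsLocalRing.closedPoint _) = z₀ := Scheme.fromSpecResidueField_apply _ _
    have h1 : p₁ z₀ = v := huniq _ (by rw [← Scheme.Hom.comp_apply]; exact hz₀)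
    have h2 : p₂ z₀ = v := huniq _ (by
      rw [← Scheme.Hom.comp_apply, ← pullback.condition]; exact hz₀)
    have heq : k ≫ p₁ = k ≫ p₂ := eq_of_isPurelyInseparable p v hpi _ _
      ((congrArg p₁ hk).trans h1) ((congrArg p₂ hk).trans h2)
      (by rw [Category.assoc, Category.assoc, pullback.condition])
    have h := (P.pullback p₁).mem_locus _ (hcomm i) i k
      (show k ≫ p₂ ≫ P.σ i = k ≫ p₁ ≫ P.σ i by rw [← Category.assoc, ← Category.assoc, heq])
      (IsLocalRing.closedPoint _)
    rwa [hk] at h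
  let R : U.Opens := ⟨Set.range p, p.isOpenMap.isOpen_range⟩
  let B : Set U := (p₁ ≫ p) '' Nᶜ
  have hB : IsClosed B := (p₁ ≫ p).isClosedMap _ hN.isClosed_compl
  let U' : U.Opens := ⟨Set.range p \ B, R.isOpen.sdiff hB⟩
  refine ⟨U', ⟨⟨v, hv⟩, fun ⟨z, hz, hzu⟩ => hz (Set.mem_iUnion₂.2 ⟨z, hzu, mem_connectedComponent⟩)⟩, ?_⟩
  let p' := p ∣_ U'
  haveI : Surjective p' := ⟨fun x => by
    obtain ⟨w, hw⟩ := x.2.1
    have hwU : p w ∈ U' := by rw [hw]; exact x.2
    refine ⟨⟨w, hwU⟩, U'.ι.isOpenEmbedding.injective ?_⟩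
    rw [← Scheme.Hom.comp_apply, morphismRestrict_ι, Scheme.Hom.comp_apply]
    exact hw⟩
  haveI : Flat p' := MorphismProperty.of_isPullback (P := @Flat) (isPullback_morphismRestrict p U').flip ‹_›
  haveI : IsFinite p' := MorphismProperty.of_isPullback (P := @IsFinite) (isPullback_morphismRestrict p U').flip ‹_›
  let ι' := (p ⁻¹ᵁ U').ι
  have hι : p' ≫ U'.ι = ι' ≫ p := morphismRestrict_ι _ _
  -- the descended morphisms
  have hdesc : ∀ i (W : Scheme.{u}) (a b : W ⟶ (p ⁻¹ᵁ U' : Z.Opens)), a ≫ p' = b ≫ p' →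
      a ≫ ι' ≫ P.σ i = b ≫ ι' ≫ P.σ i := by
    intro i W a b hab
    have hab' : (a ≫ ι') ≫ p = (b ≫ ι') ≫ p := by
      rw [Category.assoc, Category.assoc, ← hι, ← Category.assoc, hab, Category.assoc]
    let m := pullback.lift (a ≫ ι') (b ≫ ι') hab'
    have hm : ∀ x, m x ∈ (P.pullback p₁).locus (p₂ ≫ P.σ i) (hcomm i) i := fun x => by
      refine hNmem i _ (by_contra fun hn => ?_)
      have hxU : p ((a ≫ ι') x) ∈ U' := by
        rw [Scheme.Hom.comp_apply]; exact (a x).2
      refine hxU.2 ⟨m x, hn, ?_⟩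
      rw [← Scheme.Hom.comp_apply, ← Category.assoc, pullback.lift_fst, Scheme.Hom.comp_apply]
    have h := (P.pullback p₁).comp_eq_of_range _ (hcomm i) i m hm
    rw [show (P.pullback p₁).σ i = p₁ ≫ P.σ i from rfl, ← Category.assoc, ← Category.assoc, pullback.lift_fst,
      pullback.lift_snd] at h
    rw [← Category.assoc, ← Category.assoc, h]
  let τ : ∀ i, (U' : Scheme.{u}) ⟶ X.left := fun i =>
    EffectiveEpi.desc p' (ι' ≫ P.σ i) fun {W} a b hab => hdesc i W a b hab
  have hτ : ∀ i, p' ≫ τ i = ι' ≫ P.σ i := fun i => EffectiveEpi.fac _ _ _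
  have hτc : ∀ i, τ i ≫ X.hom = U'.ι ≫ g := fun i => by
    rw [← cancel_epi p', ← Category.assoc, hτ, Category.assoc, P.comm, ← Category.assoc, ← Category.assoc, hι]
  let q := proj X (U'.ι ≫ g) p'
  have hq := (isPullback_proj X (U'.ι ≫ g) p').flip
  haveI : Surjective q := MorphismProperty.of_isPullback (P := @Surjective) hq.flip.flip ‹_›
  haveI : Flat q := MorphismProperty.of_isPullback (P := @Flat) hq.flip.flip ‹_›
  haveI : QuasiCompact q := MorphismProperty.of_isPullback (P := @QuasiCompact) hq.flip.flip inferInstance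
  let Q : Splitting X (p' ≫ U'.ι ≫ g) I :=
    (P.pullback ι').congr (by rw [← Category.assoc, ← Category.assoc, hι]) (fun i => p' ≫ τ i) (funext hτ)
      fun i => by rw [Category.assoc, hτc]
  refine ⟨{ σ := τ, comm := hτc, isOpen := fun i => ?_, disj := ?_, cover := ?_ }⟩
  · exact MorphismProperty.of_isPullback_of_descendsAlong (P := @IsOpenImmersion)
      (Q := @Surjective ⊓ @Flat ⊓ @QuasiCompact) (isPullback_sec p' (τ i) (hτc i))
      ⟨⟨inferInstance, inferInstance⟩, inferInstance⟩ (Q.isOpen i)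
  · intro i j a b h
    let hh := isPullback_sec p' (τ i) (hτc i)
    obtain ⟨a', ha'⟩ := p'.surjective a
    obtain ⟨w, hw, hw'⟩ := Scheme.Pullback.exists_preimage_pullback (f := q) (g := sec (τ j) (hτc j))
      (sec (f := p' ≫ U'.ι ≫ g) (p' ≫ τ i) (by rw [Category.assoc, hτc]) a') b (by
        rw [← Scheme.Hom.comp_apply, hh.w, Scheme.Hom.comp_apply, ha']; exact h)
    refine Q.disj i j a' ((isPullback_sec p' (τ j) (hτc j)).isoPullback.inv w) ?_
    exact hw.symm.trans ((congrArg (fun m => m w) (isPullback_sec p' (τ j) (hτc j)).isoPullback_inv_fst.symm).trans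
      (Scheme.Hom.comp_apply _ _ w))
  · intro z
    obtain ⟨z', rfl⟩ := q.surjective z
    obtain ⟨i, a, rfl⟩ := Q.cover z'
    refine ⟨i, p' a, ?_⟩
    rw [← Scheme.Hom.comp_apply, ← (isPullback_sec p' (τ i) (hτc i)).w]
    rfl

end Groth.Agent.GrpFieldLib.TwSplit
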