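import Groth.Agent.GrpFieldLib.SCOpen
import Mathlib.RingTheory.Unramified.LocalStructure
import Mathlib.RingTheory.Smooth.Locus
import Mathlib.AlgebraicGeometry.Morphisms.Smooth
import Mathlib.AlgebraicGeometry.AffineScheme

/-! Near a section of a smooth morphism, every point is connected to the section inside its fibre. -/

namespace Groth.Agent.GrpFieldLib.SecComp

universe u

open PrimeSpectrum Topology

section algebra

variable {A : Type u} [CommRing A] {n : ℕ}

/-- The base change of polynomial rings, with the last variable singled out. -/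
noncomputable def optHom {A' : Type u} [CommRing A'] (f : A →+* A') :
    Polynomial (MvPolynomial (Fin n) A) →+* MvPolynomial (Option (Fin n)) A' :=
  Polynomial.eval₂RingHom (MvPolynomial.eval₂Hom (MvPolynomial.C.comp f) fun i => MvPolynomial.X (some i))
    (MvPolynomial.X none)

theorem pderiv_optHom {A' : Type u} [CommRing A'] (f : A →+* A') (p : Polynomial (MvPolynomial (Fin n) A)) :
    MvPolynomial.pderiv none (optHom f p) = optHom f (Polynomial.derivative p) := by
  induction p using Polynomial.induction_on' with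
  | add p q hp hq => simp [hp, hq]
  | monomial k a =>
    have ha : MvPolynomial.pderiv (none : Option (Fin n))
        (MvPolynomial.eval₂Hom (MvPolynomial.C.comp f) (fun i => MvPolynomial.X (some i)) a) = 0 := by
      induction a using MvPolynomial.induction_on with
      | C r => simp
      | add p q hp hq => simp only [map_add, hp, hq, add_zero]
      | mul_X p i hp =>
        rw [MvPolynomial.coe_eval₂Hom] at hp
        simp [MvPolynomial.pderiv_mul, hp, MvPolynomial.pderiv_X]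
    simp only [optHom, Polynomial.coe_eval₂RingHom, Polynomial.eval₂_monomial, Polynomial.derivative_monomial,
      MvPolynomial.pderiv_mul, ha, zero_mul, zero_add, MvPolynomial.pderiv_pow, MvPolynomial.pderiv_X_self,
      mul_one, map_mul, map_natCast]
    ring

set_option maxHeartbeats 1000000 in
/-- The chart given by a standard etale presentation over a polynomial algebra. -/
theorem exists_datum_chart {A' B' S : Type u} [CommRing A'] [CommRing B'] [CommRing S]
    [Algebra (MvPolynomial (Fin n) A) S] (pres : StandardEtalePresentation (MvPolynomial (Fin n) A) S)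
    (al : A →+* A') (j : A' →+* B') (lf : S →+* B') (ε' : B' →+* A')
    (hjl : ∀ r, j (al r) = lf (algebraMap (MvPolynomial (Fin n) A) S (MvPolynomial.C r)))
    (hεj : ∀ r, ε' (j r) = r)
    (hU : ∀ (T : Type u) [CommRing T] (χ : A' →+* T) (ψ : S →+* T),
      (∀ r, χ (al r) = ψ (algebraMap (MvPolynomial (Fin n) A) S (MvPolynomial.C r))) →
        ∃ Ψ : B' →+* T, Ψ.comp j = χ ∧ Ψ.comp lf = ψ)
    (hB : ∀ (h₁ h₂ : B' →+* B'), h₁.comp lf = h₂.comp lf → h₁ = h₂) :
    ∃ (D : Datum A' (Option (Fin n))) (Φ : MvPolynomial (Option (Fin n)) A' →+* B'),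
      IsEmbedding (comap Φ) ∧ (∀ z, D.P ∈ z.asIdeal → D.g ∉ z.asIdeal → z ∈ Set.range (comap Φ)) ∧
        Φ D.P = 0 ∧ Φ.comp MvPolynomial.C = j ∧ MvPolynomial.eval D.pt = ε'.comp Φ := by
  let w : Option (Fin n) → B' :=
    fun o => o.elim (lf pres.x) (fun i => lf (algebraMap (MvPolynomial (Fin n) A) S (MvPolynomial.X i)))
  let Φ : MvPolynomial (Option (Fin n)) A' →+* B' := MvPolynomial.eval₂Hom j w
  have hΦC : ∀ r, Φ (MvPolynomial.C r) = j r := fun r => MvPolynomial.eval₂Hom_C _ _ _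
  have hΦX : ∀ o, Φ (MvPolynomial.X o) = w o := fun o => MvPolynomial.eval₂Hom_X' _ _ _
  have hΦ : ∀ q, Φ (optHom al q) = lf (Polynomial.aeval pres.x q) := by
    have : Φ.comp (optHom al) = lf.comp (Polynomial.aeval pres.x).toRingHom := by
      refine Polynomial.ringHom_ext' (MvPolynomial.ringHom_ext (fun r => ?_) (fun i => ?_)) ?_
      · simp [optHom, hΦC, hjl]
      · simp [optHom, hΦX, w]
      · simp [optHom, hΦX, w]
    exact RingHom.congr_fun this
  obtain ⟨Pd, hPd⟩ : ∃ x, x = optHom al pres.f := ⟨_, rfl⟩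
  obtain ⟨gd, hgd⟩ : ∃ x, x = optHom al pres.g := ⟨_, rfl⟩
  have hΦP : Φ Pd = 0 := by rw [hPd, hΦ, pres.hasMap.1, map_zero]
  have hΦg : IsUnit (Φ gd) := by rw [hgd, hΦ]; exact pres.hasMap.2.map lf
  have hev : MvPolynomial.eval (fun o => ε' (w o)) = ε'.comp Φ :=
    MvPolynomial.ringHom_ext (fun r => by simp [hΦC, hεj]) (fun i => by simp [hΦX])
  obtain ⟨p₁, p₂, m, hcond⟩ := pres.cond
  let D : Datum A' (Option (Fin n)) :=
    { P := Pd
      g := gd ^ (m + 1)
      pt := fun o => ε' (w o)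
      i₀ := none
      hsm := ⟨gd * optHom al p₂, gd * optHom al p₁, by
        have := congrArg (optHom al) hcond
        rw [map_add, map_mul, map_mul, map_pow, ← pderiv_optHom, ← hPd, ← hgd] at this
        rw [pow_succ', ← this]
        ring⟩
      hP := by rw [hev, RingHom.comp_apply, hΦP, map_zero]
      hg := by rw [hev, RingHom.comp_apply, map_pow]; exact (hΦg.pow _).map ε' }
  let R₁ := MvPolynomial (Option (Fin n)) A' ⧸ Ideal.span {Pd}
  obtain ⟨G, hG⟩ : ∃ G : R₁, G = Ideal.Quotient.mk _ (gd ^ (m + 1)) := ⟨_, rfl⟩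
  let T := Localization.Away G
  have hΦ₁ : ∀ q ∈ Ideal.span {Pd}, Φ q = 0 := fun q hq => by
    obtain ⟨r, rfl⟩ := Ideal.mem_span_singleton.1 hq
    rw [map_mul, hΦP, zero_mul]
  have hΦG : IsUnit (Ideal.Quotient.lift (Ideal.span {Pd}) Φ hΦ₁ G) := by
    rw [hG, Ideal.Quotient.lift_mk, map_pow]; exact hΦg.pow _
  let Φb : T →+* B' := IsLocalization.Away.lift G hΦG
  let κ : MvPolynomial (Option (Fin n)) A' →+* T := (algebraMap R₁ T).comp (Ideal.Quotient.mk _)
  have hΦκ : Φb.comp κ = Φ := RingHom.ext fun q => IsLocalization.Away.lift_eq G hΦG _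
  let tr : MvPolynomial (Fin n) A →+* T := κ.comp ((optHom al).comp Polynomial.C)
  have hκ : ∀ q, κ (optHom al q) = Polynomial.eval₂ tr (κ (MvPolynomial.X none)) q := by
    intro q
    refine RingHom.congr_fun (f := κ.comp (optHom al))
      (g := Polynomial.eval₂RingHom tr (κ (MvPolynomial.X none))) (Polynomial.ringHom_ext' ?_ ?_) q
    · ext r <;> simp [tr]
    · simp [optHom]
  letI algT : Algebra (MvPolynomial (Fin n) A) T := tr.toAlgebra
  have hmap : pres.P.HasMap (κ (MvPolynomial.X none)) := by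
    refine ⟨?_, ?_⟩
    · show Polynomial.eval₂ tr _ _ = 0
      rw [← hκ, ← hPd]
      show algebraMap R₁ T (Ideal.Quotient.mk _ Pd) = 0
      rw [Ideal.Quotient.mk_singleton_self, map_zero]
    · show IsUnit (Polynomial.eval₂ tr _ _)
      rw [← hκ, ← hgd]
      have h : IsUnit (κ (gd ^ (m + 1))) := by
        show IsUnit (algebraMap R₁ T (Ideal.Quotient.mk _ (gd ^ (m + 1))))
        rw [← hG]
        exact IsLocalization.Away.algebraMap_isUnit G
      rw [map_pow] at h
      exact (isUnit_pow_iff (Nat.succ_ne_zero m)).1 h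
  let Ψf : S →ₐ[MvPolynomial (Fin n) A] T := (pres.P.lift _ hmap).comp pres.equivRing.toAlgHom
  have hΨx : Ψf pres.x = κ (MvPolynomial.X none) := by simp [Ψf]
  have hΨA : ∀ q, Ψf (algebraMap (MvPolynomial (Fin n) A) S q) = tr q := fun q => Ψf.commutes q
  obtain ⟨Ψ, hΨj, hΨl⟩ := hU T (κ.comp MvPolynomial.C) (Ψf : S →+* T) (fun r => by
    rw [RingHom.coe_coe, hΨA]
    simp [tr, optHom])
  have hΨΦ : Ψ.comp Φ = κ := by
    refine MvPolynomial.ringHom_ext (fun r => ?_) (fun o => ?_)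
    · rw [RingHom.comp_apply, hΦC]; exact RingHom.congr_fun hΨj r
    · rw [RingHom.comp_apply, hΦX]
      rcases o with _ | i
      · exact (RingHom.congr_fun hΨl pres.x).trans hΨx
      · refine (RingHom.congr_fun hΨl _).trans ((hΨA _).trans ?_)
        simp [tr, optHom]
  have hΨΦb : Ψ.comp Φb = RingHom.id T := by
    refine IsLocalization.ringHom_ext (Submonoid.powers G) (Ideal.Quotient.ringHom_ext ?_)
    rw [RingHom.id_comp, RingHom.comp_assoc, RingHom.comp_assoc, hΦκ, hΨΦ]
  letI algB : Algebra (MvPolynomial (Fin n) A) B' :=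
    (lf.comp (algebraMap (MvPolynomial (Fin n) A) S)).toAlgebra
  have htr' : ∀ r, Φb (tr r) = lf (algebraMap (MvPolynomial (Fin n) A) S r) := by
    intro r
    show (Φb.comp κ) (optHom al (Polynomial.C r)) = _
    rw [hΦκ, hΦ, Polynomial.aeval_C]
  let l₁ : S →ₐ[MvPolynomial (Fin n) A] B' :=
    { toRingHom := Φb.comp (Ψf : S →+* T)
      commutes' := fun r => (congrArg Φb (hΨA r)).trans (htr' r) }
  let l₂ : S →ₐ[MvPolynomial (Fin n) A] B' := { toRingHom := lf, commutes' := fun _ => rfl }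
  have hl : l₁ = l₂ := pres.hom_ext (by
    show Φb (Ψf pres.x) = lf pres.x
    rw [hΨx, ← RingHom.comp_apply, hΦκ, hΦX]
    rfl)
  have hΦΨ : Φb.comp Ψ = RingHom.id B' := hB _ _ (by
    rw [RingHom.comp_assoc, hΨl, RingHom.id_comp]
    exact RingHom.ext fun b => AlgHom.congr_fun hl b)
  have hsurj : Function.Surjective (comap (Φb : T →+* B')) := fun y =>
    ⟨comap Ψ y, by rw [← comap_comp_apply, hΨΦb]; rfl⟩
  have hcΦ : comap Φ = comap (Ideal.Quotient.mk (Ideal.span {Pd})) ∘
      (comap (algebraMap R₁ T) ∘ comap (Φb : T →+* B')) := by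
    funext z
    rw [← hΦκ]; rfl
  refine ⟨D, Φ, ?_, ?_, hΦP, RingHom.ext hΦC, hev⟩
  · rw [hcΦ]
    exact (isClosedEmbedding_comap_of_surjective _ (Ideal.Quotient.mk (Ideal.span {Pd}))
      Ideal.Quotient.mk_surjective).isEmbedding.comp
      ((localization_comap_isEmbedding T (Submonoid.powers G)).comp
        (isClosedEmbedding_comap_of_surjective _ Φb
          (fun b => ⟨Ψ b, RingHom.congr_fun hΦΨ b⟩)).isEmbedding)
  · intro z hP hg
    obtain ⟨z₁, rfl⟩ : z ∈ Set.range (comap (Ideal.Quotient.mk (Ideal.span {Pd}))) := by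
      rw [range_comap_of_surjective _ _ Ideal.Quotient.mk_surjective, Ideal.mk_ker, mem_zeroLocus]
      exact (Ideal.span_singleton_le_iff_mem _).2 hP
    obtain ⟨z₂, rfl⟩ : z₁ ∈ Set.range (comap (algebraMap R₁ T)) := by
      rw [localization_away_comap_range T G, hG]
      exact hg
    obtain ⟨z₃, rfl⟩ := hsurj z₂
    exact ⟨z₃, by rw [hcΦ]; rfl⟩

theorem exists_generic_nbhd {B : Type u} [CommRing B] [Algebra A B] [Algebra.Smooth A B]
    (ε : B →ₐ[A] A) (p : PrimeSpectrum A) :
    ∃ V : Set (PrimeSpectrum B), IsOpen V ∧ comap (ε : B →+* A) p ∈ V ∧ ∀ v ∈ V,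
      ∃ ζ : PrimeSpectrum B, ζ ⤳ v ∧ ζ ⤳ comap (ε : B →+* A) (comap (algebraMap A B) v) ∧
        comap (algebraMap A B) ζ = comap (algebraMap A B) v := by
  let q₀ := comap (ε : B →+* A) p
  haveI : Algebra.IsSmoothAt A q₀.asIdeal :=
    Set.eq_univ_iff_forall.1 (Algebra.smoothLocus_eq_univ (R := A) (A := B)) q₀
  obtain ⟨f, hf, n, alg, tower, hse⟩ :=
    Algebra.IsSmoothAt.exists_isStandardEtale_mvPolynomial (R := A) (p := q₀.asIdeal)
  letI := alg
  haveI := tower
  obtain ⟨pres⟩ := hse.nonempty_standardEtalePresentation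
  obtain ⟨a, hadef⟩ : ∃ a : A, a = ε f := ⟨_, rfl⟩
  have ha : a ∉ p.asIdeal := hadef ▸ hf
  let A' := Localization.Away a
  obtain ⟨fa, hfa⟩ : ∃ fa : B, fa = f * algebraMap A B a := ⟨_, rfl⟩
  let B' := Localization.Away fa
  have hu := IsLocalization.Away.algebraMap_isUnit (S := B') fa
  have hu' : IsUnit (algebraMap B B' f * algebraMap B B' (algebraMap A B a)) := by
    rw [← map_mul, ← hfa]; exact hu
  have hua : IsUnit (((algebraMap B B').comp (algebraMap A B)) a) := isUnit_of_mul_isUnit_right hu'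
  have huf : IsUnit (algebraMap B B' f) := isUnit_of_mul_isUnit_left hu'
  let j : A' →+* B' := IsLocalization.Away.lift a hua
  have hj : ∀ r, j (algebraMap A A' r) = algebraMap B B' (algebraMap A B r) := fun r =>
    IsLocalization.Away.lift_eq a hua r
  let lf : Localization.Away f →+* B' := IsLocalization.Away.lift f huf
  have hlf : ∀ b, lf (algebraMap B _ b) = algebraMap B B' b := fun b => IsLocalization.Away.lift_eq f huf b
  have hε' : IsUnit (((algebraMap A A').comp (ε : B →+* A)) fa) := by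
    have h : IsUnit (algebraMap A A' a) := IsLocalization.Away.algebraMap_isUnit a
    rw [RingHom.comp_apply, hfa, map_mul, map_mul, RingHom.coe_coe, AlgHom.commutes, ← hadef]
    exact h.mul h
  let ε' : B' →+* A' := IsLocalization.Away.lift fa hε'
  have hε'B : ∀ b, ε' (algebraMap B B' b) = algebraMap A A' (ε b) := fun b =>
    IsLocalization.Away.lift_eq fa hε' b
  have hεj : ∀ r, ε' (j r) = r := RingHom.congr_fun (f := ε'.comp j) (g := RingHom.id A')
    (IsLocalization.ringHom_ext (Submonoid.powers a) (RingHom.ext fun r => by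
      simp only [RingHom.comp_apply, RingHom.id_apply, hj, hε'B, AlgHom.commutes, Algebra.algebraMap_self]))
  have hSA : ∀ r : A, algebraMap (MvPolynomial (Fin n) A) (Localization.Away f) (MvPolynomial.C r) =
      algebraMap B (Localization.Away f) (algebraMap A B r) := fun r => by
    rw [← MvPolynomial.algebraMap_eq, ← IsScalarTower.algebraMap_apply, ← IsScalarTower.algebraMap_apply]
  obtain ⟨D, Φ, hemb, hrange, hΦP, hΦC, hev⟩ := exists_datum_chart pres (algebraMap A A') j lf ε'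
    (fun r => by rw [hSA, hlf, hj]) hεj
    (fun T _ χ ψ hχψ => by
      have hu2 : IsUnit ((ψ.comp (algebraMap B (Localization.Away f))) fa) := by
        rw [RingHom.comp_apply, hfa, map_mul, map_mul, ← hSA, ← hχψ]
        exact ((IsLocalization.Away.algebraMap_isUnit f).map ψ).mul
          ((IsLocalization.Away.algebraMap_isUnit a).map χ)
      refine ⟨IsLocalization.Away.lift fa hu2, IsLocalization.ringHom_ext (Submonoid.powers a)
        (RingHom.ext fun r => ?_), IsLocalization.ringHom_ext (Submonoid.powers f) (RingHom.ext fun b => ?_)⟩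
      · simp only [RingHom.comp_apply, hj, IsLocalization.Away.lift_eq, hχψ, hSA]
      · simp only [RingHom.comp_apply, hlf, IsLocalization.Away.lift_eq])
    (fun h₁ h₂ h => IsLocalization.ringHom_ext (Submonoid.powers fa) (RingHom.ext fun b => by
      simpa [hlf] using RingHom.congr_fun h (algebraMap B (Localization.Away f) b)))
  have hbase : ∀ z : PrimeSpectrum B', comap (algebraMap A B) (comap (algebraMap B B') z) =
      comap (algebraMap A A') (comap MvPolynomial.C (comap Φ z)) := by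
    intro z
    simp only [← comap_comp_apply]
    congr 1
    rw [hΦC]
    exact RingHom.ext fun r => (hj r).symm
  have hsec : ∀ t : PrimeSpectrum A', D.sec t = comap Φ (comap ε' t) := fun t => by
    rw [← comap_comp_apply, ← hev]; rfl
  have hopen : IsOpenEmbedding (comap (algebraMap B B')) := localization_away_isOpenEmbedding B' fa
  refine ⟨comap (algebraMap B B') '' (comap Φ ⁻¹' (D.comp ∪ (zeroLocus {D.P})ᶜ)),
    hopen.isOpenMap _ (D.isOpen_comp_union.preimage (continuous_comap Φ)), ?_, ?_⟩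
  · obtain ⟨p', hp'⟩ : p ∈ Set.range (comap (algebraMap A A')) := by
      rw [localization_away_comap_range A' a]; exact ha
    refine ⟨comap ε' p', Or.inl (hsec p' ▸ D.sec_mem p'), ?_⟩
    rw [← hp', ← comap_comp_apply, ← comap_comp_apply]
    congr 1
    exact RingHom.ext hε'B
  · rintro _ ⟨v, hv, rfl⟩
    have hPv : D.P ∈ (comap Φ v).asIdeal := by
      show Φ D.P ∈ v.asIdeal
      rw [hΦP]; exact v.asIdeal.zero_mem
    have hv' : comap Φ v ∈ D.comp := by
      refine hv.resolve_right fun h => h ?_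
      simpa [mem_zeroLocus] using hPv
    obtain ⟨ζ, hζv, hζs, hζP, hζg, hζb⟩ := D.exists_generic hv'
    obtain ⟨z, rfl⟩ := hrange ζ hζP hζg
    rw [hsec] at hζs
    refine ⟨comap (algebraMap B B') z, (hemb.isInducing.specializes_iff.1 hζv).map (continuous_comap _), ?_, ?_⟩
    · have h1 := (hemb.isInducing.specializes_iff.1 hζs).map (continuous_comap (algebraMap B B'))
      convert h1 using 1
      rw [hbase, ← comap_comp_apply, ← comap_comp_apply (algebraMap B B') ε']
      congr 1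
      exact (RingHom.ext hε'B).symm
    · rw [hbase, hbase, hζb]

end algebra

section scheme

open CategoryTheory AlgebraicGeometry

theorem exists_generic_nbhd_Spec {A B : CommRingCat.{u}} (φ : A ⟶ B) [Smooth (Spec.map φ)]
    (e : Spec A ⟶ Spec B) (he : e ≫ Spec.map φ = 𝟙 _) (p : Spec A) :
    ∃ V : (Spec B).Opens, e p ∈ V ∧ ∀ v ∈ V, ∃ ζ : Spec B, ζ ⤳ v ∧
      ζ ⤳ e (Spec.map φ v) ∧ Spec.map φ ζ = Spec.map φ v := by
  algebraize [φ.hom]
  haveI : Algebra.Smooth A B :=
    RingHom.smooth_algebraMap.1 ((HasRingHomProperty.Spec_iff (P := @Smooth)).1 ‹Smooth (Spec.map φ)›)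
  have he' : φ ≫ Spec.preimage e = 𝟙 A := Spec.map_injective (by simp [he])
  let ε : B →ₐ[A] A :=
    { toRingHom := (Spec.preimage e).hom
      commutes' := fun r => congrArg (fun h : A ⟶ A => h.hom r) he' }
  have hee : e = Spec.map (Spec.preimage e) := (Spec.map_preimage e).symm
  obtain ⟨V, hV, hpV, h⟩ := exists_generic_nbhd ε p
  refine ⟨⟨V, hV⟩, ?_, fun v hv => ?_⟩
  · rw [hee]; exact hpV
  · obtain ⟨ζ, h1, h2, h3⟩ := h v hv
    refine ⟨ζ, h1, ?_, h3⟩
    rw [hee]; exact h2

theorem exists_generic_nbhd_affine {X Y : Scheme.{u}} [IsAffine X] [IsAffine Y] (f : X ⟶ Y) [Smooth f]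
    (e : Y ⟶ X) (he : e ≫ f = 𝟙 _) (s : Y) :
    ∃ V : X.Opens, e s ∈ V ∧ ∀ v ∈ V, ∃ ζ : X, ζ ⤳ v ∧
      ζ ⤳ e (f v) ∧ f ζ = f v := by
  let φ := f.appTop
  have hf : X.isoSpec.hom ≫ Spec.map φ = f ≫ Y.isoSpec.hom := Scheme.isoSpec_hom_naturality f
  haveI : Smooth (Spec.map φ) := by
    rw [← MorphismProperty.cancel_left_of_respectsIso @Smooth X.isoSpec.hom, hf,
      MorphismProperty.cancel_right_of_respectsIso @Smooth]
    infer_instance
  let e' := Y.isoSpec.inv ≫ e ≫ X.isoSpec.hom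
  have he' : e' ≫ Spec.map φ = 𝟙 _ := by
    simp only [e', Category.assoc, hf, reassoc_of% he, Iso.inv_hom_id]
  obtain ⟨V, hV, h⟩ := exists_generic_nbhd_Spec φ e' he' (Y.isoSpec.hom s)
  have hes : ∀ t, e' (Y.isoSpec.hom t) = X.isoSpec.hom (e t) := fun t => by
    rw [← Scheme.Hom.comp_apply, ← Scheme.Hom.comp_apply, show Y.isoSpec.hom ≫ e' = e ≫ X.isoSpec.hom from Iso.hom_inv_id_assoc _ _]
  refine ⟨X.isoSpec.hom ⁻¹ᵁ V, by show X.isoSpec.hom (e s) ∈ V; rw [← hes]; exact hV, fun v hv => ?_⟩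
  obtain ⟨ζ, h1, h2, h3⟩ := h _ hv
  have hcomm : ∀ z, Spec.map φ (X.isoSpec.hom z) = Y.isoSpec.hom (f z) := fun z => by
    rw [← Scheme.Hom.comp_apply, hf, Scheme.Hom.comp_apply]
  obtain ⟨ζ', rfl⟩ := X.isoSpec.hom.homeomorph.surjective ζ
  have hind := X.isoSpec.hom.isOpenEmbedding.isInducing
  refine ⟨ζ', hind.specializes_iff.1 h1, hind.specializes_iff.1 ?_, Y.isoSpec.hom.isOpenEmbedding.injective ?_⟩
  · rw [← hes, ← hcomm]; exact h2
  · rw [← hcomm, ← hcomm]; exact h3

/-- Near a section of a smooth morphism every point and the section have a common generisation in the fibre. -/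
theorem exists_generic_nbhd_section {X S : Scheme.{u}} (f : X ⟶ S) [Smooth f] (e : S ⟶ X)
    (he : e ≫ f = 𝟙 _) (s : S) :
    ∃ V : X.Opens, e s ∈ V ∧ ∀ v ∈ V, ∃ ζ : X, ζ ⤳ v ∧
      ζ ⤳ e (f v) ∧ f ζ = f v := by
  have hfe : ∀ t, f (e t) = t := fun t => congrArg (fun h : S ⟶ S => h t) he
  obtain ⟨S₁, hS₁, hs₁, -⟩ := exists_isAffineOpen_mem_and_subset (show s ∈ (⊤ : S.Opens) from trivial)
  obtain ⟨U, hU, heU, hUS⟩ := exists_isAffineOpen_mem_and_subset
    (show e s ∈ f ⁻¹ᵁ S₁ by show f (e s) ∈ S₁; rwa [hfe])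
  obtain ⟨r, hr, hsr⟩ := hS₁.exists_basicOpen_le (V := S₁ ⊓ e ⁻¹ᵁ U) ⟨s, ⟨hs₁, heU⟩⟩ hs₁
  let S₀ := S.basicOpen r
  let W : X.Opens := U ⊓ f ⁻¹ᵁ S₀
  have hW : IsAffineOpen W := by
    have : W = X.basicOpen (f.appLE S₁ U hUS r) := by
      rw [Scheme.basicOpen_appLE]
    rw [this]
    exact hU.basicOpen _
  haveI : IsAffine (S₀ : Scheme.{u}) := hS₁.basicOpen r
  haveI : IsAffine (W : Scheme.{u}) := hW
  have hWS : W ≤ f ⁻¹ᵁ S₀ := inf_le_right
  have hSW : S₀ ≤ e ⁻¹ᵁ W := fun t ht => ⟨(hr ht).2, by show f (e t) ∈ S₀; rwa [hfe]⟩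
  let f' := f.resLE S₀ W hWS
  let e' := e.resLE W S₀ hSW
  have he' : e' ≫ f' = 𝟙 _ := by
    rw [← cancel_mono S₀.ι, Category.assoc, Scheme.Hom.resLE_comp_ι, ← Category.assoc,
      Scheme.Hom.resLE_comp_ι, Category.assoc, he, Category.comp_id, Category.id_comp]
  haveI : Smooth f' := IsZariskiLocalAtSource.resLE _ ‹Smooth f›
  obtain ⟨V, hV, h⟩ := exists_generic_nbhd_affine f' e' he' (⟨s, hsr⟩ : S₀)
  have hι : ∀ t : S₀, W.ι (e' t) = e t.1 := fun t =>
    congrArg (fun h : (S₀ : Scheme.{u}) ⟶ X => h t) (Scheme.Hom.resLE_comp_ι e hSW)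
  have hf' : ∀ z : W, S₀.ι (f' z) = f z.1 := fun z =>
    congrArg (fun h : (W : Scheme.{u}) ⟶ S => h z) (Scheme.Hom.resLE_comp_ι f hWS)
  refine ⟨W.ι ''ᵁ V, ⟨_, hV, hι _⟩, ?_⟩
  rintro _ ⟨v, hv, rfl⟩
  obtain ⟨ζ, h1, h2, h3⟩ := h v hv
  refine ⟨W.ι ζ, h1.map W.ι.continuous, ?_, ?_⟩
  · have := h2.map W.ι.continuous
    rw [hι] at this
    convert this using 1
    exact congrArg e (hf' v).symm
  · have := congrArg S₀.ι h3
    rwa [hf', hf'] at this

end scheme

end Groth.Agent.GrpFieldLib.SecComp
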