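import Groth.Prelude.Def_MoreMor
import Groth.Agent.GrpFieldLib.SCChart
import Groth.Agent.VarGeom.OpenMap

/-! The components of a section in the fibres of a smooth morphism form an open set. -/

universe u

open CategoryTheory Limits AlgebraicGeometry Topology

namespace Groth.Agent.GrpFieldLib.SecComp

variable {S X : Scheme.{u}} (f : X ⟶ S)

/-- The open subset of points `x` such that near the diagonal over `x` one reaches `O`. -/
theorem fst_image_subset_sectionComponents [Smooth f] (e : S ⟶ X) (W : Set ↥(pullback f f))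
    (hW : ∀ w ∈ W, ∃ ζ : ↥(pullback f f), ζ ⤳ w ∧
      ζ ⤳ pullback.lift (f := f) (g := f) (𝟙 X) (𝟙 X) rfl (pullback.fst f f w) ∧
        pullback.fst f f ζ = pullback.fst f f w) :
    pullback.fst f f '' (W ∩ pullback.snd f f ⁻¹' MoreMor.sectionComponents f e) ⊆
      MoreMor.sectionComponents f e := by
  rintro _ ⟨w, ⟨hwW, hw2⟩, rfl⟩
  obtain ⟨ζ, h1, h2, h3⟩ := hW w hwW
  have hc : ∀ z, f (pullback.snd f f z) = f (pullback.fst f f z) := fun z => by
    rw [← Scheme.Hom.comp_apply, ← pullback.condition, Scheme.Hom.comp_apply]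
  have e1 := h1.map (pullback.snd f f).continuous
  have e2 := h2.map (pullback.snd f f).continuous
  rw [← Scheme.Hom.comp_apply, pullback.lift_snd] at e2
  change _ ⤳ (pullback.fst f f w : X) at e2
  have hpre : _root_.IsPreconnected
      ({pullback.snd f f ζ, pullback.snd f f w, pullback.fst f f w} : Set X) := by
    refine isPreconnected_singleton.subset_closure (Set.singleton_subset_iff.2 (Or.inl rfl)) ?_
    rintro x (rfl | rfl | rfl)
    · exact subset_closure rfl
    · exact e1.mem_closure
    · exact e2.mem_closure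
  have hw2' : pullback.snd f f w ∈
      connectedComponentIn (f ⁻¹' {f (pullback.fst f f w)}) (e (f (pullback.fst f f w))) := by
    have h : pullback.snd f f w ∈ connectedComponentIn (f ⁻¹' {f (pullback.snd f f w)})
      (e (f (pullback.snd f f w))) := hw2
    rwa [hc] at h
  show pullback.fst f f w ∈ connectedComponentIn _ _
  rw [connectedComponentIn_eq hw2']
  refine hpre.subset_connectedComponentIn (Or.inr (Or.inl rfl)) ?_ (Or.inr (Or.inr rfl))
  rintro x (rfl | rfl | rfl)
  · show f _ = _
    rw [hc, h3]
  · exact hc w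
  · rfl

theorem isOpen_sectionComponents [Smooth f] (e : S ⟶ X) (he : e ≫ f = 𝟙 S) :
    IsOpen (MoreMor.sectionComponents f e) := by
  have hfe : ∀ t, f (e t) = t := fun t => congrArg (fun h : S ⟶ S => h t) he
  -- a neighbourhood of the section
  have hsec : ∀ t, e t ∈ interior (MoreMor.sectionComponents f e) := by
    intro t
    obtain ⟨V, hV, h⟩ := exists_generic_nbhd_section f e he t
    refine interior_maximal (fun v hv => ?_) V.isOpen hV
    obtain ⟨ζ, h1, h2, h3⟩ := h v hv
    have hpre : _root_.IsPreconnected ({ζ, v, e (f v)} : Set X) := by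
      refine isPreconnected_singleton.subset_closure (Set.singleton_subset_iff.2 (Or.inl rfl)) ?_
      rintro x (rfl | rfl | rfl)
      · exact subset_closure rfl
      · exact h1.mem_closure
      · exact h2.mem_closure
    refine hpre.subset_connectedComponentIn (Or.inr (Or.inr rfl)) ?_ (Or.inr (Or.inl rfl))
    rintro x (rfl | rfl | rfl)
    · exact h3
    · rfl
    · exact hfe _
  rw [← subset_interior_iff_isOpen]
  intro x₀ hx₀
  let s : S := f x₀
  let π := pullback.fst f (S.fromSpecResidueField s)
  have hπ : IsEmbedding π := (f.fiberι s).isEmbedding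
  have hr : Set.range π = f ⁻¹' {s} := Scheme.Hom.range_fiberι f s
  let C := connectedComponentIn (f ⁻¹' {s}) (e s)
  let u : Set ↥(pullback f (S.fromSpecResidueField s)) := π ⁻¹' interior (MoreMor.sectionComponents f e)
  have hC : π '' (π ⁻¹' C) = C :=
    Set.image_preimage_eq_of_subset ((connectedComponentIn_subset _ _).trans hr.ge)
  have hC' : _root_.IsPreconnected (π ⁻¹' C) :=
    hπ.isInducing.isPreconnected_image.1 (by rw [hC]; exact isPreconnected_connectedComponentIn)
  obtain ⟨z₀, hz₀⟩ : x₀ ∈ Set.range π := hr.ge rfl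
  obtain ⟨z₁, hz₁⟩ : e s ∈ Set.range π := hr.ge (hfe s)
  suffices π ⁻¹' C ⊆ u by
    have := this (show z₀ ∈ π ⁻¹' C by show π z₀ ∈ C; rw [hz₀]; exact hx₀)
    show x₀ ∈ interior _
    rw [← hz₀]; exact this
  refine hC'.subset_of_closure_inter_subset (isOpen_interior.preimage π.continuous)
    ⟨z₁, ?_, ?_⟩ ?_
  · show π z₁ ∈ C
    rw [hz₁]
    exact mem_connectedComponentIn (hfe s)
  · show π z₁ ∈ interior _
    rw [hz₁]
    exact hsec s
  rintro z ⟨hzu, -⟩
  show π z ∈ interior _
  -- the point `x = π z` and the fibre of the first projection over it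
  let x : X := π z
  have hxs : f x = s := hr.le ⟨z, rfl⟩
  let Δ : X ⟶ pullback f f := pullback.lift (𝟙 X) (𝟙 X) rfl
  obtain ⟨W, hWx, hW⟩ := exists_generic_nbhd_section (pullback.fst f f) Δ (pullback.lift_fst _ _ _) x
  let N : Set X := pullback.fst f f '' ((W : Set ↥(pullback f f)) ∩
    pullback.snd f f ⁻¹' interior (MoreMor.sectionComponents f e))
  have hN : IsOpen N := (pullback.fst f f).isOpenMap _
    (W.isOpen.inter (isOpen_interior.preimage (pullback.snd f f).continuous))
  have hNsub : N ⊆ MoreMor.sectionComponents f e :=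
    (Set.image_mono (Set.inter_subset_inter_right _ (Set.preimage_mono interior_subset))).trans
      (fst_image_subset_sectionComponents f e W hW)
  refine interior_maximal hNsub hN ?_
  -- `P` is the fibre of the first projection over `x`
  let g : Spec (X.residueField x) ⟶ S := X.fromSpecResidueField x ≫ f
  let P := pullback f g
  let j : P ⟶ pullback f f := pullback.lift (pullback.snd f g ≫ X.fromSpecResidueField x) (pullback.fst f g)
    (by rw [Category.assoc]; exact pullback.condition.symm)
  let ρ : Spec (X.residueField x) ⟶ Spec (S.residueField s) :=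
    Spec.map (f.residueFieldMap x) ≫ Spec.map (S.residueFieldCongr hxs).inv
  have hρ : ρ ≫ S.fromSpecResidueField s = g := by
    simp only [ρ, g, Category.assoc, Scheme.residueFieldCongr_inv, Scheme.residueFieldCongr_fromSpecResidueField]
    exact f.SpecMap_residueFieldMap_fromSpecResidueField x
  let q : P ⟶ pullback f (S.fromSpecResidueField s) := pullback.lift (pullback.fst f g) (pullback.snd f g ≫ ρ)
    (by rw [Category.assoc, hρ]; exact pullback.condition)
  have hq : IsPullback (pullback.snd f g) q ρ (pullback.snd f (S.fromSpecResidueField s)) := by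
    refine IsPullback.flip (IsPullback.of_right ?_ (pullback.lift_snd _ _ _)
      (IsPullback.of_hasPullback f (S.fromSpecResidueField s)))
    rw [pullback.lift_fst, hρ]
    exact IsPullback.of_hasPullback f g
  haveI : UniversallyOpen q :=
    MorphismProperty.of_isPullback (P := @UniversallyOpen) hq (Groth.Agent.VarGeom.universallyOpen_of_field ρ)
  let l : Spec (X.residueField x) ⟶ P := pullback.lift (X.fromSpecResidueField x) (𝟙 _) (Category.id_comp _).symm
  have hlj : l ≫ j = X.fromSpecResidueField x ≫ Δ := by
    dsimp only [l, j, Δ]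
    apply pullback.hom_ext
    · simp only [Category.assoc, pullback.lift_fst, pullback.lift_snd_assoc, Category.id_comp]
      exact (Category.comp_id _).symm
    · simp only [Category.assoc, pullback.lift_snd, pullback.lift_fst]
      exact (Category.comp_id _).symm
  let p₀ := l (IsLocalRing.closedPoint (X.residueField x))
  have hp₀ : j p₀ ∈ W := by
    show (l ≫ j) _ ∈ W
    rw [hlj, Scheme.Hom.comp_apply, Scheme.fromSpecResidueField_apply]
    exact hWx
  have hqp₀ : q p₀ = z := by
    refine hπ.injective ?_
    show (l ≫ q ≫ π) _ = x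
    rw [pullback.lift_fst, pullback.lift_fst, Scheme.fromSpecResidueField_apply]
  obtain ⟨_, ⟨p, hpW, rfl⟩, hpu⟩ := mem_closure_iff.1 hzu (q '' (j ⁻¹' W))
    (q.isOpenMap _ (W.isOpen.preimage j.continuous)) ⟨p₀, hp₀, hqp₀⟩
  refine ⟨j p, ⟨hpW, ?_⟩, ?_⟩
  · show (j ≫ pullback.snd f f) p ∈ interior _
    rw [pullback.lift_snd]
    have : (q ≫ π) p ∈ interior (MoreMor.sectionComponents f e) := hpu
    rwa [pullback.lift_fst] at this
  · show (j ≫ pullback.fst f f) p = x
    rw [pullback.lift_fst, Scheme.Hom.comp_apply, Scheme.fromSpecResidueField_apply]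

end Groth.Agent.GrpFieldLib.SecComp
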