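import Groth.Agent.GrpFieldLib.HomogComp

/-!
# Topology of schemes with a transitive action over a field
-/

set_option backward.isDefEq.respectTransparency false
set_option backward.isDefEq.respectTransparency.types false

universe u

open CategoryTheory MonoidalCategory CartesianMonoidalCategory MonObj GrpObj AlgebraicGeometry
open Limits TopologicalSpace
open scoped CategoryTheory.Obj
open Groth.Agent.GrpSchLib (IsMaxPt UniComp hull left_comp_apply bc bcProj)

namespace Groth.Agent.GrpFieldLib

variable {K : Type u} [Field K] {G X : Over (Spec (CommRingCat.of K))} [GrpObj G] (a : AlgGrp.Action G X)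

theorem unitComp_eq_of_mem {C0 : Set G.left} (hC0 : C0 ∈ irreducibleComponents G.left)
    (he : η[G].left (pt K) ∈ C0) : C0 = unitComp G := by
  obtain ⟨g, hg, hge, h⟩ := exists_unitComp_eq (G := G)
  rw [h]
  exact GrpSchLib.eq_closure_of_mem_irreducibleComponents hg hge hC0 he

theorem isCompact_unitComp : IsCompact (unitComp G) :=
  GrpSchLib.isCompact_connectedComponent _

/-- The translates of `U` by the component of the unit. -/
def unitTranslates (U : Set X.left) : Set X.left :=
  a.act.left '' {z : (G ⊗ X).left | (fst G X).left z ∈ unitComp G ∧ (snd G X).left z ∈ U}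

theorem unitTranslates_subset_hull {U : Set X.left} (hU : IsOpen U) :
    unitTranslates a U ⊆ hull U := by
  rintro _ ⟨z, ⟨hz1, hz2⟩, rfl⟩
  obtain ⟨c, hc, hcz⟩ := GrpSchLib.exists_isMaxPt ((snd G X).left z)
  exact ⟨c, hcz.mem_open hU hz2, act_mem_of_isMaxPt a hc hz1 hcz⟩

theorem hull_subset_unitTranslates (hΦ : Surjective (lift a.act (snd G X)).left) {U : Set X.left}
    (hU : IsOpen U) : hull U ⊆ unitTranslates a U := by
  rintro y ⟨ξ, hξU, hξy⟩
  obtain ⟨c, hc, hcξ⟩ := GrpSchLib.exists_isMaxPt ξ
  obtain ⟨L, _, _, φ, y', hy'⟩ := GrpSchLib.exists_bc_point y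
  let a' := bcAction (Spec.map (CommRingCat.ofHom φ)) a
  obtain ⟨d, hd, hdy, hdc⟩ := exists_isMaxPt_over (bcProj X φ).continuous
    (GrpSchLib.bcProj_generalizing φ) (show c ⤳ bcProj X φ _ from hy'.symm ▸ hcξ.trans hξy) hc
  have hdU : d ∈ bcProj X φ ⁻¹' U := by rw [Set.mem_preimage, hdc]; exact hcξ.mem_open hU hξU
  obtain ⟨_, hvU, v, hv, rfl⟩ := mem_closure_iff.mp
    (mem_closure_orbit a' (surjective_bcAction _ a hΦ) y' hd hdy) _
    (hU.preimage (bcProj X φ).continuous) hdU
  let F := Over.pullback (Spec.map (CommRingCat.ofHom φ))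
  let w := lift (GrpObj.inv : bc G φ ⟶ bc G φ) (a'.orbitMap y')
  let z' : (bc G φ ⊗ bc X φ).left := w.left v
  refine ⟨bcProj (G ⊗ X) φ ((Functor.LaxMonoidal.μ F G X).left z'), ⟨?_, ?_⟩, ?_⟩
  · rw [← bcProj_map φ (fst G X) _, ← left_comp_apply]
    erw [Functor.Monoidal.μ_fst]
    rw [← left_comp_apply, lift_fst]
    exact bcProj_mem_unitComp φ (inv_mem_unitComp hv)
  · rw [← bcProj_map φ (snd G X) _, ← left_comp_apply]
    erw [Functor.Monoidal.μ_snd]
    rw [← left_comp_apply, lift_snd]
    exact hvU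
  · rw [← bcProj_map φ a.act _, ← left_comp_apply]
    show bcProj X φ (a'.act.left (w.left v)) = y
    have hw : w ≫ a'.act = toUnit (bc G φ) ≫ y' := by
      show lift (GrpObj.inv : bc G φ ⟶ bc G φ) (lift (𝟙 _) (toUnit _ ≫ y') ≫ a'.act) ≫ a'.act = _
      rw [GrpSchLib.act_mul, GrpObj.inv_eq_inv, inv_mul_cancel, GrpSchLib.act_one]
    rw [← left_comp_apply, hw, GrpSchLib.apply_pointSection]
    exact hy'

theorem unitTranslates_eq_hull (hΦ : Surjective (lift a.act (snd G X)).left) {U : Set X.left}
    (hU : IsOpen U) : unitTranslates a U = hull U :=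
  subset_antisymm (unitTranslates_subset_hull a hU) (hull_subset_unitTranslates a hΦ hU)

theorem isOpen_unitTranslates {U : Set X.left} (hU : IsOpen U) : IsOpen (unitTranslates a U) := by
  obtain ⟨T, j, hj, hjr, hT, -⟩ := exists_unitComp_subscheme G
  let σ : T ⊗ X ≅ T ⊗ X :=
    { hom := lift (fst T X) (lift (fst T X ≫ j) (snd T X) ≫ a.act)
      inv := lift (fst T X) (lift (fst T X ≫ j)⁻¹ (snd T X) ≫ a.act)
      hom_inv_id := by
        apply CartesianMonoidalCategory.hom_ext
        · simp
        · rw [Category.assoc, lift_snd, ← Category.assoc, comp_lift, GrpObj.comp_inv, ← Category.assoc,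
            lift_fst, lift_snd, GrpSchLib.act_mul, inv_mul_cancel, GrpSchLib.act_one, Category.id_comp]
      inv_hom_id := by
        apply CartesianMonoidalCategory.hom_ext
        · simp
        · rw [Category.assoc, lift_snd, ← Category.assoc, comp_lift, ← Category.assoc,
            lift_fst, lift_snd, GrpSchLib.act_mul, mul_inv_cancel, GrpSchLib.act_one, Category.id_comp] }
  haveI : IsIso σ.hom.left := ((Over.forget _).mapIso σ).isIso_hom
  haveI : UniversallyOpen (snd T X).left := inferInstanceAs (UniversallyOpen (pullback.snd T.hom X.hom))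
  have hcomp : (j ▷ X) ≫ a.act = σ.hom ≫ snd T X := by
    show _ = lift _ _ ≫ snd T X
    rw [lift_snd]
    congr 1
  have hset : unitTranslates a U = (σ.hom ≫ snd T X).left '' ((snd T X).left ⁻¹' U) := by
    rw [← hcomp, unitTranslates]
    have hr : Set.range (j ▷ X).left = (fst G X).left ⁻¹' unitComp G := by
      have := range_tensorHom' j (𝟙 X)
      rw [MonoidalCategory.tensorHom_id] at this
      rw [this, hjr]
      simp
    have hs : (snd T X).left ⁻¹' U = (j ▷ X).left ⁻¹' ((snd G X).left ⁻¹' U) := by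
      rw [← Set.preimage_comp]
      have : (j ▷ X) ≫ snd G X = snd T X := by simp
      rw [← this]; rfl
    rw [hs]
    show _ = (fun q => a.act.left ((j ▷ X).left q)) '' _
    refine Eq.trans ?_ (Set.image_image (fun q => a.act.left q) (fun q => (j ▷ X).left q) _)
    rw [Set.image_preimage_eq_inter_range, hr]
    congr 1
    ext q
    exact and_comm
  rw [hset, Over.comp_left]
  exact ((σ.hom.left ≫ (snd T X).left).isOpenMap _ (hU.preimage (snd T X).left.continuous))

theorem closure_subset_hull {U : X.left.Opens} (hU : IsRetrocompact (U : Set X.left)) :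
    closure (U : Set X.left) ⊆ hull (U : Set X.left) := by
  intro y hy
  haveI : QuasiCompact U.ι := ⟨fun W hW hWc => by
    rw [U.ι.isOpenEmbedding.isInducing.isCompact_iff, Set.image_preimage_eq_inter_range, Scheme.Opens.range_ι,
      Set.inter_comm]
    exact hU hWc hW⟩
  obtain ⟨x, hx⟩ := exists_specializes_of_mem_closure U.ι (y := y) (by rwa [Scheme.Opens.range_ι])
  exact ⟨U.ι x, x.2, hx⟩

omit [GrpObj G] in
theorem hull_subset_closure (U : Set X.left) : hull U ⊆ closure U :=
  fun _ ⟨_, hc, hcy⟩ => hcy.mem_closed isClosed_closure (subset_closure hc)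

theorem hull_eq_sUnion (U : X.left.Opens) :
    hull (U : Set X.left) =
      ⋃₀ {Z : Set X.left | Z ∈ irreducibleComponents X.left ∧ ∃ ξ ∈ U, closure {ξ} = Z} := by
  ext y
  constructor
  · rintro ⟨ξ, hξ, hξy⟩
    obtain ⟨c, hc, hcξ⟩ := GrpSchLib.exists_isMaxPt ξ
    exact ⟨closure {c}, ⟨closure_mem_irreducibleComponents hc, c, hcξ.mem_open U.2 hξ, rfl⟩,
      (hcξ.trans hξy).mem_closure⟩
  · rintro ⟨_, ⟨-, ξ, hξ, rfl⟩, hy⟩
    exact ⟨ξ, hξ, specializes_iff_mem_closure.mpr hy⟩

section QS

variable [QuasiSeparatedSpace X.left]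

theorem isRetrocompact_affine {V : X.left.Opens} (hV : IsAffineOpen V) :
    IsRetrocompact (V : Set X.left) :=
  fun _ hc ho => QuasiSeparatedSpace.inter_isCompact _ _ V.2 hV.isCompact ho hc

theorem connectedComponent_eq_closure (hΦ : Surjective (lift a.act (snd G X)).left) {c x : X.left}
    (hc : IsMaxPt c) (hcx : c ⤳ x) : connectedComponent x = closure {c} := by
  refine subset_antisymm (fun y hy => ?_)
    (isIrreducible_singleton.closure.isPreirreducible.isPreconnected.subset_connectedComponent
      hcx.mem_closure)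
  by_contra hyc
  obtain ⟨cy, hcy, hcyy⟩ := GrpSchLib.exists_isMaxPt y
  have hx : x ∉ closure {cy} := fun h => hyc <| by
    rw [hc.eq (uniComp_homog a hΦ) hcy hcx (specializes_iff_mem_closure.mpr h)]
    exact hcyy.mem_closure
  obtain ⟨V, hV, hxV, hVs⟩ := exists_isAffineOpen_mem_and_subset
    (U := (⟨(closure {cy})ᶜ, isClosed_closure.isOpen_compl⟩ : X.left.Opens)) hx
  have hclosed : IsClosed (hull (V : Set X.left)) := by
    rw [subset_antisymm (hull_subset_closure _) (closure_subset_hull (isRetrocompact_affine hV))]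
    exact isClosed_closure
  have hclopen : IsClopen (hull (V : Set X.left)) :=
    ⟨hclosed, unitTranslates_eq_hull a hΦ V.2 ▸ isOpen_unitTranslates a V.2⟩
  obtain ⟨d, hdV, hd⟩ := hclopen.connectedComponent_subset ⟨_, hxV, specializes_rfl⟩ hy
  exact hVs hdV (hcy.specializes (uniComp_homog a hΦ) hcyy hd).mem_closure

end QS

section Geometric

theorem geometricallyIrreducible_comp (hΦ : Surjective (lift a.act (snd G X)).left) (x : 𝟙_ _ ⟶ X)
    {c : X.left} (hc : IsMaxPt c) (hcx : c ⤳ x.left (pt K)) {T : Over (Spec (CommRingCat.of K))}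
    (j : T ⟶ X) [IsClosedImmersion j.left] (hj : Set.range j.left = closure {c}) :
    GeometricallyIrreducible T.hom := by
  refine GrpSchLib.geometricallyIrreducible_of_algClosure T.hom ?_
  let φ := algebraMap K (AlgebraicClosure K)
  have hu := uniComp_homog a hΦ
  have hu' := uniComp_homog (bcAction (Spec.map (CommRingCat.ofHom φ)) a) (surjective_bcAction _ a hΦ)
  let j' : bc T φ ⟶ bc X φ := (Over.pullback (Spec.map (CommRingCat.ofHom φ))).map j
  have : IsClosedImmersion j'.left :=
    MorphismProperty.baseChange_map (P := @IsClosedImmersion) _ j ‹_›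
  have hr : Set.range j'.left = bcProj X φ ⁻¹' closure {c} := by
    have : j'.left = pullback.map _ _ _ _ j.left (𝟙 _) (𝟙 _) (by simp) (by simp) := by
      apply pullback.hom_ext <;> simp [j', pullback.map, pullback.lift_fst, pullback.lift_snd]
    rw [this]
    refine (Scheme.Pullback.range_map _ _ _ _ _ _ _ _ _).trans ?_
    rw [hj]
    simp
  suffices h : IsIrreducible (bcProj X φ ⁻¹' closure {c}) from
    GrpSchLib.irreducibleSpace_of_range j' (hr ▸ h)
  have : IsIntegralHom (Spec.map (CommRingCat.ofHom φ)) :=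
    (IsIntegralHom.SpecMap_iff).mpr (algebraMap_isIntegral_iff.mpr inferInstance)
  have hcl : IsClosedMap (bcProj X φ) := (bcProj X φ).isClosedMap
  have key : (bcProj X φ ⁻¹' {x.left (pt K)}).Subsingleton := by
    have hr : Set.range x.left = {x.left (pt K)} := by
      refine Set.Subset.antisymm ?_ (Set.singleton_subset_iff.mpr ⟨_, rfl⟩)
      rintro _ ⟨y, rfl⟩
      exact congrArg x.left (@Subsingleton.elim (Spec (CommRingCat.of K)) inferInstance _ _)
    rw [← hr, ← Scheme.Pullback.range_snd, ← Set.image_univ]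
    refine Set.Subsingleton.image ?_ _
    have : Subsingleton ↥(pullback x.left (bcProj X φ)) :=
      ((pullbackRightPullbackFstIso X.hom (Spec.map (CommRingCat.ofHom φ)) x.left) ≪≫
        pullback.congrHom (show x.left ≫ X.hom = 𝟙 _ from Over.w x) rfl ≪≫
        asIso (pullback.snd (𝟙 _) _)).hom.homeomorph.subsingleton
    exact Set.subsingleton_univ
  have main : ∀ p, p ∈ bcProj X φ ⁻¹' closure {c} →
      ∃ d e', IsMaxPt d ∧ d ⤳ p ∧ d ⤳ e' ∧ bcProj X φ e' = x.left (pt K) ∧ bcProj X φ d = c := by
    intro p hp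
    obtain ⟨d, hd, hdp⟩ := GrpSchLib.exists_isMaxPt p
    have hdc : bcProj X φ d = c := (hd.map (GrpSchLib.bcProj_generalizing φ)).eq hu hc
      (hdp.map (bcProj X φ).continuous) (specializes_iff_mem_closure.mpr hp)
    obtain ⟨e', he', he''⟩ :=
      (hdc ▸ hcx).mem_closed (hcl (closure {d}) isClosed_closure) ⟨d, subset_closure rfl, rfl⟩
    exact ⟨d, e', hd, hdp, specializes_iff_mem_closure.mpr he', he'', hdc⟩
  have := GrpSchLib.surjective_spec_map_field φ
  obtain ⟨c', hcc⟩ := (bcProj X φ).surjective c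
  obtain ⟨d, e', hd, -, hde, he', hdc⟩ := main c' (by rw [Set.mem_preimage, hcc]; exact subset_closure rfl)
  have : bcProj X φ ⁻¹' closure {c} = closure {d} := by
    refine subset_antisymm (fun p hp => ?_) (closure_minimal ?_ (isClosed_closure.preimage (bcProj X φ).continuous))
    · obtain ⟨d', e'', hd', hdp', hde', he'', -⟩ := main p hp
      obtain rfl := key he' he''
      rw [hd.eq hu' hd' hde hde']
      exact hdp'.mem_closure
    · rintro _ rfl
      rw [Set.mem_preimage, hdc]
      exact subset_closure rfl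
  rw [this]
  exact isIrreducible_singleton.closure

/-- The component of a rational point stays irreducible over any field extension. -/
theorem isIrreducible_preimage_comp (hΦ : Surjective (lift a.act (snd G X)).left) (x : 𝟙_ _ ⟶ X)
    {c : X.left} (hc : IsMaxPt c) (hcx : c ⤳ x.left (pt K)) {L : Type u} [Field L] (φ : K →+* L) :
    IsIrreducible (bcProj X φ ⁻¹' closure {c}) := by
  obtain ⟨T, j, hj, hjr⟩ := GrpSchLib.exists_over_range_eq (closure {c}) isClosed_closure
  have := geometricallyIrreducible_comp a hΦ x hc hcx j hjr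
  let j' : bc T φ ⟶ bc X φ := (Over.pullback (Spec.map (CommRingCat.ofHom φ))).map j
  have hr : Set.range j'.left = bcProj X φ ⁻¹' closure {c} := by
    have : j'.left = pullback.map _ _ _ _ j.left (𝟙 _) (𝟙 _) (by simp) (by simp) := by
      apply pullback.hom_ext <;> simp [j', pullback.map, pullback.lift_fst, pullback.lift_snd]
    rw [this]
    refine (Scheme.Pullback.range_map _ _ _ _ _ _ _ _ _).trans ?_
    rw [hjr]
    simp
  rw [← hr, ← Set.image_univ]
  have : IrreducibleSpace (bc T φ).left :=
    inferInstanceAs (IrreducibleSpace ↥(pullback T.hom (Spec.map (CommRingCat.ofHom φ))))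
  exact (IrreducibleSpace.isIrreducible_univ _).image _ j'.left.continuous.continuousOn

end Geometric

section Orbit

theorem mem_closure_orbit_field (hΦ : Surjective (lift a.act (snd G X)).left) (x : 𝟙_ _ ⟶ X)
    {c : X.left} (hc : IsMaxPt c) (hcx : c ⤳ x.left (pt K)) :
    c ∈ closure ((a.orbitMap x).left '' unitComp G) := by
  let φ := algebraMap K (AlgebraicClosure K)
  obtain ⟨d, hd, hdx, hdc⟩ := exists_isMaxPt_over (bcProj X φ).continuous
    (GrpSchLib.bcProj_generalizing φ) (show c ⤳ bcProj X φ _ from (bcProj_point φ x).symm ▸ hcx) hc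
  have h := mem_closure_orbit _ (surjective_bcAction _ a hΦ) (bcPoint φ x) hd hdx
  have h5 := image_closure_subset_closure_image (bcProj X φ).continuous ⟨d, h, rfl⟩
  rw [hdc] at h5
  refine closure_mono ?_ h5
  rintro _ ⟨_, ⟨v, hv, rfl⟩, rfl⟩
  refine ⟨bcProj G φ v, bcProj_mem_unitComp φ hv, ?_⟩
  rw [orbitMap_bcAction, bcProj_map]

variable [QuasiSeparatedSpace X.left]

theorem mem_orbit_of_isMaxPt (hΦ : Surjective (lift a.act (snd G X)).left) (x : 𝟙_ _ ⟶ X)
    {c : X.left} (hc : IsMaxPt c) (hcx : c ⤳ x.left (pt K)) :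
    ∃ g ∈ unitComp G, (a.orbitMap x).left g = c := by
  obtain ⟨T, j, hj, hjr⟩ := GrpSchLib.exists_over_range_eq (unitComp G) isClosed_connectedComponent
  haveI : CompactSpace T.left :=
    ⟨by rw [j.left.isEmbedding.isCompact_iff, Set.image_univ, hjr]; exact isCompact_unitComp⟩
  haveI : QuasiCompact (j ≫ a.orbitMap x).left := inferInstance
  have hr : Set.range (j ≫ a.orbitMap x).left = (a.orbitMap x).left '' unitComp G := by
    rw [← hjr, ← Set.range_comp]; rfl
  obtain ⟨t, ht⟩ := exists_specializes_of_mem_closure (j ≫ a.orbitMap x).left (y := c)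
    (hr ▸ mem_closure_orbit_field a hΦ x hc hcx)
  exact ⟨j.left t, hjr ▸ ⟨t, rfl⟩, hc _ ht⟩

theorem image_orbit_eq (hΦ : Surjective (lift a.act (snd G X)).left) (x : 𝟙_ _ ⟶ X)
    {c : X.left} (hc : IsMaxPt c) (hcx : c ⤳ x.left (pt K)) :
    (a.orbitMap x).left '' unitComp G = closure {c} := by
  refine subset_antisymm ?_ fun y hy => ?_
  · rintro _ ⟨g, hg, rfl⟩
    exact (orbitMap_mem_of_isMaxPt a x hc hcx hg).mem_closure
  obtain ⟨L, _, _, φ, y', hy'⟩ := GrpSchLib.exists_bc_point y
  haveI : QuasiSeparated X.hom := inferInstance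
  haveI : QuasiSeparatedSpace (bc X φ).left :=
    quasiSeparatedSpace_of_quasiSeparated (pullback.snd X.hom (Spec.map (CommRingCat.ofHom φ)))
  let a' := bcAction (Spec.map (CommRingCat.ofHom φ)) a
  have hΦ' := surjective_bcAction (Spec.map (CommRingCat.ofHom φ)) a hΦ
  let x' := bcPoint φ x
  have hirr := isIrreducible_preimage_comp a hΦ x hc hcx φ
  have hgen := hirr.isGenericPoint_genericPoint (isClosed_closure.preimage (bcProj X φ).continuous)
  obtain ⟨d, hd, hdgen⟩ := GrpSchLib.exists_isMaxPt hirr.genericPoint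
  have hdx : d ⤳ x'.left (pt L) := hdgen.trans (hgen.specializes (by
    rw [Set.mem_preimage, bcProj_point]; exact hcx.mem_closure))
  have hdy : d ⤳ y'.left (pt L) := hdgen.trans (hgen.specializes (by
    rw [Set.mem_preimage]; exact hy'.symm ▸ hy))
  obtain ⟨g, hg, hgd⟩ := mem_orbit_of_isMaxPt a' hΦ' x' hd hdx
  obtain ⟨h, hh, hhd⟩ := mem_orbit_of_isMaxPt a' hΦ' y' hd hdy
  obtain ⟨w, hw1, hw2⟩ := Scheme.Pullback.exists_preimage_pullback (f := (a'.orbitMap x').left)
    (g := (a'.orbitMap y').left) g h (hgd.trans hhd.symm)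
  let W : Over (Spec (CommRingCat.of L)) :=
    Over.mk (pullback.fst (a'.orbitMap x').left (a'.orbitMap y').left ≫ (bc G φ).hom)
  let p1 : W ⟶ bc G φ := Over.homMk (pullback.fst _ _) rfl
  let p2 : W ⟶ bc G φ := Over.homMk (pullback.snd (a'.orbitMap x').left (a'.orbitMap y').left) (by
    show pullback.snd _ _ ≫ (bc G φ).hom = pullback.fst _ _ ≫ (bc G φ).hom
    refine (congrArg (pullback.snd _ _ ≫ ·) (Over.w (a'.orbitMap y')).symm).trans ?_
    refine Eq.trans ?_ (congrArg (pullback.fst _ _ ≫ ·) (Over.w (a'.orbitMap x')))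
    exact (pullback.condition_assoc _).symm)
  have hp : p1 ≫ a'.orbitMap x' = p2 ≫ a'.orbitMap y' := Over.OverMorphism.ext pullback.condition
  let r : W ⟶ bc G φ := lift (p2 ≫ GrpObj.inv) p1 ≫ μ[bc G φ]
  have hr : r ≫ a'.orbitMap x' = toUnit W ≫ y' := by
    have h0 : ∀ (q : W ⟶ bc G φ) (z : 𝟙_ _ ⟶ bc X φ),
        q ≫ a'.orbitMap z = lift q (toUnit W ≫ z) ≫ a'.act := by
      intro q z
      show q ≫ lift (𝟙 _) (toUnit _ ≫ z) ≫ a'.act = _
      rw [← Category.assoc, comp_lift, Category.comp_id, ← Category.assoc q, comp_toUnit]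
    have hr' : r = p2⁻¹ * p1 := by simp [r, Hom.mul_def, GrpObj.inv_eq_inv, GrpObj.comp_inv]
    rw [hr', h0, ← GrpSchLib.act_mul, ← h0, hp, h0, GrpSchLib.act_mul, inv_mul_cancel,
      GrpSchLib.act_one]
  have hrw : r.left w ∈ unitComp (bc G φ) := by
    rw [left_comp_apply]
    refine mul_mem_unitComp ?_ ?_
    · rw [← left_comp_apply, lift_fst, left_comp_apply]
      exact inv_mem_unitComp (show p2.left w ∈ _ from hw2.symm ▸ hh)
    · rw [← left_comp_apply, lift_snd]
      exact (show p1.left w ∈ _ from hw1.symm ▸ hg)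
  refine ⟨bcProj G φ (r.left w), bcProj_mem_unitComp φ hrw, ?_⟩
  rw [← bcProj_map φ (a.orbitMap x), ← orbitMap_bcAction, ← left_comp_apply, hr,
    GrpSchLib.apply_pointSection]
  exact hy'

end Orbit

theorem compactSpace_of_irreducible (hΦ : Surjective (lift a.act (snd G X)).left)
    [IrreducibleSpace X.left] : CompactSpace X.left := by
  obtain ⟨U, hU, hξU, -⟩ := exists_isAffineOpen_mem_and_subset
    (show genericPoint X.left ∈ (⊤ : X.left.Opens) from trivial)
  have huniv : unitTranslates a (U : Set X.left) = Set.univ := Set.eq_univ_of_forall fun y => by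
    rw [show unitTranslates a (U : Set X.left) = hull (U : Set X.left) from unitTranslates_eq_hull a hΦ U.2]
    exact ⟨_, hξU, genericPoint_specializes y⟩
  obtain ⟨T, j, hj, hjr⟩ := GrpSchLib.exists_over_range_eq (unitComp G) isClosed_connectedComponent
  haveI : CompactSpace T.left :=
    ⟨by rw [j.left.isEmbedding.isCompact_iff, Set.image_univ, hjr]; exact isCompact_unitComp⟩
  let U' : Over (Spec (CommRingCat.of K)) := Over.mk (U.ι ≫ X.hom)
  let i : U' ⟶ X := Over.homMk U.ι rfl
  haveI : IsAffine U.toScheme := hU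
  haveI : IsAffineHom (U.ι ≫ X.hom) := isAffineHom_of_isAffine (U.ι ≫ X.hom)
  haveI : QuasiCompact T.hom := inferInstance
  haveI : CompactSpace (T ⊗ U').left :=
    QuasiCompact.compactSpace_of_compactSpace (pullback.fst T.hom (U.ι ≫ X.hom))
  refine ⟨huniv ▸ ?_⟩
  have h := (isCompact_range (j ⊗ₘ i).left.continuous).image a.act.left.continuous
  rw [range_tensorHom', hjr] at h
  convert h using 1
  rw [unitTranslates, show Set.range i.left = (U : Set X.left) from Scheme.Opens.range_ι U]
  rfl

end Groth.Agent.GrpFieldLib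

namespace Groth.Agent.GrpFieldLib

variable {K : Type u} [Field K] {G X : Over (Spec (CommRingCat.of K))} [GrpObj G]

theorem isCompact_unitTranslates (a : AlgGrp.Action G X) {U : X.left.Opens} (hU : IsAffineOpen U) :
    IsCompact (unitTranslates a (U : Set X.left)) := by
  obtain ⟨T, j, hj, hjr⟩ := GrpSchLib.exists_over_range_eq (unitComp G) isClosed_connectedComponent
  haveI : CompactSpace T.left :=
    ⟨by rw [j.left.isEmbedding.isCompact_iff, Set.image_univ, hjr]; exact isCompact_unitComp⟩
  let U' : Over (Spec (CommRingCat.of K)) := Over.mk (U.ι ≫ X.hom)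
  let i : U' ⟶ X := Over.homMk U.ι rfl
  haveI : IsAffine U.toScheme := hU
  haveI : IsAffineHom (U.ι ≫ X.hom) := isAffineHom_of_isAffine (U.ι ≫ X.hom)
  haveI : QuasiCompact T.hom := inferInstance
  haveI : CompactSpace (T ⊗ U').left :=
    QuasiCompact.compactSpace_of_compactSpace (pullback.fst T.hom (U.ι ≫ X.hom))
  have h := (isCompact_range (j ⊗ₘ i).left.continuous).image a.act.left.continuous
  rw [range_tensorHom', hjr] at h
  convert h using 1
  rw [unitTranslates, show Set.range i.left = (U : Set X.left) from Scheme.Opens.range_ι U]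
  rfl

/-- A group acting on itself by left translation. -/
noncomputable def selfAction (G : Over (Spec (CommRingCat.of K))) [GrpObj G] : AlgGrp.Action G G where
  act := μ[G]
  one_act := MonObj.one_mul G
  mul_act := MonObj.mul_assoc G

theorem surjective_selfAction : Surjective (lift (selfAction G).act (snd G G)).left := by
  let σ : G ⊗ G ≅ G ⊗ G :=
    { hom := lift (fst G G * snd G G) (snd G G)
      inv := lift (fst G G * (snd G G)⁻¹) (snd G G)
      hom_inv_id := by
        apply CartesianMonoidalCategory.hom_ext <;>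
          simp [MonObj.comp_mul, GrpObj.comp_inv, _root_.mul_assoc]
      inv_hom_id := by
        apply CartesianMonoidalCategory.hom_ext <;>
          simp [MonObj.comp_mul, GrpObj.comp_inv, _root_.mul_assoc] }
  have h : lift (selfAction G).act (snd G G) = σ.hom := by
    show lift μ[G] (snd G G) = lift (fst G G * snd G G) (snd G G)
    rw [Hom.mul_def, lift_fst_snd, Category.id_comp]
  rw [h]
  haveI : IsIso σ.hom.left := ((Over.forget _).mapIso σ).isIso_hom
  infer_instance

end Groth.Agent.GrpFieldLib
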