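import Groth.Agent.GrpSchLib.Core
import Groth.Agent.GrpSchLib.Coincidence
import Groth.Agent.DescLib.Flat
import Groth.Agent.EtFound.Descent
import Groth.Prelude.Def_AGF
import Mathlib.AlgebraicGeometry.Morphisms.LocalFlatDescent

/-! Towers of quotients `G/H → G/H'` over a field: the base change to `G` is `G × H'/H → G`. -/

set_option autoImplicit false
set_option backward.isDefEq.respectTransparency false
set_option backward.isDefEq.respectTransparency.types false
set_option linter.style.haveILetI false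

universe u

open CategoryTheory CategoryTheory.Limits MonoidalCategory CartesianMonoidalCategory MonObj AlgebraicGeometry

namespace Groth.Agent.GrpFieldLib.QuotTower

variable {S : Scheme.{u}}

/-- Descent of a morphism along a faithfully flat quasi-compact morphism over a base. -/
theorem exists_desc {A B C : Over S} (c : A ⟶ B) [Flat c.left] [Surjective c.left] [QuasiCompact c.left]
    (d : A ⟶ C) (h : ∀ {T : Over S} (a a' : T ⟶ A), a ≫ c = a' ≫ c → a ≫ d = a' ≫ d) :
    ∃ e : B ⟶ C, c ≫ e = d := by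
  have hdesc : ∀ {Z : Scheme.{u}} (g₁ g₂ : Z ⟶ A.left), g₁ ≫ c.left = g₂ ≫ c.left →
      g₁ ≫ d.left = g₂ ≫ d.left := by
    intro Z g₁ g₂ e
    let a₁ : Over.mk (g₁ ≫ A.hom) ⟶ A := Over.homMk g₁ rfl
    let a₂ : Over.mk (g₁ ≫ A.hom) ⟶ A := Over.homMk g₂ (by
      show g₂ ≫ A.hom = g₁ ≫ A.hom
      rw [← Over.w c, ← Category.assoc, ← e, Category.assoc])
    exact congrArg CommaMorphism.left (h a₁ a₂ (Over.OverMorphism.ext e))
  let l := EffectiveEpi.desc c.left d.left (fun {Z} g₁ g₂ e => hdesc g₁ g₂ e)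
  have hl : c.left ≫ l = d.left := EffectiveEpi.fac _ _ _
  refine ⟨Over.homMk l ?_, Over.OverMorphism.ext hl⟩
  show l ≫ C.hom = B.hom
  rw [← cancel_epi c.left, reassoc_of% hl, Over.w d, Over.w c]

/-- Two faithfully flat quasi-compact quotients with the same relation are isomorphic. -/
theorem exists_iso {A B C : Over S} (c : A ⟶ B) [Flat c.left] [Surjective c.left] [QuasiCompact c.left]
    (d : A ⟶ C) [Flat d.left] [Surjective d.left] [QuasiCompact d.left]
    (h : ∀ {T : Over S} (a a' : T ⟶ A), a ≫ c = a' ≫ c ↔ a ≫ d = a' ≫ d) :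
    ∃ e : B ≅ C, c ≫ e.hom = d := by
  obtain ⟨e, he⟩ := exists_desc c d fun a a' => (h a a').1
  obtain ⟨e', he'⟩ := exists_desc d c fun a a' => (h a a').2
  haveI : Epi c := Over.epi_of_epi_left _
  haveI : Epi d := Over.epi_of_epi_left _
  exact ⟨⟨e, e', by rw [← cancel_epi c, reassoc_of% he, he', Category.comp_id],
    by rw [← cancel_epi d, reassoc_of% he', he, Category.comp_id]⟩, he⟩

variable {k : Type u} [Field k]
variable {G H : Over (Spec (CommRingCat.of k))} [GrpObj G] [GrpObj H]

/-- Points of `G` with the same image in `G/H` differ by a point of `H`. -/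
theorem orbit_eq_iff (i : H ⟶ G) (X : Over (Spec (CommRingCat.of k))) (a : AlgGrp.Action G X)
    (o : 𝟙_ _ ⟶ X) (hX : AGF.IsQuotient i X a o) {T : Over (Spec (CommRingCat.of k))} (g g' : T ⟶ G) :
    g ≫ a.orbitMap o = g' ≫ a.orbitMap o ↔ ∃ j : T ⟶ H, g * (j ≫ i) = g' := by
  constructor
  · intro e
    refine ⟨hX.2.2.2.lift g g' e ≫ snd G H, ?_⟩
    have h1 := hX.2.2.2.lift_fst g g' e
    have h2 := hX.2.2.2.lift_snd g g' e
    generalize hX.2.2.2.lift g g' e = m at h1 h2 ⊢
    rw [← h2]
    conv_lhs => rw [← h1]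
    rw [Hom.mul_def, ← lift_whiskerLeft_assoc, ← comp_lift_assoc, lift_fst_snd, Category.id_comp]
  · rintro ⟨j, rfl⟩
    have e := congrArg (fun f => lift g j ≫ f) hX.2.2.2.w
    simpa [Hom.mul_def] using e

theorem orbit_qc [QuasiCompact G.hom] {X : Over (Spec (CommRingCat.of k))} [LocallyOfFiniteType X.hom]
    (π : G ⟶ X) : QuasiCompact π.left := by
  haveI : IsLocallyNoetherian X.left := LocallyOfFiniteType.isLocallyNoetherian X.hom
  haveI : QuasiCompact (π.left ≫ X.hom) := by rw [Over.w π]; infer_instance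
  exact QuasiCompact.of_comp π.left X.hom

/-- Base change to `G` turns `qbar` into the projection `G × H'/H → G`: properties descend from `H'/H`. -/
theorem transfer {H' : Over (Spec (CommRingCat.of k))} [GrpObj H'] [QuasiCompact G.hom] [QuasiCompact H'.hom]
    (i : H ⟶ G) (i' : H' ⟶ G) [IsMonHom i'] [IsClosedImmersion i'.left]
    (l : H ⟶ H') (hl : l ≫ i' = i)
    (X : Over (Spec (CommRingCat.of k))) (a : AlgGrp.Action G X) (o : 𝟙_ _ ⟶ X) (hX : AGF.IsQuotient i X a o)
    (X' : Over (Spec (CommRingCat.of k))) (a' : AlgGrp.Action G X') (o' : 𝟙_ _ ⟶ X') (hX' : AGF.IsQuotient i' X' a' o')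
    (Y : Over (Spec (CommRingCat.of k))) (b : AlgGrp.Action H' Y) (y : 𝟙_ _ ⟶ Y) (hY : AGF.IsQuotient l Y b y)
    (qbar : X ⟶ X') (hq : a.orbitMap o ≫ qbar = a'.orbitMap o')
    (W : MorphismProperty Scheme.{u}) [W.IsStableUnderBaseChange] [W.RespectsIso]
    [W.DescendsAlong (@Surjective ⊓ @Flat ⊓ @QuasiCompact)] (hW : W Y.hom) : W qbar.left := by
  haveI := hX.1; haveI := hX.2.1; haveI := hX.2.2.1
  haveI := hX'.1; haveI := hX'.2.1; haveI := hX'.2.2.1
  haveI := hY.1; haveI := hY.2.1; haveI := hY.2.2.1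
  haveI := orbit_qc (a.orbitMap o)
  haveI := orbit_qc (a'.orbitMap o')
  haveI := orbit_qc (b.orbitMap y)
  have hql : (a.orbitMap o).left ≫ qbar.left = (a'.orbitMap o').left := congrArg CommaMorphism.left hq
  haveI hflat : Flat qbar.left := by
    haveI : Flat (𝟙 G.left ≫ (a.orbitMap o).left) := by rwa [Category.id_comp]
    haveI : Surjective (𝟙 G.left ≫ (a.orbitMap o).left) := by rwa [Category.id_comp]
    haveI : Flat ((a.orbitMap o).left ≫ qbar.left) := by rw [hql]; infer_instance
    exact Groth.Agent.DescLib.flat_of_flat_comp_refined (a.orbitMap o).left qbar.left (𝟙 G.left)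
  haveI hsurj : Surjective qbar.left := by
    haveI : Surjective ((a.orbitMap o).left ≫ qbar.left) := by rw [hql]; infer_instance
    exact Surjective.of_comp (a.orbitMap o).left qbar.left
  -- the fibre product
  let pX : pullback qbar.left (a'.orbitMap o').left ⟶ X.left := pullback.fst _ _
  let pG : pullback qbar.left (a'.orbitMap o').left ⟶ G.left := pullback.snd _ _
  let P : Over (Spec (CommRingCat.of k)) := Over.mk (pG ≫ G.hom)
  let μ' : G ⊗ H' ⟶ G := (G ◁ i') ≫ μ[G]
  have hw : (μ'.left ≫ (a.orbitMap o).left) ≫ qbar.left = (fst G H').left ≫ (a'.orbitMap o').left := by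
    rw [Category.assoc, hql]
    exact (congrArg CommaMorphism.left hX'.2.2.2.w).symm
  let c₂ : G ⊗ H' ⟶ P := Over.homMk (pullback.lift (μ'.left ≫ (a.orbitMap o).left) (fst G H').left hw)
    (by
      show pullback.lift _ _ hw ≫ pG ≫ G.hom = (G ⊗ H').hom
      rw [pullback.lift_snd_assoc, Over.w])
  have c₂X : c₂.left ≫ pX = μ'.left ≫ (a.orbitMap o).left := pullback.lift_fst _ _ hw
  have c₂G : c₂.left ≫ pG = (fst G H').left := pullback.lift_snd _ _ hw
  have hsq : IsPullback μ'.left c₂.left (a.orbitMap o).left pX := by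
    refine IsPullback.of_bot ?_ c₂X.symm (IsPullback.of_hasPullback qbar.left (a'.orbitMap o').left)
    rw [hql]
    show IsPullback μ'.left (c₂.left ≫ pG) (a'.orbitMap o').left (a'.orbitMap o').left
    rw [c₂G]
    exact (hX'.2.2.2.map (Over.forget _)).flip
  haveI : Flat c₂.left := MorphismProperty.of_isPullback (P := @Flat) hsq inferInstance
  haveI : Surjective c₂.left := MorphismProperty.of_isPullback (P := @Surjective) hsq inferInstance
  haveI : QuasiCompact c₂.left := MorphismProperty.of_isPullback (P := @QuasiCompact) hsq inferInstance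
  let c₁ : G ⊗ H' ⟶ G ⊗ Y := G ◁ b.orbitMap y
  have hp := GrpSchLib.isPullback_whiskerLeft (W := G) (b.orbitMap y)
  haveI : Flat c₁.left := MorphismProperty.of_isPullback (P := @Flat) hp.flip inferInstance
  haveI : Surjective c₁.left := MorphismProperty.of_isPullback (P := @Surjective) hp.flip inferInstance
  haveI : QuasiCompact c₁.left := MorphismProperty.of_isPullback (P := @QuasiCompact) hp.flip inferInstance
  haveI : Mono i' := Over.mono_of_mono_left i'
  have hk : ∀ {T : Over (Spec (CommRingCat.of k))} (z z' : T ⟶ G ⊗ H'), z ≫ c₁ = z' ≫ c₁ ↔ z ≫ c₂ = z' ≫ c₂ := by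
    intro T z z'
    have key1 : z ≫ c₁ = z' ≫ c₁ ↔ z ≫ fst G H' = z' ≫ fst G H' ∧
        ∃ j : T ⟶ H, (z ≫ snd G H') * (j ≫ l) = z' ≫ snd G H' := by
      rw [← orbit_eq_iff l Y b y hY]
      constructor
      · intro e
        exact ⟨by simpa [c₁] using congrArg (fun f => f ≫ fst G Y) e,
          by simpa [c₁] using congrArg (fun f => f ≫ snd G Y) e⟩
      · rintro ⟨e1, e2⟩
        simp only [Category.assoc] at e2
        apply CartesianMonoidalCategory.hom_ext <;> simp [c₁, e1, e2]
    have hμ : ∀ w : T ⟶ G ⊗ H', w ≫ μ' = (w ≫ fst G H') * ((w ≫ snd G H') ≫ i') := by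
      intro w
      rw [Hom.mul_def, ← lift_whiskerLeft_assoc, ← comp_lift_assoc, lift_fst_snd, Category.id_comp]
    have key2 : z ≫ c₂ = z' ≫ c₂ ↔ z ≫ fst G H' = z' ≫ fst G H' ∧
        ∃ j : T ⟶ H, (z ≫ μ') * (j ≫ i) = z' ≫ μ' := by
      rw [← orbit_eq_iff i X a o hX]
      constructor
      · intro e
        have e' : z.left ≫ c₂.left = z'.left ≫ c₂.left := congrArg CommaMorphism.left e
        refine ⟨Over.OverMorphism.ext ?_, Over.OverMorphism.ext ?_⟩
        · show z.left ≫ (fst G H').left = z'.left ≫ (fst G H').left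
          rw [← c₂G, reassoc_of% e']
        · show (z.left ≫ μ'.left) ≫ (a.orbitMap o).left = (z'.left ≫ μ'.left) ≫ (a.orbitMap o).left
          rw [Category.assoc, Category.assoc, ← c₂X, reassoc_of% e']
      · rintro ⟨e1, e2⟩
        refine Over.OverMorphism.ext (pullback.hom_ext ?_ ?_)
        · show (z.left ≫ c₂.left) ≫ pX = (z'.left ≫ c₂.left) ≫ pX
          rw [Category.assoc, Category.assoc, c₂X, ← Category.assoc, ← Category.assoc]
          exact congrArg CommaMorphism.left e2
        · show (z.left ≫ c₂.left) ≫ pG = (z'.left ≫ c₂.left) ≫ pG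
          rw [Category.assoc, Category.assoc, c₂G]
          exact congrArg CommaMorphism.left e1
    rw [key1, key2]
    refine and_congr_right fun e => exists_congr fun j => ?_
    rw [hμ, hμ, ← e, _root_.mul_assoc, ← hl, ← Category.assoc j l i', ← mul_comp, mul_left_cancel_iff,
      cancel_mono]
  obtain ⟨e, he⟩ := exists_iso c₁ c₂ hk
  have heG : e.hom.left ≫ pG = (fst G Y).left := by
    rw [← cancel_epi c₁.left, ← Category.assoc]
    show (c₁ ≫ e.hom).left ≫ pG = (c₁ ≫ fst G Y).left
    rw [he, c₂G, whiskerLeft_fst]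
  have h1 : W (fst G Y).left := MorphismProperty.pullback_fst G.hom Y.hom hW
  haveI : IsIso e.hom.left := inferInstanceAs (IsIso ((Over.forget _).map e.hom))
  rw [← heG, W.cancel_left_of_respectsIso] at h1
  exact MorphismProperty.of_pullback_snd_of_descendsAlong (Q := @Surjective ⊓ @Flat ⊓ @QuasiCompact)
    (f := qbar.left) (g := (a'.orbitMap o').left) ⟨⟨inferInstance, inferInstance⟩, inferInstance⟩ h1

theorem main {H' : Over (Spec (CommRingCat.of k))} [GrpObj H'] [QuasiCompact G.hom] [QuasiCompact H'.hom]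
    (i : H ⟶ G) (i' : H' ⟶ G) [IsMonHom i'] [IsClosedImmersion i'.left]
    (l : H ⟶ H') (hl : l ≫ i' = i)
    (X : Over (Spec (CommRingCat.of k))) (a : AlgGrp.Action G X) (o : 𝟙_ _ ⟶ X) (hX : AGF.IsQuotient i X a o)
    (X' : Over (Spec (CommRingCat.of k))) (a' : AlgGrp.Action G X') (o' : 𝟙_ _ ⟶ X') (hX' : AGF.IsQuotient i' X' a' o')
    (Y : Over (Spec (CommRingCat.of k))) (b : AlgGrp.Action H' Y) (y : 𝟙_ _ ⟶ Y) (hY : AGF.IsQuotient l Y b y)
    (qbar : X ⟶ X') (hq : a.orbitMap o ≫ qbar = a'.orbitMap o') :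
    (Flat qbar.left ∧ Surjective qbar.left) ∧ (Smooth Y.hom → Smooth qbar.left) ∧
      (IsFinite Y.hom → IsFinite qbar.left ∧ Flat qbar.left) := by
  haveI := hX.1; haveI := hX.2.1; haveI := hX.2.2.1
  haveI := hX'.1; haveI := hX'.2.1; haveI := hX'.2.2.1
  haveI := hY.1; haveI := hY.2.1; haveI := hY.2.2.1
  haveI := orbit_qc (a.orbitMap o)
  haveI := orbit_qc (a'.orbitMap o')
  haveI := orbit_qc (b.orbitMap y)
  have hql : (a.orbitMap o).left ≫ qbar.left = (a'.orbitMap o').left := congrArg CommaMorphism.left hq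
  haveI hflat : Flat qbar.left := by
    haveI : Flat (𝟙 G.left ≫ (a.orbitMap o).left) := by rwa [Category.id_comp]
    haveI : Surjective (𝟙 G.left ≫ (a.orbitMap o).left) := by rwa [Category.id_comp]
    haveI : Flat ((a.orbitMap o).left ≫ qbar.left) := by rw [hql]; infer_instance
    exact Groth.Agent.DescLib.flat_of_flat_comp_refined (a.orbitMap o).left qbar.left (𝟙 G.left)
  haveI hsurj : Surjective qbar.left := by
    haveI : Surjective ((a.orbitMap o).left ≫ qbar.left) := by rw [hql]; infer_instance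
    exact Surjective.of_comp (a.orbitMap o).left qbar.left
  haveI := EtFound.fpqc_isFinite.{u}
  exact ⟨⟨hflat, hsurj⟩, transfer i i' l hl X a o hX X' a' o' hX' Y b y hY qbar hq @Smooth, fun hf =>
    ⟨transfer i i' l hl X a o hX X' a' o' hX' Y b y hY qbar hq @IsFinite hf, hflat⟩⟩

end Groth.Agent.GrpFieldLib.QuotTower
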