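import Groth.Agent.GrpFieldLib.JetLocus
import Groth.Agent.GrpSchLib.MonoSubgroup
import Groth.Agent.AlgSpPts.Sep
import Groth.Prelude.Def_Red2
import Mathlib.Tactic.Group

/-! Transporters, centralisers and normalisers of smooth subgroups with connected fibres. -/

universe u

open CategoryTheory Limits AlgebraicGeometry MonoidalCategory CartesianMonoidalCategory MonObj GrpObj
open scoped CategoryTheory.Obj

namespace Groth.Agent.GrpFieldLib.Jet

open Groth.Agent.GrpSchLib (Good)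

variable {S : Scheme.{u}}

theorem neutralSet_eq_univ_of_connected (H : Over S) [GrpObj H]
    (hconn : ∀ s : S, ConnectedSpace ↥(pullback H.hom (S.fromSpecResidueField s))) :
    SGA3x.neutralSet H = Set.univ := by
  refine GrpSchLib.Neutral.neutralSet_eq_univ H fun s => ?_
  haveI : PreconnectedSpace ↥(H.hom.fiber s) := (hconn s).toPreconnectedSpace
  rw [← Scheme.Hom.range_fiberι H.hom s]
  exact isPreconnected_range (H.hom.fiberι s).continuous

theorem neutralSet_eq_univ_of_isConnected (H : Over S) [GrpObj H]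
    (hconn : ∀ s : S, _root_.IsConnected (H.hom.base ⁻¹' {s})) : SGA3x.neutralSet H = Set.univ :=
  GrpSchLib.Neutral.neutralSet_eq_univ H fun s => (hconn s).isPreconnected

/-- The locus of the base over which a smooth group with connected fibres lies in a mono subgroup. -/
theorem exists_locus_subgroup {X Y : Over S} [GrpObj X] [GrpObj Y] [Smooth X.hom]
    [LocallyOfFinitePresentation Y.hom] (hconn : SGA3x.neutralSet X = Set.univ) (i : Y ⟶ X) [IsMonHom i] [Mono i] :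
    ∃ (T : Scheme.{u}) (t : T ⟶ S), IsClosedImmersion t ∧ LocallyOfFinitePresentation t ∧
      ∀ (S' : Scheme.{u}) (g : S' ⟶ S), (∃ g' : S' ⟶ T, g' ≫ t = g) ↔ Good X.hom i.left g := by
  haveI : LocallyOfFinitePresentation (i.left ≫ X.hom) := by rw [Over.w i]; infer_instance
  haveI := AlgSpPts.locallyOfFinitePresentation_of_comp i.left X.hom
  exact exists_locus hconn ⟨η[Y], IsMonHom.one_hom i⟩ ⟨μ[Y], IsMonHom.mul_hom i⟩

/-- Points of the locus where `c` lands in `K`, as a subfunctor of `G`. -/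
theorem points_of_locus {G H M K : Over S} (c : H ⊗ G ⟶ M) (j : K ⟶ M) {T : Scheme.{u}} {t : T ⟶ G.left}
    (hT : ∀ (S' : Scheme.{u}) (g : S' ⟶ G.left), (∃ g' : S' ⟶ T, g' ≫ t = g) ↔
      Good (pullback.snd H.hom G.hom) (pullback.fst (X := pullback H.hom G.hom) c.left j.left) g)
    (X : Over S) (g : X ⟶ G) :
    (∃ x : X ⟶ Over.mk (t ≫ G.hom), x ≫ (Over.homMk t rfl : Over.mk (t ≫ G.hom) ⟶ G) = g) ↔
      ∀ (X' : Over S) (x : X' ⟶ X) (h : X' ⟶ H), ∃ κ : X' ⟶ K, lift h (x ≫ g) ≫ c = κ ≫ j := by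
  let c₀ : pullback H.hom G.hom ⟶ M.left := c.left
  have hfac : (∃ x : X ⟶ Over.mk (t ≫ G.hom), x ≫ Over.homMk t rfl = g) ↔ ∃ w : X.left ⟶ T, w ≫ t = g.left :=
    ⟨fun ⟨x, hx⟩ => ⟨x.left, congrArg CommaMorphism.left hx⟩,
      fun ⟨w, hw⟩ => ⟨Over.homMk w (by show w ≫ t ≫ G.hom = X.hom; rw [← Category.assoc, hw, Over.w g]),
        Over.OverMorphism.ext hw⟩⟩
  rw [hfac, hT]
  constructor
  · rintro ⟨l, hl⟩ X' x h
    let m : X'.left ⟶ pullback g.left (pullback.snd H.hom G.hom) := pullback.lift x.left (lift h (x ≫ g)).left (by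
      show x.left ≫ g.left = (lift h (x ≫ g)).left ≫ (snd H G).left
      rw [← Over.comp_left, ← Over.comp_left, lift_snd])
    have h2 : (lift h (x ≫ g) ≫ c).left = (m ≫ l ≫ pullback.snd c₀ j.left) ≫ j.left := by
      rw [Category.assoc, Category.assoc, ← pullback.condition]
      show _ = m ≫ l ≫ pullback.fst c₀ j.left ≫ c₀
      rw [reassoc_of% hl, pullback.lift_snd_assoc]
      rfl
    refine ⟨Over.homMk (m ≫ l ≫ pullback.snd c₀ j.left) ?_, Over.OverMorphism.ext h2⟩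
    rw [← Over.w j, ← Category.assoc, ← h2]
    exact Over.w (lift h (x ≫ g) ≫ c)
  · intro hall
    let q := pullback.snd g.left (pullback.snd H.hom G.hom)
    let X' : Over S := Over.mk (pullback.fst g.left (pullback.snd H.hom G.hom) ≫ X.hom)
    let x : X' ⟶ X := Over.homMk (pullback.fst g.left (pullback.snd H.hom G.hom)) rfl
    have hw : (q ≫ pullback.fst H.hom G.hom) ≫ H.hom = X'.hom := by
      show _ = pullback.fst g.left (pullback.snd H.hom G.hom) ≫ X.hom
      rw [Category.assoc, pullback.condition, ← Over.w g, pullback.condition_assoc]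
    let h : X' ⟶ H := Over.homMk (q ≫ pullback.fst H.hom G.hom) hw
    obtain ⟨κ, hκ⟩ := hall X' x h
    have hl : (lift h (x ≫ g)).left = q := by
      rw [Over.lift_left]
      refine pullback.hom_ext (pullback.lift_fst _ _ _) ((pullback.lift_snd _ _ _).trans ?_)
      exact pullback.condition
    have h2 : q ≫ c₀ = κ.left ≫ j.left := by
      rw [← hl]; exact congrArg CommaMorphism.left hκ
    exact ⟨pullback.lift q κ.left h2, pullback.lift_fst _ _ _⟩


section Points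

variable {S' : Scheme.{u}} {f : S' ⟶ S}

/-- A point of a base change as a point. -/
noncomputable def hpart {A : Over S} {X : Over S'} (z : X ⟶ (Over.pullback f).obj A) :
    Over.mk (X.hom ≫ f) ⟶ A :=
  Over.homMk (z.left ≫ pullback.fst A.hom f) (by
    show (z.left ≫ _) ≫ A.hom = X.hom ≫ f
    rw [Category.assoc, pullback.condition, ← Category.assoc, show z.left ≫ pullback.snd A.hom f = X.hom from Over.w z])

theorem hpart_map {A B : Over S} {X : Over S'} (z : X ⟶ (Over.pullback f).obj A) (m : A ⟶ B) :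
    hpart (z ≫ (Over.pullback f).map m) = hpart z ≫ m := by
  refine Over.OverMorphism.ext ?_
  show (z.left ≫ ((Over.pullback f).map m).left) ≫ pullback.fst B.hom f = (z.left ≫ pullback.fst A.hom f) ≫ m.left
  rw [Category.assoc, Category.assoc]
  exact congrArg (z.left ≫ ·) (pullback.lift_fst _ _ _)

variable {H : Over S} [GrpObj H] {X : Over S'}

theorem hpart_one : hpart (1 : X ⟶ (Over.pullback f).obj H) = 1 := by
  rw [Hom.one_def, show η[(Over.pullback f).obj H] =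
    Functor.LaxMonoidal.ε (Over.pullback f) ≫ (Over.pullback f).map η[H] from rfl, ← Category.assoc, hpart_map,
    toUnit_unique (hpart _) (toUnit _)]
  rfl

theorem hpart_mul (a b : X ⟶ (Over.pullback f).obj H) : hpart (a * b) = hpart a * hpart b := by
  rw [Hom.mul_def, show μ[(Over.pullback f).obj H] =
    Functor.LaxMonoidal.μ (Over.pullback f) H H ≫ (Over.pullback f).map μ[H] from rfl, ← Category.assoc, hpart_map,
    Hom.mul_def]
  refine congrArg (· ≫ μ[H]) (CartesianMonoidalCategory.hom_ext _ _ ?_ ?_)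
  · rw [lift_fst, ← hpart_map, Category.assoc, Functor.Monoidal.μ_fst, lift_fst]
  · rw [lift_snd, ← hpart_map, Category.assoc, Functor.Monoidal.μ_snd, lift_snd]

end Points

variable {G H M K : Over S} [GrpObj H]

/-- The points `g` of `G` such that `c (h, g)` lies in `K` for all `h` form a closed subscheme, when this condition
on `h` is that of a subgroup. -/
theorem exists_transporter [Smooth H.hom] (hconn : SGA3x.neutralSet H = Set.univ) (c : H ⊗ G ⟶ M) (j : K ⟶ M)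
    [Mono j] [LocallyOfFinitePresentation j.left]
    (h1 : ∀ (X : Over S) (g : X ⟶ G), ∃ κ : X ⟶ K, lift 1 g ≫ c = κ ≫ j)
    (hmul : ∀ (X : Over S) (g : X ⟶ G) (h h' : X ⟶ H), (∃ κ : X ⟶ K, lift h g ≫ c = κ ≫ j) →
      (∃ κ : X ⟶ K, lift h' g ≫ c = κ ≫ j) → ∃ κ : X ⟶ K, lift (h * h') g ≫ c = κ ≫ j) :
    ∃ (T : Over S) (t : T ⟶ G), IsClosedImmersion t.left ∧ LocallyOfFinitePresentation t.left ∧
      ∀ (X : Over S) (g : X ⟶ G), (∃ x : X ⟶ T, x ≫ t = g) ↔
        ∀ (X' : Over S) (x : X' ⟶ X) (h : X' ⟶ H), ∃ κ : X' ⟶ K, lift h (x ≫ g) ≫ c = κ ≫ j := by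
  haveI : Mono j.left := inferInstanceAs (Mono ((Over.forget S).map j))
  let H' := (Over.pullback G.hom).obj H
  haveI : Smooth H'.hom := inferInstanceAs (Smooth (pullback.snd H.hom G.hom))
  let c₀ : pullback H.hom G.hom ⟶ M.left := c.left
  let Y : Over G.left := Over.mk (pullback.fst c₀ j.left ≫ pullback.snd H.hom G.hom)
  let i : Y ⟶ H' := Over.homMk (pullback.fst c₀ j.left) rfl
  haveI : Mono i := (Over.forget G.left).mono_of_mono_map (inferInstanceAs (Mono (pullback.fst c₀ j.left)))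
  haveI : LocallyOfFinitePresentation i.left :=
    inferInstanceAs (LocallyOfFinitePresentation (pullback.fst c₀ j.left))
  -- points of `Y`
  have hY : ∀ {X : Over G.left} (x : X ⟶ H'), (∃ v, v ≫ i = x) ↔
      ∃ κ : Over.mk (X.hom ≫ G.hom) ⟶ K,
        lift (hpart x) (Over.homMk X.hom rfl : Over.mk (X.hom ≫ G.hom) ⟶ G) ≫ c = κ ≫ j := by
    intro X x
    have hx : (lift (hpart x) (Over.homMk X.hom rfl : Over.mk (X.hom ≫ G.hom) ⟶ G)).left = x.left := by
      rw [Over.lift_left]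
      refine pullback.hom_ext (pullback.lift_fst _ _ _) ?_
      exact (pullback.lift_snd _ _ _).trans (Over.w x).symm
    constructor
    · rintro ⟨v, rfl⟩
      have h2 : (lift (hpart (v ≫ i)) (Over.homMk X.hom rfl : Over.mk (X.hom ≫ G.hom) ⟶ G) ≫ c).left =
          (v.left ≫ pullback.snd c₀ j.left) ≫ j.left := by
        rw [Over.comp_left, hx, Category.assoc, ← pullback.condition]
        exact Category.assoc _ _ _
      refine ⟨Over.homMk (v.left ≫ pullback.snd c₀ j.left) ?_, Over.OverMorphism.ext h2⟩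
      rw [← Over.w j, ← Category.assoc, ← h2]
      exact Over.w (lift (hpart (v ≫ i)) (Over.homMk X.hom rfl : Over.mk (X.hom ≫ G.hom) ⟶ G) ≫ c)
    · rintro ⟨κ, hκ⟩
      have h2 : x.left ≫ c₀ = κ.left ≫ j.left := by
        rw [← hx]; exact congrArg CommaMorphism.left hκ
      refine ⟨Over.homMk (pullback.lift x.left κ.left h2) ?_, Over.OverMorphism.ext (pullback.lift_fst _ _ _)⟩
      show pullback.lift x.left κ.left h2 ≫ pullback.fst c₀ j.left ≫ pullback.snd H.hom G.hom = X.hom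
      rw [pullback.lift_fst_assoc]
      exact Over.w x
  have hone : ∃ e : 𝟙_ (Over G.left) ⟶ Y, e ≫ i = η[H'] := by
    rw [show η[H'] = (1 : 𝟙_ (Over G.left) ⟶ H') by rw [Hom.one_def, toUnit_unique (toUnit _) (𝟙 _), Category.id_comp],
      hY, hpart_one]
    exact h1 _ _
  have hm : ∃ m : Y ⊗ Y ⟶ Y, m ≫ i = (i ⊗ₘ i) ≫ μ[H'] := by
    have e : (i ⊗ₘ i) ≫ μ[H'] = (fst Y Y ≫ i) * (snd Y Y ≫ i) := by
      rw [Hom.mul_def]
      congr 1
    rw [e, hY, hpart_mul]
    exact hmul _ _ _ _ ((hY (fst Y Y ≫ i)).mp ⟨fst Y Y, rfl⟩) ((hY (snd Y Y ≫ i)).mp ⟨snd Y Y, rfl⟩)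
  have hconn' : SGA3x.neutralSet H' = Set.univ := by
    show SGA3x.neutralSet (Red.bc G.hom H) = _
    rw [GrpSchLib.Neutral.neutralSet_bc, hconn, Set.preimage_univ]
  obtain ⟨T, t, ht, htf, hT⟩ := exists_locus hconn' hone hm
  exact ⟨Over.mk (t ≫ G.hom), Over.homMk t rfl, ht, htf, fun X g => points_of_locus c j hT X g⟩

/-- Two closed subschemes of finite presentation meet in one. -/
theorem exists_inter_fp {T₁ T₂ : Over S} (t₁ : T₁ ⟶ G) (t₂ : T₂ ⟶ G) [IsClosedImmersion t₁.left]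
    [IsClosedImmersion t₂.left] [LocallyOfFinitePresentation t₁.left] [LocallyOfFinitePresentation t₂.left] :
    ∃ (T : Over S) (t : T ⟶ G), IsClosedImmersion t.left ∧ LocallyOfFinitePresentation t.left ∧
      ∀ (X : Over S) (g : X ⟶ G), (∃ z : X ⟶ T, z ≫ t = g) ↔
        (∃ z : X ⟶ T₁, z ≫ t₁ = g) ∧ (∃ z : X ⟶ T₂, z ≫ t₂ = g) := by
  refine ⟨Over.mk (pullback.fst t₁.left t₂.left ≫ T₁.hom),
    (Over.homMk (pullback.fst t₁.left t₂.left) rfl : Over.mk _ ⟶ T₁) ≫ t₁, ?_, ?_, fun S' g => ⟨?_, ?_⟩⟩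
  · exact inferInstanceAs (IsClosedImmersion (pullback.fst t₁.left t₂.left ≫ t₁.left))
  · exact inferInstanceAs (LocallyOfFinitePresentation (pullback.fst t₁.left t₂.left ≫ t₁.left))
  · rintro ⟨z, rfl⟩
    refine ⟨⟨_, Category.assoc _ _ _⟩, ⟨z ≫ Over.homMk (pullback.snd t₁.left t₂.left) ?_, ?_⟩⟩
    · show _ = pullback.fst t₁.left t₂.left ≫ T₁.hom
      rw [← Over.w t₂, ← pullback.condition_assoc, Over.w t₁]
    · rw [Category.assoc]
      congr 1
      exact Over.OverMorphism.ext pullback.condition.symm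
  · rintro ⟨⟨a, ha⟩, ⟨b, hb⟩⟩
    refine ⟨Over.homMk (pullback.lift a.left b.left (congrArg CommaMorphism.left (ha.trans hb.symm))) ?_, ?_⟩
    · show _ ≫ pullback.fst t₁.left t₂.left ≫ T₁.hom = _
      rw [pullback.lift_fst_assoc, Over.w a]
    · apply Over.OverMorphism.ext
      show pullback.lift a.left b.left _ ≫ pullback.fst t₁.left t₂.left ≫ t₁.left = g.left
      rw [pullback.lift_fst_assoc, ← Over.comp_left, ha]

variable [GrpObj G]

/-- The transporter of a smooth group with connected fibres into a subgroup. -/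
theorem exists_transporter_conj [Smooth H.hom] (hconn : SGA3x.neutralSet H = Set.univ) (i : H ⟶ G) [IsMonHom i]
    [GrpObj K] (j : K ⟶ G) [IsMonHom j] [Mono j] [LocallyOfFinitePresentation j.left] :
    ∃ (T : Over S) (t : T ⟶ G), IsClosedImmersion t.left ∧ LocallyOfFinitePresentation t.left ∧
      ∀ (X : Over S) (g : X ⟶ G), (∃ x : X ⟶ T, x ≫ t = g) ↔
        ∀ (X' : Over S) (x : X' ⟶ X) (h : X' ⟶ H), ∃ κ : X' ⟶ K, (x ≫ g) * (h ≫ i) * (x ≫ g)⁻¹ = κ ≫ j := by
  have hc : ∀ {X : Over S} (h : X ⟶ H) (g : X ⟶ G),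
      lift h g ≫ (snd H G * (fst H G ≫ i) * (snd H G)⁻¹) = g * (h ≫ i) * g⁻¹ := fun h g => by
    simp [MonObj.comp_mul, GrpObj.comp_inv]
  obtain ⟨T, t, ht, htf, hT⟩ := exists_transporter hconn (snd H G * (fst H G ≫ i) * (snd H G)⁻¹) j
    (fun X g => ⟨1, by simp [hc, MonObj.one_comp]⟩)
    (fun X g h h' ⟨κ, hκ⟩ ⟨κ', hκ'⟩ => ⟨κ * κ', by
      rw [hc] at hκ hκ' ⊢
      rw [MonObj.mul_comp, MonObj.mul_comp, ← hκ, ← hκ']
      group⟩)
  exact ⟨T, t, ht, htf, fun X g => (hT X g).trans (by simp [hc])⟩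

/-- The transporter for conjugation by inverses. -/
theorem exists_transporter_conj_inv [Smooth H.hom] (hconn : SGA3x.neutralSet H = Set.univ) (i : H ⟶ G) [IsMonHom i]
    [GrpObj K] (j : K ⟶ G) [IsMonHom j] [Mono j] [LocallyOfFinitePresentation j.left] :
    ∃ (T : Over S) (t : T ⟶ G), IsClosedImmersion t.left ∧ LocallyOfFinitePresentation t.left ∧
      ∀ (X : Over S) (g : X ⟶ G), (∃ x : X ⟶ T, x ≫ t = g) ↔
        ∀ (X' : Over S) (x : X' ⟶ X) (h : X' ⟶ H), ∃ κ : X' ⟶ K, (x ≫ g)⁻¹ * (h ≫ i) * (x ≫ g) = κ ≫ j := by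
  have hc : ∀ {X : Over S} (h : X ⟶ H) (g : X ⟶ G),
      lift h g ≫ ((snd H G)⁻¹ * (fst H G ≫ i) * snd H G) = g⁻¹ * (h ≫ i) * g := fun h g => by
    simp [MonObj.comp_mul, GrpObj.comp_inv]
  obtain ⟨T, t, ht, htf, hT⟩ := exists_transporter hconn ((snd H G)⁻¹ * (fst H G ≫ i) * snd H G) j
    (fun X g => ⟨1, by simp [hc, MonObj.one_comp]⟩)
    (fun X g h h' ⟨κ, hκ⟩ ⟨κ', hκ'⟩ => ⟨κ * κ', by
      rw [hc] at hκ hκ' ⊢
      rw [MonObj.mul_comp, MonObj.mul_comp, ← hκ, ← hκ']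
      group⟩)
  exact ⟨T, t, ht, htf, fun X g => (hT X g).trans (by simp [hc])⟩

variable [Smooth H.hom] (i : H ⟶ G) [IsMonHom i] [LocallyOfFiniteType G.hom]

/-- The centraliser of a smooth group with connected fibres. -/
theorem exists_centralizer (hconn : SGA3x.neutralSet H = Set.univ) :
    ∃ (Z : Over S) (_ : GrpObj Z) (z : Z ⟶ G), Red.IsCentralizerOf i z ∧ IsClosedImmersion z.left ∧
      LocallyOfFinitePresentation z.left := by
  let Δ : G ⟶ G ⊗ G := lift (𝟙 G) (𝟙 G)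
  haveI : Mono Δ := mono_of_mono_fac (lift_fst (𝟙 G) (𝟙 G))
  haveI : LocallyOfFinitePresentation Δ.left := by
    haveI : LocallyOfFinitePresentation (Δ.left ≫ (fst G G).left) := by
      rw [← Over.comp_left, lift_fst]; exact inferInstanceAs (LocallyOfFinitePresentation (𝟙 G.left))
    haveI : LocallyOfFiniteType (fst G G).left := inferInstanceAs (LocallyOfFiniteType (pullback.fst G.hom G.hom))
    exact AlgSpPts.locallyOfFinitePresentation_of_comp Δ.left (fst G G).left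
  have hΔ : ∀ {X : Over S} (a b : X ⟶ G), (∃ κ, lift a b = κ ≫ Δ) ↔ a = b := fun a b => by
    refine ⟨fun ⟨κ, hκ⟩ => ?_, fun h => ⟨a, by simp [Δ, h]⟩⟩
    have h1 := congrArg (· ≫ fst G G) hκ
    have h2 := congrArg (· ≫ snd G G) hκ
    simp [Δ] at h1 h2
    rw [h1, h2]
  have hc : ∀ {X : Over S} (h : X ⟶ H) (g : X ⟶ G),
      lift h g ≫ lift (snd H G * (fst H G ≫ i) * (snd H G)⁻¹) (fst H G ≫ i) = lift (g * (h ≫ i) * g⁻¹) (h ≫ i) :=
    fun h g => by simp [comp_lift, MonObj.comp_mul, GrpObj.comp_inv]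
  obtain ⟨Z, z, hz, hzf, hZ⟩ := exists_transporter hconn
    (lift (snd H G * (fst H G ≫ i) * (snd H G)⁻¹) (fst H G ≫ i)) Δ
    (fun X g => by rw [hc, hΔ, MonObj.one_comp]; group)
    (fun X g h h' hh hh' => by
      rw [hc, hΔ] at hh hh' ⊢
      rw [MonObj.mul_comp]
      conv_rhs => rw [← hh, ← hh']
      group)
  have key : ∀ (X : Over S) (g : X ⟶ G), (∃ x : X ⟶ Z, x ≫ z = g) ↔
      ∀ (X' : Over S) (x : X' ⟶ X) (h : X' ⟶ H), (x ≫ g) * (h ≫ i) = (h ≫ i) * (x ≫ g) := fun X g =>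
    (hZ X g).trans (forall_congr' fun X' => forall_congr' fun x => forall_congr' fun h => by
      rw [hc, hΔ, mul_inv_eq_iff_eq_mul])
  haveI : Mono z := (Over.forget S).mono_of_mono_map (inferInstanceAs (Mono z.left))
  obtain ⟨η', hη⟩ := (key _ η[G]).mpr fun X' x h => by
    simp [show x ≫ η[G] = (1 : X' ⟶ G) by rw [Hom.one_def, toUnit_unique x (toUnit _)]]
  obtain ⟨μ', hμ⟩ := (key _ ((fst Z Z ≫ z) * (snd Z Z ≫ z))).mpr fun X' x h => by
    have h1 := (key _ ((x ≫ fst Z Z) ≫ z)).mp ⟨_, rfl⟩ X' (𝟙 _) h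
    have h2 := (key _ ((x ≫ snd Z Z) ≫ z)).mp ⟨_, rfl⟩ X' (𝟙 _) h
    simp only [Category.id_comp, Category.assoc] at h1 h2
    rw [MonObj.comp_mul, _root_.mul_assoc, h2, ← _root_.mul_assoc, h1, _root_.mul_assoc]
  obtain ⟨ι', hι⟩ := (key _ z⁻¹).mpr fun X' x h => by
    have h1 : Commute (x ≫ z) (h ≫ i) := by
      have := (key _ (x ≫ z)).mp ⟨x, rfl⟩ X' (𝟙 _) h
      rwa [Category.id_comp] at this
    rw [GrpObj.comp_inv]
    exact h1.inv_left
  obtain ⟨str, hmon⟩ := GrpSchLib.exists_grpObj_of_mono z η' hη μ' hμ ι' hι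
  exact ⟨Z, str, z, ⟨hmon, inferInstance, key⟩, hz, hzf⟩

/-- The normaliser of a smooth subgroup with connected fibres. -/
theorem exists_normalizer [Mono i] (hconn : SGA3x.neutralSet H = Set.univ) :
    ∃ (N : Over S) (_ : GrpObj N) (n : N ⟶ G), Red.IsNormalizerOf i n ∧ IsClosedImmersion n.left ∧
      LocallyOfFinitePresentation n.left := by
  haveI : LocallyOfFinitePresentation (i.left ≫ G.hom) := by rw [Over.w i]; infer_instance
  haveI := AlgSpPts.locallyOfFinitePresentation_of_comp i.left G.hom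
  obtain ⟨T₁, t₁, _, _, h₁⟩ := exists_transporter_conj hconn i i
  obtain ⟨T₂, t₂, _, _, h₂⟩ := exists_transporter_conj_inv hconn i i
  obtain ⟨N, n, hn, hnf, hN⟩ := exists_inter_fp t₁ t₂
  haveI : Mono n := (Over.forget _).mono_of_mono_map (inferInstanceAs (Mono n.left))
  have key : ∀ (X : Over S) (g : X ⟶ G), (∃ z : X ⟶ N, z ≫ n = g) ↔
      ∀ (X' : Over S) (x : X' ⟶ X) (y : X' ⟶ H),
        (∃ y' : X' ⟶ H, (x ≫ g) * (y ≫ i) * (x ≫ g)⁻¹ = y' ≫ i) ∧
        (∃ y' : X' ⟶ H, (x ≫ g)⁻¹ * (y ≫ i) * (x ≫ g) = y' ≫ i) := fun X g =>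
    (hN X g).trans ((and_congr (h₁ X g) (h₂ X g)).trans
      ⟨fun e X' x y => ⟨e.1 X' x y, e.2 X' x y⟩, fun e => ⟨fun X' x y => (e X' x y).1, fun X' x y => (e X' x y).2⟩⟩)
  obtain ⟨η', hη⟩ := (key _ η[G]).mpr fun X' x y => by
    refine ⟨⟨y, ?_⟩, ⟨y, ?_⟩⟩ <;>
      simp [show x ≫ η[G] = (1 : X' ⟶ G) by rw [Hom.one_def, toUnit_unique x (toUnit _)]]
  obtain ⟨μ', hμ⟩ := (key _ ((fst N N ≫ n) * (snd N N ≫ n))).mpr fun X' x y => by
    have hf := (key _ (x ≫ fst N N ≫ n)).mp ⟨x ≫ fst N N, Category.assoc _ _ _⟩ X' (𝟙 _)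
    have hs := (key _ (x ≫ snd N N ≫ n)).mp ⟨x ≫ snd N N, Category.assoc _ _ _⟩ X' (𝟙 _)
    simp only [Category.id_comp] at hf hs
    rw [MonObj.comp_mul, _root_.mul_inv_rev]
    refine ⟨?_, ?_⟩
    · obtain ⟨y1, e1⟩ := (hs y).1
      obtain ⟨y2, e2⟩ := (hf y1).1
      exact ⟨y2, by rw [← e2, ← e1]; group⟩
    · obtain ⟨y1, e1⟩ := (hf y).2
      obtain ⟨y2, e2⟩ := (hs y1).2
      exact ⟨y2, by rw [← e2, ← e1]; group⟩
  obtain ⟨ι', hι⟩ := (key _ n⁻¹).mpr fun X' x y => by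
    have hx := (key _ (x ≫ n)).mp ⟨x, rfl⟩ X' (𝟙 _) y
    simp only [Category.id_comp] at hx
    rw [GrpObj.comp_inv, _root_.inv_inv]
    exact ⟨hx.2, hx.1⟩
  obtain ⟨str, hmon⟩ := GrpSchLib.exists_grpObj_of_mono n η' hη μ' hμ ι' hι
  exact ⟨N, str, n, ⟨hmon, inferInstance, key⟩, hn, hnf⟩

end Groth.Agent.GrpFieldLib.Jet
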