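import Groth.Agent.S4871
import Groth.Agent.H23.FinCondSch
import Groth.Agent.GrpSchLib.GeomIrr
import Groth.Agent.GrpSchLib.SmoothRegular
import Groth.Agent.GrpSchLib.SmoothReduced
import Groth.Agent.SchDenseLib.Basic
import Groth.Agent.AlgSpDec.SchDenseFacts
import Mathlib.AlgebraicGeometry.Morphisms.Smooth
import Mathlib.AlgebraicGeometry.Geometrically.Irreducible
import Groth.Prelude.Def_Red

/-! An open meeting every fibre of a smooth morphism with geometrically irreducible fibres is schematically
dense. -/

universe u

open CategoryTheory Limits AlgebraicGeometry TopologicalSpace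

namespace Groth.Agent.GrpFieldLib.SmoothDense

/-- A smooth connected scheme over a field is irreducible. -/
theorem irreducibleSpace_of_connected {K : Type u} [Field K] {X : Scheme.{u}} (f : X ⟶ Spec (CommRingCat.of K))
    [Smooth f] [ConnectedSpace X] : IrreducibleSpace X := by
  haveI : IsLocallyNoetherian X := LocallyOfFiniteType.isLocallyNoetherian f
  haveI : IsIntegral X := (H23.FinCondSch.isIntegral_iff (X := X)).mpr ⟨inferInstance, fun x => by
    haveI := GrpSchLib.isRegularLocalRing_stalk_of_smooth f x
    exact RegLoc6.isDomain_of_isRegularLocalRing _⟩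
  infer_instance

/-- A smooth morphism with connected geometric fibres has geometrically irreducible fibres. -/
theorem geometricallyIrreducible {X S : Scheme.{u}} (f : X ⟶ S) [Smooth f]
    (hconn : ∀ s : S, ConnectedSpace ↥(pullback f (Red.geomPt s))) : GeometricallyIrreducible f := by
  rw [GeometricallyIrreducible.iff_geometricallyIrreducible_fiber]
  intro s
  let b := Spec.map (CommRingCat.ofHom (algebraMap (S.residueField s) (AlgebraicClosure (S.residueField s))))
  let e : pullback (f.fiberToSpecResidueField s) b ≅ pullback f (Red.geomPt s) :=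
    pullbackLeftPullbackSndIso f (S.fromSpecResidueField s) b
  haveI := hconn s
  haveI hc : ConnectedSpace ↥(pullback (f.fiberToSpecResidueField s) b) :=
    e.inv.homeomorph.surjective.connectedSpace e.inv.continuous
  haveI hfib : Smooth (f.fiberToSpecResidueField s) := MorphismProperty.pullback_snd _ _ ‹Smooth f›
  exact GrpSchLib.geometricallyIrreducible_of_algClosure _
    (@irreducibleSpace_of_connected _ _ _ (pullback.snd (f.fiberToSpecResidueField s) b)
      (MorphismProperty.pullback_snd _ _ hfib) hc)

/-- An open of a reduced scheme which is dense is schematically dense. -/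
theorem isSchematicallyDense_of_dense {Z : Scheme.{u}} [IsReduced Z] (U : Z.Opens) (hU : Dense (U : Set Z)) :
    CInt.IsSchematicallyDense U := by
  rw [SchDenseLib.iff_eq_zero]
  intro V s hs
  rw [← basicOpen_eq_bot_iff s, eq_bot_iff]
  intro x hx
  obtain ⟨y, hy, hyU⟩ := hU.exists_mem_open (Z.basicOpen s).isOpen ⟨x, hx⟩
  have hy' : y ∈ V ⊓ U := ⟨Z.basicOpen_le s hyU, hy⟩
  have : y ∈ Z.basicOpen (Z.presheaf.map (homOfLE (inf_le_left : V ⊓ U ≤ V)).op s) := by
    rw [Scheme.basicOpen_res]
    exact ⟨hy', hyU⟩
  rw [hs, Scheme.basicOpen_zero] at this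
  exact this.elim

/-- An open meeting every fibre is schematically dense. -/
theorem isSchematicallyDense {X S : Scheme.{u}} (f : X ⟶ S) [Smooth f] [GeometricallyIrreducible f]
    (U : X.Opens) (h : ∀ s : S, ∃ x ∈ U, f x = s) : CInt.IsSchematicallyDense U := by
  refine AlgSpDec.SchDenseFacts.of_preimage (pullback.fst f (𝟙 S)) U
    ((S4871.result f U).mpr (fun s => ?_) S (𝟙 S))
  haveI : Smooth (f.fiberToSpecResidueField s) := inferInstanceAs (Smooth (pullback.snd _ _))
  haveI : IsReduced (f.fiber s) :=
    GrpSchLib.isReduced_of_smooth_field (K := S.residueField s) (f.fiberToSpecResidueField s)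
  refine isSchematicallyDense_of_dense _ ((f.fiberι s ⁻¹ᵁ U).isOpen.dense ?_)
  obtain ⟨x, hxU, hxs⟩ := h s
  obtain ⟨z, rfl⟩ : x ∈ Set.range (f.fiberι s) := by rw [Scheme.Hom.range_fiberι]; exact hxs
  exact ⟨z, hxU⟩

end Groth.Agent.GrpFieldLib.SmoothDense
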