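import Groth.Agent.GrpFieldLib.SVFamily
import Groth.Agent.GrpSchLib.IdentityComp
import Groth.Agent.GrpSchLib.MonoSubgroup
import Groth.Agent.VarGeom.OpenMap
import Groth.Prelude.Def_AlgGrp

/-! Finiteness and connectedness of commutator subgroup schemes over a field. -/

universe u

open CategoryTheory CategoryTheory.Limits AlgebraicGeometry MonoidalCategory CartesianMonoidalCategory MonObj GrpObj Topology
open scoped CategoryTheory.Obj commutatorElement

namespace Groth.Agent.GrpFieldLib.CommSub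

open Groth.Agent.GrpSchLib Groth.Agent.GrpSchLib.Neutral
open Groth.Agent.GrpFieldLib.SolvBound

variable {k : Type u} [Field k]

local notation "Base" => Spec (CommRingCat.of k)

section Neutral

variable (X : Over (Spec (CommRingCat.of k))) [GrpObj X] [LocallyOfFiniteType X.hom]

/-- The neutral component is open and quasi-compact. -/
theorem neutral_open_compact : IsOpen (SGA3x.neutralSet X) ∧ IsCompact (SGA3x.neutralSet X) := by
  obtain ⟨X₀, _, incl, _, hci, hfl, hr, -, hc⟩ := Groth.Agent.GrpSchLib.exists_identityComponent (G := X)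
  have hN : SGA3x.neutralSet X = Set.range incl.left := by
    rw [hr, SolvBound.neutralSet_eq, pt_one]
  haveI := hci
  haveI := hfl
  haveI := hc
  haveI : IsLocallyNoetherian X.left := LocallyOfFiniteType.isLocallyNoetherian X.hom
  haveI : LocallyOfFinitePresentation incl.left := inferInstance
  rw [hN]
  exact ⟨incl.left.isOpenMap.isOpen_range, isCompact_range incl.left.continuous⟩

omit [LocallyOfFiniteType X.hom] in
theorem map_mem_neutralSet {Y : Over (Spec (CommRingCat.of k))} [GrpObj Y] (i : X ⟶ Y) [IsMonHom i] {x : X.left}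
    (hx : x ∈ SGA3x.neutralSet X) : i.left x ∈ SGA3x.neutralSet Y := by
  rw [SolvBound.neutralSet_eq] at hx ⊢
  have h1 : i.left (pt (1 : 𝟙_ _ ⟶ X)) = pt (1 : 𝟙_ _ ⟶ Y) := by rw [← pt_comp, MonObj.one_comp]
  rw [← h1]
  exact i.left.continuous.image_connectedComponent_subset _ ⟨x, hx, rfl⟩

/-- A clopen subset stable under the group law and containing the image of `f` is everything, as soon
as `X` is minimal among the closed subgroup schemes through which `f` factors. -/
theorem eq_univ_of_clopen {G Z : Over (Spec (CommRingCat.of k))} [GrpObj G] (i : X ⟶ G) [IsMonHom i]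
    [IsClosedImmersion i.left] (f : Z ⟶ X)
    (hmin : ∀ (Γ' : Over (Spec (CommRingCat.of k))) (_ : GrpObj Γ') (i' : Γ' ⟶ G), IsMonHom i' →
      IsClosedImmersion i'.left → (∃ f'' : Z ⟶ Γ', f'' ≫ i' = f ≫ i) → ∃ j : X ⟶ Γ', j ≫ i' = i)
    (W : X.left.Opens) (hWc : IsClosed (W : Set X.left)) (h1 : unit X (IsLocalRing.closedPoint k) ∈ W)
    (hinv : ∀ x ∈ W, (GrpObj.inv : X ⟶ X).left x ∈ W)
    (hmul : ∀ p : (X ⊗ X).left, (fst X X).left p ∈ W → (snd X X).left p ∈ W → μ[X].left p ∈ W)
    (hf : ∀ z, f.left z ∈ W) : (W : Set X.left) = Set.univ := by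
  let P : Over (Spec (CommRingCat.of k)) := Over.mk (W.ι ≫ X.hom)
  let a : P ⟶ X := Over.homMk W.ι rfl
  haveI : IsOpenImmersion a.left := inferInstanceAs (IsOpenImmersion W.ι)
  haveI : Mono a := (Over.forget _).mono_of_mono_map (inferInstanceAs (Mono W.ι))
  have har : Set.range a.left = (W : Set X.left) := Scheme.Opens.range_ι W
  have hfac : ∀ {T : Over (Spec (CommRingCat.of k))} (g : T ⟶ X), (∀ t, g.left t ∈ W) →
      ∃ l : T ⟶ P, l ≫ a = g := by
    intro T g hg
    have hle : Set.range g.left ⊆ Set.range a.left := by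
      rintro _ ⟨z, rfl⟩
      rw [har]; exact hg z
    refine ⟨Over.homMk (IsOpenImmersion.lift a.left g.left hle) ?_, ?_⟩
    · show _ ≫ a.left ≫ X.hom = T.hom
      rw [← Category.assoc, IsOpenImmersion.lift_fac, Over.w]
    · exact Over.OverMorphism.ext (IsOpenImmersion.lift_fac _ _ _)
  have haW : ∀ z, a.left z ∈ W := fun z => har.subset ⟨z, rfl⟩
  obtain ⟨η', hη'⟩ := hfac η[X] fun s => by
    rw [show s = IsLocalRing.closedPoint k from @Subsingleton.elim (Spec (CommRingCat.of k)) inferInstance _ _]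
    exact h1
  obtain ⟨μ', hμ'⟩ := hfac ((fst P P ≫ a) * (snd P P ≫ a)) fun z => by
    rw [Hom.mul_def, left_comp_apply]
    refine hmul _ ?_ ?_
    · rw [← left_comp_apply, lift_fst, left_comp_apply]; exact haW _
    · rw [← left_comp_apply, lift_snd, left_comp_apply]; exact haW _
  obtain ⟨ι', hι'⟩ := hfac a⁻¹ fun z => by
    rw [← Category.comp_id a, ← GrpObj.comp_inv, left_comp_apply, ← GrpObj.inv_eq_inv]
    exact hinv _ (haW z)
  obtain ⟨str, hstr⟩ := exists_grpObj_of_mono a η' hη' μ' hμ' ι' hι'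
  letI := str
  haveI := hstr
  haveI : IsClosedImmersion a.left := IsClosedImmersion.of_isPreimmersion _ (by rw [har]; exact hWc)
  haveI : IsClosedImmersion (a ≫ i).left := inferInstanceAs (IsClosedImmersion (a.left ≫ i.left))
  obtain ⟨f₀, hf₀⟩ := hfac f hf
  obtain ⟨j, hj⟩ := hmin P str (a ≫ i) inferInstance ‹_› ⟨f₀, by rw [← Category.assoc, hf₀]⟩
  haveI : Mono i := (Over.forget _).mono_of_mono_map (inferInstanceAs (Mono i.left))
  have hja : j ≫ a = 𝟙 X := by rw [← cancel_mono i, Category.assoc, hj, Category.id_comp]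
  refine Set.eq_univ_of_forall fun x => ?_
  have : (j ≫ a).left x = x := by rw [hja]; rfl
  rw [← this, left_comp_apply]
  exact haW _

end Neutral

section Connected

variable {G A B Γ : Over (Spec (CommRingCat.of k))} [GrpObj G] [GrpObj A] [GrpObj B] [GrpObj Γ]
  [LocallyOfFiniteType Γ.hom] (a : A ⟶ G) [IsMonHom a] (b : B ⟶ G) [IsMonHom b]
  (i : Γ ⟶ G) [IsMonHom i] [IsClosedImmersion i.left] (f : A ⊗ B ⟶ Γ)
  (hf : f ≫ i = (fst A B ≫ a) * (snd A B ≫ b) * (fst A B ≫ a)⁻¹ * (snd A B ≫ b)⁻¹)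
  (hmin : ∀ (Γ' : Over (Spec (CommRingCat.of k))) (_ : GrpObj Γ') (i' : Γ' ⟶ G), IsMonHom i' →
      IsClosedImmersion i'.left → (∃ f'' : A ⊗ B ⟶ Γ', f'' ≫ i' = f ≫ i) → ∃ j : Γ ⟶ Γ', j ≫ i' = i)

omit [LocallyOfFiniteType Γ.hom] in
include hf in
theorem f_lift_one {T : Over (Spec (CommRingCat.of k))} (y : T ⟶ B) : lift (1 : T ⟶ A) y ≫ f = 1 := by
  haveI : Mono i := (Over.forget _).mono_of_mono_map (inferInstanceAs (Mono i.left))
  rw [← cancel_mono i, Category.assoc, hf, MonObj.one_comp]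
  simp only [MonObj.comp_mul, GrpObj.comp_inv, lift_fst_assoc, lift_snd_assoc, MonObj.one_comp, _root_.one_mul,
    inv_one, _root_.mul_one, _root_.mul_inv_cancel]

include hf hmin in
theorem connected_case [ConnectedSpace A.left] : QuasiCompact Γ.hom ∧ ConnectedSpace Γ.left := by
  obtain ⟨hNo, hNc⟩ := neutral_open_compact Γ
  have hNcl : IsClosed (SGA3x.neutralSet Γ) := by
    rw [SolvBound.neutralSet_eq]; exact isClosed_connectedComponent
  have hA : SGA3x.neutralSet A = Set.univ := by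
    rw [SolvBound.neutralSet_eq, PreconnectedSpace.connectedComponent_eq_univ]
  have hmem : ∀ z, f.left z ∈ SGA3x.neutralSet Γ := by
    intro z
    let y : B.left := (snd A B).left z
    let g : Spec (B.left.residueField y) ⟶ Spec (CommRingCat.of k) := B.left.fromSpecResidueField y ≫ B.hom
    let T : Over (Spec (CommRingCat.of k)) := (Over.map g).obj (Red.bc g A)
    let u : T ⟶ A := Groth.Agent.DSPtsLib.theta g (𝟙 (Red.bc g A))
    let v : T ⟶ B := Over.homMk (pullback.snd A.hom g ≫ B.left.fromSpecResidueField y) (by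
      show _ = pullback.snd A.hom g ≫ g
      rw [Category.assoc])
    let φ : pullback A.hom g ⟶ Γ.left := (lift u v ≫ f).left
    have hz : ∃ w, (lift u v).left w = z := by
      have h1 : (fst A B).left z ∈ Set.univ := trivial
      have hb : A.hom ((fst A B).left z) = g (IsLocalRing.closedPoint _) := Subsingleton.elim _ _
      have sq : IsPullback (lift u v).left (pullback.snd A.hom g) (snd A B).left (B.left.fromSpecResidueField y) := by
        refine (IsPullback.of_right ?_ ?_ (IsPullback.of_hasPullback A.hom B.hom))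
        · have e : (lift u v).left ≫ pullback.fst A.hom B.hom = pullback.fst A.hom g := by
            show (lift u v).left ≫ (fst A B).left = _
            rw [← Over.comp_left, lift_fst]
            show (Groth.Agent.DSPtsLib.theta g (𝟙 _)).left = _
            rw [Groth.Agent.DSPtsLib.theta_left, Over.id_left]
            exact Category.id_comp _
          rw [e]
          exact IsPullback.of_hasPullback A.hom g
        · show (lift u v).left ≫ (snd A B).left = _
          rw [← Over.comp_left, lift_snd]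
          rfl
      obtain ⟨w, hw, -⟩ := SecComp.exists_preimage_of_isPullback sq z (IsLocalRing.closedPoint _)
        (by rw [Scheme.fromSpecResidueField_apply])
      exact ⟨w, hw⟩
    obtain ⟨w, hw⟩ := hz
    have hconn : connectedComponent (pt (1 : 𝟙_ _ ⟶ Red.bc g A)) = (Set.univ : Set (Red.bc g A).left) :=
      (SolvBound.neutralSet_eq (k := B.left.residueField y) (H := Red.bc g A)).symm.trans
        (by rw [neutralSet_bc A g, hA, Set.preimage_univ])
    have h2 := φ.continuous.image_connectedComponent_subset (pt (1 : 𝟙_ _ ⟶ Red.bc g A))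
      ⟨w, hconn.symm ▸ Set.mem_univ w, rfl⟩
    have he : φ (pt (1 : 𝟙_ _ ⟶ Red.bc g A)) = unit Γ (IsLocalRing.closedPoint k) := by
      let e : (Over.map g).obj (𝟙_ (Over (Spec (B.left.residueField y)))) ⟶ T :=
        (Over.map g).map (1 : 𝟙_ _ ⟶ Red.bc g A)
      have h1 : e ≫ u = 1 := by
        rw [← Groth.Agent.DSPtsLib.theta_comp, Category.comp_id]
        exact map_one (thetaEquiv A g _)
      have h3 : e ≫ lift u v ≫ f = 1 := by
        rw [← Category.assoc, comp_lift, h1]
        exact f_lift_one a b i f hf _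
      show (lift u v ≫ f).left (e.left _) = _
      rw [← left_comp_apply, h3, one_left, Scheme.Hom.comp_apply]
      exact congrArg (unit Γ) (@Subsingleton.elim (Spec (CommRingCat.of k)) inferInstance _ _)
    rw [he, ← pt_one (H := Γ), ← SolvBound.neutralSet_eq] at h2
    rw [← hw, ← left_comp_apply]
    exact h2
  have huniv : SGA3x.neutralSet Γ = Set.univ :=
    eq_univ_of_clopen Γ i f hmin ⟨_, hNo⟩ hNcl (unit_mem_neutralSet Γ _)
      (fun x hx => SecComp.inv_mem_neutralSet Γ hx) (fun p => SecComp.mul_mem_neutralSet Γ) hmem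
  rw [huniv] at hNc
  haveI : CompactSpace ↥Γ.left := ⟨hNc⟩
  refine ⟨quasiCompact_of_compactSpace Γ.hom, ?_⟩
  refine connectedSpace_iff_connectedComponent.2 ⟨pt (1 : 𝟙_ _ ⟶ Γ), ?_⟩
  rw [← SolvBound.neutralSet_eq, huniv]

end Connected

section Points

variable {K : Type u} [Field K] [IsAlgClosed K] (g : Spec (CommRingCat.of K) ⟶ Spec (CommRingCat.of k))

/-- The point of a point with values in `K`. -/
noncomputable def ptK {X : Over (Spec (CommRingCat.of k))}
    (t : (Over.map g).obj (𝟙_ (Over (Spec (CommRingCat.of K)))) ⟶ X) : X.left :=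
  t.left (IsLocalRing.closedPoint K)

omit [IsAlgClosed K] in
theorem ptK_comp {X Y : Over (Spec (CommRingCat.of k))}
    (t : (Over.map g).obj (𝟙_ (Over (Spec (CommRingCat.of K)))) ⟶ X) (φ : X ⟶ Y) :
    ptK g (t ≫ φ) = φ.left (ptK g t) := left_comp_apply _ _ _

omit [IsAlgClosed K] in
theorem ptK_theta {X : Over (Spec (CommRingCat.of k))}
    (r : 𝟙_ (Over (Spec (CommRingCat.of K))) ⟶ Red.bc g X) :
    ptK g (Groth.Agent.DSPtsLib.theta g r) = pullback.fst X.hom g (pt r) := by
  show (Groth.Agent.DSPtsLib.theta g r).left _ = _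
  rw [Groth.Agent.DSPtsLib.theta_left, Scheme.Hom.comp_apply]
  rfl

/-- A closed set containing all `K`-points is everything. -/
theorem forall_mem_of_points {X : Over (Spec (CommRingCat.of k))} [LocallyOfFiniteType X.hom] {C : Set X.left}
    (hC : IsClosed C) (h : ∀ t, ptK g (X := X) t ∈ C) (x : X.left) : x ∈ C := by
  by_contra hx
  haveI : LocallyOfFiniteType (Red.bc g X).hom :=
    MorphismProperty.pullback_snd (P := @LocallyOfFiniteType) _ _ ‹_›
  haveI : JacobsonSpace ↥(Red.bc g X).left := LocallyOfFiniteType.jacobsonSpace (Red.bc g X).hom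
  obtain ⟨q₀, hq₀, -⟩ := Scheme.Pullback.exists_preimage_pullback (f := X.hom) (g := g) x
    (IsLocalRing.closedPoint K) (Subsingleton.elim _ _)
  obtain ⟨q, hq, hqc⟩ := nonempty_inter_closedPoints (Z := (pullback.fst X.hom g ⁻¹' Cᶜ : Set ↥(Red.bc g X).left))
    ⟨q₀, show pullback.fst X.hom g q₀ ∈ Cᶜ by rw [hq₀]; exact hx⟩
    ((hC.isOpen_compl.preimage (pullback.fst X.hom g).continuous).isLocallyClosed)
  obtain ⟨r, rfl⟩ := exists_pt_eq (H := Red.bc g X) hqc
  exact hq (ptK_theta g r ▸ h _)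

variable {X : Over (Spec (CommRingCat.of k))} [GrpObj X] [LocallyOfFiniteType X.hom]

variable (X) in
/-- The `K`-points of the neutral component. -/
noncomputable def neutralPts : Subgroup ((Over.map g).obj (𝟙_ (Over (Spec (CommRingCat.of K)))) ⟶ X) :=
  haveI : LocallyOfFiniteType (Red.bc g X).hom :=
    MorphismProperty.pullback_snd (P := @LocallyOfFiniteType) _ _ ‹_›
  (neutralSub (H := Red.bc g X)).comap (thetaEquiv X g _).symm.toMonoidHom

theorem mem_neutralPts {t : (Over.map g).obj (𝟙_ (Over (Spec (CommRingCat.of K)))) ⟶ X} :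
    t ∈ neutralPts g X ↔ ptK g t ∈ SGA3x.neutralSet X := by
  have e : t = Groth.Agent.DSPtsLib.theta g ((thetaEquiv X g _).symm t) :=
    ((thetaEquiv X g _).apply_symm_apply t).symm
  show pt ((thetaEquiv X g _).symm t) ∈ SGA3x.neutralSet (Red.bc g X) ↔ _
  rw [neutralSet_bc X g]
  conv_rhs => rw [e, ptK_theta]
  rfl

instance neutralPts_normal : (neutralPts g X).Normal :=
  haveI : LocallyOfFiniteType (Red.bc g X).hom :=
    MorphismProperty.pullback_snd (P := @LocallyOfFiniteType) _ _ ‹_›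
  haveI := neutralSub_normal (H := Red.bc g X)
  Subgroup.Normal.comap inferInstance _

omit [LocallyOfFiniteType X.hom] in
theorem pt_symm (t : (Over.map g).obj (𝟙_ (Over (Spec (CommRingCat.of K)))) ⟶ X) :
    pullback.fst X.hom g (pt ((thetaEquiv X g _).symm t)) = ptK g t := by
  rw [← ptK_theta]
  exact congrArg (ptK g) ((thetaEquiv X g _).apply_symm_apply t)

/-- Only finitely many cosets of the neutral component have points in a quasi-compact set. -/
theorem finite_cosets {M : Set X.left} (hM : IsCompact M) (hMo : IsOpen M) :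
    Set.Finite (QuotientGroup.mk (s := neutralPts g X) ''
      {t : (Over.map g).obj (𝟙_ (Over (Spec (CommRingCat.of K)))) ⟶ X | ptK g t ∈ M}) := by
  haveI : LocallyOfFiniteType (Red.bc g X).hom :=
    MorphismProperty.pullback_snd (P := @LocallyOfFiniteType) _ _ ‹_›
  haveI : JacobsonSpace ↥(Red.bc g X).left := LocallyOfFiniteType.jacobsonSpace (Red.bc g X).hom
  let H := Red.bc g X
  let φ : (𝟙_ (Over (Spec (CommRingCat.of K))) ⟶ H) → (H ⟶ H) := fun r => (toUnit H ≫ r⁻¹) * 𝟙 H
  have hφ : ∀ r x, x ≫ φ r = r⁻¹ * x := fun r x => by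
    simp only [φ, MonObj.comp_mul, Category.comp_id, comp_const]
  let U : (𝟙_ (Over (Spec (CommRingCat.of K))) ⟶ H) → Set H.left := fun r =>
    (φ r).left ⁻¹' SGA3x.neutralSet H
  have hUo : ∀ r, IsOpen (U r) := fun r => (neutral_open_compact H).1.preimage (φ r).left.continuous
  have hself : ∀ r, pt r ∈ U r := fun r => by
    show (φ r).left (pt r) ∈ SGA3x.neutralSet H
    rw [← pt_comp, hφ, _root_.inv_mul_cancel, pt_one]
    exact unit_mem_neutralSet H _
  let M' : Set H.left := pullback.fst X.hom g ⁻¹' M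
  haveI : QuasiCompact (pullback.fst X.hom g) :=
    MorphismProperty.pullback_fst (P := @QuasiCompact) _ _ inferInstance
  have hM' : IsCompact M' := QuasiCompact.isCompact_preimage (f := pullback.fst X.hom g) _ hMo hM
  obtain ⟨F, hF⟩ := hM'.elim_finite_subcover U hUo (fun x _ => by
    obtain ⟨z, hzx, hz⟩ := nonempty_inter_closedPoints (Z := closure ({x} : Set H.left))
      ⟨x, subset_closure rfl⟩ isClosed_closure.isLocallyClosed
    obtain ⟨r, rfl⟩ := exists_pt_eq (H := H) hz
    exact Set.mem_iUnion.2 ⟨r, (specializes_iff_mem_closure.2 hzx).mem_open (hUo r) (hself r)⟩)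
  refine (F.finite_toSet.image fun r => QuotientGroup.mk (thetaEquiv X g _ r)).subset ?_
  rintro _ ⟨t, ht, rfl⟩
  have hmem : pt ((thetaEquiv X g _).symm t) ∈ M' := by
    show pullback.fst X.hom g (pt ((thetaEquiv X g _).symm t)) ∈ M
    rw [pt_symm]; exact ht
  have hFt := hF hmem
  simp only [Set.mem_iUnion] at hFt
  obtain ⟨r, hrF, hr⟩ := hFt
  refine ⟨r, hrF, QuotientGroup.eq.2 ?_⟩
  show (thetaEquiv X g _).symm ((thetaEquiv X g _ r)⁻¹ * t) ∈ neutralSub (H := H)
  rw [map_mul, map_inv, MulEquiv.symm_apply_apply, mem_neutralSub, ← hφ, pt_comp]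
  exact hr

/-- Points through the image of a morphism lift. -/
theorem exists_lift_point {Y : Over (Spec (CommRingCat.of k))} [LocallyOfFiniteType Y.hom] (φ : Y ⟶ X)
    (r : 𝟙_ (Over (Spec (CommRingCat.of K))) ⟶ Red.bc g X)
    (hr : pullback.fst X.hom g (pt r) ∈ Set.range φ.left) :
    ∃ s, s ≫ φ = Groth.Agent.DSPtsLib.theta g r := by
  haveI : LocallyOfFiniteType (Red.bc g X).hom :=
    MorphismProperty.pullback_snd (P := @LocallyOfFiniteType) _ _ ‹LocallyOfFiniteType X.hom›
  haveI : LocallyOfFiniteType (Red.bc g Y).hom :=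
    MorphismProperty.pullback_snd (P := @LocallyOfFiniteType) _ _ ‹LocallyOfFiniteType Y.hom›
  haveI : JacobsonSpace ↥(Red.bc g Y).left := LocallyOfFiniteType.jacobsonSpace (Red.bc g Y).hom
  let m : Red.bc g Y ⟶ Red.bc g X := (Over.pullback g).map φ
  have sq : IsPullback (pullback.fst Y.hom g) m.left φ.left (pullback.fst X.hom g) := by
    refine IsPullback.of_bot ?_ ?_ (IsPullback.of_hasPullback X.hom g)
    · rw [Over.w φ, show m.left ≫ pullback.snd X.hom g = pullback.snd Y.hom g from Over.w m]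
      exact IsPullback.of_hasPullback Y.hom g
    · exact (pullback.lift_fst _ _ _).symm
  obtain ⟨y, hy⟩ := hr
  obtain ⟨q, -, hq⟩ := SecComp.exists_preimage_of_isPullback sq y (pt r) hy
  obtain ⟨q', hq', hqc⟩ := nonempty_inter_closedPoints (Z := m.left ⁻¹' {pt r})
    ⟨q, hq⟩ ((isClosed_pt r).preimage m.left.continuous).isLocallyClosed
  obtain ⟨s, rfl⟩ := exists_pt_eq (H := Red.bc g Y) hqc
  refine ⟨Groth.Agent.DSPtsLib.theta g s, ?_⟩
  have : s ≫ m = r := pt_injective (by rw [pt_comp]; exact hq')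
  rw [← this]
  refine Over.OverMorphism.ext ?_
  rw [Over.comp_left, Groth.Agent.DSPtsLib.theta_left, Groth.Agent.DSPtsLib.theta_left, Over.comp_left,
    Category.assoc, Category.assoc]
  exact congrArg (s.left ≫ ·) (pullback.lift_fst _ _ _).symm

end Points

section Normal

variable {G A B Γ : Over (Spec (CommRingCat.of k))} [GrpObj G] [GrpObj A] [GrpObj B] [GrpObj Γ]
  [LocallyOfFiniteType G.hom] [LocallyOfFiniteType A.hom] [LocallyOfFiniteType B.hom] [LocallyOfFiniteType Γ.hom]
  [QuasiCompact A.hom] [QuasiCompact B.hom]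
  (a : A ⟶ G) [IsMonHom a] (b : B ⟶ G) [IsMonHom b]
  (ha : AlgGrp.IsNormalHom a) (hb : AlgGrp.IsNormalHom b)
  (i : Γ ⟶ G) [IsMonHom i] [IsClosedImmersion i.left] (f : A ⊗ B ⟶ Γ)
  (hf : f ≫ i = (fst A B ≫ a) * (snd A B ≫ b) * (fst A B ≫ a)⁻¹ * (snd A B ≫ b)⁻¹)
  (hmin : ∀ (Γ' : Over (Spec (CommRingCat.of k))) (_ : GrpObj Γ') (i' : Γ' ⟶ G), IsMonHom i' →
      IsClosedImmersion i'.left → (∃ f'' : A ⊗ B ⟶ Γ', f'' ≫ i' = f ≫ i) → ∃ j : Γ ⟶ Γ', j ≫ i' = i)

/-- Composition with a homomorphism on `K`-points. -/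
noncomputable def homPts {X Y T : Over (Spec (CommRingCat.of k))} [GrpObj X] [GrpObj Y] (φ : X ⟶ Y) [IsMonHom φ] :
    (T ⟶ X) →* (T ⟶ Y) :=
  MonoidHom.mk' (fun x => x ≫ φ) fun x y => MonObj.mul_comp x y φ

/-- Products of `m` values of `f`. -/
noncomputable def prods : ℕ → Σ P : Over (Spec (CommRingCat.of k)), P ⟶ Γ
  | 0 => ⟨𝟙_ _, 1⟩
  | m + 1 => ⟨(prods m).1 ⊗ (A ⊗ B), (fst _ _ ≫ (prods m).2) * (snd _ _ ≫ f)⟩

omit [GrpObj G] [GrpObj A] [GrpObj B] [LocallyOfFiniteType G.hom] [LocallyOfFiniteType Γ.hom] in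
theorem prods_property : ∀ m, LocallyOfFiniteType (prods f m).1.hom ∧ QuasiCompact (prods f m).1.hom := by
  intro m
  induction m with
  | zero => exact ⟨inferInstanceAs (LocallyOfFiniteType (𝟙 _)), inferInstanceAs (QuasiCompact (𝟙 _))⟩
  | succ m ih =>
    exact ⟨tensor_property (P := @LocallyOfFiniteType) ih.1 (tensor_property (P := @LocallyOfFiniteType) ‹_› ‹_›),
      tensor_property (P := @QuasiCompact) ih.2 (tensor_property (P := @QuasiCompact) ‹_› ‹_›)⟩

include ha hb hf hmin in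
set_option maxHeartbeats 800000 in
theorem normal_case : QuasiCompact Γ.hom := by
  classical
  let K := AlgebraicClosure k
  let g : Spec (CommRingCat.of K) ⟶ Spec (CommRingCat.of k) := Spec.map (CommRingCat.ofHom (algebraMap k K))
  let T := (Over.map g).obj (𝟙_ (Over (Spec (CommRingCat.of K))))
  let πG : (T ⟶ G) →* (T ⟶ G) ⧸ neutralPts g G := QuotientGroup.mk' _
  let πΓ : (T ⟶ Γ) →* (T ⟶ Γ) ⧸ neutralPts g Γ := QuotientGroup.mk' _
  -- the images of `A` and `B` in the component group are finite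
  have hfin : ∀ {X : Over (Spec (CommRingCat.of k))} [GrpObj X] [LocallyOfFiniteType X.hom] [QuasiCompact X.hom]
      (φ : X ⟶ G) [IsMonHom φ], ((πG.comp (homPts (T := T) φ)).range : Set ((T ⟶ G) ⧸ neutralPts g G)).Finite := by
    intro X _ _ _ φ _
    haveI : CompactSpace ↥X.left := QuasiCompact.compactSpace_of_compactSpace X.hom
    haveI : Finite ((T ⟶ X) ⧸ neutralPts g X) := by
      refine Set.finite_univ_iff.1 ((finite_cosets g (X := X) isCompact_univ isOpen_univ).subset fun q _ => ?_)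
      obtain ⟨t, rfl⟩ := QuotientGroup.mk_surjective q
      exact ⟨t, trivial, rfl⟩
    have hle : neutralPts g X ≤ (neutralPts g G).comap (homPts φ) := fun t ht => by
      rw [Subgroup.mem_comap, mem_neutralPts]
      show ptK g (t ≫ φ) ∈ _
      rw [ptK_comp]
      exact map_mem_neutralSet X φ ((mem_neutralPts g).1 ht)
    refine (Set.finite_range (QuotientGroup.map _ _ (homPts φ) hle)).subset ?_
    rintro _ ⟨t, rfl⟩
    exact ⟨QuotientGroup.mk t, rfl⟩
  have hnormal : ∀ {X : Over (Spec (CommRingCat.of k))} [GrpObj X] (φ : X ⟶ G) [IsMonHom φ],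
      AlgGrp.IsNormalHom φ → (πG.comp (homPts (T := T) φ)).range.Normal := by
    intro X _ φ _ hφ
    refine ⟨?_⟩
    rintro _ ⟨x, rfl⟩ q
    obtain ⟨h, rfl⟩ := QuotientGroup.mk'_surjective (neutralPts g G) q
    obtain ⟨x', hx'⟩ := hφ T h x
    refine ⟨x', ?_⟩
    show πG (x' ≫ φ) = πG h * πG (x ≫ φ) * (πG h)⁻¹
    rw [← map_inv, ← map_mul, ← map_mul, hx']
  let Abar := (πG.comp (homPts (T := T) a)).range
  let Bbar := (πG.comp (homPts (T := T) b)).range
  haveI : Abar.Normal := hnormal a ha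
  haveI : Bbar.Normal := hnormal b hb
  have hAB : ((Abar ⊔ Bbar : Subgroup _) : Set ((T ⟶ G) ⧸ neutralPts g G)).Finite := by
    rw [Subgroup.normal_mul]
    exact (hfin a).mul (hfin b)
  -- the generated subgroup has finite image
  let gens : Set (T ⟶ Γ) := Set.range fun z : T ⟶ A ⊗ B => z ≫ f
  let Kbar := (Subgroup.closure gens).map πΓ
  have hkey : ∀ x ∈ Subgroup.closure gens, πG (x ≫ i) ∈ Abar ⊔ Bbar := by
    intro x hx
    induction hx using Subgroup.closure_induction with
    | mem x hx =>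
      obtain ⟨z, rfl⟩ := hx
      have e : (z ≫ f) ≫ i = ((z ≫ fst A B) ≫ a) * ((z ≫ snd A B) ≫ b) * ((z ≫ fst A B) ≫ a)⁻¹ *
          ((z ≫ snd A B) ≫ b)⁻¹ := by
        simp only [Category.assoc, hf, MonObj.comp_mul, GrpObj.comp_inv]
      rw [e, map_mul, map_mul, map_mul, map_inv, map_inv]
      exact mul_mem (mul_mem (mul_mem (Subgroup.mem_sup_left ⟨_, rfl⟩) (Subgroup.mem_sup_right ⟨_, rfl⟩))
        (inv_mem (Subgroup.mem_sup_left ⟨_, rfl⟩))) (inv_mem (Subgroup.mem_sup_right ⟨_, rfl⟩))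
    | one => rw [MonObj.one_comp, map_one]; exact one_mem _
    | mul x y _ _ hx hy => rw [MonObj.mul_comp, map_mul]; exact mul_mem hx hy
    | inv x _ hx => rw [GrpObj.inv_comp, map_inv]; exact inv_mem hx
  have hKfin : (Kbar : Set ((T ⟶ Γ) ⧸ neutralPts g Γ)).Finite := by
    obtain ⟨hGo, hGc⟩ := neutral_open_compact G
    have hker : Set.Finite (πΓ '' {x | πG (x ≫ i) = 1}) := by
      refine (finite_cosets g (X := Γ) (M := i.left ⁻¹' SGA3x.neutralSet G)
        (i.left.isClosedEmbedding.isCompact_preimage hGc) (hGo.preimage i.left.continuous)).subset ?_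
      refine Set.image_mono fun x hx => ?_
      have := (QuotientGroup.eq_one_iff _).1 hx
      rw [mem_neutralPts, ptK_comp] at this
      exact this
    have hreps : ∀ q ∈ (Abar ⊔ Bbar : Subgroup _), Set.Finite (πΓ '' {x | πG (x ≫ i) = q}) := by
      intro q _
      by_cases hq : ∃ x₀, πG (x₀ ≫ i) = q
      · obtain ⟨x₀, rfl⟩ := hq
        refine (hker.image (πΓ x₀ * ·)).subset ?_
        rintro _ ⟨x, hx, rfl⟩
        refine ⟨πΓ (x₀⁻¹ * x), ⟨x₀⁻¹ * x, ?_, rfl⟩, ?_⟩
        · show πG ((x₀⁻¹ * x) ≫ i) = 1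
          rw [MonObj.mul_comp, GrpObj.inv_comp, map_mul, map_inv, hx, _root_.inv_mul_cancel]
        · show πΓ x₀ * πΓ (x₀⁻¹ * x) = πΓ x
          rw [← map_mul, mul_inv_cancel_left]
      · rw [show {x : T ⟶ Γ | πG (x ≫ i) = q} = ∅ from Set.eq_empty_of_forall_notMem fun x hx => hq ⟨x, hx⟩,
          Set.image_empty]
        exact Set.finite_empty
    refine (Set.Finite.biUnion hAB hreps).subset ?_
    rintro _ ⟨x, hx, rfl⟩
    exact Set.mem_biUnion (hkey x hx) ⟨x, rfl, rfl⟩
  -- every class is a product of a bounded number of values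
  have h11 : (lift (1 : T ⟶ A) (1 : T ⟶ B)) ≫ f = 1 := f_lift_one a b i f hf _
  let V : ℕ → Set ((T ⟶ Γ) ⧸ neutralPts g Γ) := fun m => Set.range fun z : T ⟶ (prods f m).1 => πΓ (z ≫ (prods f m).2)
  have hVs : ∀ m, ∀ v ∈ V m, ∀ z : T ⟶ A ⊗ B, v * πΓ (z ≫ f) ∈ V (m + 1) := by
    rintro m _ ⟨y, rfl⟩ z
    refine ⟨lift y z, ?_⟩
    show πΓ (lift y z ≫ ((fst _ _ ≫ (prods f m).2) * (snd _ _ ≫ f))) = _
    rw [MonObj.comp_mul, lift_fst_assoc, lift_snd_assoc, map_mul]
  have hVmono : ∀ m m', m ≤ m' → V m ⊆ V m' := by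
    intro m m' hm
    induction m', hm using Nat.le_induction with
    | base => exact subset_rfl
    | succ n _ ih =>
      intro v hv
      have := hVs n v (ih hv) (lift 1 1)
      rwa [h11, map_one, _root_.mul_one] at this
  have hVK : ∀ m, V m ⊆ Kbar := by
    intro m
    induction m with
    | zero =>
      rintro _ ⟨z, rfl⟩
      let z' : T ⟶ 𝟙_ (Over (Spec (CommRingCat.of k))) := z
      show πΓ (z' ≫ (1 : 𝟙_ (Over (Spec (CommRingCat.of k))) ⟶ Γ)) ∈ Kbar
      rw [MonObj.comp_one, map_one]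
      exact one_mem _
    | succ m ih =>
      rintro _ ⟨z, rfl⟩
      let z' : T ⟶ (prods f m).1 ⊗ (A ⊗ B) := z
      show πΓ (z' ≫ ((fst _ _ ≫ (prods f m).2) * (snd _ _ ≫ f))) ∈ Kbar
      rw [MonObj.comp_mul, map_mul]
      refine mul_mem (ih ⟨z' ≫ fst _ _, congrArg πΓ (Category.assoc _ _ _)⟩) ?_
      exact ⟨_, Subgroup.subset_closure ⟨z' ≫ snd _ _, Category.assoc _ _ _⟩, rfl⟩
  haveI : Finite Kbar := hKfin.to_subtype
  have hcover : ∀ q ∈ Kbar, ∃ m, q ∈ V m := by
    let Mon : Submonoid ((T ⟶ Γ) ⧸ neutralPts g Γ) := Submonoid.closure (πΓ '' gens)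
    have hMon : ∀ q ∈ Mon, ∃ m, q ∈ V m := by
      intro q hq
      induction hq using Submonoid.closure_induction_right with
      | one => exact ⟨0, toUnit T, by show πΓ (toUnit T ≫ (1 : 𝟙_ _ ⟶ Γ)) = 1; rw [MonObj.comp_one, map_one]⟩
      | mul_right x _ y hy ih =>
        obtain ⟨_, ⟨z, rfl⟩, rfl⟩ := hy
        obtain ⟨m, hm⟩ := ih
        exact ⟨m + 1, hVs m x hm z⟩
    have hMonK : ∀ q ∈ Mon, q ∈ Kbar := fun q hq => by
      obtain ⟨m, hm⟩ := hMon q hq
      exact hVK m hm
    intro q hq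
    refine hMon q ?_
    obtain ⟨x, hx, rfl⟩ := hq
    induction hx using Subgroup.closure_induction with
    | mem x hx => exact Submonoid.subset_closure ⟨x, hx, rfl⟩
    | one => rw [map_one]; exact one_mem _
    | mul x y _ _ hx hy => rw [map_mul]; exact mul_mem hx hy
    | inv x _ hx =>
      rw [map_inv]
      let o : Kbar := ⟨πΓ x, hMonK _ hx⟩
      obtain ⟨n, hn, hn'⟩ := (isOfFinOrder_of_finite o).exists_pow_eq_one
      have : (πΓ x) ^ (n - 1) = (πΓ x)⁻¹ := by
        refine eq_inv_of_mul_eq_one_left ?_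
        rw [← pow_succ, Nat.sub_add_cancel hn]
        exact congrArg Subtype.val hn'
      rw [← this]
      exact pow_mem hx _
  choose! mq hmq using hcover
  obtain ⟨m, hm⟩ : ∃ m, (Kbar : Set _) ⊆ V m :=
    ⟨hKfin.toFinset.sup mq, fun q hq => hVmono _ _ (Finset.le_sup (hKfin.mem_toFinset.2 hq)) (hmq q hq)⟩
  -- the union `W` of the corresponding translates of the neutral component
  obtain ⟨hNo, hNc⟩ := neutral_open_compact Γ
  let N0 : Γ.left.Opens := ⟨_, hNo⟩
  let P0 : Over (Spec (CommRingCat.of k)) := Over.mk (N0.ι ≫ Γ.hom)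
  let incl : P0 ⟶ Γ := Over.homMk N0.ι rfl
  haveI : LocallyOfFiniteType P0.hom := inferInstanceAs (LocallyOfFiniteType (N0.ι ≫ Γ.hom))
  haveI : CompactSpace ↥P0.left := isCompact_iff_compactSpace.mp hNc
  haveI : QuasiCompact P0.hom := quasiCompact_of_compactSpace _
  haveI := (prods_property f m).1
  haveI := (prods_property f m).2
  let Y := P0 ⊗ (prods f m).1
  haveI : LocallyOfFiniteType Y.hom := tensor_property (P := @LocallyOfFiniteType) ‹_› ‹_›
  haveI : QuasiCompact Y.hom := tensor_property (P := @QuasiCompact) ‹_› ‹_›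
  haveI : CompactSpace ↥Y.left := QuasiCompact.compactSpace_of_compactSpace Y.hom
  let Ψ : Y ⟶ Γ := (fst _ _ ≫ incl) * (snd _ _ ≫ (prods f m).2)
  let W : Set Γ.left := Set.range Ψ.left
  have hincl : ∀ n : T ⟶ Γ, n ∈ neutralPts g Γ → ∃ n₀ : T ⟶ P0, n₀ ≫ incl = n := by
    intro n hn
    have hle : Set.range n.left ⊆ Set.range N0.ι := by
      rintro _ ⟨z, rfl⟩
      rw [Scheme.Opens.range_ι, show z = IsLocalRing.closedPoint K from
        @Subsingleton.elim (Spec (CommRingCat.of K)) inferInstance _ _]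
      exact (mem_neutralPts g).1 hn
    refine ⟨Over.homMk (IsOpenImmersion.lift N0.ι n.left hle) ?_,
      Over.OverMorphism.ext (IsOpenImmersion.lift_fac _ _ _)⟩
    show _ ≫ N0.ι ≫ Γ.hom = _
    rw [← Category.assoc, IsOpenImmersion.lift_fac, Over.w]
  have hW : ∀ t : T ⟶ Γ, ptK g t ∈ W ↔ πΓ t ∈ Kbar := by
    intro t
    constructor
    · intro ht
      rw [← pt_symm g t] at ht
      obtain ⟨s, hs⟩ := exists_lift_point g Ψ _ ht
      rw [show Groth.Agent.DSPtsLib.theta g ((thetaEquiv Γ g _).symm t) = t from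
        (thetaEquiv Γ g _).apply_symm_apply t] at hs
      rw [← hs]
      show πΓ (s ≫ ((fst _ _ ≫ incl) * (snd _ _ ≫ (prods f m).2))) ∈ Kbar
      rw [MonObj.comp_mul, map_mul]
      refine mul_mem ?_ (hVK m ⟨s ≫ snd _ _, congrArg πΓ (Category.assoc _ _ _)⟩)
      rw [show πΓ (s ≫ fst _ _ ≫ incl) = 1 from (QuotientGroup.eq_one_iff _).2 ((mem_neutralPts g).2 ?_)]
      · exact one_mem _
      · rw [← Category.assoc, ptK_comp]
        exact (ptK g (s ≫ fst _ _) : N0).2
    · intro ht
      obtain ⟨z, hz⟩ := hm ht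
      have hn : t * (z ≫ (prods f m).2)⁻¹ ∈ neutralPts g Γ := by
        refine (QuotientGroup.eq_one_iff _).1 ?_
        show πΓ (t * (z ≫ (prods f m).2)⁻¹) = 1
        rw [map_mul, map_inv, show πΓ (z ≫ (prods f m).2) = πΓ t from hz, _root_.mul_inv_cancel]
      obtain ⟨n₀, hn₀⟩ := hincl _ hn
      refine ⟨ptK g (lift n₀ z), ?_⟩
      rw [← ptK_comp, show lift n₀ z ≫ Ψ = t by
        rw [MonObj.comp_mul, lift_fst_assoc, lift_snd_assoc, hn₀, inv_mul_cancel_right]]
  -- `W` is clopen
  haveI : LocallyOfFiniteType (Red.bc g Γ).hom :=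
    MorphismProperty.pullback_snd (P := @LocallyOfFiniteType) _ _ ‹_›
  haveI : LocallyOfFiniteType (Red.bc g Y).hom :=
    MorphismProperty.pullback_snd (P := @LocallyOfFiniteType) _ _ ‹_›
  let H := Red.bc g Γ
  choose rep hrep using fun q : Kbar => QuotientGroup.mk'_surjective (neutralPts g Γ) q.1
  let φ : Kbar → (H ⟶ H) := fun q => 𝟙 H * (toUnit H ≫ ((thetaEquiv Γ g _).symm (rep q))⁻¹)
  let U : Kbar → Set H.left := fun q => (φ q).left ⁻¹' SGA3x.neutralSet H
  have hφ : ∀ q x, x ≫ φ q = x * ((thetaEquiv Γ g _).symm (rep q))⁻¹ := fun q x => by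
    simp only [φ, MonObj.comp_mul, Category.comp_id, comp_const]
  have hU : ∀ (q : Kbar) (r : 𝟙_ _ ⟶ H), pt r ∈ U q ↔ πΓ (thetaEquiv Γ g _ r) = q.1 := by
    intro q r
    show (φ q).left (pt r) ∈ SGA3x.neutralSet H ↔ _
    rw [← pt_comp, hφ, ← mem_neutralSub, ← hrep q]
    have e : r * ((thetaEquiv Γ g _).symm (rep q))⁻¹ =
        (thetaEquiv Γ g _).symm (thetaEquiv Γ g _ r * (rep q)⁻¹) := by
      rw [map_mul, map_inv, MulEquiv.symm_apply_apply]
    rw [e]
    show thetaEquiv Γ g _ r * (rep q)⁻¹ ∈ neutralPts g Γ ↔ _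
    rw [← QuotientGroup.eq_one_iff, ← QuotientGroup.mk'_apply, map_mul, map_inv, mul_inv_eq_one]
  have hUopen : IsOpen (⋃ q, U q) :=
    isOpen_iUnion fun q => (neutral_open_compact H).1.preimage (φ q).left.continuous
  have hUclosed : IsClosed (⋃ q, U q) := isClosed_iUnion_of_finite fun q => by
    refine IsClosed.preimage (φ q).left.continuous ?_
    rw [SolvBound.neutralSet_eq]
    exact isClosed_connectedComponent
  have hWbar : pullback.fst Γ.hom g ⁻¹' W = ⋃ q, U q := by
    refine Set.Subset.antisymm (fun x hx => ?_) fun x hx => ?_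
    · let mΨ : Red.bc g Y ⟶ H := (Over.pullback g).map Ψ
      obtain ⟨y, hy⟩ := hx
      have sq : IsPullback (pullback.fst Y.hom g) mΨ.left Ψ.left (pullback.fst Γ.hom g) := by
        refine IsPullback.of_bot ?_ ?_ (IsPullback.of_hasPullback Γ.hom g)
        · rw [Over.w Ψ, show mΨ.left ≫ pullback.snd Γ.hom g = pullback.snd Y.hom g from Over.w mΨ]
          exact IsPullback.of_hasPullback Y.hom g
        · exact (pullback.lift_fst _ _ _).symm
      obtain ⟨z, -, rfl⟩ := SecComp.exists_preimage_of_isPullback sq y x hy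
      by_contra hz
      haveI : JacobsonSpace ↥(Red.bc g Y).left := LocallyOfFiniteType.jacobsonSpace (Red.bc g Y).hom
      obtain ⟨z', hz', hzc⟩ := nonempty_inter_closedPoints (Z := mΨ.left ⁻¹' (⋃ q, U q)ᶜ)
        ⟨z, hz⟩ (hUclosed.isOpen_compl.preimage mΨ.left.continuous).isLocallyClosed
      obtain ⟨r, rfl⟩ := exists_pt_eq (H := Red.bc g Y) hzc
      refine hz' ?_
      rw [← pt_comp]
      have hmem : ptK g (Groth.Agent.DSPtsLib.theta g (r ≫ mΨ)) ∈ W := by
        rw [ptK_theta, pt_comp]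
        refine ⟨pullback.fst Y.hom g (pt r), ?_⟩
        rw [← Scheme.Hom.comp_apply, sq.w, Scheme.Hom.comp_apply]
      exact Set.mem_iUnion.2 ⟨⟨_, (hW _).1 hmem⟩, (hU _ _).2 rfl⟩
    · obtain ⟨q, hq⟩ := Set.mem_iUnion.1 hx
      obtain ⟨z, hz⟩ := hm q.2
      let R := (Over.map g).obj H
      let xu : R ⟶ Γ := Groth.Agent.DSPtsLib.theta g (𝟙 H)
      let c : R ⟶ T := (Over.map g).map (toUnit H)
      let e : R ⟶ Γ := xu * (c ≫ (z ≫ (prods f m).2))⁻¹
      have he : e.left x ∈ SGA3x.neutralSet Γ := by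
        let w := z ≫ (prods f m).2
        let ψ : H ⟶ H := 𝟙 H * (toUnit H ≫ ((thetaEquiv Γ g _).symm w)⁻¹)
        have e1 : e = Groth.Agent.DSPtsLib.theta g ψ := by
          show _ = thetaEquiv Γ g _ ψ
          simp only [ψ, map_mul]
          show xu * (c ≫ w)⁻¹ = Groth.Agent.DSPtsLib.theta g (𝟙 H) *
            Groth.Agent.DSPtsLib.theta g (toUnit H ≫ ((thetaEquiv Γ g _).symm w)⁻¹)
          rw [Groth.Agent.DSPtsLib.theta_comp,
            show Groth.Agent.DSPtsLib.theta g ((thetaEquiv Γ g _).symm w)⁻¹ = w⁻¹ from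
              ((map_inv (thetaEquiv Γ g _) _).trans (by rw [MulEquiv.apply_symm_apply])), GrpObj.comp_inv]
        have hnc : ((thetaEquiv Γ g _).symm (rep q)) * ((thetaEquiv Γ g _).symm w)⁻¹ ∈ neutralSub (H := H) := by
          rw [← map_inv, ← map_mul]
          show rep q * w⁻¹ ∈ neutralPts g Γ
          refine (QuotientGroup.eq_one_iff _).1 ?_
          show πΓ (rep q * w⁻¹) = 1
          rw [map_mul, map_inv, show πΓ w = q.1 from hz, show πΓ (rep q) = q.1 from hrep q, _root_.mul_inv_cancel]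
        let c' := ((thetaEquiv Γ g _).symm (rep q)) * ((thetaEquiv Γ g _).symm w)⁻¹
        let τ : H ⟶ H := 𝟙 H * (toUnit H ≫ c')
        have hψ : ψ = φ q ≫ τ := by
          have hu : φ q ≫ toUnit H = toUnit H := toUnit_unique _ _
          show ψ = φ q ≫ (𝟙 H * (toUnit H ≫ c'))
          rw [MonObj.comp_mul, Category.comp_id, reassoc_of% hu]
          simp only [ψ, φ, c', MonObj.comp_mul, GrpObj.comp_inv, _root_.mul_assoc, inv_mul_cancel_left]
        have h1 : (Groth.Agent.DSPtsLib.theta g ψ).left x = pullback.fst Γ.hom g (ψ.left x) := by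
          rw [Groth.Agent.DSPtsLib.theta_left]; exact Scheme.Hom.comp_apply _ _ _
        rw [e1, h1]
        suffices ψ.left x ∈ SGA3x.neutralSet H by
          rw [neutralSet_bc Γ g] at this; exact this
        rw [hψ, Over.comp_left, Scheme.Hom.comp_apply]
        have h2 : ∀ y ∈ SGA3x.neutralSet H, τ.left y ∈ SGA3x.neutralSet H := by
          intro y hy
          rw [show τ = lift (𝟙 H) (toUnit H ≫ c') ≫ μ[H] from (Hom.mul_def _ _), left_comp_apply]
          refine SecComp.mul_mem_neutralSet H ?_ ?_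
          · rw [← left_comp_apply, lift_fst]; exact hy
          · rw [← left_comp_apply, lift_snd, left_comp_apply]
            rw [show (toUnit H).left y = IsLocalRing.closedPoint K from
              @Subsingleton.elim (Spec (CommRingCat.of K)) inferInstance _ _]
            exact hnc
        exact h2 _ hq
      -- factor `e` near `x` through the neutral component
      let O : R.left.Opens := e.left ⁻¹ᵁ N0
      let RO : Over (Spec (CommRingCat.of k)) := Over.mk (O.ι ≫ R.hom)
      let j : RO ⟶ R := Over.homMk O.ι rfl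
      have hle : Set.range (j ≫ e).left ⊆ Set.range N0.ι := by
        rintro _ ⟨y, rfl⟩
        rw [Scheme.Opens.range_ι, left_comp_apply]
        exact y.2
      let l : RO ⟶ P0 := Over.homMk (IsOpenImmersion.lift N0.ι (j ≫ e).left hle) (by
        show _ ≫ N0.ι ≫ Γ.hom = _
        rw [← Category.assoc, IsOpenImmersion.lift_fac, Over.w])
      have hl : l ≫ incl = j ≫ e := Over.OverMorphism.ext (IsOpenImmersion.lift_fac _ _ _)
      have hfac : lift l (j ≫ c ≫ z) ≫ Ψ = j ≫ xu := by
        rw [MonObj.comp_mul, lift_fst_assoc, lift_snd_assoc, hl]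
        simp only [e, MonObj.comp_mul, GrpObj.comp_inv, Category.assoc, inv_mul_cancel_right]
      refine ⟨(lift l (j ≫ c ≫ z)).left (⟨x, he⟩ : O), ?_⟩
      rw [← left_comp_apply, hfac, left_comp_apply]
      show (Groth.Agent.DSPtsLib.theta g (𝟙 H)).left x = _
      rw [Groth.Agent.DSPtsLib.theta_left, Over.id_left, Category.id_comp]
  haveI : Surjective g := ⟨fun x => ⟨IsLocalRing.closedPoint K, Subsingleton.elim _ _⟩⟩
  haveI : UniversallyOpen g := Groth.Agent.VarGeom.universallyOpen_of_field g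
  let q := pullback.fst Γ.hom g
  have hWo : IsOpen W := by
    rw [← Set.image_preimage_eq W q.surjective, hWbar]
    exact q.isOpenMap _ hUopen
  have hWc : IsClosed W := by
    rw [← isOpen_compl_iff, ← Set.image_preimage_eq Wᶜ q.surjective, Set.preimage_compl, hWbar]
    exact q.isOpenMap _ hUclosed.isOpen_compl
  haveI : LocallyOfFiniteType (A ⊗ B).hom := tensor_property (P := @LocallyOfFiniteType) ‹_› ‹_›
  haveI : LocallyOfFiniteType (Γ ⊗ Γ).hom := tensor_property (P := @LocallyOfFiniteType) ‹_› ‹_›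
  have huniv : W = Set.univ := eq_univ_of_clopen Γ i f hmin ⟨W, hWo⟩ hWc
    (by
      have := (hW 1).2 (by rw [map_one]; exact one_mem _)
      rwa [show ptK g (1 : T ⟶ Γ) = unit Γ (IsLocalRing.closedPoint k) by
        show (1 : T ⟶ Γ).left _ = _
        rw [one_left, Scheme.Hom.comp_apply]
        exact congrArg (unit Γ) (@Subsingleton.elim (Spec (CommRingCat.of k)) inferInstance _ _)] at this)
    (fun x hx => by
      have h : x ∈ (W : Set Γ.left)ᶜ ∪ (GrpObj.inv : Γ ⟶ Γ).left ⁻¹' W := by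
        refine forall_mem_of_points g (hWo.isClosed_compl.union (hWc.preimage (GrpObj.inv : Γ ⟶ Γ).left.continuous))
          (fun t => ?_) x
        by_cases ht : ptK g t ∈ W
        · refine Or.inr ?_
          show (GrpObj.inv : Γ ⟶ Γ).left (ptK g t) ∈ W
          rw [← ptK_comp, GrpObj.inv_eq_inv, GrpObj.comp_inv, Category.comp_id]
          exact (hW _).2 (by rw [map_inv]; exact inv_mem ((hW _).1 ht))
        · exact Or.inl ht
      exact h.resolve_left (fun h' => h' hx))
    (fun p hp1 hp2 => by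
      have h : p ∈ (((fst Γ Γ).left ⁻¹' W ∩ (snd Γ Γ).left ⁻¹' W)ᶜ ∪ μ[Γ].left ⁻¹' W : Set (Γ ⊗ Γ).left) := by
        refine forall_mem_of_points g ((((hWo.preimage (fst Γ Γ).left.continuous).inter
          (hWo.preimage (snd Γ Γ).left.continuous)).isClosed_compl).union (hWc.preimage μ[Γ].left.continuous))
          (fun t => ?_) p
        by_cases ht : ptK g (t ≫ fst Γ Γ) ∈ W ∧ ptK g (t ≫ snd Γ Γ) ∈ W
        · refine Or.inr ?_
          show μ[Γ].left (ptK g t) ∈ W
          rw [← ptK_comp, show t ≫ μ[Γ] = (t ≫ fst Γ Γ) * (t ≫ snd Γ Γ) by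
            rw [Hom.mul_def, ← comp_lift, lift_fst_snd, Category.comp_id]]
          exact (hW _).2 (by rw [map_mul]; exact mul_mem ((hW _).1 ht.1) ((hW _).1 ht.2))
        · refine Or.inl fun h' => ht ⟨?_, ?_⟩
          · rw [ptK_comp]; exact h'.1
          · rw [ptK_comp]; exact h'.2
      exact h.resolve_left (fun h' => h' ⟨hp1, hp2⟩))
    (fun z => forall_mem_of_points g (hWc.preimage f.left.continuous) (fun t => by
      show f.left (ptK g t) ∈ W
      rw [← ptK_comp]
      exact (hW _).2 ⟨_, Subgroup.subset_closure ⟨t, rfl⟩, rfl⟩) z)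
  haveI : CompactSpace ↥Γ.left := ⟨huniv ▸ isCompact_range Ψ.left.continuous⟩
  exact quasiCompact_of_compactSpace Γ.hom

end Normal

end Groth.Agent.GrpFieldLib.CommSub
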