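import Groth.Agent.GrpFieldLib.SCChart
import Groth.Agent.GrpSchLib.Neutral
import Groth.Agent.GrpSchLib.Shear
import Groth.Agent.GrpSchLib.MonoSubgroup
import Groth.Agent.SrcDescent.LocalAtSource

/-! Openness of the neutral component of a group scheme smooth along the unit section. -/

universe u

open CategoryTheory Limits AlgebraicGeometry MonoidalCategory CartesianMonoidalCategory MonObj GrpObj
open scoped CategoryTheory.Obj

namespace Groth.Agent.GrpFieldLib.SecComp

open Groth.Agent.GrpSchLib Groth.Agent.GrpSchLib.Neutral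

variable {S : Scheme.{u}} (G : Over S) [GrpObj G]

theorem exists_open_subset_neutralSet (U : G.left.Opens) (hU : Smooth (U.ι ≫ G.hom))
    (he : ∀ s, unit G s ∈ U) :
    ∃ V : G.left.Opens, V ≤ U ∧ (V : Set G.left) ⊆ SGA3x.neutralSet G ∧ ∀ s, unit G s ∈ V := by
  have hw : unit G ≫ G.hom = 𝟙 S := Over.w η[G]
  let e : S ⟶ (U : Scheme.{u}) := IsOpenImmersion.lift U.ι (unit G) (by
    rintro _ ⟨s, rfl⟩
    rw [Scheme.Opens.range_ι]
    exact he s)
  have hee : e ≫ U.ι = unit G := IsOpenImmersion.lift_fac _ _ _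
  haveI := hU
  choose V hV hC using fun s => exists_generic_nbhd_section (U.ι ≫ G.hom) e
    (by rw [reassoc_of% hee, hw]) s
  have heu : ∀ s, U.ι (e s) = unit G s := fun s => congrArg (fun m : S ⟶ G.left => m s) hee
  refine ⟨U.ι ''ᵁ ⨆ s, V s, ?_, ?_, fun s => ⟨e s, TopologicalSpace.Opens.mem_iSup.2 ⟨s, hV s⟩, heu s⟩⟩
  · rintro _ ⟨v, -, rfl⟩
    exact v.2
  · rintro _ ⟨v, hv, rfl⟩
    obtain ⟨s, hv⟩ := TopologicalSpace.Opens.mem_iSup.1 hv
    obtain ⟨ζ, hζv, hζe, hfib⟩ := hC s v hv
    have h1 := hζv.map U.ι.continuous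
    have h2 := hζe.map U.ι.continuous
    rw [heu] at h2
    rw [mem_neutralSet_iff]
    have hpre : _root_.IsPreconnected ({U.ι ζ, U.ι v, unit G (G.hom (U.ι v))} : Set G.left) := by
      refine isPreconnected_singleton.subset_closure (Set.singleton_subset_iff.2 (Or.inl rfl)) ?_
      rintro x (rfl | rfl | rfl)
      · exact subset_closure rfl
      · exact h1.mem_closure
      · exact h2.mem_closure
    refine hpre.subset_connectedComponentIn (Or.inr (Or.inr rfl)) ?_ (Or.inr (Or.inl rfl))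
    rintro x (rfl | rfl | rfl)
    · exact hfib
    · rfl
    · exact hom_unit G _

/-- A product of two points of the neutral components is in a neutral component. -/
theorem mul_mem_neutralSet {p : (G ⊗ G).left} (h1 : (fst G G).left p ∈ SGA3x.neutralSet G)
    (h2 : (snd G G).left p ∈ SGA3x.neutralSet G) : μ[G].left p ∈ SGA3x.neutralSet G := by
  let s : S := (G ⊗ G).hom p
  let F := Over.pullback (S.fromSpecResidueField s)
  let π := pullback.fst G.hom (S.fromSpecResidueField s)
  have hp1 : G.hom ((fst G G).left p) = s := congrArg (fun m : (G ⊗ G).left ⟶ S => m p) (Over.w (fst G G))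
  have hp2 : G.hom ((snd G G).left p) = s := congrArg (fun m : (G ⊗ G).left ⟶ S => m p) (Over.w (snd G G))
  have hp3 : G.hom (μ[G].left p) = s := congrArg (fun m : (G ⊗ G).left ⟶ S => m p) (Over.w μ[G])
  obtain ⟨pt, hpt⟩ : p ∈ Set.range (pullback.fst (G ⊗ G).hom (S.fromSpecResidueField s)) :=
    (Scheme.Hom.range_fiberι (G ⊗ G).hom s).ge rfl
  let q := (Functor.Monoidal.μIso F G G).inv.left pt
  have hq : (Functor.LaxMonoidal.μ F G G).left q = pt := by
    show ((Functor.Monoidal.μIso F G G).inv.left ≫ (Functor.Monoidal.μIso F G G).hom.left) pt = pt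
    rw [← Over.comp_left, Iso.inv_hom_id]; rfl
  have hq1 : π ((fst (F.obj G) (F.obj G)).left q) = (fst G G).left p := by
    rw [← Functor.Monoidal.μ_fst F, left_comp_apply, map_fst, hq, hpt]
  have hq2 : π ((snd (F.obj G) (F.obj G)).left q) = (snd G G).left p := by
    rw [← Functor.Monoidal.μ_snd F, left_comp_apply, map_fst, hq, hpt]
  have hqm : π (μ[F.obj G].left q) = μ[G].left p := by
    rw [show μ[F.obj G] = Functor.LaxMonoidal.μ F G G ≫ F.map μ[G] from rfl, left_comp_apply, map_fst, hq, hpt]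
  rw [mem_neutralSet_iff, hp1] at h1
  rw [mem_neutralSet_iff, hp2] at h2
  rw [mem_neutralSet_iff, hp3]
  rw [connectedComponentIn_eq] at h1 h2 ⊢
  obtain ⟨c, hc, hce⟩ := exists_isMaxPt
    (η[fib G s].left (IsLocalRing.closedPoint (S.residueField s)))
  rw [connectedComponent_one (G := fib G s) hc hce] at h1 h2 ⊢
  obtain ⟨a, ha, hae⟩ := h1
  obtain ⟨b, hb, hbe⟩ := h2
  have hπ : Function.Injective π := (G.hom.fiberι s).isEmbedding.injective
  refine ⟨μ[F.obj G].left q, mul_mem_closure hc hce ⟨?_, ?_⟩, hqm⟩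
  · show (fst (F.obj G) (F.obj G)).left q ∈ closure {c}
    rw [← hπ (hae.trans hq1.symm)]; exact ha
  · show (snd (F.obj G) (F.obj G)).left q ∈ closure {c}
    rw [← hπ (hbe.trans hq2.symm)]; exact hb

theorem inv_mem_neutralSet {x : G.left} (hx : x ∈ SGA3x.neutralSet G) :
    (GrpObj.inv : G ⟶ G).left x ∈ SGA3x.neutralSet G := by
  have hh : ∀ z, G.hom ((GrpObj.inv : G ⟶ G).left z) = G.hom z := fun z =>
    congrArg (fun m : G.left ⟶ S => m z) (Over.w (GrpObj.inv : G ⟶ G))
  rw [mem_neutralSet_iff] at hx ⊢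
  rw [hh]
  refine (isPreconnected_connectedComponentIn.image _
    (GrpObj.inv : G ⟶ G).left.continuous.continuousOn).subset_connectedComponentIn
      ⟨_, mem_connectedComponentIn (hom_unit G _), ?_⟩ ?_ ⟨x, hx, rfl⟩
  · have : η[G] ≫ (GrpObj.inv : G ⟶ G) = η[G] := by
      rw [GrpObj.inv_eq_inv, GrpObj.comp_inv]; simp [MonObj.one_eq_one, MonObj.comp_one]
    exact congrArg (fun m : 𝟙_ (Over S) ⟶ G => m.left (G.hom x)) this
  · rintro _ ⟨z, hz, rfl⟩
    show G.hom ((GrpObj.inv : G ⟶ G).left z) = G.hom x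
    rw [hh]
    exact connectedComponentIn_subset (G.hom ⁻¹' {G.hom x}) _ hz

theorem smooth_mul {T : Over S} (j : T ⟶ G) [Smooth T.hom] [IsOpenImmersion j.left] :
    Smooth ((j ⊗ₘ j) ≫ μ[G]).left := by
  have : (j ⊗ₘ j) ≫ μ[G] = T ◁ j ≫ (shearIso j).hom ≫ snd T G := by
    rw [shearIso_hom_snd, tensorHom_def', Category.assoc]
  rw [this, Over.comp_left, Over.comp_left]
  haveI : Smooth (snd T G).left := inferInstanceAs (Smooth (pullback.snd T.hom G.hom))
  haveI : IsOpenImmersion (T ◁ j).left := by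
    rw [Over.whiskerLeft_left]
    infer_instance
  infer_instance

theorem quasiCompact_of_neutralSet_eq_univ (h : SGA3x.neutralSet G = Set.univ) : QuasiCompact G.hom := by
  choose V C hsV hV hC hCV hNC using exists_compact G
  refine IsZariskiLocalAtTarget.of_iSup_eq_top (P := @QuasiCompact) V
    (eq_top_iff.mpr fun s _ => TopologicalSpace.Opens.mem_iSup.mpr ⟨s, hsV s⟩) fun s => ?_
  haveI : IsAffine (V s : Scheme.{u}) := hV s
  have hc : IsCompact (G.hom.base ⁻¹' (V s : Set S)) := by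
    rw [show G.hom.base ⁻¹' (V s : Set S) = C s from
      subset_antisymm (fun x hx => hNC s ⟨h.symm ▸ trivial, hx⟩) (hCV s)]
    exact hC s
  exact (HasAffineProperty.iff_of_isAffine (P := @QuasiCompact) (f := G.hom ∣_ V s)).mpr
    (isCompact_iff_compactSpace.mp (show IsCompact ((G.hom ⁻¹ᵁ V s : G.left.Opens) : Set G.left) from hc))

/-- A group scheme smooth along the unit section has an open smooth quasi-compact neutral component. -/
theorem exists_neutralComponent (U : G.left.Opens) (hU : Smooth (U.ι ≫ G.hom)) (he : ∀ s, unit G s ∈ U) :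
    IsOpen (SGA3x.neutralSet G) ∧
    ∃ (G0 : Over S) (_ : GrpObj G0) (i : G0 ⟶ G), IsMonHom i ∧ IsOpenImmersion i.left ∧
      Set.range i.left.base = SGA3x.neutralSet G ∧ Smooth G0.hom ∧ QuasiCompact G0.hom := by
  obtain ⟨V, hVU, hVN, heV⟩ := exists_open_subset_neutralSet G U hU he
  let T : Over S := Over.mk (V.ι ≫ G.hom)
  let j : T ⟶ G := Over.homMk V.ι rfl
  haveI : IsOpenImmersion j.left := inferInstanceAs (IsOpenImmersion V.ι)
  haveI : Smooth T.hom := by
    show Smooth (V.ι ≫ G.hom)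
    rw [← G.left.homOfLE_ι hVU, Category.assoc]
    infer_instance
  let m : T ⊗ T ⟶ G := (j ⊗ₘ j) ≫ μ[G]
  haveI hm : Smooth m.left := smooth_mul G j
  have hjr : Set.range j.left = (V : Set G.left) := Scheme.Opens.range_ι V
  have hrange : Set.range m.left = SGA3x.neutralSet G := by
    have hr : Set.range (j ⊗ₘ j).left =
        (fst G G).left ⁻¹' (V : Set G.left) ∩ (snd G G).left ⁻¹' (V : Set G.left) := by
      rw [Over.tensorHom_left, ← hjr]
      exact Scheme.Pullback.range_map _ _ _ _ _ _ _ _ _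
    refine subset_antisymm ?_ fun x hx => ?_
    · rintro _ ⟨q, rfl⟩
      rw [left_comp_apply]
      have hq : (j ⊗ₘ j).left q ∈ Set.range (j ⊗ₘ j).left := ⟨q, rfl⟩
      rw [hr] at hq
      exact mul_mem_neutralSet G (hVN hq.1) (hVN hq.2)
    · obtain ⟨p, hp1, hp2, hp⟩ := exists_mul G hx V (heV _)
      obtain ⟨q, hq⟩ : p ∈ Set.range (j ⊗ₘ j).left := hr ▸ ⟨hp1, hp2⟩
      exact ⟨q, by rw [left_comp_apply, hq, hp]⟩
  have hopen : IsOpen (SGA3x.neutralSet G) := hrange ▸ m.left.isOpenMap.isOpen_range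
  let N : G.left.Opens := ⟨SGA3x.neutralSet G, hopen⟩
  let P : Over S := Over.mk (N.ι ≫ G.hom)
  let i : P ⟶ G := Over.homMk N.ι rfl
  haveI : IsOpenImmersion i.left := inferInstanceAs (IsOpenImmersion N.ι)
  haveI : Mono i := (Over.forget S).mono_of_mono_map (inferInstanceAs (Mono N.ι))
  have hir : Set.range i.left = SGA3x.neutralSet G := Scheme.Opens.range_ι N
  -- maps with values in the neutral component factor
  have hfac : ∀ {Z : Over S} (g : Z ⟶ G), (∀ z, g.left z ∈ SGA3x.neutralSet G) →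
      ∃ l : Z ⟶ P, l ≫ i = g := by
    intro Z g hg
    have hle : Set.range g.left ⊆ Set.range i.left := by
      rintro _ ⟨z, rfl⟩
      rw [hir]; exact hg z
    refine ⟨Over.homMk (IsOpenImmersion.lift i.left g.left hle) ?_, ?_⟩
    · show _ ≫ i.left ≫ G.hom = Z.hom
      rw [← Category.assoc, IsOpenImmersion.lift_fac, Over.w]
    · exact Over.OverMorphism.ext (IsOpenImmersion.lift_fac _ _ _)
  have hiN : ∀ z, i.left z ∈ SGA3x.neutralSet G := fun z => hir ▸ ⟨z, rfl⟩
  obtain ⟨η', hη'⟩ := hfac η[G] fun s => unit_mem_neutralSet G s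
  obtain ⟨μ', hμ'⟩ := hfac ((fst P P ≫ i) * (snd P P ≫ i)) fun z => by
    rw [Hom.mul_def, left_comp_apply]
    refine mul_mem_neutralSet G ?_ ?_
    · rw [← left_comp_apply, lift_fst, left_comp_apply]; exact hiN _
    · rw [← left_comp_apply, lift_snd, left_comp_apply]; exact hiN _
  obtain ⟨ι', hι'⟩ := hfac i⁻¹ fun z => by
    rw [← Category.comp_id i, ← GrpObj.comp_inv, left_comp_apply, ← GrpObj.inv_eq_inv]
    exact inv_mem_neutralSet G (hiN z)
  obtain ⟨str, hstr⟩ := exists_grpObj_of_mono i η' hη' μ' hμ' ι' hι'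
  letI := str
  haveI := hstr
  refine ⟨hopen, P, str, i, hstr, inferInstance, hir, ?_, ?_⟩
  · let m' : (T ⊗ T).left ⟶ P.left := IsOpenImmersion.lift i.left m.left (hrange.trans hir.symm).le
    have hm' : m' ≫ i.left = m.left := IsOpenImmersion.lift_fac _ _ _
    haveI : Surjective m' := ⟨fun z => by
      obtain ⟨w, hw⟩ : i.left z ∈ Set.range m.left := hrange ▸ hiN z
      refine ⟨w, i.left.isOpenEmbedding.injective ?_⟩
      rw [← Scheme.Hom.comp_apply, hm', hw]⟩
    haveI : Smooth m' := by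
      have : Smooth (m' ≫ i.left) := hm'.symm ▸ hm
      exact MorphismProperty.of_postcomp (W := @Smooth) (W' := @IsOpenImmersion) m' i.left ‹_› this
    refine Groth.Agent.SrcDescent.smooth_of_smooth_comp m' P.hom ?_
    rw [show m' ≫ P.hom = (T ⊗ T).hom by
      show m' ≫ i.left ≫ G.hom = _
      rw [reassoc_of% hm', Over.w]]
    show Smooth (pullback.fst T.hom T.hom ≫ T.hom)
    infer_instance
  · refine quasiCompact_of_neutralSet_eq_univ P (Set.eq_univ_of_forall fun z => ?_)
    obtain ⟨w, hw, hwz⟩ := (openSubgroup G P i).2.ge (hiN z)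
    rwa [← i.left.isOpenEmbedding.injective hwz]

end Groth.Agent.GrpFieldLib.SecComp
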