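import Groth.Agent.GrpSchLib.Neutral
import Groth.Agent.GrpFieldLib.SCCommutator
import Groth.Agent.GrpFieldLib.SCGroup
import Groth.Agent.S1326
import Groth.Agent.S3399
import Groth.Agent.S5323
import Groth.Agent.S12442
import Groth.Agent.EGA41Lib.ConsQS
import Groth.Agent.MorLib.LimPro
import Groth.Agent.UOpenDesc.Main

/-! The union of the neutral components of the fibres is ind-constructible. -/

set_option autoImplicit false
set_option backward.isDefEq.respectTransparency false
set_option linter.style.haveILetI false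

universe u

open CategoryTheory CategoryTheory.Limits AlgebraicGeometry MonoidalCategory CartesianMonoidalCategory MonObj GrpObj Topology
open scoped CategoryTheory.Obj

namespace Groth.Agent.GrpFieldLib.NeutralCons

open Groth.Agent.GrpSchLib.Neutral

variable {S : Scheme.{u}} (G : Over S) [GrpObj G]

theorem exists_maxPt_neutral {x : G.left} (hx : x ∈ SGA3x.neutralSet G) :
    ∃ g : G.left, g ⤳ x ∧ g ⤳ unit G (G.hom x) ∧ G.hom g = G.hom x := by
  let π := pullback.fst G.hom (S.fromSpecResidueField (G.hom x))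
  rw [mem_neutralSet_iff, connectedComponentIn_eq] at hx
  obtain ⟨y, hy, hyx⟩ := hx
  obtain ⟨c, hc, hce⟩ := GrpSchLib.exists_isMaxPt
    (η[fib G (G.hom x)].left (IsLocalRing.closedPoint (S.residueField (G.hom x))))
  rw [GrpSchLib.connectedComponent_one (G := fib G (G.hom x)) hc hce] at hy
  refine ⟨π c, ?_, ?_, ?_⟩
  · have := (specializes_iff_mem_closure.mpr hy).map π.continuous
    rwa [show π y = x from hyx] at this
  · have := hce.map π.continuous
    rwa [show π (η[fib G (G.hom x)].left (IsLocalRing.closedPoint (S.residueField (G.hom x)))) =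
      unit G (G.hom x) from fst_unit G _ _] at this
  · show G.hom (π c) = _
    rw [← Scheme.Hom.comp_apply, pullback.condition, Scheme.Hom.comp_apply]
    exact Scheme.fromSpecResidueField_apply _ _

/-- A point of a neutral component is a product of two points of any neighbourhood of the unit. -/
theorem exists_mul' [LocallyOfFinitePresentation G.hom] {x : G.left} (hx : x ∈ SGA3x.neutralSet G) (W : G.left.Opens)
    (he : unit G (G.hom x) ∈ W) :
    ∃ p : (G ⊗ G).left, (fst G G).left p ∈ W ∧ (snd G G).left p ∈ W ∧ μ[G].left p = x ∧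
      (fst G G).left p ∈ SGA3x.neutralSet G ∧ (snd G G).left p ∈ SGA3x.neutralSet G := by
  have heN : unit G (G.hom x) ∈ SGA3x.neutralSet G := unit_mem_neutralSet G _
  let F := Over.pullback (S.fromSpecResidueField (G.hom x))
  let π := pullback.fst G.hom (S.fromSpecResidueField (G.hom x))
  rw [mem_neutralSet_iff, connectedComponentIn_eq] at hx
  obtain ⟨y, hy, hyx⟩ := hx
  let V : Set (fib G (G.hom x)).left := π ⁻¹' (W : Set G.left) ∩ π ⁻¹' SGA3x.neutralSet G
  have hV : IsOpen V := by
    refine (W.isOpen.preimage π.continuous).inter ?_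
    rw [← neutralSet_bc G (S.fromSpecResidueField (G.hom x))]
    haveI : LocallyOfFiniteType (Red.bc (S.fromSpecResidueField (G.hom x)) G).hom :=
      MorphismProperty.pullback_snd (P := @LocallyOfFiniteType) _ _ inferInstance
    exact (CommSub.neutral_open_compact (Red.bc (S.fromSpecResidueField (G.hom x)) G)).1
  have heV : η[fib G (G.hom x)].left (IsLocalRing.closedPoint (S.residueField (G.hom x))) ∈ V := by
    refine ⟨?_, ?_⟩
    · show π _ ∈ W
      rw [fst_unit]
      exact he
    · show π _ ∈ SGA3x.neutralSet G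
      rw [fst_unit]
      exact heN
  obtain ⟨c, hc, hce⟩ := GrpSchLib.exists_isMaxPt
    (η[fib G (G.hom x)].left (IsLocalRing.closedPoint (S.residueField (G.hom x))))
  rw [GrpSchLib.connectedComponent_one (G := fib G (G.hom x)) hc hce] at hy
  obtain ⟨p, ⟨hp1, hp2⟩, hp⟩ := GrpSchLib.exists_mul_eq_of_specializes
    (specializes_iff_mem_closure.mpr hy) hV heV (hce.mem_open hV heV)
  refine ⟨pullback.fst (G ⊗ G).hom (S.fromSpecResidueField (G.hom x))
    ((Functor.LaxMonoidal.μ F G G).left p), ?_, ?_, ?_, ?_, ?_⟩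
  · rw [← map_fst, ← GrpSchLib.left_comp_apply, Functor.Monoidal.μ_fst]
    exact hp1.1
  · rw [← map_fst, ← GrpSchLib.left_comp_apply, Functor.Monoidal.μ_snd]
    exact hp2.1
  · rw [← map_fst, ← GrpSchLib.left_comp_apply]
    have h : μ[F.obj G] = Functor.LaxMonoidal.μ F G G ≫ F.map μ[G] := rfl
    rw [← h]
    exact (congrArg π hp).trans hyx
  · rw [← map_fst, ← GrpSchLib.left_comp_apply, Functor.Monoidal.μ_fst]
    exact hp1.2
  · rw [← map_fst, ← GrpSchLib.left_comp_apply, Functor.Monoidal.μ_snd]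
    exact hp2.2

/-- Over a small affine open of the base, the neutral components are the image of a constructible set
of an affine scheme. -/
theorem exists_pieces [LocallyOfFinitePresentation G.hom] (s : S) :
    ∃ (V : S.Opens) (Z : Scheme.{u}) (q : Z ⟶ G.left) (E : Set Z), s ∈ V ∧ IsAffineOpen V ∧ IsAffine Z ∧
      LocallyOfFinitePresentation q ∧ Set.range q ⊆ G.hom ⁻¹' (V : Set S) ∧ IsConstructible E ∧
      q '' E = SGA3x.neutralSet G ∩ G.hom ⁻¹' (V : Set S) := by
  obtain ⟨S₁, hS₁, hs₁, -⟩ := exists_isAffineOpen_mem_and_subset (show s ∈ (⊤ : S.Opens) from trivial)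
  obtain ⟨U, hU, heU, hUS⟩ := exists_isAffineOpen_mem_and_subset
    (show unit G s ∈ G.hom ⁻¹ᵁ S₁ by show G.hom (unit G s) ∈ S₁; rwa [hom_unit])
  obtain ⟨V, hV, hsV, hVU⟩ := exists_isAffineOpen_mem_and_subset
    (show s ∈ S₁ ⊓ unit G ⁻¹ᵁ U from ⟨hs₁, heU⟩)
  let W : G.left.Opens := U ⊓ G.hom ⁻¹ᵁ V
  have hWV : W ≤ G.hom ⁻¹ᵁ V := inf_le_right
  haveI : IsAffine (S₁ : Scheme.{u}) := hS₁
  haveI : IsAffine (U : Scheme.{u}) := hU
  haveI : IsAffine (V : Scheme.{u}) := hV
  have hW : IsAffineOpen W := by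
    have hU' : U ≤ G.hom ⁻¹ᵁ S₁ := hUS
    have h1 : (G.hom.resLE S₁ U hU') ⁻¹ᵁ (S₁.ι ⁻¹ᵁ V) = U.ι ⁻¹ᵁ (G.hom ⁻¹ᵁ V) := by
      rw [← Scheme.Hom.comp_preimage, Scheme.Hom.resLE_comp_ι, Scheme.Hom.comp_preimage]
    have h2 : IsAffineOpen (S₁.ι ⁻¹ᵁ V) := hV.preimage_of_isOpenImmersion S₁.ι (by
      rw [Scheme.Opens.opensRange_ι]; exact fun z hz => (hVU hz).1)
    haveI : IsAffineHom (G.hom.resLE S₁ U hU') := isAffineHom_of_isAffine _
    have h3 := h2.preimage (G.hom.resLE S₁ U hU')
    rw [h1] at h3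
    have h4 := h3.image_of_isOpenImmersion U.ι
    rwa [Scheme.Hom.image_preimage_eq_opensRange_inf, Scheme.Opens.opensRange_ι] at h4
  haveI : IsAffine (W : Scheme.{u}) := hW
  let a := G.hom.resLE V W hWV
  haveI : IsAffineHom a := isAffineHom_of_isAffine _
  haveI : LocallyOfFinitePresentation a := inferInstance
  have heW : ∀ t ∈ V, unit G t ∈ W := fun t ht =>
    ⟨(hVU ht).2, by show G.hom (unit G t) ∈ V; rw [hom_unit]; exact ht⟩
  let e : (V : Scheme.{u}) ⟶ (W : Scheme.{u}) :=
    IsOpenImmersion.lift W.ι (V.ι ≫ unit G) (by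
      rintro _ ⟨t, rfl⟩
      rw [Scheme.Opens.range_ι]
      exact heW _ t.2)
  have he : e ≫ W.ι = V.ι ≫ unit G := IsOpenImmersion.lift_fac _ _ _
  have hea : e ≫ a = 𝟙 _ := by
    rw [← cancel_mono V.ι, Category.assoc, Scheme.Hom.resLE_comp_ι, reassoc_of% he,
      show unit G ≫ G.hom = 𝟙 S from Over.w η[G], Category.comp_id, Category.id_comp]
  obtain ⟨C, hCdef⟩ : ∃ C, C = MoreMor.sectionComponents a e := ⟨_, rfl⟩
  have hC : IsConstructible C := hCdef ▸ (S1326.result a e hea).isConstructible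
  have hCN : ∀ w : (W : Scheme.{u}), w ∈ C ↔ W.ι w ∈ SGA3x.neutralSet G := by
    intro w
    have haw : V.ι (a w) = G.hom (W.ι w) := by
      rw [← Scheme.Hom.comp_apply, Scheme.Hom.resLE_comp_ι, Scheme.Hom.comp_apply]
    have hew : W.ι (e (a w)) = unit G (G.hom (W.ι w)) := by
      rw [← Scheme.Hom.comp_apply, he, Scheme.Hom.comp_apply, haw]
    rw [hCdef]
    constructor
    · intro hw
      have hsec : e (a w) ∈ a ⁻¹' {a w} := by
        show a (e (a w)) = a w
        rw [← Scheme.Hom.comp_apply, hea]; rfl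
      rw [mem_neutralSet_iff, ← hew]
      refine (isPreconnected_connectedComponentIn.image _ W.ι.continuous.continuousOn).subset_connectedComponentIn
        (Set.mem_image_of_mem _ (mem_connectedComponentIn hsec)) ?_ ⟨w, hw, rfl⟩
      rintro _ ⟨z, hz, rfl⟩
      have hz1 := connectedComponentIn_subset _ _ hz
      have hz' : a z = a w := hz1
      show G.hom (W.ι z) = G.hom (W.ι w)
      rw [← haw, ← hz', ← Scheme.Hom.comp_apply, ← Scheme.Hom.comp_apply, Scheme.Hom.resLE_comp_ι]
    · intro hw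
      obtain ⟨g, hgx, hge, hgs⟩ := exists_maxPt_neutral G hw
      have hgW : g ∈ W := hgx.mem_open W.2 w.2
      let g' : (W : Scheme.{u}) := ⟨g, hgW⟩
      have h1 : g' ⤳ w := W.ι.isOpenEmbedding.isInducing.specializes_iff.1 hgx
      have h2 : g' ⤳ e (a w) := W.ι.isOpenEmbedding.isInducing.specializes_iff.1 (by
        rw [hew]; exact hge)
      have h3 : a g' = a w := by
        apply V.ι.isOpenEmbedding.injective
        rw [haw, ← hgs, ← Scheme.Hom.comp_apply, Scheme.Hom.resLE_comp_ι, Scheme.Hom.comp_apply]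
        rfl
      have hsec : a (e (a w)) = a w := by rw [← Scheme.Hom.comp_apply, hea]; rfl
      have hp : _root_.IsPreconnected ({g', w, e (a w)} : Set (W : Scheme.{u})) := by
        refine isPreconnected_singleton.subset_closure (s := {g'}) (by simp) ?_
        rintro z (rfl | rfl | rfl)
        · exact subset_closure rfl
        · exact h1.mem_closure
        · exact h2.mem_closure
      refine hp.subset_connectedComponentIn (by simp) ?_ (by simp)
      rintro z (rfl | rfl | rfl)
      · exact h3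
      · exact rfl
      · exact hsec
  let m : pullback a a ⟶ (G ⊗ G).left :=
    pullback.map a a G.hom G.hom W.ι W.ι V.ι (Scheme.Hom.resLE_comp_ι _ _)
      (Scheme.Hom.resLE_comp_ι _ _)
  let q := m ≫ μ[G].left
  have hq : q ≫ G.hom = (pullback.fst a a ≫ a) ≫ V.ι := by
    rw [Category.assoc, Over.w μ[G], show (G ⊗ G).hom = pullback.fst G.hom G.hom ≫ G.hom from rfl,
      Category.assoc, Scheme.Hom.resLE_comp_ι]
    exact pullback.lift_fst_assoc _ _ _ _
  refine ⟨V, pullback a a, q, pullback.fst a a ⁻¹' C ∩ pullback.snd a a ⁻¹' C, hsV, hV, inferInstance, ?_, ?_,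
    ((pullback.fst a a).isConstructible_preimage hC).inter ((pullback.snd a a).isConstructible_preimage hC), ?_⟩
  · haveI : LocallyOfFinitePresentation (q ≫ G.hom) := by rw [hq]; infer_instance
    exact S12442.locallyOfFinitePresentation_of_comp q G.hom
  · rintro _ ⟨z, rfl⟩
    show G.hom (q z) ∈ V
    rw [← Scheme.Hom.comp_apply, hq, Scheme.Hom.comp_apply]
    exact ((pullback.fst a a ≫ a) z).2
  · have hf : ∀ z, (fst G G).left (m z) = W.ι (pullback.fst a a z) := fun z => by
      rw [← Scheme.Hom.comp_apply, ← Scheme.Hom.comp_apply]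
      exact congrArg (fun f : pullback a a ⟶ G.left => f z) (pullback.lift_fst _ _ _)
    have hg : ∀ z, (snd G G).left (m z) = W.ι (pullback.snd a a z) := fun z => by
      rw [← Scheme.Hom.comp_apply, ← Scheme.Hom.comp_apply]
      exact congrArg (fun f : pullback a a ⟶ G.left => f z) (pullback.lift_snd _ _ _)
    have hqm : ∀ z, q z = μ[G].left (m z) := fun z => Scheme.Hom.comp_apply _ _ _
    have hr : Set.range m = (fst G G).left ⁻¹' Set.range W.ι ∩ (snd G G).left ⁻¹' Set.range W.ι :=
      Scheme.Pullback.range_map _ _ _ _ _ _ _ _ _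
    clear_value q m
    ext x
    constructor
    · rintro ⟨z, ⟨hz1, hz2⟩, rfl⟩
      refine ⟨?_, ?_⟩
      · rw [hqm]
        exact SecComp.mul_mem_neutralSet G (hf z ▸ (hCN _).1 hz1) (hg z ▸ (hCN _).1 hz2)
      · show G.hom (q z) ∈ V
        rw [← Scheme.Hom.comp_apply, hq, Scheme.Hom.comp_apply]
        exact ((pullback.fst a a ≫ a) z).2
    · rintro ⟨hxN, hxV⟩
      obtain ⟨p, hp1, hp2, hp, hpf, hps⟩ : ∃ p : (G ⊗ G).left, (fst G G).left p ∈ W ∧ (snd G G).left p ∈ W ∧
          μ[G].left p = x ∧ (fst G G).left p ∈ SGA3x.neutralSet G ∧ (snd G G).left p ∈ SGA3x.neutralSet G :=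
        exists_mul' G hxN W (heW _ hxV)
      obtain ⟨z, hz⟩ : p ∈ Set.range m := by
        rw [hr, Scheme.Opens.range_ι]; exact ⟨hp1, hp2⟩
      subst hz
      refine ⟨z, ⟨(hCN _).2 ?_, (hCN _).2 ?_⟩, (hqm z).trans hp⟩
      · rw [← hf]; exact hpf
      · rw [← hg]; exact hps

theorem isIndConstructible_neutralSet [LocallyOfFinitePresentation G.hom] :
    ProCons.IsIndConstructible (SGA3x.neutralSet G) := by
  choose V Z q E hs hV hZ hq hr hE hqE using exists_pieces G
  rw [EGA41Lib.ind_iff]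
  intro U hU
  have h : ∀ s, ProCons.IsIndConstructible (SGA3x.neutralSet G ∩ G.hom ⁻¹' (V s : Set S)) := fun s => by
    rw [← hqE s]
    haveI := hq s
    exact S3399.result (q s) _ (UOpenDesc.ind_of_cons (hE s))
  have e : (Subtype.val ⁻¹' SGA3x.neutralSet G : Set (U : Set G.left)) =
      ⋃ s : S, Subtype.val ⁻¹' (SGA3x.neutralSet G ∩ G.hom ⁻¹' (V s : Set S)) := by
    ext x
    simp only [Set.mem_preimage, Set.mem_iUnion, Set.mem_inter_iff]
    exact ⟨fun hx => ⟨_, hx, hs _⟩, fun ⟨_, hx, _⟩ => hx⟩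
  rw [e]
  exact SpecLib.CO.iUnion fun s => EGA41Lib.ind_iff.1 (h s) U hU

theorem isLocallyConstructible_neutralSet [LocallyOfFinitePresentation G.hom] [QuasiSeparated G.hom] :
    IsLocallyConstructible (SGA3x.neutralSet G) := by
  choose V Z q E hs hV hZ hq hr hE hqE using exists_pieces G
  refine IsLocallyConstructible.of_isOpenCover (U := fun s => G.hom ⁻¹ᵁ V s) ?_ fun s => ?_
  · exact TopologicalSpace.IsOpenCover.mk (by
      rw [eq_top_iff]
      exact fun x _ => TopologicalSpace.Opens.mem_iSup.2 ⟨G.hom x, hs _⟩)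
  haveI := hq s
  haveI := hZ s
  haveI : IsAffine (V s : Scheme.{u}) := hV s
  let X₀ : Scheme.{u} := (G.hom ⁻¹ᵁ V s : G.left.Opens)
  let q' : Z s ⟶ X₀ := IsOpenImmersion.lift (G.hom ⁻¹ᵁ V s).ι (q s) (by rw [Scheme.Opens.range_ι]; exact hr s)
  have hq' : q' ≫ (G.hom ⁻¹ᵁ V s).ι = q s := IsOpenImmersion.lift_fac _ _ _
  haveI : LocallyOfFinitePresentation q' := by
    haveI : LocallyOfFinitePresentation (q' ≫ (G.hom ⁻¹ᵁ V s).ι) := by rw [hq']; infer_instance
    exact S12442.locallyOfFinitePresentation_of_comp q' (G.hom ⁻¹ᵁ V s).ι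
  haveI : QuasiCompact q' := QuasiCompact.of_comp q' (G.hom ∣_ V s)
  have h := q'.isLocallyConstructible_image (hE s).isLocallyConstructible
  have e : q' '' E s = (G.hom ⁻¹ᵁ V s).ι ⁻¹' SGA3x.neutralSet G := by
    apply (G.hom ⁻¹ᵁ V s).ι.isOpenEmbedding.injective.image_injective
    rw [Set.image_image, Set.image_preimage_eq_inter_range, Scheme.Opens.range_ι,
      show (fun b => (G.hom ⁻¹ᵁ V s).ι (q' b)) = ⇑(q s) from funext fun b => by
        rw [← Scheme.Hom.comp_apply, hq']]
    exact hqE s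
  rw [e] at h
  exact h

theorem isConstructible_neutralSet [LocallyOfFinitePresentation G.hom] [QuasiSeparated G.hom] [CompactSpace S]
    [QuasiSeparatedSpace S] : IsConstructible (SGA3x.neutralSet G) := by
  haveI : QuasiSeparatedSpace G.left := quasiSeparatedSpace_of_quasiSeparated G.hom
  obtain ⟨U, hU, hNU⟩ := S5323.result S G fun s => MorphismProperty.pullback_snd _ _ inferInstance
  exact (isLocallyConstructible_neutralSet G).isConstructible_of_subset_of_isCompact hNU hU

end Groth.Agent.GrpFieldLib.NeutralCons
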