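import Groth.Agent.GrpFieldLib.RangeNhdFlat
import Groth.Agent.GrpFieldLib.NeutralCons
import Groth.Agent.GrpLimLib.QuotDesc
import Groth.Agent.FlatMisc.Fibrewise

/-! Images of neutral components under homomorphisms. -/

set_option autoImplicit false
set_option backward.isDefEq.respectTransparency false
set_option linter.style.haveILetI false

universe u

open CategoryTheory CategoryTheory.Limits MonoidalCategory CartesianMonoidalCategory AlgebraicGeometry MonObj Topology
open scoped CategoryTheory.Obj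

namespace Groth.Agent.GrpFieldLib.NeutralImage

open Groth.Agent.GrpSchLib.Neutral

/-- The comparison square of a morphism with its base change. -/
theorem isPullback_map {A B : Scheme.{u}} {X Y : Over A} (h : X ⟶ Y) (σ : B ⟶ A) :
    IsPullback (pullback.fst X.hom σ) ((Over.pullback σ).map h).left h.left (pullback.fst Y.hom σ) := by
  refine IsPullback.of_bot ?_ (GrpLimLib.map_left_fst h).symm (IsPullback.of_hasPullback Y.hom σ)
  rw [show ((Over.pullback σ).map h).left ≫ pullback.snd Y.hom σ = pullback.snd X.hom σ from pullback.lift_snd _ _ _,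
    Over.w h]
  exact IsPullback.of_hasPullback X.hom σ

/-- Over a field a flat homomorphism maps the neutral component onto the neutral component. -/
theorem image_field {k : Type u} [Field k] {G H : Over (Spec (.of k))} [GrpObj G] [GrpObj H]
    [LocallyOfFinitePresentation G.hom] [LocallyOfFinitePresentation H.hom] (u : G ⟶ H) [IsMonHom u]
    [Flat u.left] : SGA3x.neutralSet H ⊆ u.left '' SGA3x.neutralSet G := by
  haveI : LocallyOfFinitePresentation (u.left ≫ H.hom) := by rw [Over.w]; infer_instance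
  haveI : LocallyOfFinitePresentation u.left := S12442.locallyOfFinitePresentation_of_comp u.left H.hom
  obtain ⟨hN, -⟩ := CommSub.neutral_open_compact G
  let W : H.left.Opens := ⟨u.left '' SGA3x.neutralSet G, u.left.isOpenMap _ hN⟩
  let N : G.left.Opens := ⟨_, hN⟩
  intro x hx
  have he : unit H (H.hom x) ∈ W := ⟨unit G (H.hom x), unit_mem_neutralSet G _, by
    rw [← Scheme.Hom.comp_apply, ← Over.comp_left, IsMonHom.one_hom u]⟩
  obtain ⟨p, ⟨a, ha, hap⟩, ⟨b, hb, hbp⟩, hpx, -, -⟩ := NeutralCons.exists_mul' H hx W he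
  have hu : (N.ι ≫ u.left) ≫ H.hom = (N.ι ≫ G.hom) ≫ 𝟙 _ := by rw [Category.assoc, Over.w u, Category.comp_id]
  let m : pullback (N.ι ≫ G.hom) (N.ι ≫ G.hom) ⟶ (H ⊗ H).left :=
    pullback.map _ _ H.hom H.hom (N.ι ≫ u.left) (N.ι ≫ u.left) (𝟙 _) hu.symm hu.symm
  have hr : Set.range m = (fst H H).left ⁻¹' Set.range (N.ι ≫ u.left) ∩ (snd H H).left ⁻¹' Set.range (N.ι ≫ u.left) :=
    Scheme.Pullback.range_map _ _ _ _ _ _ _ _ _
  obtain ⟨z, rfl⟩ : p ∈ Set.range m := by
    rw [hr]
    exact ⟨⟨⟨a, ha⟩, hap⟩, ⟨⟨b, hb⟩, hbp⟩⟩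
  let m₀ : pullback (N.ι ≫ G.hom) (N.ι ≫ G.hom) ⟶ (G ⊗ G).left :=
    pullback.map _ _ G.hom G.hom N.ι N.ι (𝟙 _) (Category.comp_id _) (Category.comp_id _)
  have hm : m₀ ≫ (u ⊗ₘ u).left = m := by
    have e1 : (u ⊗ₘ u).left ≫ (fst H H).left = (fst G G).left ≫ u.left := congrArg CommaMorphism.left (tensorHom_fst u u)
    have e2 : (u ⊗ₘ u).left ≫ (snd H H).left = (snd G G).left ≫ u.left := congrArg CommaMorphism.left (tensorHom_snd u u)
    apply pullback.hom_ext
    · refine (Category.assoc _ _ _).trans ((congrArg (m₀ ≫ ·) e1).trans ?_)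
      refine (Category.assoc _ _ _).symm.trans ((congrArg (· ≫ u.left) (pullback.lift_fst _ _ _)).trans ?_)
      exact (Category.assoc _ _ _).trans (pullback.lift_fst _ _ _).symm
    · refine (Category.assoc _ _ _).trans ((congrArg (m₀ ≫ ·) e2).trans ?_)
      refine (Category.assoc _ _ _).symm.trans ((congrArg (· ≫ u.left) (pullback.lift_snd _ _ _)).trans ?_)
      exact (Category.assoc _ _ _).trans (pullback.lift_snd _ _ _).symm
  have hf : (fst G G).left (m₀ z) = N.ι (pullback.fst (N.ι ≫ G.hom) (N.ι ≫ G.hom) z) := by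
    rw [← Scheme.Hom.comp_apply, ← Scheme.Hom.comp_apply]
    exact congrArg (fun f : pullback (N.ι ≫ G.hom) (N.ι ≫ G.hom) ⟶ G.left => f z) (pullback.lift_fst _ _ _)
  have hs : (snd G G).left (m₀ z) = N.ι (pullback.snd (N.ι ≫ G.hom) (N.ι ≫ G.hom) z) := by
    rw [← Scheme.Hom.comp_apply, ← Scheme.Hom.comp_apply]
    exact congrArg (fun f : pullback (N.ι ≫ G.hom) (N.ι ≫ G.hom) ⟶ G.left => f z) (pullback.lift_snd _ _ _)
  refine ⟨μ[G].left (m₀ z), SecComp.mul_mem_neutralSet G (hf ▸ (pullback.fst (N.ι ≫ G.hom) (N.ι ≫ G.hom) z).2)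
    (hs ▸ (pullback.snd (N.ι ≫ G.hom) (N.ι ≫ G.hom) z).2), ?_⟩
  rw [← hpx, ← hm, ← Scheme.Hom.comp_apply, ← Scheme.Hom.comp_apply, ← Over.comp_left, IsMonHom.mul_hom u,
    Over.comp_left]
  simp only [Scheme.Hom.comp_apply]

variable {S : Scheme.{u}} {G H : Over S} [GrpObj G] [GrpObj H]
  [LocallyOfFinitePresentation G.hom] [LocallyOfFinitePresentation H.hom] (u : G ⟶ H) [IsMonHom u]

theorem mem_fibre {X : Over S} [GrpObj X] (s : S) (z : (fib X s).left) :
    z ∈ SGA3x.neutralSet (fib X s) ↔ pullback.fst X.hom (S.fromSpecResidueField s) z ∈ SGA3x.neutralSet X :=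
  Set.ext_iff.1 (neutralSet_bc X (S.fromSpecResidueField s)) z

theorem exists_fibre {X : Over S} (x : X.left) :
    ∃ z : (fib X (X.hom x)).left, pullback.fst X.hom (S.fromSpecResidueField (X.hom x)) z = x := by
  have h : x ∈ Set.range (pullback.fst X.hom (S.fromSpecResidueField (X.hom x))) :=
    (Scheme.Hom.range_fiberι X.hom (X.hom x)).ge rfl
  exact h

theorem map_mem {x : G.left} (hx : x ∈ SGA3x.neutralSet G) : u.left x ∈ SGA3x.neutralSet H := by
  obtain ⟨z, hz⟩ := exists_fibre x
  haveI : LocallyOfFiniteType (fib G (G.hom x)).hom := MorphismProperty.pullback_snd (P := @LocallyOfFiniteType) _ _ inferInstance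
  have h1 := CommSub.map_mem_neutralSet (fib G (G.hom x)) ((Over.pullback (S.fromSpecResidueField (G.hom x))).map u)
    ((mem_fibre _ z).2 (by rwa [hz]))
  have h2 := (mem_fibre _ _).1 h1
  rwa [map_fst, hz] at h2

theorem image_eq [Flat u.left] : u.left '' SGA3x.neutralSet G = SGA3x.neutralSet H := by
  refine subset_antisymm (by rintro _ ⟨x, hx, rfl⟩; exact map_mem u hx) fun x hx => ?_
  obtain ⟨z, hz⟩ := exists_fibre x
  let σ := S.fromSpecResidueField (H.hom x)
  haveI : LocallyOfFinitePresentation (fib G (H.hom x)).hom := MorphismProperty.pullback_snd (P := @LocallyOfFinitePresentation) _ _ inferInstance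
  haveI : LocallyOfFinitePresentation (fib H (H.hom x)).hom := MorphismProperty.pullback_snd (P := @LocallyOfFinitePresentation) _ _ inferInstance
  haveI : Flat ((Over.pullback σ).map u).left := GrpLimLib.property_map_left @Flat u σ inferInstance
  obtain ⟨y, hy, hyz⟩ := image_field ((Over.pullback σ).map u) ((mem_fibre _ z).2 (by rwa [hz]))
  refine ⟨pullback.fst G.hom σ y, (mem_fibre _ y).1 hy, ?_⟩
  exact (map_fst u _ y).symm.trans ((congrArg _ hyz).trans hz)

theorem flat_of_image_eq [Flat G.hom] (hred : ∀ s : S, IsReduced (H.hom.fiber s))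
    (himg : u.left '' SGA3x.neutralSet G = SGA3x.neutralSet H) : Flat u.left := by
  haveI : Flat (u.left ≫ H.hom) := by rw [Over.w]; infer_instance
  haveI : LocallyOfFinitePresentation (u.left ≫ H.hom) := by rw [Over.w]; infer_instance
  refine _root_.FlatMisc.flat_of_flat_fibres H.hom u.left fun s => ?_
  let σ := S.fromSpecResidueField s
  haveI : IsReduced (fib H s).left := hred s
  haveI : LocallyOfFiniteType (fib H s).hom := MorphismProperty.pullback_snd (P := @LocallyOfFiniteType) _ _ inferInstance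
  haveI hf : Flat ((Over.pullback σ).map u).left := by
    refine flat_of_range_nhd _ ⟨_, (CommSub.neutral_open_compact (fib H s)).1⟩ (fun z hz => ?_)
      (fun _ => unit_mem_neutralSet _ _)
    obtain ⟨x, -, hx⟩ := himg.ge ((mem_fibre s z).1 hz)
    obtain ⟨y, hy, -⟩ := Scheme.exists_preimage_of_isPullback (isPullback_map u σ).flip z x hx.symm
    exact ⟨y, hy⟩
  have h := isPullback_map u σ
  show Flat (pullback.snd u.left (pullback.fst H.hom σ))
  rw [← h.isoPullback_inv_snd]
  infer_instance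

end Groth.Agent.GrpFieldLib.NeutralImage
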