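import Groth.Agent.GrpFieldLib.SVFamily
import Groth.Agent.GrpSchLib.Descent
import Groth.Agent.GrpSchLib.RankOneBig
import Groth.Agent.Chevalley.CommAff.Isogeny

/-! Solvability and nilpotency through homomorphisms and isogenies. -/

set_option autoImplicit false
set_option backward.isDefEq.respectTransparency false
set_option linter.style.haveILetI false

universe u

open CategoryTheory CategoryTheory.Limits AlgebraicGeometry MonoidalCategory CartesianMonoidalCategory
open scoped MonObj

namespace Groth.Agent.GrpFieldLib.SolvBound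

variable {S : Scheme.{u}}

theorem isNilpotentGrp_iff (G : Over S) [GrpObj G] : AGF.IsNilpotentGrp G ↔ ∃ n, (wordN G n).2 = 1 := by
  refine exists_congr fun n => ⟨fun h => ?_, fun h X => ?_⟩
  · have := (lowerCentralSeries_eq_bot_iff n _).1
      (Subgroup.lowerCentralSeries_eq_bot_iff_upperCentralSeries_eq_top.2 (h _)) (𝟙 (wordN G n).1)
    rwa [Category.id_comp] at this
  · rw [← Subgroup.lowerCentralSeries_eq_bot_iff_upperCentralSeries_eq_top, lowerCentralSeries_eq_bot_iff]
    intro f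
    rw [h, MonObj.comp_one]

theorem isSolvableGrp_iff (G : Over S) [GrpObj G] : Red.IsSolvableGrp G ↔ ∃ n, (wordD G n).2 = 1 := by
  refine exists_congr fun n => ⟨fun h => ?_, fun h X => ?_⟩
  · have := (derivedSeries_eq_bot_iff n _).1 (h _) (𝟙 (wordD G n).1)
    rwa [Category.id_comp] at this
  · rw [derivedSeries_eq_bot_iff]
    intro f
    rw [h, MonObj.comp_one]

theorem isCommMonObj_iff_points (G : Over S) [GrpObj G] :
    IsCommMonObj G ↔ (wordN G 1).2 = 1 := by
  have e : μ[G] = fst G G * snd G G := by rw [Hom.mul_def, lift_fst_snd, Category.id_comp]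
  have hw : (wordN G 1).2 = fst G G * snd G G * (fst G G)⁻¹ * (snd G G)⁻¹ := by
    simp only [wordN, Category.comp_id]
  have hc : (β_ G G).hom ≫ μ[G] = snd G G * fst G G := by
    rw [e, MonObj.comp_mul, braiding_hom_fst, braiding_hom_snd]
  constructor
  · intro h
    have h1 : snd G G * fst G G = fst G G * snd G G := by rw [← hc, IsCommMonObj.mul_comm G, e]
    rw [hw, ← h1, mul_inv_cancel_right, mul_inv_cancel]
  · intro h
    refine ⟨?_⟩
    rw [hc, e]
    rw [hw] at h
    exact (mul_inv_eq_iff_eq_mul.1 (mul_inv_eq_one.1 h)).symm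

/-- Words are natural; a cover induces covers of the word domains. -/
theorem exists_wordN_map {G H : Over S} [GrpObj G] [GrpObj H] (h : G ⟶ H) [IsMonHom h] (n : ℕ) :
    ∃ φ : (wordN G n).1 ⟶ (wordN H n).1, (GrpSchLib.IsCover h → GrpSchLib.IsCover φ) ∧
      φ ≫ (wordN H n).2 = (wordN G n).2 ≫ h := by
  induction n with
  | zero => exact ⟨h, id, (Category.comp_id h).trans (Category.id_comp h).symm⟩
  | succ n ih =>
    obtain ⟨φ, hφ, e⟩ := ih
    refine ⟨φ ⊗ₘ h, fun hc => ⟨GrpSchLib.RankOne.property_tensorHom φ h @Flat (hφ hc).1 hc.1,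
      GrpSchLib.RankOne.property_tensorHom φ h @Surjective (hφ hc).2.1 hc.2.1,
      GrpSchLib.RankOne.property_tensorHom φ h @QuasiCompact (hφ hc).2.2 hc.2.2⟩, ?_⟩
    simp only [wordN, MonObj.comp_mul, GrpObj.comp_inv, MonObj.mul_comp, GrpObj.inv_comp, tensorHom_fst_assoc,
      tensorHom_snd, Category.assoc, e]

theorem exists_wordD_map {G H : Over S} [GrpObj G] [GrpObj H] (h : G ⟶ H) [IsMonHom h] (n : ℕ) :
    ∃ φ : (wordD G n).1 ⟶ (wordD H n).1, (GrpSchLib.IsCover h → GrpSchLib.IsCover φ) ∧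
      φ ≫ (wordD H n).2 = (wordD G n).2 ≫ h := by
  induction n with
  | zero => exact ⟨h, id, (Category.comp_id h).trans (Category.id_comp h).symm⟩
  | succ n ih =>
    obtain ⟨φ, hφ, e⟩ := ih
    refine ⟨φ ⊗ₘ φ, fun hc => ⟨GrpSchLib.RankOne.property_tensorHom φ φ @Flat (hφ hc).1 (hφ hc).1,
      GrpSchLib.RankOne.property_tensorHom φ φ @Surjective (hφ hc).2.1 (hφ hc).2.1,
      GrpSchLib.RankOne.property_tensorHom φ φ @QuasiCompact (hφ hc).2.2 (hφ hc).2.2⟩, ?_⟩
    simp only [wordD, MonObj.comp_mul, GrpObj.comp_inv, MonObj.mul_comp, GrpObj.inv_comp, tensorHom_fst_assoc,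
      tensorHom_snd_assoc, Category.assoc, e]

theorem isNilpotentGrp_of_cover {G H : Over S} [GrpObj G] [GrpObj H] (h : G ⟶ H) [IsMonHom h]
    (hc : GrpSchLib.IsCover h) (hG : AGF.IsNilpotentGrp G) : AGF.IsNilpotentGrp H := by
  rw [isNilpotentGrp_iff] at hG ⊢
  obtain ⟨n, hn⟩ := hG
  obtain ⟨φ, hφ, e⟩ := exists_wordN_map h n
  haveI := (hφ hc).epi
  exact ⟨n, by rw [← cancel_epi φ, e, hn, MonObj.one_comp, MonObj.comp_one]⟩

theorem isSolvableGrp_of_cover {G H : Over S} [GrpObj G] [GrpObj H] (h : G ⟶ H) [IsMonHom h]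
    (hc : GrpSchLib.IsCover h) (hG : Red.IsSolvableGrp G) : Red.IsSolvableGrp H := by
  rw [isSolvableGrp_iff] at hG ⊢
  obtain ⟨n, hn⟩ := hG
  obtain ⟨φ, hφ, e⟩ := exists_wordD_map h n
  haveI := (hφ hc).epi
  exact ⟨n, by rw [← cancel_epi φ, e, hn, MonObj.one_comp, MonObj.comp_one]⟩

theorem geometricallyConnected_tensor {A B : Over S} [GeometricallyConnected A.hom] [GeometricallyConnected B.hom]
    [UniversallyOpen A.hom] [UniversallyOpen B.hom] : GeometricallyConnected (A ⊗ B).hom := by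
  show GeometricallyConnected (pullback.fst A.hom B.hom ≫ A.hom)
  haveI : UniversallyOpen (pullback.fst A.hom B.hom) := MorphismProperty.pullback_fst _ _ inferInstance
  exact GeometricallyConnected.comp _ _

section Field

variable {k : Type u} [Field k] {G H : Over (Spec (CommRingCat.of k))} [GrpObj G] [GrpObj H] [Smooth G.hom]
  [QuasiCompact G.hom] [ConnectedSpace G.left]

/-- A word with values in a finite kernel is trivial. -/
theorem eq_one_of_comp_finite (f : G ⟶ H) [IsMonHom f] [IsFinite f.left] {W : Over (Spec (CommRingCat.of k))}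
    [Smooth W.hom] [GeometricallyConnected W.hom] (w : W ⟶ G) (x₀ : 𝟙_ _ ⟶ W) (hx : x₀ ≫ w = 1)
    (hw : w ≫ f = 1) : w = 1 := by
  let N : Over (Spec (CommRingCat.of k)) := pullback f η[H]
  let n : N ⟶ G := pullback.fst f η[H]
  let l : W ⟶ N := pullback.lift w (toUnit W) (by rw [hw, Hom.one_def])
  have hl : l ≫ n = w := pullback.lift_fst _ _ _
  haveI : IsFinite N.hom := by
    have h1 := ((IsPullback.of_hasPullback f η[H]).map (Over.forget (Spec (CommRingCat.of k)))).flip
    have h2 : IsFinite (pullback.snd f η[H]).left :=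
      MorphismProperty.of_isPullback (P := @IsFinite) h1.flip (show IsFinite f.left from inferInstance)
    haveI := h2
    haveI : IsIso (𝟙_ (Over (Spec (CommRingCat.of k)))).hom := inferInstanceAs (IsIso (𝟙 _))
    rw [← Over.w (pullback.snd f η[H])]
    infer_instance
  haveI : AlgebraicGeometry.IsReduced W.left := GrpSchLib.isReduced_of_smooth_field W.hom
  haveI : ConnectedSpace W.left := GeometricallyConnected.connectedSpace_of_subsingleton (f := W.hom)
  rw [← hl, Chevalley.CommAff.eq_const_of_finite l x₀, Category.assoc, Category.assoc, hl, hx, MonObj.comp_one]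

omit [QuasiCompact G.hom] [ConnectedSpace G.left] in
theorem word_smooth (n : ℕ) : Smooth (wordD G n).1.hom ∧ Smooth (wordN G n).1.hom :=
  word_property G (P := @Smooth) inferInstance n

theorem word_geometricallyConnected (n : ℕ) :
    GeometricallyConnected (wordD G n).1.hom ∧ GeometricallyConnected (wordN G n).1.hom := by
  haveI : GeometricallyIntegral G.hom := AlbQuotLib.geometricallyIntegral G
  haveI : GeometricallyConnected G.hom := H23.CubeAb.geometricallyConnected_of_integral G.hom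
  induction n with
  | zero => exact ⟨‹_›, ‹_›⟩
  | succ n ih =>
    obtain ⟨h1, h2⟩ := ih
    obtain ⟨s1, s2⟩ := word_smooth (G := G) n
    haveI := h1; haveI := h2; haveI := s1; haveI := s2
    exact ⟨geometricallyConnected_tensor (A := (wordD G n).1) (B := (wordD G n).1),
      geometricallyConnected_tensor (A := (wordN G n).1) (B := G)⟩

omit [Smooth G.hom] [QuasiCompact G.hom] [ConnectedSpace G.left] in
theorem exists_word_point (n : ℕ) :
    (∃ x : 𝟙_ _ ⟶ (wordD G n).1, x ≫ (wordD G n).2 = 1) ∧ ∃ x : 𝟙_ _ ⟶ (wordN G n).1, x ≫ (wordN G n).2 = 1 := by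
  induction n with
  | zero => exact ⟨⟨(1 : 𝟙_ _ ⟶ G), Category.comp_id _⟩, ⟨(1 : 𝟙_ _ ⟶ G), Category.comp_id _⟩⟩
  | succ n ih =>
    obtain ⟨⟨x, hx⟩, y, hy⟩ := ih
    exact ⟨⟨lift x x, by simp only [wordD, MonObj.comp_mul, GrpObj.comp_inv, lift_fst_assoc, lift_snd_assoc, hx,
      mul_one, inv_one]⟩, ⟨lift y 1, by simp only [wordN, MonObj.comp_mul, GrpObj.comp_inv, lift_fst_assoc, lift_snd,
      hy, mul_one, inv_one]⟩⟩

theorem isNilpotentGrp_of_finite (f : G ⟶ H) [IsMonHom f] [IsFinite f.left] (hH : AGF.IsNilpotentGrp H) :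
    AGF.IsNilpotentGrp G := by
  rw [isNilpotentGrp_iff] at hH ⊢
  obtain ⟨n, hn⟩ := hH
  obtain ⟨φ, -, e⟩ := exists_wordN_map f n
  obtain ⟨-, x, hx⟩ := exists_word_point (G := G) n
  haveI := (word_smooth (G := G) n).2
  haveI := (word_geometricallyConnected (G := G) n).2
  exact ⟨n, eq_one_of_comp_finite f _ x hx (by rw [← e, hn, MonObj.comp_one])⟩

theorem isSolvableGrp_of_finite (f : G ⟶ H) [IsMonHom f] [IsFinite f.left] (hH : Red.IsSolvableGrp H) :
    Red.IsSolvableGrp G := by
  rw [isSolvableGrp_iff] at hH ⊢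
  obtain ⟨n, hn⟩ := hH
  obtain ⟨φ, -, e⟩ := exists_wordD_map f n
  obtain ⟨⟨x, hx⟩, -⟩ := exists_word_point (G := G) n
  haveI := (word_smooth (G := G) n).1
  haveI := (word_geometricallyConnected (G := G) n).1
  exact ⟨n, eq_one_of_comp_finite f _ x hx (by rw [← e, hn, MonObj.comp_one])⟩

theorem isCommMonObj_of_finite (f : G ⟶ H) [IsMonHom f] [IsFinite f.left] [IsCommMonObj H] :
    IsCommMonObj G := by
  obtain ⟨φ, -, e⟩ := exists_wordN_map f 1
  obtain ⟨-, x, hx⟩ := exists_word_point (G := G) 1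
  haveI := (word_smooth (G := G) 1).2
  haveI := (word_geometricallyConnected (G := G) 1).2
  exact (isCommMonObj_iff_points G).2
    (eq_one_of_comp_finite f _ x hx (by rw [← e, (isCommMonObj_iff_points H).1 ‹_›, MonObj.comp_one]))

end Field

end Groth.Agent.GrpFieldLib.SolvBound
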