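import Mathlib
import Groth.Prelude.Def_HopfRep
import Groth.Agent.RegLoc6.Serre
import Groth.Agent.CycCovLib.Regular

/-!
# The resolution property for comodules over regular rings of dimension at most two
-/

set_option autoImplicit false
set_option linter.style.haveILetI false
set_option linter.style.setOption false

open TensorProduct

namespace Groth.Agent.GrpFieldLib.ComodRes

universe u

variable {R : Type u} [CommRing R]

/-- Over a regular ring of dimension at most two kernels between finite free modules are projective. -/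
theorem projective_ker_of_dim_le_two [IsRegularRing R] (hdim : ringKrullDim R ≤ 2) {p q : ℕ}
    (L : (Fin p → R) →ₗ[R] (Fin q → R)) : Module.Projective R (LinearMap.ker L) := by
  open Groth.Agent.RegLoc6 in
  have hpd : ∀ (M : Type u) [AddCommGroup M] [Module R M] [Module.Finite R M], PdLE R 2 M := by
    intro M _ _ _
    show CategoryTheory.HasProjectiveDimensionLE (ModuleCat.of R M) 2
    rw [ModuleCat.hasProjectiveDimensionLE_iff_forall_primeSpectrum]
    intro P
    haveI := IsRegularRing.isRegularLocalRing_localization P.asIdeal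
    haveI : Module.Finite (Localization.AtPrime P.asIdeal) (LocalizedModule P.asIdeal.primeCompl M) :=
      Module.Finite.of_isLocalizedModule P.asIdeal.primeCompl (LocalizedModule.mkLinearMap P.asIdeal.primeCompl M)
    have h1 := pdLE_of_isRegularLocalRing (Localization.AtPrime P.asIdeal) (LocalizedModule P.asIdeal.primeCompl M)
    refine pdLE_of_equiv (Shrink.linearEquiv (Localization.AtPrime P.asIdeal) _).symm (pdLE_mono ?_ h1)
    have h2 := IsRegularLocalRing.spanFinrank_maximalIdeal (R := Localization.AtPrime P.asIdeal)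
    have h3 : ringKrullDim (Localization.AtPrime P.asIdeal) ≤ 2 := by
      refine le_trans ?_ hdim
      rw [IsLocalization.AtPrime.ringKrullDim_eq_height P.asIdeal (Localization.AtPrime P.asIdeal)]
      exact Ideal.height_le_ringKrullDim_of_ne_top P.isPrime.ne_top
    rw [← h2] at h3
    exact_mod_cast h3
  let g := (LinearMap.range L).mkQ
  have h1 : Groth.Agent.RegLoc6.PdLE R 1 (LinearMap.ker g) :=
    (Groth.Agent.RegLoc6.pdLE_succ_iff g (Submodule.mkQ_surjective _)).1 (hpd _)
  have h2 : Groth.Agent.RegLoc6.PdLE R 1 (LinearMap.range L) :=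
    Groth.Agent.RegLoc6.pdLE_of_equiv (LinearEquiv.ofEq _ _ (Submodule.ker_mkQ _)) h1
  have h3 := (Groth.Agent.RegLoc6.pdLE_succ_iff L.rangeRestrict L.surjective_rangeRestrict).1 h2
  exact Groth.Agent.RegLoc6.pdLE_zero_iff.1
    (Groth.Agent.RegLoc6.pdLE_of_equiv (LinearEquiv.ofEq _ _ L.ker_rangeRestrict) h3)

/-- An element outside all minimal primes of a reduced Noetherian ring in a given ideal. -/
theorem exists_nonZeroDivisor_mem [IsNoetherianRing R] [IsReduced R] (J : Ideal R)
    (h : ∀ P ∈ minimalPrimes R, ¬ J ≤ P) : ∃ a ∈ J, a ∈ nonZeroDivisors R := by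
  have hfin : (minimalPrimes R).Finite := minimalPrimes.finite_of_isNoetherianRing R
  obtain ⟨a, haJ, ha⟩ : ∃ a ∈ J, ∀ P ∈ minimalPrimes R, a ∉ P := by
    by_contra hne
    push Not at hne
    have hcov : (J : Set R) ⊆ ⋃ P ∈ hfin.toFinset, ((id P : Ideal R) : Set R) := fun a ha => by
      obtain ⟨P, hP, haP⟩ := hne a ha
      exact Set.mem_iUnion₂.2 ⟨P, hfin.mem_toFinset.2 hP, haP⟩
    obtain ⟨P, hP, hle⟩ := (Ideal.subset_union_prime (f := id) ⊤ ⊤ fun P hP _ _ => (hfin.mem_toFinset.1 hP).1.1).1 hcov
    exact h P (hfin.mem_toFinset.1 hP) hle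
  refine ⟨a, haJ, mem_nonZeroDivisors_iff_right.2 fun b hb => ?_⟩
  have hb' : b ∈ nilradical R := by
    rw [nilradical_eq_sInf]
    refine Ideal.mem_sInf.2 fun Q hQ => ?_
    haveI : Q.IsPrime := hQ
    obtain ⟨P, hP, hPQ⟩ := Ideal.exists_minimalPrimes_le (show (⊥ : Ideal R) ≤ Q from bot_le)
    exact hPQ ((hP.1.1.mem_or_mem (hb ▸ P.zero_mem : b * a ∈ P)).resolve_right (ha P hP))
  rwa [nilradical_eq_zero, Ideal.zero_eq_bot, Ideal.mem_bot] at hb'

/-- Two linear maps into a torsion free target which agree on multiples are equal. -/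
theorem ext_of_smul {M N : Type u} [AddCommGroup M] [Module R M] [AddCommGroup N] [Module R N] [Module.Flat R N]
    {f g : M →ₗ[R] N} (h : ∀ x, ∃ a ∈ nonZeroDivisors R, f (a • x) = g (a • x)) : f = g := by
  refine LinearMap.ext fun x => ?_
  obtain ⟨a, ha, he⟩ := h x
  rw [map_smul, map_smul] at he
  exact Module.Flat.isSMulRegular_of_nonZeroDivisors ha he

variable {C : Type u} [AddCommGroup C] [Module R C]

/-- The embedding of a submodule stays injective after tensoring with a flat module. -/
theorem injective_rTensor_subtype [Module.Flat R C] {M : Type u} [AddCommGroup M] [Module R M] (U : Submodule R M) :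
    Function.Injective (U.subtype.rTensor C) :=
  Module.Flat.rTensor_preserves_injective_linearMap _ U.injective_subtype

/-- The corestriction of a map to `M ⊗ C` landing in `U ⊗ C`. -/
theorem exists_corestrict [Module.Flat R C] {M V : Type u} [AddCommGroup M] [Module R M] [AddCommGroup V]
    [Module R V] (U : Submodule R M) (f : V →ₗ[R] M ⊗[R] C) (hf : ∀ v, f v ∈ LinearMap.range (U.subtype.rTensor C)) :
    ∃ g : V →ₗ[R] U ⊗[R] C, U.subtype.rTensor C ∘ₗ g = f := by
  let e := LinearEquiv.ofInjective (U.subtype.rTensor C) (injective_rTensor_subtype U)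
  refine ⟨e.symm.toLinearMap ∘ₗ f.codRestrict _ hf, LinearMap.ext fun v => ?_⟩
  exact congrArg Subtype.val (e.apply_symm_apply (f.codRestrict _ hf v))

/-- Tensoring with a flat module commutes with kernels. -/
theorem exact_rTensor_ker [Module.Flat R C] {M N : Type u} [AddCommGroup M] [Module R M] [AddCommGroup N] [Module R N]
    (g : M →ₗ[R] N) : Function.Exact ((LinearMap.ker g).subtype.rTensor C) (g.rTensor C) :=
  Module.Flat.rTensor_exact C (LinearMap.exact_subtype_ker_map g)

variable [Coalgebra R C]

open Coalgebra HopfRep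

theorem assoc_rTensor {M N : Type u} [AddCommGroup M] [Module R M] [AddCommGroup N] [Module R N] (f : M →ₗ[R] N)
    (t : (M ⊗[R] C) ⊗[R] C) :
    TensorProduct.assoc R N C C ((f.rTensor C).rTensor C t) =
      f.rTensor (C ⊗[R] C) (TensorProduct.assoc R M C C t) := by
  have h : (TensorProduct.assoc R N C C).toLinearMap ∘ₗ (f.rTensor C).rTensor C =
      f.rTensor (C ⊗[R] C) ∘ₗ (TensorProduct.assoc R M C C).toLinearMap :=
    TensorProduct.ext_threefold fun x y z => rfl
  exact LinearMap.congr_fun h t

theorem lTensor_rTensor {M N D E : Type u} [AddCommGroup M] [Module R M] [AddCommGroup N] [Module R N]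
    [AddCommGroup D] [Module R D] [AddCommGroup E] [Module R E] (f : M →ₗ[R] N) (g : D →ₗ[R] E)
    (t : M ⊗[R] D) : g.lTensor N (f.rTensor D t) = f.rTensor E (g.lTensor M t) := by
  have h : g.lTensor N ∘ₗ f.rTensor D = f.rTensor E ∘ₗ g.lTensor M := TensorProduct.ext' fun x y => rfl
  exact LinearMap.congr_fun h t

/-- Coassociativity and counit of a coaction are inherited along an injection. -/
theorem exists_comod_of_injective [Module.Flat R C] {M V : Type u} [AddCommGroup M] [Module R M] [AddCommGroup V]
    [Module R V] [Comod R C M] (j : V →ₗ[R] M) (hj : Function.Injective j) (ρ : V →ₗ[R] V ⊗[R] C)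
    (hρ : j.rTensor C ∘ₗ ρ = Comod.coact (k := R) (A := C) ∘ₗ j) :
    ∃ c : Comod R C V, c.coact = ρ := by
  have hρ' : ∀ v, j.rTensor C (ρ v) = Comod.coact (k := R) (A := C) (j v) := LinearMap.congr_fun hρ
  have h1 : Function.Injective (j.rTensor (C ⊗[R] C)) := Module.Flat.rTensor_preserves_injective_linearMap _ hj
  have h0 : Function.Injective (j.rTensor R) := Module.Flat.rTensor_preserves_injective_linearMap _ hj
  refine ⟨⟨ρ, LinearMap.ext fun v => h1 ?_, LinearMap.ext fun v => h0 ?_⟩, rfl⟩
  · simp only [LinearMap.comp_apply, LinearEquiv.coe_coe]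
    rw [← assoc_rTensor, ← lTensor_rTensor, hρ' v, ← LinearMap.rTensor_comp_apply, hρ, LinearMap.rTensor_comp_apply,
      hρ' v]
    exact LinearMap.congr_fun (Comod.coassoc (k := R) (A := C) (V := M)) (j v)
  · simp only [LinearMap.comp_apply]
    rw [← lTensor_rTensor, hρ' v]
    exact LinearMap.congr_fun (Comod.counit_comp (k := R) (A := C) (V := M)) (j v)

/-- A subcomodule of a comodule over a flat coalgebra is a comodule. -/
theorem exists_comod_subcomod [Module.Flat R C] {M : Type u} [AddCommGroup M] [Module R M] [Comod R C M]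
    (U : Submodule R M) (hU : IsSubcomod (k := R) (A := C) U) :
    ∃ c : Comod R C U, U.subtype.rTensor C ∘ₗ c.coact = Comod.coact (k := R) (A := C) ∘ₗ U.subtype := by
  obtain ⟨ρU, hρU⟩ := exists_corestrict (V := U) U (Comod.coact (k := R) (A := C) ∘ₗ U.subtype)
    fun (w : U) => hU w.1 w.2
  obtain ⟨c, hc⟩ := exists_comod_of_injective U.subtype U.injective_subtype ρU hρU
  exact ⟨c, hc ▸ hρU⟩

/-- Local finiteness inside a subcomodule, over a Noetherian ring and for a flat coalgebra. -/
theorem exists_fg_subcomod [IsNoetherianRing R] [Module.Flat R C] {M : Type u} [AddCommGroup M] [Module R M]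
    [Comod R C M] (E : Submodule R M) (hE : IsSubcomod (k := R) (A := C) E) (s : Finset M) (hs : ∀ x ∈ s, x ∈ E) :
    ∃ U : Submodule R M, Module.Finite R U ∧ U ≤ E ∧ IsSubcomod (k := R) (A := C) U ∧ ∀ x ∈ s, x ∈ U := by
  classical
  choose y hy using fun x : s => hE x.1 (hs x.1 x.2)
  obtain ⟨N, hN, hmem⟩ : ∃ N : Submodule R E, N.FG ∧ ∀ x : s, y x ∈ LinearMap.range (N.subtype.rTensor C) := by
    choose S hS using fun x : s => TensorProduct.exists_finset (y x)
    refine ⟨Submodule.span R ↑((Finset.univ.biUnion S).image Prod.fst), Submodule.fg_span (Finset.finite_toSet _),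
      fun x => ?_⟩
    rw [hS x]
    refine Submodule.sum_mem _ fun i hi => ?_
    refine ⟨(⟨i.1, Submodule.subset_span (Finset.mem_image.2
      ⟨i, Finset.mem_biUnion.2 ⟨x, Finset.mem_univ _, hi⟩, rfl⟩)⟩ : _) ⊗ₜ i.2, ?_⟩
    rw [LinearMap.rTensor_tmul]; rfl
  let N' : Submodule R M := N.map E.subtype
  let g : M →ₗ[R] (M ⧸ N') ⊗[R] C := N'.mkQ.rTensor C ∘ₗ Comod.coact (k := R) (A := C)
  have hker : Function.Exact (N'.subtype.rTensor C) (N'.mkQ.rTensor C) :=
    rTensor_exact C (LinearMap.exact_subtype_mkQ N') (Submodule.mkQ_surjective N')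
  have hid : ∀ x : M, TensorProduct.rid R M ((Coalgebra.counit (R := R) (A := C)).lTensor M
      (Comod.coact (k := R) (A := C) x)) = x := fun x => by
    have h1 := LinearMap.congr_fun (Comod.counit_comp (k := R) (A := C) (V := M)) x
    rw [LinearMap.comp_apply] at h1
    rw [h1]
    exact (TensorProduct.rid_tmul x 1).trans (one_smul R x)
  have hle : LinearMap.ker g ≤ N' := fun x hx => by
    obtain ⟨t, ht⟩ := (hker _).1 (LinearMap.mem_ker.1 hx)
    rw [← hid x, ← ht]
    clear ht hx
    induction t using TensorProduct.induction_on with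
    | zero => simp
    | tmul a c =>
      simp only [LinearMap.rTensor_tmul, LinearMap.lTensor_tmul, TensorProduct.rid_tmul]
      exact N'.smul_mem _ a.2
    | add a b ha hb => simp only [map_add]; exact N'.add_mem ha hb
  have hfg : N'.FG := hN.map _
  haveI : Module.Finite R N' := Module.Finite.iff_fg.2 hfg
  refine ⟨LinearMap.ker g, Module.Finite.iff_fg.2 (Submodule.FG.of_le hfg hle),
    hle.trans (Submodule.map_subtype_le E N), fun x hx => ?_, fun x hx => ?_⟩
  · have hex : Function.Exact ((LinearMap.ker g).subtype.rTensor C) (g.rTensor C) :=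
      Module.Flat.rTensor_exact (M := C) (LinearMap.exact_subtype_ker_map g)
    refine (hex _).1 ?_
    apply (TensorProduct.assoc R (M ⧸ N') C C).injective
    rw [map_zero]
    simp only [g, LinearMap.rTensor_comp_apply]
    rw [assoc_rTensor]
    have h2 := LinearMap.congr_fun (Comod.coassoc (k := R) (A := C) (V := M)) x
    simp only [LinearMap.comp_apply, LinearEquiv.coe_coe] at h2
    rw [h2, ← lTensor_rTensor, show N'.mkQ.rTensor C (Comod.coact (k := R) (A := C) x) = 0 from LinearMap.mem_ker.1 hx,
      map_zero]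
  · obtain ⟨t, ht⟩ := hmem ⟨x, hx⟩
    refine LinearMap.mem_ker.2 ((hker _).2 ?_)
    refine ⟨((E.subtype ∘ₗ N.subtype).codRestrict N' fun n => ⟨n.1, n.2, rfl⟩).rTensor C t, ?_⟩
    rw [← LinearMap.rTensor_comp_apply]
    rw [show N'.subtype ∘ₗ (E.subtype ∘ₗ N.subtype).codRestrict N' (fun n => ⟨n.1, n.2, rfl⟩) =
      E.subtype ∘ₗ N.subtype from LinearMap.ext fun _ => rfl, LinearMap.rTensor_comp_apply, ht, hy ⟨x, hx⟩]

/-- The cofree comodule. -/
@[reducible] noncomputable def cofree (R : Type u) [CommRing R] (C : Type u) [AddCommGroup C] [Module R C]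
    [Coalgebra R C] (P : Type u) [AddCommGroup P] [Module R P] : Comod R C (P ⊗[R] C) where
  coact := (TensorProduct.assoc R P C C).symm.toLinearMap ∘ₗ (CoalgebraStruct.comul (R := R) (A := C)).lTensor P
  coassoc := by
    refine TensorProduct.ext' fun p c => ?_
    have key₁ : ∀ d : C ⊗[R] C, TensorProduct.assoc R (P ⊗[R] C) C C
        (((TensorProduct.assoc R P C C).symm.toLinearMap ∘ₗ (CoalgebraStruct.comul (R := R) (A := C)).lTensor P).rTensor C
          ((TensorProduct.assoc R P C C).symm (p ⊗ₜ[R] d))) =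
        (TensorProduct.assoc R P C (C ⊗[R] C)).symm (p ⊗ₜ[R] TensorProduct.assoc R C C C
          ((CoalgebraStruct.comul (R := R) (A := C)).rTensor C d)) := by
      intro d
      induction d using TensorProduct.induction_on with
      | zero => simp
      | tmul a b =>
        simp only [LinearMap.rTensor_tmul, LinearMap.lTensor_tmul, TensorProduct.assoc_symm_tmul,
          LinearMap.comp_apply, LinearEquiv.coe_coe]
        generalize CoalgebraStruct.comul (R := R) (A := C) a = e
        induction e using TensorProduct.induction_on with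
        | zero => simp
        | tmul a' b' => simp
        | add a' b' ha hb => simp only [TensorProduct.add_tmul, TensorProduct.tmul_add, map_add, ha, hb]
      | add a b ha hb => simp only [TensorProduct.tmul_add, map_add, ha, hb]
    have key₂ : ∀ d : C ⊗[R] C, (CoalgebraStruct.comul (R := R) (A := C)).lTensor (P ⊗[R] C)
          ((TensorProduct.assoc R P C C).symm (p ⊗ₜ[R] d)) =
        (TensorProduct.assoc R P C (C ⊗[R] C)).symm
          (p ⊗ₜ[R] (CoalgebraStruct.comul (R := R) (A := C)).lTensor C d) := by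
      intro d
      induction d using TensorProduct.induction_on with
      | zero => simp
      | tmul a b => simp
      | add a b ha hb => simp only [TensorProduct.tmul_add, map_add, ha, hb]
    simp only [LinearMap.comp_apply, LinearMap.lTensor_tmul, LinearEquiv.coe_coe]
    rw [key₁, key₂, Coalgebra.coassoc_apply]
  counit_comp := by
    refine TensorProduct.ext' fun p c => ?_
    have h := congrArg (fun t => (TensorProduct.assoc R P C R).symm (p ⊗ₜ[R] t))
      (Coalgebra.lTensor_counit_comul (R := R) c)
    simp only [LinearMap.comp_apply, LinearMap.lTensor_tmul, LinearEquiv.coe_coe, TensorProduct.assoc_symm_tmul,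
      LinearMap.flip_apply, TensorProduct.mk_apply] at h ⊢
    rw [← h]
    generalize CoalgebraStruct.comul (R := R) (A := C) c = d
    induction d using TensorProduct.induction_on with
    | zero => simp
    | tmul a b => simp
    | add a b ha hb => simp [TensorProduct.tmul_add, ha, hb]


theorem rid_counit_coact {M : Type u} [AddCommGroup M] [Module R M] [Comod R C M] (x : M) :
    TensorProduct.rid R M ((Coalgebra.counit (R := R) (A := C)).lTensor M (Comod.coact (k := R) (A := C) x)) = x := by
  have h1 := LinearMap.congr_fun (Comod.counit_comp (k := R) (A := C) (V := M)) x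
  rw [LinearMap.comp_apply] at h1
  rw [h1]
  exact (TensorProduct.rid_tmul x 1).trans (one_smul R x)

/-- Every comodule, finite as a module, is covered by a finite subcomodule of a cofree one. -/
theorem exists_cover_in_cofree [IsNoetherianRing R] [Module.Flat R C] (F : Type u) [AddCommGroup F] [Module R F]
    [Comod R C F] [Module.Finite R F] :
    ∃ n : ℕ, letI := cofree R C (Fin n → R)
      ∃ (U : Submodule R ((Fin n → R) ⊗[R] C)) (ψ : (Fin n → R) ⊗[R] C →ₗ[R] F),
        Module.Finite R U ∧ IsSubcomod (k := R) (A := C) U ∧ U.map ψ = ⊤ ∧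
        ∀ x ∈ U, Comod.coact (k := R) (A := C) (ψ x) = ψ.rTensor C (Comod.coact (k := R) (A := C) x) := by
  classical
  obtain ⟨n, φ, hφ⟩ := Module.Finite.exists_fin' R F
  refine ⟨n, ?_⟩
  letI := cofree R C (Fin n → R)
  let Φ : (Fin n → R) ⊗[R] C →ₗ[R] F ⊗[R] C := φ.rTensor C
  let ψ : (Fin n → R) ⊗[R] C →ₗ[R] F := (TensorProduct.rid R F).toLinearMap ∘ₗ
    (Coalgebra.counit (R := R) (A := C)).lTensor F ∘ₗ Φ
  have hψΦ : ∀ x, ψ.rTensor C (Comod.coact (k := R) (A := C) x) = Φ x := by
    have h : ψ.rTensor C ∘ₗ Comod.coact (k := R) (A := C) = Φ := TensorProduct.ext' fun p c => by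
      show ψ.rTensor C ((TensorProduct.assoc R (Fin n → R) C C).symm
        ((CoalgebraStruct.comul (R := R) (A := C)).lTensor _ (p ⊗ₜ[R] c))) = φ p ⊗ₜ[R] c
      have hc := congrArg (fun t => φ p ⊗ₜ[R] TensorProduct.lid R C t) (Coalgebra.rTensor_counit_comul (R := R) c)
      simp only [TensorProduct.lid_tmul, one_smul] at hc
      rw [LinearMap.lTensor_tmul, ← hc]
      generalize CoalgebraStruct.comul (R := R) (A := C) c = d
      induction d using TensorProduct.induction_on with
      | zero => simp
      | tmul a b => simp [ψ, Φ, TensorProduct.smul_tmul]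
      | add a b ha hb => simp only [TensorProduct.tmul_add, map_add, ha, hb]
    exact LinearMap.congr_fun h
  let ρF : F →ₗ[R] F ⊗[R] C := Comod.coact (k := R) (A := C)
  let δ := Φ - ρF ∘ₗ ψ
  let E := LinearMap.ker δ
  have hEmem : ∀ x, x ∈ E ↔ Φ x = ρF (ψ x) := fun x => sub_eq_zero
  have hE : IsSubcomod (k := R) (A := C) E := by
    intro x hx
    have hex : Function.Exact (E.subtype.rTensor C) (δ.rTensor C) :=
      exact_rTensor_ker δ
    refine (hex _).1 ?_
    show (Φ - ρF ∘ₗ ψ).rTensor C _ = 0
    rw [LinearMap.rTensor_sub, LinearMap.sub_apply, sub_eq_zero]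
    apply (TensorProduct.assoc R F C C).injective
    rw [LinearMap.rTensor_comp_apply, hψΦ, (hEmem x).1 hx]
    have h2 := LinearMap.congr_fun (Comod.coassoc (k := R) (A := C) (V := F)) (ψ x)
    simp only [LinearMap.comp_apply, LinearEquiv.coe_coe] at h2
    rw [h2, ← (hEmem x).1 hx, assoc_rTensor]
    show φ.rTensor (C ⊗[R] C) (TensorProduct.assoc R (Fin n → R) C C ((TensorProduct.assoc R (Fin n → R) C C).symm
      ((CoalgebraStruct.comul (R := R) (A := C)).lTensor _ x))) = _
    rw [LinearEquiv.apply_symm_apply, ← lTensor_rTensor]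
  choose e he using fun i : Fin n => LinearMap.rTensor_surjective C hφ (ρF (φ (Pi.single i 1)))
  have hψe : ∀ i, ψ (e i) = φ (Pi.single i 1) := fun i => by
    show TensorProduct.rid R F ((Coalgebra.counit (R := R) (A := C)).lTensor F (Φ (e i))) = _
    rw [he i]
    exact rid_counit_coact _
  have heE : ∀ i, e i ∈ E := fun i => (hEmem _).2 (by rw [hψe]; exact he i)
  obtain ⟨U, hU, hUE, hUsub, hUe⟩ := exists_fg_subcomod E hE (Finset.univ.image e) (fun x hx => by
    obtain ⟨i, -, rfl⟩ := Finset.mem_image.1 hx
    exact heE i)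
  refine ⟨U, ψ, hU, hUsub, eq_top_iff.2 fun y _ => ?_, fun x hx => ?_⟩
  · obtain ⟨v, rfl⟩ := hφ y
    rw [LinearMap.pi_apply_eq_sum_univ φ v]
    refine Submodule.sum_mem _ fun i _ => Submodule.smul_mem _ _ ⟨e i, hUe _ (Finset.mem_image_of_mem _ (Finset.mem_univ i)), ?_⟩
    rw [hψe]
    congr 1
    funext k
    rw [Pi.single_apply]
    simp only [eq_comm]
  · rw [hψΦ]
    exact ((hEmem x).1 (hUE hx)).symm

/-- The reflexive hull of a finite subcomodule of a flat comodule is a finite projective comodule. -/
theorem exists_projective_hull [IsRegularRing R] (hdim : ringKrullDim R ≤ 2) [Module.Flat R C] {M F : Type u}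
    [AddCommGroup M] [Module R M] [Module.Flat R M] [Comod R C M] [AddCommGroup F] [Module R F] [Comod R C F]
    (W : Submodule R M) [Module.Finite R W] (hW : IsSubcomod (k := R) (A := C) W) (ψ : M →ₗ[R] F)
    (hψ : ∀ x ∈ W, Comod.coact (k := R) (A := C) (ψ x) = ψ.rTensor C (Comod.coact (k := R) (A := C) x))
    (hsurj : W.map ψ = ⊤) (hF : ∀ a ∈ nonZeroDivisors R, IsSMulRegular (F ⊗[R] C) a) :
    ∃ (V : Type u) (_ : AddCommGroup V) (_ : Module R V) (_ : Comod R C V) (f : V →ₗ[R] F),
      Module.Finite R V ∧ Module.Projective R V ∧ Function.Surjective f ∧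
        Comod.coact (k := R) (A := C) ∘ₗ f = f.rTensor C ∘ₗ Comod.coact (k := R) (A := C) (V := V) := by
  classical
  haveI := CycCovLib.isReduced_of_isRegularRing R
  haveI : Module.FinitePresentation R W := Module.finitePresentation_of_finite R W
  obtain ⟨l, ι, κ, hικ⟩ := Module.Flat.exists_factorization_of_finitePresentation W.subtype
  obtain ⟨m₀, g₀, hg₀⟩ := Module.Finite.exists_fin' R W
  haveI : Module.Finite R (W →ₗ[R] R) := Module.Finite.of_injective (LinearMap.lcomp R R g₀)
    fun a b hab => LinearMap.ext fun w => by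
      obtain ⟨v, rfl⟩ := hg₀ w
      exact LinearMap.congr_fun hab v
  obtain ⟨p, g, hg⟩ := Module.Finite.exists_fin' R (W →ₗ[R] R)
  haveI : Module.Finite R (LinearMap.ker g) := Module.Finite.iff_fg.2 (IsNoetherian.noetherian _)
  obtain ⟨q, h, hh⟩ := Module.Finite.exists_fin' R (LinearMap.ker g)
  let lam : Fin p → (W →ₗ[R] R) := fun k => g (Pi.single k 1)
  have hg' : ∀ c, g c = ∑ k, c k • lam k := fun c => by
    conv_lhs => rw [← Finset.univ_sum_single c]
    rw [map_sum]
    refine Finset.sum_congr rfl fun k _ => ?_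
    rw [← map_smul, ← Pi.single_smul]
    simp
  let pair : (Fin p → R) → ((Fin p → R) →ₗ[R] R) := fun c => ∑ k, c k • LinearMap.proj k
  have hpair : ∀ c x, pair c x = ∑ k, c k * x k := fun c x => by simp [pair]
  let L : (Fin p → R) →ₗ[R] (Fin q → R) := LinearMap.pi fun j => pair (h (Pi.single j 1)).1
  let V := LinearMap.ker L
  have hV : ∀ x ∈ V, ∀ c, g c = 0 → ∑ k, c k * x k = 0 := by
    intro x hx c hc
    obtain ⟨d, hd⟩ := hh ⟨c, hc⟩
    have hcd : c = ∑ j, d j • (h (Pi.single j 1)).1 := by
      rw [show c = ((h d : LinearMap.ker g) : Fin p → R) by rw [hd]]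
      conv_lhs => rw [← Finset.univ_sum_single d]
      rw [map_sum, Submodule.coe_sum]
      refine Finset.sum_congr rfl fun j _ => ?_
      rw [← Submodule.coe_smul, ← map_smul, ← Pi.single_smul]
      simp
    have hL : ∀ j, pair (h (Pi.single j 1)).1 x = 0 := fun j => congrFun (LinearMap.mem_ker.1 hx) j
    simp only [hpair] at hL
    rw [hcd]
    simp only [Finset.sum_apply, Pi.smul_apply, smul_eq_mul, Finset.sum_mul]
    rw [Finset.sum_comm]
    refine Finset.sum_eq_zero fun j _ => ?_
    simp only [mul_assoc]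
    rw [← Finset.mul_sum, hL, mul_zero]
  let η : W →ₗ[R] (Fin p → R) := LinearMap.pi lam
  have hηg : ∀ c w, ∑ k, c k * η w k = g c w := fun c w => by
    rw [hg']; simp [η]
  have hηV : ∀ w, η w ∈ V := fun w => LinearMap.mem_ker.2 (funext fun j => by
    show pair _ (η w) = 0
    rw [hpair, hηg, LinearMap.mem_ker.1 (h (Pi.single j 1)).2]; rfl)
  -- maps from `W` to free modules extend to `R^p`
  have hext : ∀ (m : ℕ) (a : W →ₗ[R] (Fin m →₀ R)), ∃ a' : (Fin p → R) →ₗ[R] (Fin m →₀ R), a' ∘ₗ η = a := by
    intro m a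
    choose c hc using fun i => hg ((Finsupp.lapply i : (Fin m →₀ R) →ₗ[R] R) ∘ₗ a)
    refine ⟨(Finsupp.linearEquivFunOnFinite R R (Fin m)).symm.toLinearMap ∘ₗ LinearMap.pi fun i => pair (c i),
      LinearMap.ext fun w => Finsupp.ext fun i => ?_⟩
    simp only [LinearMap.comp_apply, LinearEquiv.coe_coe]
    show ((Finsupp.linearEquivFunOnFinite R R (Fin m)).symm fun i => pair (c i) (η w)) i = a w i
    rw [show ((Finsupp.linearEquivFunOnFinite R R (Fin m)).symm fun i => pair (c i) (η w)) i = pair (c i) (η w) from rfl,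
      hpair, hηg, hc]
    rfl
  obtain ⟨T, hT⟩ := hext l ι
  let jR : (Fin p → R) →ₗ[R] M := κ ∘ₗ T
  have hjη : jR ∘ₗ η = W.subtype := by
    rw [LinearMap.comp_assoc, hT, ← hικ]
  -- the hull is torsion over `W`
  have htor : ∀ x ∈ V, ∃ a ∈ nonZeroDivisors R, ∃ w, a • x = η w := by
    intro x hx
    obtain ⟨a, ha, hnzd⟩ := exists_nonZeroDivisor_mem ((LinearMap.range η).comap (LinearMap.toSpanSingleton R _ x))
      fun P hP hle => by
      haveI : P.IsPrime := hP.1.1
      haveI : Ring.KrullDimLE 0 (Localization.AtPrime P) := .of_isLocalization _ hP _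
      let K := Localization.AtPrime P
      letI : Field K := Ring.KrullDimLE.isField_of_isReduced.toField
      let emb : (Fin p → R) → (Fin p → K) := fun v k => algebraMap R K (v k)
      let S : Submodule K (Fin p → K) := Submodule.span K (Set.range fun w : W => emb (η w))
      obtain ⟨d, hd, w, hw⟩ : ∃ d ∉ P, ∃ w : W, algebraMap R K d • emb x = emb (η w) := by
        have hxS : emb x ∈ S := by
          rw [← Subspace.forall_mem_dualAnnihilator_apply_eq_zero_iff]
          intro θ hθ
          rw [Submodule.mem_dualAnnihilator] at hθ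
          obtain ⟨b, hb⟩ := IsLocalization.exist_integer_multiples_of_finite P.primeCompl
            fun k => θ (Pi.single k 1)
          choose c hc using hb
          have hθc : ∀ v, algebraMap R K b.1 * θ (emb v) = algebraMap R K (∑ k, c k * v k) := fun v => by
            rw [map_sum]
            conv_lhs => rw [← Finset.univ_sum_single (emb v)]
            rw [map_sum, Finset.mul_sum]
            refine Finset.sum_congr rfl fun k _ => ?_
            rw [map_mul, hc k, Algebra.smul_def, mul_assoc]
            congr 1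
            rw [show Pi.single k (emb v k) = emb v k • (Pi.single k (1 : K) : Fin p → K) by
              rw [← Pi.single_smul]; simp, map_smul, smul_eq_mul, mul_comm]
          have hz : ∀ w, algebraMap R K (g c w) = 0 := fun w => by
            rw [← hηg, ← hθc, hθ _ (Submodule.subset_span ⟨w, rfl⟩), mul_zero]
          choose d hd using fun i : Fin m₀ =>
            (IsLocalization.map_eq_zero_iff P.primeCompl K _).1 (hz (g₀ (Pi.single i 1)))
          let D : R := ∏ i, (d i).1
          have hD : D ∉ P := fun hmem => by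
            obtain ⟨i, -, hi⟩ := Ideal.IsPrime.prod_mem_iff.1 hmem
            exact (d i).2 hi
          have hgc : g (D • c) = 0 := by
            rw [map_smul]
            refine LinearMap.ext fun w => ?_
            obtain ⟨v, rfl⟩ := hg₀ w
            conv_lhs => rw [← Finset.univ_sum_single v]
            rw [map_sum, map_sum, LinearMap.zero_apply]
            refine Finset.sum_eq_zero fun i _ => ?_
            rw [show Pi.single i (v i) = v i • (Pi.single i (1 : R) : Fin m₀ → R) by rw [← Pi.single_smul]; simp,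
              map_smul, map_smul]
            have : D * g c (g₀ (Pi.single i 1)) = 0 := by
              rw [show D = (∏ k ∈ Finset.univ.erase i, (d k).1) * (d i).1 from
                (Finset.prod_erase_mul _ _ (Finset.mem_univ i)).symm, mul_assoc, hd i, mul_zero]
            rw [LinearMap.smul_apply, smul_eq_mul, smul_eq_mul, this, mul_zero]
          have hsum : D * ∑ k, c k * x k = 0 := by
            rw [Finset.mul_sum, ← hV x hx _ hgc]
            simp [mul_assoc]
          have h0 : algebraMap R K b.1 * θ (emb x) = 0 := by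
            rw [hθc]
            exact (IsLocalization.map_eq_zero_iff P.primeCompl K _).2 ⟨⟨D, hD⟩, hsum⟩
          exact (mul_eq_zero.1 h0).resolve_left (IsLocalization.map_units K b).ne_zero
        have key : ∀ v ∈ S, ∃ d ∉ P, ∃ w : W, algebraMap R K d • v = emb (η w) := by
          intro v hv
          induction hv using Submodule.span_induction with
          | mem v hv =>
            obtain ⟨w, rfl⟩ := hv
            exact ⟨1, hP.1.1.one_notMem, w, by simp⟩
          | zero => exact ⟨1, hP.1.1.one_notMem, 0, by ext k; simp [emb]⟩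
          | add v v' _ _ hv hv' =>
            obtain ⟨d, hd, w, hw⟩ := hv
            obtain ⟨d', hd', w', hw'⟩ := hv'
            refine ⟨d * d', hP.1.1.mul_notMem hd hd', d' • w + d • w', ?_⟩
            ext k
            have h1 : algebraMap R K d * v k = algebraMap R K (η w k) := congrFun hw k
            have h2 : algebraMap R K d' * v' k = algebraMap R K (η w' k) := congrFun hw' k
            simp only [emb, Pi.smul_apply, Pi.add_apply, smul_eq_mul, map_add, map_smul, map_mul, ← h1, ← h2]
            ring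
          | smul r v _ hv =>
            obtain ⟨d, hd, w, hw⟩ := hv
            obtain ⟨⟨r₁, r₂⟩, hr⟩ := IsLocalization.surj P.primeCompl r
            refine ⟨r₂.1 * d, hP.1.1.mul_notMem r₂.2 hd, r₁ • w, ?_⟩
            ext k
            have h1 : algebraMap R K d * v k = algebraMap R K (η w k) := congrFun hw k
            simp only [emb, Pi.smul_apply, smul_eq_mul, map_smul, map_mul, ← h1, ← hr]
            ring
        exact key _ hxS
      choose e he using fun k => (IsLocalization.eq_iff_exists P.primeCompl K).1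
        (show algebraMap R K (d * x k) = algebraMap R K (η w k) by rw [map_mul]; exact congrFun hw k)
      let D : R := ∏ k, (e k).1
      have hD : D * d ∉ P := hP.1.1.mul_notMem (fun hmem => by
        obtain ⟨k, -, hk⟩ := Ideal.IsPrime.prod_mem_iff.1 hmem
        exact (e k).2 hk) hd
      refine hD (hle ?_)
      refine ⟨D • w, funext fun k => ?_⟩
      rw [map_smul, LinearMap.toSpanSingleton_apply, Pi.smul_apply, Pi.smul_apply, smul_eq_mul, smul_eq_mul,
        show D = (∏ i ∈ Finset.univ.erase k, (e i).1) * (e k).1 from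
          (Finset.prod_erase_mul _ _ (Finset.mem_univ k)).symm]
      linear_combination (-(∏ i ∈ Finset.univ.erase k, (e i).1)) * he k
    obtain ⟨w, hw⟩ := ha
    exact ⟨a, hnzd, w, hw.symm⟩
  haveI : Module.Projective R V := projective_ker_of_dim_le_two hdim L
  haveI : Module.Finite R V := Module.Finite.iff_fg.2 (IsNoetherian.noetherian _)
  let j : V →ₗ[R] M := jR ∘ₗ V.subtype
  have hjη' : ∀ w, jR (η w) = w.1 := LinearMap.congr_fun hjη
  have hj : Function.Injective j := (injective_iff_map_eq_zero j).2 fun x hx => by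
    obtain ⟨a, ha, w, hw⟩ := htor x.1 x.2
    have h1 : w.1 = 0 := by
      rw [← hjη' w, ← hw, map_smul, show jR x.1 = 0 from hx, smul_zero]
    rw [show w = 0 from Subtype.ext h1, map_zero] at hw
    exact Subtype.ext (Module.Flat.isSMulRegular_of_nonZeroDivisors ha
      (show a • x.1 = a • (0 : Fin p → R) by rw [hw, smul_zero]))
  -- the coaction
  obtain ⟨ρW, hρW⟩ := exists_corestrict W (Comod.coact (k := R) (A := C) ∘ₗ W.subtype) fun w => hW w.1 w.2
  have hρW' : ∀ w, W.subtype.rTensor C (ρW w) = Comod.coact (k := R) (A := C) w.1 := LinearMap.congr_fun hρW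
  have hβ : ∀ k, ∃ β : (Fin p → R) →ₗ[R] C,
      β ∘ₗ η = (TensorProduct.lid R C).toLinearMap ∘ₗ (lam k).rTensor C ∘ₗ ρW := fun k => by
    obtain ⟨m, a, b, hab⟩ := Module.Flat.exists_factorization_of_finitePresentation
      ((TensorProduct.lid R C).toLinearMap ∘ₗ (lam k).rTensor C ∘ₗ ρW)
    obtain ⟨a', ha'⟩ := hext m a
    exact ⟨b ∘ₗ a', by rw [LinearMap.comp_assoc, ha', ← hab]⟩
  choose β hβ using hβ
  let ρ' : (Fin p → R) →ₗ[R] (Fin p → R) ⊗[R] C :=
    ∑ k, (TensorProduct.mk R (Fin p → R) C (Pi.single k 1)) ∘ₗ β k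
  have hsplit : ∀ t : W ⊗[R] C, η.rTensor C t =
      ∑ k, (Pi.single k (1 : R) : Fin p → R) ⊗ₜ[R] TensorProduct.lid R C ((lam k).rTensor C t) := by
    intro t
    induction t using TensorProduct.induction_on with
    | zero => simp
    | tmul w c =>
      simp only [LinearMap.rTensor_tmul, TensorProduct.lid_tmul, TensorProduct.tmul_smul, TensorProduct.smul_tmul', ← Pi.single_smul]
      rw [← TensorProduct.sum_tmul]
      congr 1
      funext i
      simp [η, Pi.single_apply, Finset.sum_apply]
    | add a b ha hb => simp only [map_add, TensorProduct.tmul_add, ha, hb, Finset.sum_add_distrib]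
  have hρη : ∀ w, ρ' (η w) = η.rTensor C (ρW w) := fun w => by
    rw [hsplit]
    simp only [ρ', LinearMap.sum_apply, LinearMap.comp_apply, TensorProduct.mk_apply]
    exact Finset.sum_congr rfl fun k _ => congrArg _ (LinearMap.congr_fun (hβ k) w)
  obtain ⟨ρV, hρV⟩ := exists_corestrict V (ρ' ∘ₗ V.subtype) fun x => by
    have hex : Function.Exact (V.subtype.rTensor C) (L.rTensor C) :=
      Module.Flat.rTensor_exact (M := C) (LinearMap.exact_subtype_ker_map L)
    refine (hex _).1 ?_
    obtain ⟨a, ha, w, hw⟩ := htor x.1 x.2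
    refine Module.Flat.isSMulRegular_of_nonZeroDivisors ha ?_
    show a • L.rTensor C (ρ' x.1) = a • (0 : (Fin q → R) ⊗[R] C)
    rw [smul_zero, ← map_smul, ← map_smul, hw, hρη, ← LinearMap.rTensor_comp_apply,
      show L ∘ₗ η = 0 from LinearMap.ext fun w => LinearMap.mem_ker.1 (hηV w)]
    simp
  have hρV' : ∀ x, V.subtype.rTensor C (ρV x) = ρ' x.1 := LinearMap.congr_fun hρV
  have hjρ : j.rTensor C ∘ₗ ρV = Comod.coact (k := R) (A := C) ∘ₗ j := ext_of_smul fun x => by
    obtain ⟨a, ha, w, hw⟩ := htor x.1 x.2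
    refine ⟨a, ha, ?_⟩
    simp only [LinearMap.comp_apply, j, LinearMap.rTensor_comp_apply, hρV', Submodule.subtype_apply,
      Submodule.coe_smul]
    rw [hw, hρη, ← LinearMap.rTensor_comp_apply, hjη, hρW', hjη']
  obtain ⟨cV, hcV⟩ := exists_comod_of_injective j hj ρV hjρ
  letI := cV
  refine ⟨V, inferInstance, inferInstance, cV, ψ ∘ₗ j, inferInstance, inferInstance, fun y => ?_, ?_⟩
  · obtain ⟨x, hx, rfl⟩ : y ∈ W.map ψ := hsurj ▸ Submodule.mem_top
    exact ⟨⟨η ⟨x, hx⟩, hηV _⟩, congrArg ψ (hjη' ⟨x, hx⟩)⟩
  · refine LinearMap.ext fun x => ?_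
    obtain ⟨a, ha, w, hw⟩ := htor x.1 x.2
    refine hF a ha ?_
    simp only [LinearMap.comp_apply]
    rw [hcV, ← map_smul, ← map_smul, ← map_smul, ← map_smul, ← map_smul, LinearMap.rTensor_comp_apply, ← LinearMap.comp_apply (j.rTensor C), hjρ,
      LinearMap.comp_apply]
    simp only [LinearMap.comp_apply]
    rw [show jR (V.subtype (a • x)) = w.1 from (congrArg jR hw).trans (hjη' w),
      show j (a • x) = w.1 from (congrArg jR hw).trans (hjη' w)]
    exact hψ _ w.2

/-- The resolution property over regular rings of dimension at most two, for a flat coalgebra. -/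
theorem exists_projective_cover [IsRegularRing R] (hdim : ringKrullDim R ≤ 2) [Module.Flat R C] (F : Type u)
    [AddCommGroup F] [Module R F] [Comod R C F] [Module.Finite R F] :
    ∃ (V : Type u) (_ : AddCommGroup V) (_ : Module R V) (_ : Comod R C V) (f : V →ₗ[R] F),
      Module.Finite R V ∧ Module.Projective R V ∧ Function.Surjective f ∧
        Comod.coact (k := R) (A := C) ∘ₗ f = f.rTensor C ∘ₗ Comod.coact (k := R) (A := C) (V := V) := by
  classical
  obtain ⟨n, U, ψ, hU, hUs, hUψ, hUeq⟩ := exists_cover_in_cofree (R := R) (C := C) F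
  letI := cofree R C (Fin n → R)
  haveI := hU
  obtain ⟨cU, hρU⟩ := exists_comod_subcomod U hUs
  letI := cU
  obtain ⟨n', W, ψ', hW, hWs, hWψ, hWeq⟩ := exists_cover_in_cofree (R := R) (C := C) U
  letI := cofree R C (Fin n' → R)
  haveI := hW
  obtain ⟨V, iA, iM, iC, f, hfin, hproj, hsurj, heq⟩ := exists_projective_hull (F := U) hdim W hWs ψ' hWeq hWψ fun a ha => show IsSMulRegular (U ⊗[R] C) a from fun x y hxy =>
    injective_rTensor_subtype U (Module.Flat.isSMulRegular_of_nonZeroDivisors ha
      ((map_smul (U.subtype.rTensor C) a x).symm.trans ((congrArg (fun t : U ⊗[R] C => U.subtype.rTensor C t) hxy).trans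
        (map_smul (U.subtype.rTensor C) a y))))
  refine ⟨V, iA, iM, iC, ψ ∘ₗ U.subtype ∘ₗ f, hfin, hproj, ?_, LinearMap.ext fun v => ?_⟩
  · intro y
    obtain ⟨x, hx, rfl⟩ : y ∈ U.map ψ := hUψ ▸ Submodule.mem_top
    obtain ⟨v, hv⟩ := hsurj ⟨x, hx⟩
    exact ⟨v, by simp [hv]⟩
  · simp only [LinearMap.comp_apply, Submodule.subtype_apply]
    rw [hUeq _ (f v).2, LinearMap.rTensor_comp_apply, LinearMap.rTensor_comp_apply]
    congr 1
    rw [← LinearMap.comp_apply (f.rTensor C), ← heq, LinearMap.comp_apply]
    exact (LinearMap.congr_fun hρU (f v)).symm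


end Groth.Agent.GrpFieldLib.ComodRes
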