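import Mathlib
import Groth.Agent.GrpFieldLib.ComodResolution

/-!
# Matrix corepresentations from projective comodules
-/

set_option autoImplicit false
set_option linter.style.haveILetI false

open TensorProduct

namespace Groth.Agent.GrpFieldLib.ComodRes

universe u

variable {R : Type u} [CommRing R]

theorem isSubcomod_top {C M : Type u} [AddCommGroup C] [Module R C] [Coalgebra R C] [AddCommGroup M] [Module R M]
    [HopfRep.Comod R C M] : HopfRep.IsSubcomod (k := R) (A := C) (⊤ : Submodule R M) := fun w _ =>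
  LinearMap.rTensor_surjective C (g := (⊤ : Submodule R M).subtype) (fun x => ⟨⟨x, Submodule.mem_top⟩, rfl⟩) _

variable {A : Type u} [CommRing A] [HopfAlgebra R A]

open Coalgebra HopfRep

/-- A finite projective comodule gives an invertible matrix corepresentation containing its coefficients. -/
theorem exists_matrix {E : Type u} [AddCommGroup E] [Module R E] [Comod R A E] [Module.Finite R E]
    [Module.Projective R E] (π : E →ₗ[R] A)
    (hπ : CoalgebraStruct.comul (R := R) (A := A) ∘ₗ π = π.rTensor A ∘ₗ Comod.coact (k := R) (A := A)) :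
    ∃ (d : ℕ) (a : Matrix (Fin d) (Fin d) A),
      (∀ i j, CoalgebraStruct.comul (R := R) (a i j) = ∑ l, a i l ⊗ₜ[R] a l j) ∧
      (∀ i j, CoalgebraStruct.counit (R := R) (a i j) = if i = j then 1 else 0) ∧
      ∃ u : A, u * a.det = 1 ∧
        (LinearMap.range π : Set A) ⊆ Algebra.adjoin R (Set.range (fun p : Fin d × Fin d => a p.1 p.2) ∪ {u}) := by
  classical
  obtain ⟨d, r, hr⟩ := Module.Finite.exists_fin' R E
  obtain ⟨ι, hι⟩ := Module.projective_lifting_property r LinearMap.id hr
  have hι' : ∀ v, r (ι v) = v := LinearMap.congr_fun hι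
  let P : (Fin d → R) →ₗ[R] (Fin d → R) := LinearMap.id - ι ∘ₗ r
  have hP : ∀ x, r (P x) = 0 := fun x => by simp [P, hι']
  let co : E →ₗ[R] E ⊗[R] A := Comod.coact (k := R) (A := A)
  let ρ : (Fin d → R) →ₗ[R] (Fin d → R) ⊗[R] A :=
    ι.rTensor A ∘ₗ co ∘ₗ r + (TensorProduct.mk R (Fin d → R) A).flip 1 ∘ₗ P
  have hρ : ∀ x, ρ x = ι.rTensor A (co (r x)) + P x ⊗ₜ[R] (1 : A) := fun x => rfl
  have hρι : ρ ∘ₗ ι = ι.rTensor A ∘ₗ co := LinearMap.ext fun v => by
    rw [LinearMap.comp_apply, hρ]
    simp [P, hι']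
  have hρP : ∀ x, ρ (P x) = P x ⊗ₜ[R] (1 : A) := fun x => by
    rw [hρ, hP]
    simp [P, hι']
  have hcoass : ∀ x, TensorProduct.assoc R (Fin d → R) A A (ρ.rTensor A (ρ x)) =
      (CoalgebraStruct.comul (R := R) (A := A)).lTensor (Fin d → R) (ρ x) := by
    intro x
    have h2 := LinearMap.congr_fun (Comod.coassoc (k := R) (A := A) (V := E)) (r x)
    simp only [LinearMap.comp_apply, LinearEquiv.coe_coe] at h2
    conv_lhs => rw [hρ x]
    conv_rhs => rw [hρ x]
    rw [map_add, map_add, map_add, LinearMap.rTensor_tmul, hρP, ← LinearMap.rTensor_comp_apply, hρι,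
      LinearMap.rTensor_comp_apply, assoc_rTensor, h2, lTensor_rTensor, LinearMap.lTensor_tmul,
      Bialgebra.comul_one, TensorProduct.assoc_tmul, Algebra.TensorProduct.one_def]
  have hcounit : ∀ x, TensorProduct.rid R (Fin d → R) ((Coalgebra.counit (R := R) (A := A)).lTensor (Fin d → R) (ρ x)) = x := by
    intro x
    have h2 := LinearMap.congr_fun (Comod.counit_comp (k := R) (A := A) (V := E)) (r x)
    simp only [LinearMap.comp_apply] at h2
    rw [hρ, map_add, map_add, lTensor_rTensor, h2, LinearMap.lTensor_tmul, Bialgebra.counit_one]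
    simp [P]
  let e : Fin d → (Fin d → R) := fun j => Pi.single j 1
  let crd : Fin d → (Fin d → R) ⊗[R] A →ₗ[R] A := fun i =>
    (TensorProduct.lid R A).toLinearMap ∘ₗ (LinearMap.proj i : (Fin d → R) →ₗ[R] R).rTensor A
  let a : Matrix (Fin d) (Fin d) A := fun i j => crd i (ρ (e j))
  have hdec : ∀ t : (Fin d → R) ⊗[R] A, t = ∑ i, e i ⊗ₜ[R] crd i t := by
    intro t
    induction t using TensorProduct.induction_on with
    | zero => simp
    | tmul x c =>
      simp only [crd, LinearMap.comp_apply, LinearEquiv.coe_coe, LinearMap.rTensor_tmul, TensorProduct.lid_tmul,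
        LinearMap.proj_apply, TensorProduct.tmul_smul, TensorProduct.smul_tmul', e, ← TensorProduct.sum_tmul]
      congr 1
      exact pi_eq_sum_univ' x
    | add s t hs ht =>
      conv_lhs => rw [hs, ht]
      simp only [map_add, TensorProduct.tmul_add, Finset.sum_add_distrib]
  have hcomul : ∀ i j, CoalgebraStruct.comul (R := R) (a i j) = ∑ l, a i l ⊗ₜ[R] a l j := by
    intro i j
    have h := congrArg ((TensorProduct.lid R (A ⊗[R] A)).toLinearMap ∘ₗ
      (LinearMap.proj i : (Fin d → R) →ₗ[R] R).rTensor (A ⊗[R] A)) (hcoass (e j))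
    rw [hdec (ρ (e j))] at h
    simp only [map_sum, LinearMap.rTensor_tmul, LinearMap.lTensor_tmul, LinearMap.comp_apply, LinearEquiv.coe_coe,
      TensorProduct.lid_tmul, LinearMap.proj_apply] at h
    have h3 : ∀ l, (TensorProduct.lid R (A ⊗[R] A)) ((LinearMap.proj i : (Fin d → R) →ₗ[R] R).rTensor (A ⊗[R] A)
        (TensorProduct.assoc R (Fin d → R) A A (ρ (e l) ⊗ₜ[R] crd l (ρ (e j))))) = a i l ⊗ₜ[R] a l j := by
      intro l
      show _ = crd i (ρ (e l)) ⊗ₜ[R] crd l (ρ (e j))
      generalize ρ (e l) = t, crd l (ρ (e j)) = c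
      induction t using TensorProduct.induction_on with
      | zero => simp
      | tmul x y => simp [crd, TensorProduct.smul_tmul']
      | add s t hs ht => simp only [TensorProduct.add_tmul, map_add, hs, ht]
    simp only [h3] at h
    rw [h]
    simp only [e, Pi.single_apply, ite_smul, one_smul, zero_smul, Finset.sum_ite_eq, Finset.mem_univ, if_true]
    rfl
  have hcu : ∀ i j, CoalgebraStruct.counit (R := R) (a i j) = if i = j then 1 else 0 := by
    intro i j
    have h := congrFun (hcounit (e j)) i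
    rw [hdec (ρ (e j))] at h
    simp only [map_sum, LinearMap.lTensor_tmul, TensorProduct.rid_tmul, Finset.sum_apply, e, Pi.smul_apply,
      Pi.single_apply, smul_eq_mul, mul_ite, mul_one, mul_zero, Finset.sum_ite_eq, Finset.mem_univ, if_true] at h
    exact h
  have hinv : a.map (HopfAlgebraStruct.antipode R) * a = 1 := by
    ext i j
    rw [Matrix.mul_apply]
    have h := HopfAlgebra.mul_antipode_rTensor_comul_apply (R := R) (a i j)
    rw [hcomul] at h
    simp only [map_sum, LinearMap.rTensor_tmul, LinearMap.mul'_apply, hcu] at h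
    simp only [Matrix.map_apply]
    rw [h, Matrix.one_apply]
    split_ifs <;> simp
  refine ⟨d, a, hcomul, hcu, (a.map (HopfAlgebraStruct.antipode R)).det, by rw [← Matrix.det_mul, hinv, Matrix.det_one], ?_⟩
  rintro _ ⟨v, rfl⟩
  have hπv : π v = TensorProduct.lid R A ((Coalgebra.counit (R := R) (A := A)).rTensor A
      ((π ∘ₗ r).rTensor A (ρ (ι v)))) := by
    rw [show ρ (ι v) = ι.rTensor A (co v) from LinearMap.congr_fun hρι v, ← LinearMap.rTensor_comp_apply _ (π ∘ₗ r),
      LinearMap.comp_assoc, hι, LinearMap.comp_id, ← LinearMap.comp_apply (π.rTensor A), ← hπ, LinearMap.comp_apply,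
      Coalgebra.rTensor_counit_comul, TensorProduct.lid_tmul, one_smul]
  rw [hπv, pi_eq_sum_univ' (ι v)]
  simp only [map_sum, map_smul]
  refine Subalgebra.sum_mem _ fun j _ => Subalgebra.smul_mem _ ?_ _
  rw [hdec (ρ (Pi.single j 1))]
  simp only [map_sum, LinearMap.rTensor_tmul, TensorProduct.lid_tmul]
  refine Subalgebra.sum_mem _ fun i _ => Subalgebra.smul_mem _ ?_ _
  exact Algebra.subset_adjoin (Or.inl ⟨(i, j), rfl⟩)

/-- The matrix corepresentation attached to a projective cover of a subcomodule of the regular comodule. -/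
theorem exists_matrix_of_cover {M : Submodule R A} [Comod R A M]
    (hM : M.subtype.rTensor A ∘ₗ Comod.coact (k := R) (A := A) = CoalgebraStruct.comul (R := R) (A := A) ∘ₗ M.subtype)
    {E : Type u} [AddCommGroup E] [Module R E] [Comod R A E] [Module.Finite R E] [Module.Projective R E]
    (f : E →ₗ[R] M) (hsurj : Function.Surjective f)
    (hf : Comod.coact (k := R) (A := A) ∘ₗ f = f.rTensor A ∘ₗ Comod.coact (k := R) (A := A) (V := E))
    (F : Set A) (hF : F ⊆ M) :
    ∃ (d : ℕ) (a : Matrix (Fin d) (Fin d) A),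
      (∀ i j, CoalgebraStruct.comul (R := R) (a i j) = ∑ l, a i l ⊗ₜ[R] a l j) ∧
      (∀ i j, CoalgebraStruct.counit (R := R) (a i j) = if i = j then 1 else 0) ∧
      ∃ u : A, u * a.det = 1 ∧
        F ⊆ Algebra.adjoin R (Set.range (fun p : Fin d × Fin d => a p.1 p.2) ∪ {u}) := by
  obtain ⟨d, a, h1, h2, u, hu, hsub⟩ := exists_matrix (M.subtype ∘ₗ f) (by
    rw [← LinearMap.comp_assoc, ← hM, LinearMap.comp_assoc, hf, LinearMap.rTensor_comp, LinearMap.comp_assoc])
  exact ⟨d, a, h1, h2, u, hu, fun x hx => hsub (by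
    obtain ⟨v, hv⟩ := hsurj ⟨x, hF hx⟩
    exact ⟨v, congrArg Subtype.val hv⟩)⟩

end Groth.Agent.GrpFieldLib.ComodRes
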