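import Groth.Agent.GrpPtsLib.DenseMul
import Groth.Agent.S5223
import Groth.Agent.FpqcDescLib.Group
import Mathlib.AlgebraicGeometry.Morphisms.QuasiCompact
import Mathlib.AlgebraicGeometry.Morphisms.UnderlyingMap

/-! Dominant quasi-compact morphisms hit maximal points; dominant homomorphisms of group schemes. -/

universe u

open CategoryTheory MonoidalCategory CartesianMonoidalCategory MonObj AlgebraicGeometry Limits

namespace Groth.Agent.GrpFieldLib

/-- A quasi-compact dominant morphism hits every maximal point of the target. -/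
theorem mem_range_of_maximal {X Y : Scheme.{u}} (f : X ⟶ Y) [QuasiCompact f] [IsDominant f] (y : Y)
    (hy : closure {y} ∈ irreducibleComponents (Y : Type u)) : y ∈ Set.range f := by
  obtain ⟨V, hV, hyV, -⟩ := exists_isAffineOpen_mem_and_subset (show y ∈ (⊤ : Y.Opens) from trivial)
  haveI : IsAffine V.toScheme := hV
  haveI : IsDominant (f ∣_ V) := IsZariskiLocalAtTarget.restrict (P := @IsDominant) ‹_› V
  haveI : CompactSpace (f ⁻¹ᵁ V).toScheme := isCompact_iff_compactSpace.mp
    (QuasiCompact.isCompact_preimage (f := f) _ V.2 hV.isCompact)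
  obtain ⟨R, q, hq⟩ := compactSpace_iff_exists.mp ‹CompactSpace (f ⁻¹ᵁ V).toScheme›
  haveI : Surjective q := ⟨hq⟩
  obtain ⟨φ, hφ⟩ := Spec.map_surjective (q ≫ (f ∣_ V) ≫ V.toScheme.isoSpec.hom)
  haveI hd : IsDominant (Spec.map φ) := by rw [hφ]; infer_instance
  let p : PrimeSpectrum Γ(V.toScheme, ⊤) := V.toScheme.isoSpec.hom ⟨y, hyV⟩
  have hmax : ∀ w : PrimeSpectrum Γ(V.toScheme, ⊤), w ⤳ p → w = p := by
    intro w hw
    obtain ⟨v, rfl⟩ := V.toScheme.isoSpec.hom.homeomorph.surjective w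
    have h1 : v ⤳ (⟨y, hyV⟩ : V.toScheme) :=
      V.toScheme.isoSpec.hom.homeomorph.isEmbedding.isInducing.specializes_iff.mp hw
    have h2 : (v.1 : Y) ⤳ y := h1.map continuous_subtype_val
    have h3 : (v.1 : Y) ∈ closure {y} := hy.2 isIrreducible_singleton.closure
      (closure_minimal (Set.singleton_subset_iff.mpr (specializes_iff_mem_closure.mp h2))
        isClosed_closure) (subset_closure rfl)
    have h4 : (v.1 : Y) = y := (h2.antisymm (specializes_iff_mem_closure.mpr h3)).eq
    exact congrArg _ (Subtype.ext h4)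
  have hmin : p.asIdeal ∈ minimalPrimes Γ(V.toScheme, ⊤) := by
    obtain ⟨q', hq', hle⟩ := Ideal.exists_minimalPrimes_le (J := p.asIdeal) (bot_le : (⊥ : Ideal _) ≤ p.asIdeal)
    have he := hmax ⟨q', hq'.1.1⟩ ((PrimeSpectrum.le_iff_specializes _ _).mp hle)
    have he' : q' = p.asIdeal := congrArg PrimeSpectrum.asIdeal he
    exact he' ▸ hq'
  obtain ⟨r, hr⟩ := (PrimeSpectrum.denseRange_comap_iff_minimalPrimes (f := φ.hom)).mp hd.denseRange _ hmin
  let r' : Spec R := r
  have h5 : V.toScheme.isoSpec.hom ((f ∣_ V) (q r')) = V.toScheme.isoSpec.hom ⟨y, hyV⟩ := by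
    rw [← Scheme.Hom.comp_apply, ← Scheme.Hom.comp_apply, ← hφ]
    exact hr
  have h6 : (f ∣_ V) (q r') = (⟨y, hyV⟩ : V.toScheme) := V.toScheme.isoSpec.hom.homeomorph.injective h5
  refine ⟨(f ⁻¹ᵁ V).ι (q r'), ?_⟩
  rw [← Scheme.Hom.comp_apply, ← morphismRestrict_ι, Scheme.Hom.comp_apply, h6]
  rfl

theorem property_whiskerLeft {S : Scheme.{u}} {A B : Over S} (g : A ⟶ B) (P : Over S)
    (Q : MorphismProperty Scheme.{u}) [Q.IsStableUnderBaseChange] (h : Q g.left) : Q (P ◁ g).left :=
  MorphismProperty.of_isPullback ((FpqcDescLib.isPullback_whiskerLeft g P).map (Over.forget S)).flip h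

theorem property_whiskerRight {S : Scheme.{u}} {A B : Over S} (g : A ⟶ B) (P : Over S)
    (Q : MorphismProperty Scheme.{u}) [Q.IsStableUnderBaseChange] (h : Q g.left) : Q (g ▷ P).left :=
  MorphismProperty.of_isPullback ((FpqcDescLib.isPullback_whiskerRight g P).map (Over.forget S)).flip h

variable {S : Scheme.{u}} {G H : Over S} [GrpObj G] [GrpObj H]

/-- Every point of the source of a surjective homomorphism is a product of two points lying over
maximal points of the target. -/
theorem exists_mul_eq_over_maximal (f : G ⟶ H) [IsMonHom f] [Surjective f.left] (x : G.left)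
    (hx : Flat (G.left.fromSpecResidueField x ≫ G.hom)) :
    ∃ z : ↥(G ⊗ G).left, μ[G].left.base z = x ∧
      closure {f.left ((fst G G).left.base z)} ∈ irreducibleComponents ↥H.left ∧
      closure {f.left ((snd G G).left.base z)} ∈ irreducibleComponents ↥H.left := by
  let Y : Over S := Over.mk (G.left.fromSpecResidueField x ≫ G.hom)
  let gy : Y ⟶ G := Over.homMk (G.left.fromSpecResidueField x) rfl
  let a : Y ⊗ H ⟶ H := snd Y H
  let b : Y ⊗ H ⟶ H := (snd Y H)⁻¹ * (fst Y H ≫ gy ≫ f)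
  let σ : Y ⊗ H ⟶ Y ⊗ H := lift (fst Y H) b
  let τ : Y ⊗ H ⟶ Y ⊗ H := lift (fst Y H) ((fst Y H ≫ gy ≫ f) * (snd Y H)⁻¹)
  have hστ : σ ≫ τ = 𝟙 _ := by
    apply CartesianMonoidalCategory.hom_ext
    · simp [σ, τ]
    · simp [σ, τ, b, MonObj.comp_mul, GrpObj.comp_inv]
  have hτσ : τ ≫ σ = 𝟙 _ := by
    apply CartesianMonoidalCategory.hom_ext
    · simp [σ, τ]
    · simp [σ, τ, b, MonObj.comp_mul, GrpObj.comp_inv]
  have : IsIso σ := ⟨τ, hστ, hτσ⟩
  have : IsIso σ.left := inferInstanceAs (IsIso ((Over.forget S).map σ))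
  have : Flat Y.hom := hx
  have ha : Flat a.left := inferInstanceAs (Flat (pullback.snd Y.hom H.hom))
  have hb : Flat b.left := by
    have e : σ ≫ a = b := lift_snd _ _
    rw [← e, Over.comp_left]; infer_instance
  obtain ⟨p₀, -, -⟩ := Scheme.Pullback.exists_preimage_pullback (f := Y.hom) (g := H.hom)
    (IsLocalRing.closedPoint (G.left.residueField x)) (f.left x) (by
      show G.hom.base ((G.left.fromSpecResidueField x).base _) = H.hom.base (f.left x)
      rw [Scheme.fromSpecResidueField_apply, ← Scheme.Hom.comp_apply, Over.w f])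
  obtain ⟨q, hq⟩ : ∃ q : ↥(Y ⊗ H).left, closure {q} ∈ irreducibleComponents ↥(Y ⊗ H).left := by
    have hmem := irreducibleComponent_mem_irreducibleComponents p₀
    obtain ⟨q, hq⟩ := QuasiSober.sober hmem.1 (isClosed_irreducibleComponent (x := p₀))
    exact ⟨q, hq.def.symm ▸ hmem⟩
  haveI : Surjective (Y ◁ f).left :=
    property_whiskerLeft f Y @Surjective ‹_›
  obtain ⟨p, hp⟩ := (Y ◁ f).left.surjective q
  let a' : Y ⊗ G ⟶ G := snd Y G
  let b' : Y ⊗ G ⟶ G := (snd Y G)⁻¹ * (fst Y G ≫ gy)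
  refine ⟨(lift a' b').left.base p, ?_, ?_, ?_⟩
  · have e : lift a' b' ≫ μ[G] = fst Y G ≫ gy := by
      rw [← Hom.mul_def]; exact mul_inv_cancel_left _ _
    rw [← Scheme.Hom.comp_apply, ← Over.comp_left, e, Over.comp_left, Scheme.Hom.comp_apply]
    exact Scheme.fromSpecResidueField_apply _ _
  · have e : lift a' b' ≫ fst G G ≫ f = (Y ◁ f) ≫ a := by simp [a, a']
    rw [← Scheme.Hom.comp_apply, ← Scheme.Hom.comp_apply, ← Over.comp_left, ← Over.comp_left,
      e, Over.comp_left, Scheme.Hom.comp_apply, hp]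
    exact GrpPtsLib.mem_irreducibleComponents_of_generalizingMap a.left.continuous
      (Flat.generalizingMap a.left) hq
  · have e : lift a' b' ≫ snd G G ≫ f = (Y ◁ f) ≫ b := by
      simp [b, b', MonObj.comp_mul, MonObj.mul_comp, GrpObj.comp_inv, GrpObj.inv_comp]
    rw [← Scheme.Hom.comp_apply, ← Scheme.Hom.comp_apply, ← Over.comp_left, ← Over.comp_left,
      e, Over.comp_left, Scheme.Hom.comp_apply, hp]
    exact GrpPtsLib.mem_irreducibleComponents_of_generalizingMap b.left.continuous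
      (Flat.generalizingMap b.left) hq

end Groth.Agent.GrpFieldLib
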