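import Groth.Agent.GrpSchLib.Action
import Groth.Agent.GrpSchLib.FieldComp
import Mathlib.CategoryTheory.Monoidal.Cartesian.Over

/-! Base change of actions, and topological tools for actions over a field. -/

set_option backward.isDefEq.respectTransparency false
set_option backward.isDefEq.respectTransparency.types false

universe u

open CategoryTheory MonoidalCategory CartesianMonoidalCategory MonObj GrpObj AlgebraicGeometry
open Limits TopologicalSpace
open scoped CategoryTheory.Obj

namespace Groth.Agent.GrpFieldLib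

section BC

variable {S S' : Scheme.{u}} (f : S' ⟶ S) {G X : Over S} [GrpObj G] (a : AlgGrp.Action G X)

/-- The base change of an action. -/
noncomputable def bcAction : AlgGrp.Action ((Over.pullback f).obj G) ((Over.pullback f).obj X) where
  act := Functor.LaxMonoidal.μ (Over.pullback f) G X ≫ (Over.pullback f).map a.act
  one_act := by
    rw [show η[(Over.pullback f).obj G] = Functor.LaxMonoidal.ε (Over.pullback f) ≫ (Over.pullback f).map η[G] from rfl,
      MonoidalCategory.comp_whiskerRight, Category.assoc, Functor.LaxMonoidal.μ_natural_left_assoc, ← Functor.map_comp,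
      a.one_act]
    exact (Functor.LaxMonoidal.left_unitality (Over.pullback f) X).symm
  mul_act := by
    rw [show μ[(Over.pullback f).obj G] = Functor.LaxMonoidal.μ (Over.pullback f) G G ≫ (Over.pullback f).map μ[G] from rfl,
      MonoidalCategory.comp_whiskerRight, Category.assoc, Functor.LaxMonoidal.μ_natural_left_assoc, ← Functor.map_comp,
      a.mul_act, Functor.map_comp, Functor.map_comp, Functor.LaxMonoidal.associativity_assoc,
      MonoidalCategory.whiskerLeft_comp, Category.assoc, Functor.LaxMonoidal.μ_natural_right_assoc]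

theorem lift_bcAction {T : Over S} (g : T ⟶ G) (x : T ⟶ X) :
    lift ((Over.pullback f).map g) ((Over.pullback f).map x) ≫ (bcAction f a).act =
      (Over.pullback f).map (lift g x ≫ a.act) := by
  rw [bcAction, Functor.Monoidal.lift_μ_assoc, Functor.map_comp]

theorem surjective_bcAction (hΦ : Surjective (lift a.act (snd G X)).left) :
    Surjective (lift (bcAction f a).act (snd ((Over.pullback f).obj G) ((Over.pullback f).obj X))).left := by
  let F := Over.pullback f
  have e : lift (bcAction f a).act (snd (F.obj G) (F.obj X)) ≫ Functor.LaxMonoidal.μ F X X =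
      Functor.LaxMonoidal.μ F G X ≫ F.map (lift a.act (snd G X)) := by
    rw [← Functor.Monoidal.lift_μ, ← Category.assoc]
    congr 1
    apply CartesianMonoidalCategory.hom_ext
    · simp [bcAction, F]
    · simp [F]
  haveI : Surjective (F.map (lift a.act (snd G X))).left :=
    MorphismProperty.overPullbackMap (P := @Surjective) _ _ hΦ
  haveI : IsIso (Functor.LaxMonoidal.μ F X X).left := ((Over.forget _).mapIso (Functor.Monoidal.μIso F X X)).isIso_hom
  haveI : IsIso (Functor.LaxMonoidal.μ F G X).left := ((Over.forget _).mapIso (Functor.Monoidal.μIso F G X)).isIso_hom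
  have h := congrArg (fun φ => Over.Hom.left φ) e
  simp only [Over.comp_left] at h
  haveI : Surjective ((Functor.LaxMonoidal.μ F G X).left ≫ (F.map (lift a.act (snd G X))).left) := inferInstance
  rw [← MorphismProperty.cancel_right_of_respectsIso @Surjective _ (Functor.LaxMonoidal.μ F X X).left, h]
  infer_instance

end BC

section Topology

/-- Points adherent to the image of a quasi-compact morphism specialize from the image. -/
theorem exists_specializes_of_mem_closure {X Y : Scheme.{u}} (f : X ⟶ Y) [QuasiCompact f] {y : Y}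
    (hy : y ∈ closure (Set.range f)) : ∃ x, f x ⤳ y := by
  obtain ⟨U, hU, hyU, -⟩ := exists_isAffineOpen_mem_and_subset (show y ∈ (⊤ : Y.Opens) from trivial)
  haveI : CompactSpace (f ⁻¹ᵁ U).toScheme := isCompact_iff_compactSpace.mp
    (QuasiCompact.isCompact_preimage (f := f) _ U.2 hU.isCompact)
  obtain ⟨R, q, hq⟩ := compactSpace_iff_exists.mp ‹CompactSpace (f ⁻¹ᵁ U).toScheme›
  let e : Spec R ⟶ Spec Γ(Y, U) := q ≫ (f ∣_ U) ≫ hU.isoSpec.hom
  have he : e ≫ hU.fromSpec = q ≫ (f ⁻¹ᵁ U).ι ≫ f := by
    simp only [e, IsAffineOpen.fromSpec, Category.assoc, Iso.hom_inv_id_assoc, morphismRestrict_ι]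
  have hrange : hU.fromSpec ⁻¹' Set.range f ⊆ Set.range e := by
    rintro z ⟨x, hx⟩
    have hxU : f x ∈ U := by
      have : hU.fromSpec z ∈ Set.range hU.fromSpec := ⟨z, rfl⟩
      rw [hU.range_fromSpec, ← hx] at this
      exact this
    obtain ⟨r, hr⟩ := hq (⟨x, hxU⟩ : (f ⁻¹ᵁ U).toScheme)
    refine ⟨r, hU.fromSpec.isOpenEmbedding.injective ?_⟩
    rw [← Scheme.Hom.comp_apply, he, Scheme.Hom.comp_apply, Scheme.Hom.comp_apply, hr]
    exact hx
  obtain ⟨z, rfl⟩ : y ∈ Set.range hU.fromSpec := hU.range_fromSpec.symm ▸ hyU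
  have hz : z ∈ closure (Set.range e) := by
    refine closure_mono hrange ?_
    rw [← hU.fromSpec.isOpenEmbedding.isOpenMap.preimage_closure_eq_closure_preimage
      hU.fromSpec.continuous]
    exact hy
  obtain ⟨φ, hφ⟩ := Spec.map_surjective e
  rw [← hφ] at hz he
  have hz' : RingHom.ker φ.hom ≤ z.asIdeal := by
    have : z ∈ closure (Set.range (PrimeSpectrum.comap φ.hom)) := hz
    rw [PrimeSpectrum.closure_range_comap] at this
    exact (PrimeSpectrum.mem_zeroLocus _ _).mp this
  have : z.asIdeal.IsPrime := PrimeSpectrum.isPrime z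
  obtain ⟨p', hp', hle⟩ := Ideal.exists_minimalPrimes_le hz'
  obtain ⟨p, hp, -, hpq⟩ := Ideal.exists_comap_eq_of_mem_minimalPrimes (I := ⊥) φ.hom p'
    (by rw [← RingHom.ker_eq_comap_bot]; exact hp')
  have hc : (Spec.map φ ⟨p, hp⟩ : Spec Γ(Y, U)) ⤳ z :=
    (PrimeSpectrum.le_iff_specializes _ _).mp (show p.comap φ.hom ≤ z.asIdeal from hpq ▸ hle)
  refine ⟨(f ⁻¹ᵁ U).ι (q ⟨p, hp⟩), ?_⟩
  have := hc.map hU.fromSpec.continuous
  rw [← Scheme.Hom.comp_apply, he, Scheme.Hom.comp_apply, Scheme.Hom.comp_apply] at this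
  exact this

variable {X : Type*} [TopologicalSpace X]

theorem isMaxPt_of_closure_mem {Y : Type*} [TopologicalSpace Y] [T0Space Y] [QuasiSober Y] {y : Y}
    (h : closure {y} ∈ irreducibleComponents Y) : GrpSchLib.IsMaxPt y := fun d hd =>
  (hd.antisymm (specializes_iff_mem_closure.mpr (h.2 isIrreducible_singleton.closure
    (closure_minimal (Set.singleton_subset_iff.mpr hd.mem_closure) isClosed_closure)
    (subset_closure rfl)))).eq

theorem closure_mem_irreducibleComponents {Y : Type*} [TopologicalSpace Y] [QuasiSober Y] {y : Y}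
    (h : GrpSchLib.IsMaxPt y) : closure {y} ∈ irreducibleComponents Y := by
  refine ⟨isIrreducible_singleton.closure, fun Z hZ hyZ => ?_⟩
  have hgen := hZ.closure.isGenericPoint_genericPoint isClosed_closure
  have : hZ.closure.genericPoint = y := h _ (hgen.specializes (subset_closure (hyZ (subset_closure rfl))))
  intro z hz
  rw [← this]
  exact (hgen.specializes (subset_closure hz)).mem_closure

theorem exists_eq_closure {Y : Type*} [TopologicalSpace Y] [T0Space Y] [QuasiSober Y] {Z : Set Y}
    (hZ : Z ∈ irreducibleComponents Y) : ∃ y, GrpSchLib.IsMaxPt y ∧ Z = closure {y} := by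
  have h := hZ.1.isGenericPoint_genericPoint (isClosed_of_mem_irreducibleComponents Z hZ)
  exact ⟨_, isMaxPt_of_closure_mem (by rw [h.def]; exact hZ), h.def.symm⟩

/-- A generalizing preimage of a maximal point. -/
theorem exists_isMaxPt_over {Y Z : Type*} [TopologicalSpace Y] [TopologicalSpace Z] [T0Space Y]
    [QuasiSober Y] {p : Y → Z} (hp : Continuous p) (hg : GeneralizingMap p) {z : Z} {y : Y}
    (hzy : z ⤳ p y) (hz : GrpSchLib.IsMaxPt z) :
    ∃ c, GrpSchLib.IsMaxPt c ∧ c ⤳ y ∧ p c = z := by
  obtain ⟨w, hw, hwz⟩ := hg hzy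
  obtain ⟨c, hc, hcw⟩ := GrpSchLib.exists_isMaxPt w
  exact ⟨c, hc, hcw.trans hw, hz _ (hwz ▸ hcw.map hp)⟩

end Topology

end Groth.Agent.GrpFieldLib
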