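import Groth.Agent.GrpFieldLib.HomogBase
import Groth.Agent.GrpSchLib.FieldAllComp

/-!
# Components of schemes with a transitive action over a field

If `(g, x) ↦ (g x, x)` is surjective then, over an algebraically closed field, every irreducible
component through a rational point `x` is the closure of the orbit of `x` under the component of
the unit.
-/

set_option backward.isDefEq.respectTransparency false
set_option backward.isDefEq.respectTransparency.types false

universe u

open CategoryTheory MonoidalCategory CartesianMonoidalCategory MonObj GrpObj AlgebraicGeometry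
open Limits TopologicalSpace
open scoped CategoryTheory.Obj
open Groth.Agent.GrpSchLib (IsMaxPt UniComp hull left_comp_apply bc bcProj)

namespace Groth.Agent.GrpFieldLib

variable {K : Type u} [Field K]

/-- The single point of the base. -/
noncomputable abbrev pt (K : Type u) [Field K] : ↥(Spec (CommRingCat.of K)) := IsLocalRing.closedPoint K

/-- The underlying set of the component of the unit. -/
noncomputable abbrev unitComp (G : Over (Spec (CommRingCat.of K))) [GrpObj G] : Set G.left :=
  connectedComponent (η[G].left (pt K))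

variable {G X : Over (Spec (CommRingCat.of K))} [GrpObj G]

theorem exists_unitComp_eq : ∃ g, IsMaxPt g ∧ g ⤳ η[G].left (pt K) ∧ unitComp G = closure {g} := by
  obtain ⟨g, hg, hge⟩ := GrpSchLib.exists_isMaxPt (η[G].left (pt K))
  exact ⟨g, hg, hge, GrpSchLib.connectedComponent_one hg hge⟩

theorem isIrreducible_unitComp : IsIrreducible (unitComp G) := by
  obtain ⟨g, -, -, h⟩ := exists_unitComp_eq (G := G)
  rw [h]; exact isIrreducible_singleton.closure

theorem mem_unitComp_of_specializes {a : G.left} (h : a ⤳ η[G].left (pt K)) : a ∈ unitComp G := by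
  obtain ⟨g, hg, hge, he⟩ := exists_unitComp_eq (G := G)
  rw [he]
  exact (hg.specializes GrpSchLib.uniComp hge h).mem_closure

theorem inv_mem_unitComp {x : G.left} (hx : x ∈ unitComp G) :
    (GrpObj.inv : G ⟶ G).left x ∈ unitComp G := by
  obtain ⟨g, hg, hge, he⟩ := exists_unitComp_eq (G := G)
  rw [he] at hx ⊢
  exact GrpSchLib.inv_mem_closure hg hge hx

theorem mul_mem_unitComp {p : (G ⊗ G).left} (h1 : (fst G G).left p ∈ unitComp G)
    (h2 : (snd G G).left p ∈ unitComp G) : μ[G].left p ∈ unitComp G := by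
  obtain ⟨g, hg, hge, he⟩ := exists_unitComp_eq (G := G)
  rw [he] at h1 h2 ⊢
  exact GrpSchLib.mul_mem_closure hg hge ⟨h1, h2⟩

theorem range_tensorHom' {A B A' B' : Over (Spec (CommRingCat.of K))} (j : A ⟶ A') (j' : B ⟶ B') :
    Set.range (j ⊗ₘ j').left =
      (fst A' B').left ⁻¹' Set.range j.left ∩ (snd A' B').left ⁻¹' Set.range j'.left := by
  rw [Over.tensorHom_left]
  exact Scheme.Pullback.range_map _ _ _ _ _ _ _ _ _

theorem exists_unitComp_subscheme (G : Over (Spec (CommRingCat.of K))) [GrpObj G] :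
    ∃ (T : Over (Spec (CommRingCat.of K))) (j : T ⟶ G), IsClosedImmersion j.left ∧
      Set.range j.left = unitComp G ∧ GeometricallyIrreducible T.hom ∧ IrreducibleSpace T.left := by
  obtain ⟨g, hg, hge, he⟩ := exists_unitComp_eq (G := G)
  obtain ⟨T, j, hj, hjr⟩ := GrpSchLib.exists_over_range_eq (closure {g}) isClosed_closure
  exact ⟨T, j, hj, hjr.trans he.symm, GrpSchLib.geometricallyIrreducible_one hg hge j hjr,
    GrpSchLib.irreducibleSpace_of_range j (hjr ▸ isIrreducible_singleton.closure)⟩

/-- The product of the component of the unit with an irreducible closed set is irreducible. -/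
theorem isIrreducible_unitComp_prod {Z : Set X.left} (hZc : IsClosed Z) (hZ : IsIrreducible Z) :
    IsIrreducible ((fst G X).left ⁻¹' unitComp G ∩ (snd G X).left ⁻¹' Z) := by
  obtain ⟨T, j, hj, hjr, hT, hT'⟩ := exists_unitComp_subscheme G
  obtain ⟨T', j', hj', hjr'⟩ := GrpSchLib.exists_over_range_eq Z hZc
  have := GrpSchLib.irreducibleSpace_of_range j' (hjr' ▸ hZ)
  have : IrreducibleSpace (T ⊗ T').left := inferInstanceAs (IrreducibleSpace ↥(pullback T.hom T'.hom))
  rw [← hjr, ← hjr', ← range_tensorHom', ← Set.image_univ]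
  exact (IrreducibleSpace.isIrreducible_univ _).image _ (j ⊗ₘ j').left.continuous.continuousOn

variable (a : AlgGrp.Action G X)

/-- Irreducible components are stable under the component of the unit. -/
theorem act_mem_of_isMaxPt {c : X.left} (hc : IsMaxPt c) {q : (G ⊗ X).left}
    (hq : (fst G X).left q ∈ unitComp G) (hqc : c ⤳ (snd G X).left q) : c ⤳ a.act.left q := by
  have hW := GrpSchLib.isIrreducible_closure_image a.act.left.continuous
    (isIrreducible_unitComp_prod (G := G) isClosed_closure (isIrreducible_singleton (x := c)).closure)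
  have hgen := hW.isGenericPoint_genericPoint isClosed_closure
  have he : lift (toUnit X ≫ η[G]) (𝟙 X) ≫ a.act = 𝟙 X := GrpSchLib.act_one a (𝟙 X)
  have hsp : hW.genericPoint ⤳ c := hgen.specializes (subset_closure
    ⟨(lift (toUnit X ≫ η[G]) (𝟙 X)).left c, ⟨by
      rw [Set.mem_preimage, ← left_comp_apply, lift_fst, GrpSchLib.apply_pointSection]
      exact mem_connectedComponent, by
      rw [Set.mem_preimage, ← left_comp_apply, lift_snd]
      exact subset_closure rfl⟩, by rw [← left_comp_apply, he]; rfl⟩)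
  exact hc _ hsp ▸ hgen.specializes (subset_closure ⟨q, ⟨hq, hqc.mem_closure⟩, rfl⟩)

/-- Over an algebraically closed field, the quotient of two points in one irreducible closed set
lies in the component of the unit. -/
theorem div_mem_unitComp [IsAlgClosed K] (g : G.left) {z : (G ⊗ G).left}
    (h1 : g ⤳ (fst G G).left z) (h2 : g ⤳ (snd G G).left z) :
    ((fst G G)⁻¹ * snd G G).left z ∈ unitComp G := by
  obtain ⟨T, j, hj, hjr⟩ := GrpSchLib.exists_over_range_eq (closure {g}) isClosed_closure
  have := GrpSchLib.irreducibleSpace_of_range j (hjr ▸ isIrreducible_singleton.closure)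
  have := GrpSchLib.geometricallyIrreducible_of_isAlgClosed T.hom
  have : IrreducibleSpace (T ⊗ T).left := inferInstanceAs (IrreducibleSpace ↥(pullback T.hom T.hom))
  let d : G ⊗ G ⟶ G := (fst G G)⁻¹ * snd G G
  have hirr : IsIrreducible ((fst G G).left ⁻¹' closure {g} ∩ (snd G G).left ⁻¹' closure {g}) := by
    rw [← hjr, ← range_tensorHom', ← Set.image_univ]
    exact (IrreducibleSpace.isIrreducible_univ _).image _ (j ⊗ₘ j).left.continuous.continuousOn
  have hW := GrpSchLib.isIrreducible_closure_image d.left.continuous hirr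
  have hgen := hW.isGenericPoint_genericPoint isClosed_closure
  have hd : lift (𝟙 G) (𝟙 G) ≫ d = toUnit G ≫ η[G] := by
    simp [d, MonObj.comp_mul, GrpObj.comp_inv, MonObj.one_eq_one]
  have hmem : hW.genericPoint ⤳ η[G].left (pt K) := hgen.specializes (subset_closure
    ⟨(lift (𝟙 G) (𝟙 G)).left g, ⟨by
      rw [Set.mem_preimage, ← left_comp_apply, lift_fst]; exact subset_closure rfl, by
      rw [Set.mem_preimage, ← left_comp_apply, lift_snd]; exact subset_closure rfl⟩, by
      rw [← left_comp_apply, hd, GrpSchLib.apply_pointSection]⟩)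
  obtain ⟨g₀, hg₀, hge₀, he₀⟩ := exists_unitComp_eq (G := G)
  rw [he₀]
  exact ((hg₀.specializes GrpSchLib.uniComp hge₀ hmem).trans
    (hgen.specializes (subset_closure ⟨z, ⟨h1.mem_closure, h2.mem_closure⟩, rfl⟩))).mem_closure

theorem orbitMap_mem_of_isMaxPt (x : 𝟙_ _ ⟶ X) {c : X.left} (hc : IsMaxPt c)
    (hcx : c ⤳ x.left (pt K)) {g : G.left} (hg : g ∈ unitComp G) : c ⤳ (a.orbitMap x).left g := by
  have h := act_mem_of_isMaxPt a hc (q := (lift (𝟙 G) (toUnit G ≫ x)).left g)
    (by rw [← left_comp_apply, lift_fst]; exact hg)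
    (by rw [← left_comp_apply, lift_snd, GrpSchLib.apply_pointSection]; exact hcx)
  rw [← left_comp_apply] at h
  exact h

/-- Every point is in the orbit of a rational point. -/
theorem exists_orbitMap_eq (hΦ : Surjective (lift a.act (snd G X)).left) (x : 𝟙_ _ ⟶ X) (y : X.left) :
    ∃ g : G.left, (a.orbitMap x).left g = y := by
  obtain ⟨q, hq⟩ := hΦ.surj ((lift (𝟙 X) (toUnit X ≫ x)).left y)
  have h2 : (snd G X).left q = x.left (pt K) := by
    have := congrArg (snd X X).left hq
    rw [← left_comp_apply, lift_snd, ← left_comp_apply, lift_snd, GrpSchLib.apply_pointSection] at this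
    exact this
  have h1 : a.act.left q = y := by
    have := congrArg (fst X X).left hq
    rw [← left_comp_apply, lift_fst, ← left_comp_apply, lift_fst] at this
    exact this
  have hmem : q ∈ Set.range (𝟙 G ⊗ₘ x).left := by
    rw [range_tensorHom']
    exact ⟨⟨_, rfl⟩, ⟨pt K, h2.symm⟩⟩
  obtain ⟨r, rfl⟩ := hmem
  refine ⟨(fst G (𝟙_ _)).left r, ?_⟩
  have he : fst G (𝟙_ _) ≫ a.orbitMap x = (𝟙 G ⊗ₘ x) ≫ a.act := by
    rw [AlgGrp.Action.orbitMap, ← Category.assoc, comp_lift]
    congr 1
    apply CartesianMonoidalCategory.hom_ext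
    · simp
    · simp [toUnit_unique (toUnit (G ⊗ 𝟙_ _)) (snd G (𝟙_ _))]
  rw [← h1, ← left_comp_apply, ← left_comp_apply, he]

section BC

variable {L : Type u} [Field L] (φ : K →+* L)

/-- The base change of a rational point. -/
noncomputable def bcPoint (x : 𝟙_ (Over (Spec (CommRingCat.of K))) ⟶ X) :
    𝟙_ (Over (Spec (CommRingCat.of L))) ⟶ bc X φ :=
  Functor.LaxMonoidal.ε (Over.pullback (Spec.map (CommRingCat.ofHom φ))) ≫
    (Over.pullback (Spec.map (CommRingCat.ofHom φ))).map x

theorem bcProj_map {Y Y' : Over (Spec (CommRingCat.of K))} (f : Y ⟶ Y') (p : (bc Y φ).left) :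
    bcProj Y' φ (((Over.pullback (Spec.map (CommRingCat.ofHom φ))).map f).left p) =
      f.left (bcProj Y φ p) :=
  congrArg (fun h : (bc Y φ).left ⟶ Y'.left => h p) (pullback.lift_fst _ _ _)

theorem bcProj_point (x : 𝟙_ (Over (Spec (CommRingCat.of K))) ⟶ X) :
    bcProj X φ ((bcPoint φ x).left (pt L)) = x.left (pt K) := by
  rw [bcPoint, left_comp_apply, bcProj_map]
  exact congrArg x.left (@Subsingleton.elim (Spec (CommRingCat.of K)) inferInstance _ _)

theorem bcProj_one : bcProj G φ (η[bc G φ].left (pt L)) = η[G].left (pt K) := bcProj_point φ η[G]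

theorem bcProj_mem_unitComp {g : (bc G φ).left} (hg : g ∈ unitComp (bc G φ)) :
    bcProj G φ g ∈ unitComp G := by
  have := (bcProj G φ).continuous.image_connectedComponent_subset (η[bc G φ].left (pt L)) ⟨g, hg, rfl⟩
  rwa [bcProj_one] at this

theorem orbitMap_bcAction (x : 𝟙_ (Over (Spec (CommRingCat.of K))) ⟶ X) :
    (bcAction (Spec.map (CommRingCat.ofHom φ)) a).orbitMap (bcPoint φ x) =
      (Over.pullback (Spec.map (CommRingCat.ofHom φ))).map (a.orbitMap x) := by
  let F := Over.pullback (Spec.map (CommRingCat.ofHom φ))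
  have h1 : toUnit (F.obj G) ≫ Functor.LaxMonoidal.ε F = F.map (toUnit G) := by
    rw [← cancel_mono (Functor.Monoidal.εIso F).inv]
    exact toUnit_unique _ _
  have h2 : toUnit (F.obj G) ≫ bcPoint φ x = F.map (toUnit G ≫ x) := by
    show toUnit (F.obj G) ≫ Functor.LaxMonoidal.ε F ≫ F.map x = _
    rw [← Category.assoc, h1, F.map_comp]
  show lift (𝟙 (F.obj G)) (toUnit (F.obj G) ≫ bcPoint φ x) ≫ _ = F.map _
  rw [h2, ← F.map_id G]
  exact lift_bcAction _ a _ _

theorem isPullback_bcProj {Y Y' : Over (Spec (CommRingCat.of K))} (f : Y ⟶ Y') :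
    IsPullback (bcProj Y φ) ((Over.pullback (Spec.map (CommRingCat.ofHom φ))).map f).left f.left
      (bcProj Y' φ) := by
  refine IsPullback.of_bot ?_ (pullback.lift_fst _ _ _).symm
    (IsPullback.of_hasPullback Y'.hom (Spec.map (CommRingCat.ofHom φ)))
  have h1 : ((Over.pullback (Spec.map (CommRingCat.ofHom φ))).map f).left ≫ pullback.snd Y'.hom _ =
      pullback.snd Y.hom (Spec.map (CommRingCat.ofHom φ)) := pullback.lift_snd _ _ _
  rw [h1, Over.w f]
  exact IsPullback.of_hasPullback Y.hom _

theorem isIrreducible_bcProj_preimage [IsAlgClosed K] {Z : Set X.left} (hZc : IsClosed Z)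
    (hZ : IsIrreducible Z) : IsIrreducible (bcProj X φ ⁻¹' Z) := by
  obtain ⟨T, j, hj, hjr⟩ := GrpSchLib.exists_over_range_eq Z hZc
  have := GrpSchLib.irreducibleSpace_of_range j (hjr ▸ hZ)
  let j' : bc T φ ⟶ bc X φ := (Over.pullback (Spec.map (CommRingCat.ofHom φ))).map j
  have hr : Set.range j'.left = bcProj X φ ⁻¹' Z := by
    have : j'.left = pullback.map _ _ _ _ j.left (𝟙 _) (𝟙 _) (by simp) (by simp) := by
      apply pullback.hom_ext <;> simp [j', pullback.map, pullback.lift_fst, pullback.lift_snd]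
    rw [this]
    refine (Scheme.Pullback.range_map _ _ _ _ _ _ _ _ _).trans ?_
    rw [hjr]
    simp
  rw [← hr, ← Set.image_univ]
  have : IrreducibleSpace (bc T φ).left := GrpSchLib.irreducibleSpace_pullback_of_isAlgClosed T.hom φ
  exact (IrreducibleSpace.isIrreducible_univ _).image _ j'.left.continuous.continuousOn

theorem exists_generic_over [IsAlgClosed K] {c : X.left} :
    ∃ ζ : (bc X φ).left, bcProj X φ ζ = c ∧ closure {ζ} = bcProj X φ ⁻¹' closure {c} ∧
      (IsMaxPt c → IsMaxPt ζ) := by
  have hirr := isIrreducible_bcProj_preimage (X := X) φ isClosed_closure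
    (isIrreducible_singleton (x := c)).closure
  have hgen := hirr.isGenericPoint_genericPoint (isClosed_closure.preimage (bcProj X φ).continuous)
  refine ⟨hirr.genericPoint, ?_, hgen.def, fun hc d hd => ?_⟩
  · have := GrpSchLib.surjective_spec_map_field φ
    obtain ⟨y, hy⟩ := (bcProj X φ).surjective c
    have hy' : hirr.genericPoint ⤳ y := hgen.specializes (by rw [Set.mem_preimage, hy]; exact subset_closure rfl)
    have h1 := hy'.map (bcProj X φ).continuous
    rw [hy] at h1
    exact (h1.antisymm (specializes_iff_mem_closure.mpr hgen.mem)).eq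
  · have h1 : bcProj X φ hirr.genericPoint ∈ closure {c} := hgen.mem
    have h2 : bcProj X φ d ⤳ bcProj X φ hirr.genericPoint := hd.map (bcProj X φ).continuous
    have hge : bcProj X φ hirr.genericPoint ⤳ c := by
      have := GrpSchLib.surjective_spec_map_field φ
      obtain ⟨y, hy⟩ := (bcProj X φ).surjective c
      have hy' : hirr.genericPoint ⤳ y := hgen.specializes (by rw [Set.mem_preimage, hy]; exact subset_closure rfl)
      have h3 := hy'.map (bcProj X φ).continuous
      rwa [hy] at h3
    have hd' : d ∈ bcProj X φ ⁻¹' closure {c} := by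
      rw [Set.mem_preimage, hc _ (h2.trans hge)]; exact subset_closure rfl
    exact (hd.antisymm (hgen.specializes hd')).eq

end BC

/-- Translation by a rational point. -/
noncomputable def transl (g : 𝟙_ (Over (Spec (CommRingCat.of K))) ⟶ G) : X ≅ X where
  hom := lift (toUnit X ≫ g) (𝟙 X) ≫ a.act
  inv := lift (toUnit X ≫ g)⁻¹ (𝟙 X) ≫ a.act
  hom_inv_id := by
    rw [← Category.assoc, comp_lift, Category.comp_id, GrpObj.comp_inv, ← Category.assoc _ (toUnit X),
      comp_toUnit, GrpSchLib.act_mul, inv_mul_cancel, GrpSchLib.act_one]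
  inv_hom_id := by
    rw [← Category.assoc, comp_lift, Category.comp_id, ← Category.assoc _ (toUnit X), comp_toUnit,
      GrpSchLib.act_mul, mul_inv_cancel, GrpSchLib.act_one]

theorem div_orbitMap_transl (x : 𝟙_ _ ⟶ X) (g : 𝟙_ (Over (Spec (CommRingCat.of K))) ⟶ G) :
    (lift (toUnit G ≫ g) (𝟙 G) ≫ ((fst G G)⁻¹ * snd G G)) ≫ a.orbitMap x ≫ (transl a g).hom =
      a.orbitMap x := by
  simp only [MonObj.comp_mul, GrpObj.comp_inv, lift_fst, lift_snd, transl,
    AlgGrp.Action.orbitMap, ← Category.assoc, comp_lift, Category.comp_id, comp_toUnit]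
  rw [GrpSchLib.act_mul, mul_inv_cancel_left]

/-- Over an algebraically closed field, a component through a rational point is the closure of
its orbit under the component of the unit. -/
theorem mem_closure_orbit [IsAlgClosed K] (hΦ : Surjective (lift a.act (snd G X)).left)
    (x : 𝟙_ _ ⟶ X) {c : X.left} (hc : IsMaxPt c) (hcx : c ⤳ x.left (pt K)) :
    c ∈ closure ((a.orbitMap x).left '' unitComp G) := by
  obtain ⟨g, hgc⟩ := exists_orbitMap_eq a hΦ x c
  obtain ⟨L, _, _, φ, g', hg'⟩ := GrpSchLib.exists_bc_point g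
  let a' := bcAction (Spec.map (CommRingCat.ofHom φ)) a
  let x' := bcPoint φ x
  let o' := a'.orbitMap x'
  have ho' : o' = (Over.pullback (Spec.map (CommRingCat.ofHom φ))).map (a.orbitMap x) :=
    orbitMap_bcAction a φ x
  obtain ⟨ζ, hζc, hζZ, hζmax⟩ := exists_generic_over (X := X) φ (c := c)
  have hζm := hζmax hc
  have hζx : ζ ⤳ x'.left (pt L) := specializes_iff_mem_closure.mpr <| by
    rw [hζZ, Set.mem_preimage, bcProj_point]; exact hcx.mem_closure
  obtain ⟨q, hq, hq'⟩ : ∃ q, bcProj G φ q = g ∧ o'.left q = ζ := by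
    obtain ⟨w, hw1, hw2⟩ := Scheme.Pullback.exists_preimage_pullback (f := (a.orbitMap x).left)
      (g := bcProj X φ) g ζ (hgc.trans hζc.symm)
    refine ⟨(isPullback_bcProj φ (a.orbitMap x)).isoPullback.inv w, ?_, ?_⟩
    · rw [← Scheme.Hom.comp_apply, IsPullback.isoPullback_inv_fst]; exact hw1
    · rw [ho', ← Scheme.Hom.comp_apply, IsPullback.isoPullback_inv_snd]; exact hw2
  obtain ⟨γ, -, hγZ, -⟩ := exists_generic_over (X := G) φ (c := g)
  let m := lift (toUnit (bc G φ) ≫ g') (𝟙 (bc G φ))
  let r := (m ≫ ((fst _ _)⁻¹ * snd _ _)).left q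
  have hr : r ∈ unitComp (bc G φ) := by
    refine div_mem_unitComp (K := L) γ (z := m.left q) ?_ ?_
    · rw [← left_comp_apply, lift_fst, GrpSchLib.apply_pointSection, specializes_iff_mem_closure,
        hγZ, Set.mem_preimage]
      rw [show bcProj G φ (g'.left (IsLocalRing.closedPoint L)) = g from hg']
      exact subset_closure rfl
    · rw [← left_comp_apply, lift_snd, specializes_iff_mem_closure, hγZ, Set.mem_preimage,
        show (𝟙 (bc G φ) : bc G φ ⟶ bc G φ).left q = q from rfl, hq]
      exact subset_closure rfl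
  have hm : (m ≫ ((fst _ _)⁻¹ * snd _ _)) ≫ o' ≫ (transl a' g').hom = o' :=
    div_orbitMap_transl a' x' g'
  have hr' : (transl a' g').hom.left (o'.left r) = ζ := by
    rw [← left_comp_apply, ← left_comp_apply, hm, hq']
  let W := closure (o'.left '' unitComp (bc G φ))
  have hW : IsIrreducible W :=
    GrpSchLib.isIrreducible_closure_image o'.left.continuous isIrreducible_unitComp
  have hWgen := hW.isGenericPoint_genericPoint isClosed_closure
  have hWsub : W ⊆ closure {ζ} := closure_minimal (by
    rintro _ ⟨v, hv, rfl⟩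
    exact (orbitMap_mem_of_isMaxPt a' x' hζm hζx hv).mem_closure) isClosed_closure
  haveI : IsIso (transl a' g').hom.left := ((Over.forget _).mapIso (transl a' g')).isIso_hom
  let τ := (transl a' g').hom.left.homeomorph
  have h1 : τ hW.genericPoint = ζ := hζm _ <| by
    have : hW.genericPoint ⤳ o'.left r := hWgen.specializes (subset_closure ⟨r, hr, rfl⟩)
    have h2 := this.map τ.continuous
    rw [show τ (o'.left r) = ζ from hr'] at h2
    exact h2
  have h3 : hW.genericPoint = ζ := by
    have hmax : IsMaxPt hW.genericPoint := fun d hd => τ.injective <| by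
      rw [h1]
      exact hζm _ (h1 ▸ hd.map τ.continuous)
    exact (hmax ζ (specializes_iff_mem_closure.mpr (hWsub hWgen.mem))).symm
  have h4 : ζ ∈ W := h3 ▸ hWgen.mem
  have h5 := image_closure_subset_closure_image (bcProj X φ).continuous ⟨ζ, h4, rfl⟩
  rw [hζc] at h5
  refine closure_mono ?_ h5
  rintro _ ⟨_, ⟨v, hv, rfl⟩, rfl⟩
  refine ⟨bcProj G φ v, bcProj_mem_unitComp φ hv, ?_⟩
  rw [ho', bcProj_map]

/-- Every point of a scheme with a transitive action lies on a single irreducible component. -/
theorem uniComp_homog (hΦ : Surjective (lift a.act (snd G X)).left) : UniComp X.left := by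
  intro y b b' hb hb'
  obtain ⟨c, hc, hcb⟩ := GrpSchLib.exists_isMaxPt b
  obtain ⟨c', hc', hcb'⟩ := GrpSchLib.exists_isMaxPt b'
  obtain ⟨L, _, _, φ, y', hy'⟩ := GrpSchLib.exists_bc_point y
  obtain ⟨d, hd, hdy, hdc⟩ := exists_isMaxPt_over (bcProj X φ).continuous
    (GrpSchLib.bcProj_generalizing φ) (show c ⤳ bcProj X φ _ from hy'.symm ▸ hcb.trans hb) hc
  obtain ⟨d', hd', hdy', hdc'⟩ := exists_isMaxPt_over (bcProj X φ).continuous
    (GrpSchLib.bcProj_generalizing φ) (show c' ⤳ bcProj X φ _ from hy'.symm ▸ hcb'.trans hb') hc'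
  have h := mem_closure_orbit (bcAction (Spec.map (CommRingCat.ofHom φ)) a)
    (surjective_bcAction _ a hΦ) y' hd hdy
  have h' : d' ⤳ d := specializes_iff_mem_closure.mpr (closure_minimal (by
    rintro _ ⟨v, hv, rfl⟩
    exact (orbitMap_mem_of_isMaxPt _ y' hd' hdy' hv).mem_closure) isClosed_closure h)
  refine ⟨c, hcb, ?_⟩
  rw [← hdc, ← hd d' h', hdc']
  exact hcb'

end Groth.Agent.GrpFieldLib
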