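import Groth.Agent.GrpFieldLib.HomogDim

/-!
# Transitive and almost transitive actions and the component of the unit
-/

set_option backward.isDefEq.respectTransparency false
set_option backward.isDefEq.respectTransparency.types false

universe u

open CategoryTheory MonoidalCategory CartesianMonoidalCategory MonObj GrpObj AlgebraicGeometry
open Limits TopologicalSpace
open scoped CategoryTheory.Obj
open Groth.Agent.GrpSchLib (IsMaxPt left_comp_apply bc bcProj)

namespace Groth.Agent.GrpFieldLib

variable {K : Type u} [Field K] {G X : Over (Spec (CommRingCat.of K))} [GrpObj G] (a : AlgGrp.Action G X)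

/-- The points whose first component is in the component of the unit. -/
def neutralPart (G X : Over (Spec (CommRingCat.of K))) [GrpObj G] : Set (G ⊗ X).left :=
  (fst G X).left ⁻¹' unitComp G

theorem surjective_lift_swap :
    Surjective (lift (snd G X) a.act).left ↔ Surjective (lift a.act (snd G X)).left := by
  have h : lift (snd G X) a.act = lift a.act (snd G X) ≫ (β_ X X).hom := by
    apply CartesianMonoidalCategory.hom_ext <;> simp
  haveI : IsIso (β_ X X).hom.left := ((Over.forget _).mapIso (β_ X X)).isIso_hom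
  rw [h, Over.comp_left]
  exact MorphismProperty.cancel_right_of_respectsIso @Surjective _ _

theorem eq_image_neutralPart_of_transitive [GeometricallyIrreducible X.hom] [UniversallyOpen X.hom]
    [QuasiSeparatedSpace X.left] (hΦ : Surjective (lift a.act (snd G X)).left) :
    (lift (snd G X) a.act).left '' neutralPart G X = Set.univ := by
  refine Set.eq_univ_of_forall fun w => ?_
  obtain ⟨L, _, _, φ, w', hw'⟩ := GrpSchLib.exists_bc_point w
  let F := Over.pullback (Spec.map (CommRingCat.ofHom φ))
  let a' := bcAction (Spec.map (CommRingCat.ofHom φ)) a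
  have hΦ' := surjective_bcAction (Spec.map (CommRingCat.ofHom φ)) a hΦ
  let x' : 𝟙_ _ ⟶ bc X φ := w' ≫ F.map (fst X X)
  let y' : 𝟙_ _ ⟶ bc X φ := w' ≫ F.map (snd X X)
  haveI : QuasiSeparated X.hom := inferInstance
  haveI : QuasiSeparatedSpace (bc X φ).left :=
    quasiSeparatedSpace_of_quasiSeparated (pullback.snd X.hom (Spec.map (CommRingCat.ofHom φ)))
  haveI : IrreducibleSpace (bc X φ).left :=
    inferInstanceAs (IrreducibleSpace ↥(pullback X.hom (Spec.map (CommRingCat.ofHom φ))))
  have hmax : IsMaxPt (genericPoint (bc X φ).left) := fun d hd =>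
    (hd.antisymm (genericPoint_specializes d)).eq
  have himg := image_orbit_eq a' hΦ' x' hmax (genericPoint_specializes _)
  rw [genericPoint_closure] at himg
  obtain ⟨g, hg, hgy⟩ := himg.symm.subset (Set.mem_univ (y'.left (pt L)))
  let z' := lift (𝟙 (bc G φ)) (toUnit (bc G φ) ≫ x')
  let μGX := Functor.LaxMonoidal.μ F G X
  refine ⟨bcProj (G ⊗ X) φ (μGX.left (z'.left g)), ?_, ?_⟩
  · show (fst G X).left _ ∈ unitComp G
    rw [← bcProj_map φ (fst G X), ← left_comp_apply]
    erw [Functor.Monoidal.μ_fst]
    rw [← left_comp_apply, lift_fst]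
    exact bcProj_mem_unitComp φ hg
  · rw [← bcProj_map φ (lift (snd G X) a.act), ← hw']
    refine congrArg _ ?_
    show (F.map (lift (snd G X) a.act)).left (μGX.left (z'.left g)) = w'.left (pt L)
    let q : bc X φ ⟶ bc X φ ⊗ bc X φ := lift (toUnit (bc X φ) ≫ x') (𝟙 _)
    have e1 : z' ≫ (μGX ≫ F.map (lift (snd G X) a.act)) =
        a'.orbitMap x' ≫ q ≫ Functor.LaxMonoidal.μ F X X := by
      rw [← Functor.Monoidal.lift_μ (F := F) (snd G X) a.act]
      simp only [← Category.assoc]
      congr 1
      rw [Category.assoc, comp_lift, comp_lift, comp_lift]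
      congr 1
      · rw [← Category.assoc, ← Category.assoc, comp_toUnit]
        simp [z', μGX]
        exact lift_snd _ _
    have e2 : y' ≫ q ≫ Functor.LaxMonoidal.μ F X X = w' := by
      rw [← Category.assoc, comp_lift, Category.comp_id, ← Category.assoc, toUnit_unique (y' ≫ toUnit _) (𝟙 _),
        Category.id_comp]
      show lift (w' ≫ F.map (fst X X)) (w' ≫ F.map (snd X X)) ≫ _ = w'
      rw [← comp_lift, Category.assoc, Functor.Monoidal.lift_μ, lift_fst_snd]
      erw [CategoryTheory.Functor.map_id]
      exact Category.comp_id _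
    rw [← left_comp_apply, ← left_comp_apply, e1, left_comp_apply, hgy, ← left_comp_apply, e2]

/-- The components of a group over an algebraically closed field are translates of that of the unit. -/
theorem exists_translate_of_mem [IsAlgClosed K] [LocallyOfFiniteType G.hom] (x : G.left) :
    ∃ σ : 𝟙_ _ ⟶ G, σ.left (pt K) ∈ connectedComponent x ∧
      ((toUnit G ≫ σ) * 𝟙 G).left '' unitComp G = connectedComponent x := by
  obtain ⟨σ, hσ⟩ := exists_rationalPt_of_nonempty (Y := G) (Z := connectedComponent x) isClosed_connectedComponent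
    ⟨x, mem_connectedComponent⟩
  refine ⟨σ, hσ, ?_⟩
  let L : G ≅ G :=
    { hom := (toUnit G ≫ σ) * 𝟙 G
      inv := (toUnit G ≫ σ⁻¹) * 𝟙 G
      hom_inv_id := by simp [MonObj.comp_mul, GrpObj.comp_inv, ← _root_.mul_assoc]
      inv_hom_id := by simp [MonObj.comp_mul, GrpObj.comp_inv, ← _root_.mul_assoc] }
  let e := ((Over.forget _).mapIso L).hom.homeomorph
  have he : e (η[G].left (pt K)) = σ.left (pt K) := by
    show L.hom.left _ = _
    rw [← left_comp_apply]
    congr 2
    simp [L, MonObj.comp_mul, MonObj.one_eq_one]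
  have := e.image_connectedComponentIn (Set.mem_univ (η[G].left (pt K)))
  simp only [Set.image_univ, EquivLike.range_eq_univ, connectedComponentIn_univ] at this
  rw [he, ← connectedComponent_eq hσ] at this
  exact this

/-- Over an algebraically closed field, almost transitivity only depends on the component of the unit. -/
theorem dense_neutralPart_of_dense_isAlgClosed [IsAlgClosed K] [LocallyOfFiniteType G.hom] [CompactSpace G.left]
    [IrreducibleSpace (X ⊗ X).left] (hd : DenseRange (lift (snd G X) a.act).left) :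
    Dense ((lift (snd G X) a.act).left '' neutralPart G X) := by
  let Φ := (lift (snd G X) a.act).left
  haveI : IsLocallyNoetherian G.left := LocallyOfFiniteType.isLocallyNoetherian G.hom
  haveI : DiscreteTopology (ConnectedComponents G.left) := by
    refine discreteTopology_iff_isOpen_singleton.mpr fun c => ?_
    obtain ⟨x, rfl⟩ := ConnectedComponents.surjective_coe c
    rw [← ConnectedComponents.isQuotientMap_coe.isOpen_preimage, connectedComponents_preimage_singleton]
    exact GrpSchLib.isOpen_connectedComponent x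
  haveI : Finite (ConnectedComponents G.left) := finite_of_compact_of_discrete
  let part : ConnectedComponents G.left → Set (X ⊗ X).left := fun c =>
    closure (Φ '' ((fst G X).left ⁻¹' (ConnectedComponents.mk ⁻¹' {c})))
  have hcov : (Set.univ : Set (X ⊗ X).left) ⊆ ⋃₀ ↑((Set.toFinite (Set.range part)).toFinset) := by
    rw [← dense_iff_closure_eq.mp hd, Set.Finite.coe_toFinset, Set.sUnion_range]
    refine closure_minimal ?_ (isClosed_iUnion_of_finite fun c => isClosed_closure)
    rintro _ ⟨z, rfl⟩
    exact Set.mem_iUnion.mpr ⟨ConnectedComponents.mk ((fst G X).left z), subset_closure ⟨z, rfl, rfl⟩⟩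
  obtain ⟨t, ht, htu⟩ := isIrreducible_iff_sUnion_isClosed.mp (IrreducibleSpace.isIrreducible_univ _)
    (Set.toFinite (Set.range part)).toFinset (fun t ht => by
      obtain ⟨c, rfl⟩ := (Set.Finite.mem_toFinset _).mp ht
      exact isClosed_closure) hcov
  obtain ⟨c, rfl⟩ := (Set.Finite.mem_toFinset _).mp ht
  obtain ⟨x, rfl⟩ := ConnectedComponents.surjective_coe c
  obtain ⟨σ, -, hσ⟩ := exists_translate_of_mem (G := G) x
  let Ψ := (𝟙 X ⊗ₘ (transl a σ).hom).left
  haveI : IsIso Ψ := ((Over.forget _).mapIso (asIso (𝟙 X ⊗ₘ (transl a σ).hom))).isIso_hom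
  let L := (toUnit G ≫ σ) * 𝟙 G
  have hc : (L ▷ X) ≫ lift (snd G X) a.act = lift (snd G X) a.act ≫ (𝟙 X ⊗ₘ (transl a σ).hom) := by
    apply CartesianMonoidalCategory.hom_ext
    · simp
    · simp only [Category.assoc, lift_snd, tensorHom_snd, lift_snd_assoc, transl]
      rw [← Category.assoc a.act, comp_lift, Category.comp_id, ← Category.assoc a.act, comp_toUnit]
      have h0 : a.act = lift (fst G X) (snd G X) ≫ a.act := by simp
      conv_rhs => arg 1; arg 2; rw [h0]
      rw [GrpSchLib.act_mul]
      congr 1
      apply CartesianMonoidalCategory.hom_ext <;> simp [L, MonObj.comp_mul]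
  have hsub : Φ '' ((fst G X).left ⁻¹' (ConnectedComponents.mk ⁻¹' {ConnectedComponents.mk x})) ⊆
      Ψ '' (Φ '' neutralPart G X) := by
    rintro _ ⟨z, hz, rfl⟩
    rw [Set.mem_preimage, connectedComponents_preimage_singleton, ← hσ] at hz
    obtain ⟨g, hg, hgz⟩ := hz
    obtain ⟨z₀, hz₀, rfl⟩ : ∃ z₀, (fst G X).left z₀ ∈ unitComp G ∧ (L ▷ X).left z₀ = z := by
      obtain ⟨j, hj⟩ : ∃ j : G ≅ G, j.hom = L := ⟨
        { hom := L
          inv := (toUnit G ≫ σ⁻¹) * 𝟙 G
          hom_inv_id := by simp [L, MonObj.comp_mul, GrpObj.comp_inv, ← _root_.mul_assoc]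
          inv_hom_id := by simp [L, MonObj.comp_mul, GrpObj.comp_inv, ← _root_.mul_assoc] }, rfl⟩
      obtain ⟨z₀, hz₀⟩ := ((Over.forget _).mapIso (whiskerRightIso j X)).hom.homeomorph.surjective z
      have hz₀' : (L ▷ X).left z₀ = z := hj ▸ hz₀
      refine ⟨z₀, ?_, hz₀'⟩
      have h1 : L.left ((fst G X).left z₀) = L.left g := by
        rw [hgz, ← hz₀', ← left_comp_apply, ← left_comp_apply, whiskerRight_fst]
      have h2 : (fst G X).left z₀ = g :=
        ((Over.forget _).mapIso j).hom.homeomorph.injective (by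
          show j.hom.left _ = j.hom.left _
          rw [hj]; exact h1)
      rw [h2]; exact hg
    refine ⟨Φ z₀, ⟨z₀, hz₀, rfl⟩, ?_⟩
    show (𝟙 X ⊗ₘ (transl a σ).hom).left ((lift (snd G X) a.act).left z₀) = _
    rw [← left_comp_apply, ← hc, left_comp_apply]
  have hdense : Dense (Ψ '' (Φ '' neutralPart G X)) :=
    Dense.mono hsub (dense_iff_closure_eq.mpr (Set.univ_subset_iff.mp htu))
  exact Ψ.isOpenEmbedding.isInducing.dense_iff.mpr fun x => hdense _

theorem dense_neutralPart_of_dense [GeometricallyIrreducible X.hom] [UniversallyOpen X.hom]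
    [LocallyOfFiniteType G.hom] [QuasiCompact G.hom] (hd : DenseRange (lift (snd G X) a.act).left) :
    Dense ((lift (snd G X) a.act).left '' neutralPart G X) := by
  let φ := algebraMap K (AlgebraicClosure K)
  let F := Over.pullback (Spec.map (CommRingCat.ofHom φ))
  let a' := bcAction (Spec.map (CommRingCat.ofHom φ)) a
  haveI : LocallyOfFiniteType (bc G φ).hom := inferInstanceAs (LocallyOfFiniteType (pullback.snd G.hom _))
  haveI : CompactSpace (bc G φ).left :=
    QuasiCompact.compactSpace_of_compactSpace (pullback.snd G.hom (Spec.map (CommRingCat.ofHom φ)))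
  haveI : GeometricallyIrreducible (bc X φ).hom :=
    inferInstanceAs (GeometricallyIrreducible (pullback.snd X.hom _))
  haveI : UniversallyOpen (bc X φ).hom := inferInstanceAs (UniversallyOpen (pullback.snd X.hom _))
  haveI : IrreducibleSpace (bc X φ).left :=
    inferInstanceAs (IrreducibleSpace ↥(pullback X.hom (Spec.map (CommRingCat.ofHom φ))))
  haveI : IrreducibleSpace (bc X φ ⊗ bc X φ).left :=
    inferInstanceAs (IrreducibleSpace ↥(pullback (bc X φ).hom (bc X φ).hom))
  haveI := GrpSchLib.flat_spec_map_field φ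
  haveI := GrpSchLib.surjective_spec_map_field φ
  let μX := Functor.LaxMonoidal.μ F X X
  let μG := Functor.LaxMonoidal.μ F G X
  have he : lift (snd (bc G φ) (bc X φ)) a'.act ≫ μX = μG ≫ F.map (lift (snd G X) a.act) := by
    rw [← Functor.Monoidal.lift_μ, ← Category.assoc]
    congr 1
    apply CartesianMonoidalCategory.hom_ext
    · simp [μG, F]
    · simp [a', bcAction, μG, F]
  haveI hμX : IsIso μX.left := ((Over.forget _).mapIso (Functor.Monoidal.μIso F X X)).isIso_hom
  haveI : IsIso μG.left := ((Over.forget _).mapIso (Functor.Monoidal.μIso F G X)).isIso_hom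
  haveI : UniversallyOpen (Spec.map (CommRingCat.ofHom φ)) := inferInstance
  have hopen : IsOpenMap (bcProj (X ⊗ X) φ) :=
    (bcProj (X ⊗ X) φ).isOpenMap
  have hd' : DenseRange (lift (snd (bc G φ) (bc X φ)) a'.act).left := by
    intro p
    refine μX.left.isOpenEmbedding.isInducing.closure_eq_preimage_closure_image _ ▸ ?_
    rw [Set.mem_preimage, ← Set.range_comp]
    have hset : Set.range (μX.left ∘ (lift (snd (bc G φ) (bc X φ)) a'.act).left) =
        bcProj (X ⊗ X) φ ⁻¹' Set.range (lift (snd G X) a.act).left := by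
      ext q
      constructor
      · rintro ⟨z, rfl⟩
        refine ⟨bcProj (G ⊗ X) φ (μG.left z), ?_⟩
        rw [← bcProj_map φ, ← left_comp_apply, ← he]
        rfl
      · rintro ⟨z, hz⟩
        obtain ⟨r, hr1, hr2⟩ := Scheme.Pullback.exists_preimage_pullback (f := (lift (snd G X) a.act).left)
          (g := bcProj (X ⊗ X) φ) z q hz
        let p' := (isPullback_bcProj φ (lift (snd G X) a.act)).isoPullback.inv r
        obtain ⟨z', hz'⟩ := μG.left.homeomorph.surjective p'
        refine ⟨z', ?_⟩
        show μX.left _ = q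
        rw [← left_comp_apply, he, left_comp_apply, show μG.left z' = p' from hz', ← Scheme.Hom.comp_apply,
          IsPullback.isoPullback_inv_snd]
        exact hr2
    rw [hset]
    exact (hd.preimage hopen) _
  have h := DenseRange.dense_image (f := fun q => bcProj (X ⊗ X) φ (μX.left q))
    ((bcProj (X ⊗ X) φ).surjective.comp μX.left.homeomorph.surjective).denseRange
    ((bcProj (X ⊗ X) φ).continuous.comp μX.left.continuous) (dense_neutralPart_of_dense_isAlgClosed a' hd')
  refine h.mono ?_
  rintro _ ⟨_, ⟨z, hz, rfl⟩, rfl⟩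
  refine ⟨bcProj (G ⊗ X) φ (μG.left z), ?_, ?_⟩
  · show (fst G X).left _ ∈ unitComp G
    rw [← bcProj_map φ (fst G X), ← left_comp_apply]
    erw [Functor.Monoidal.μ_fst]
    exact bcProj_mem_unitComp φ hz
  · rw [← bcProj_map φ, ← left_comp_apply, ← he]
    rfl

end Groth.Agent.GrpFieldLib
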