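import Groth.Agent.GrpFieldLib.HomogTop
import Groth.Agent.GrpSchLib.Neutral

/-! Transitive actions with connected fibres: the neutral components already act transitively on opens. -/

set_option backward.isDefEq.respectTransparency false
set_option backward.isDefEq.respectTransparency.types false

universe u

open CategoryTheory Limits MonoidalCategory CartesianMonoidalCategory MonObj GrpObj AlgebraicGeometry
open TopologicalSpace
open scoped CategoryTheory.Obj
open Groth.Agent.GrpSchLib (IsMaxPt left_comp_apply)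
open Groth.Agent.GrpSchLib.Neutral (fib unit hom_unit mem_neutralSet_iff connectedComponentIn_eq map_fst
  neutralSet_bc bc_unit unit_mem_neutralSet exists_mul)

namespace Groth.Agent.GrpFieldLib.HomogRel

/-- In a connected quasi-separated homogeneous space over a field the translates of a non-empty open
by the component of the unit cover the space. -/
theorem unitTranslates_eq_univ {K : Type u} [Field K] {G X : Over (Spec (CommRingCat.of K))} [GrpObj G]
    (a : AlgGrp.Action G X) (hΦ : Surjective (lift a.act (snd G X)).left)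
    [QuasiSeparatedSpace X.left] [PreconnectedSpace X.left] {U : Set X.left} (hU : IsOpen U)
    (hUne : U.Nonempty) : unitTranslates a U = Set.univ := by
  obtain ⟨x, hxU⟩ := hUne
  obtain ⟨c, hc, hcx⟩ := GrpSchLib.exists_isMaxPt x
  have h := connectedComponent_eq_closure a hΦ hc hcx
  rw [PreconnectedSpace.connectedComponent_eq_univ] at h
  rw [unitTranslates_eq_hull a hΦ hU]
  exact Set.eq_univ_of_forall fun y =>
    ⟨c, hcx.mem_open hU hxU, specializes_iff_mem_closure.mpr (h ▸ Set.mem_univ y)⟩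

/-- The neutral set over a field is the component of the unit. -/
theorem neutralSet_eq_unitComp {K : Type u} [Field K] (H : Over (Spec (CommRingCat.of K))) [GrpObj H] :
    SGA3x.neutralSet H = unitComp H := by
  haveI : Subsingleton ↥(Spec (CommRingCat.of K)) := inferInstanceAs (Subsingleton (PrimeSpectrum K))
  ext z
  rw [mem_neutralSet_iff]
  have h1 : H.hom ⁻¹' {H.hom z} = Set.univ :=
    Set.eq_univ_of_forall fun w => Subsingleton.elim _ _
  rw [h1, connectedComponentIn_univ]
  rw [show H.hom z = pt K from Subsingleton.elim _ _]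
  rfl

variable {S : Scheme.{u}} {G X : Over S} [GrpObj G]

theorem fibre_translate (a : AlgGrp.Action G X) (hΦ : Surjective (lift a.act (snd G X)).left) {s : S}
    (hqs : QuasiSeparatedSpace ↥(X.hom ⁻¹' {s})) (hconn : _root_.IsPreconnected (X.hom ⁻¹' {s}))
    {U : Set X.left} (hU : IsOpen U) (hne : (U ∩ X.hom ⁻¹' {s}).Nonempty) {z : X.left}
    (hz : X.hom z = s) :
    ∃ q : (G ⊗ X).left, (fst G X).left q ∈ SGA3x.neutralSet G ∧ (snd G X).left q ∈ U ∧ a.act.left q = z := by
  let f := S.fromSpecResidueField s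
  let F := Over.pullback f
  let π : (F.obj X).left → X.left := pullback.fst X.hom f
  have hπ : Topology.IsEmbedding π := (X.hom.fiberι s).isEmbedding
  have hr : Set.range π = X.hom ⁻¹' {s} := Scheme.Hom.range_fiberι X.hom s
  let e : ↥(F.obj X).left ≃ₜ ↥(X.hom ⁻¹' {s}) := hπ.toHomeomorph.trans (Homeomorph.setCongr hr)
  haveI : QuasiSeparatedSpace ↥(F.obj X).left := e.isOpenEmbedding.quasiSeparatedSpace
  haveI : PreconnectedSpace ↥(F.obj X).left := by
    haveI := Subtype.preconnectedSpace hconn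
    exact e.symm.surjective.denseRange.preconnectedSpace e.symm.continuous
  obtain ⟨x, hxU, hxs⟩ := hne
  obtain ⟨x', hx'⟩ : x ∈ Set.range π := hr.ge hxs
  have hu := unitTranslates_eq_univ (bcAction f a) (surjective_bcAction f a hΦ)
    (U := π ⁻¹' U) (hU.preimage (pullback.fst X.hom f).continuous) ⟨x', show π x' ∈ U from hx'.symm ▸ hxU⟩
  obtain ⟨z', hz'⟩ : z ∈ Set.range π := hr.ge hz
  obtain ⟨q, ⟨hq1, hq2⟩, hq⟩ := hu.ge (Set.mem_univ z')
  refine ⟨pullback.fst (G ⊗ X).hom f ((Functor.LaxMonoidal.μ F G X).left q), ?_, ?_, ?_⟩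
  · rw [← map_fst, ← left_comp_apply, Functor.Monoidal.μ_fst]
    have h1 : (fst (F.obj G) (F.obj X)).left q ∈ SGA3x.neutralSet (F.obj G) := by
      rw [neutralSet_eq_unitComp (K := S.residueField s)]
      exact hq1
    have h2 : SGA3x.neutralSet (F.obj G) = pullback.fst G.hom f ⁻¹' SGA3x.neutralSet G := neutralSet_bc G f
    rw [h2] at h1
    exact h1
  · rw [← map_fst, ← left_comp_apply, Functor.Monoidal.μ_snd]
    exact hq2
  · rw [← map_fst, ← left_comp_apply, ← hz']
    exact congrArg π hq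

/-- The neutral component of the base change to a field is irreducible. -/
theorem isIrreducible_neutral_field {K : Type u} [Field K] (t : Spec (CommRingCat.of K) ⟶ S) :
    IsIrreducible ((fst G (Over.mk t)).left ⁻¹' SGA3x.neutralSet G) := by
  have h := isIrreducible_unitComp (G := (Over.pullback t).obj G)
  rw [← neutralSet_eq_unitComp,
    show SGA3x.neutralSet ((Over.pullback t).obj G) = pullback.fst G.hom t ⁻¹' SGA3x.neutralSet G from
      neutralSet_bc G t] at h
  exact h

/-- Some point of the neutral component moves a given field valued point into a given open. -/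
theorem exists_translate_mem (a : AlgGrp.Action G X) (hΦ : Surjective (lift a.act (snd G X)).left) {s : S}
    (hqs : QuasiSeparatedSpace ↥(X.hom ⁻¹' {s})) (hconn : _root_.IsPreconnected (X.hom ⁻¹' {s}))
    {U : Set X.left} (hU : IsOpen U) (hne : (U ∩ X.hom ⁻¹' {s}).Nonempty)
    {K : Type u} [Field K] {t : Spec (CommRingCat.of K) ⟶ S} (ht : t (pt K) = s) (x : Over.mk t ⟶ X) :
    ∃ p : (G ⊗ Over.mk t).left, (fst G (Over.mk t)).left p ∈ SGA3x.neutralSet G ∧
      (lift (fst G (Over.mk t))⁻¹ (snd G (Over.mk t) ≫ x) ≫ a.act).left p ∈ U := by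
  have hz : X.hom (x.left (pt K)) = s :=
    (congrArg (fun m : Spec (CommRingCat.of K) ⟶ S => m (pt K)) (Over.w x)).trans ht
  obtain ⟨q, hq1, hq2, hq3⟩ := fibre_translate a hΦ hqs hconn hU hne hz
  -- `(g, y) ↦ (g, g y)` moves `q` over the point
  let σ : G ⊗ X ⟶ G ⊗ X := lift (fst G X) a.act
  have hq' : (snd G X).left (σ.left q) = x.left (pt K) := by
    rw [← left_comp_apply, lift_snd, hq3]
  have hpb : IsPullback (G ◁ x) (snd G (Over.mk t)) (snd G X) x :=
    IsPullback.of_isLimit' ⟨by simp⟩ (Limits.PullbackCone.IsLimit.mk _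
      (fun c => lift (c.fst ≫ fst G X) c.snd)
      (fun c => by
        apply CartesianMonoidalCategory.hom_ext
        · simp
        · simpa using c.condition.symm)
      (fun c => by simp)
      (fun c m h1 h2 => by
        apply CartesianMonoidalCategory.hom_ext
        · rw [lift_fst, ← h1]; simp
        · simpa using h2))
  obtain ⟨w, hw1, hw2⟩ := Scheme.Pullback.exists_preimage_pullback (f := (snd G X).left) (g := x.left)
    (σ.left q) (pt K) hq'
  let p := (hpb.map (Over.forget S)).isoPullback.inv w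
  have hp : (G ◁ x).left p = σ.left q := by
    rw [← hw1]
    exact congrArg (fun m => (m : pullback (snd G X).left x.left ⟶ (G ⊗ X).left) w)
      (hpb.map (Over.forget S)).isoPullback_inv_fst
  refine ⟨p, ?_, ?_⟩
  · rw [show fst G (Over.mk t) = (G ◁ x) ≫ fst G X by simp, left_comp_apply, hp, ← left_comp_apply, lift_fst]
    exact hq1
  · have h1 : lift (fst G (Over.mk t))⁻¹ (snd G (Over.mk t) ≫ x) ≫ a.act =
        (G ◁ x) ≫ lift (fst G X)⁻¹ (snd G X) ≫ a.act := by
      rw [← Category.assoc (G ◁ x), comp_lift, GrpObj.comp_inv, whiskerLeft_fst, whiskerLeft_snd]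
    have h2 : σ ≫ lift (fst G X)⁻¹ (snd G X) ≫ a.act = snd G X := by
      rw [← Category.assoc σ, comp_lift, GrpObj.comp_inv, lift_fst, lift_snd]
      conv_lhs => arg 1; arg 2; rw [show a.act = lift (fst G X) (snd G X) ≫ a.act by simp]
      rw [GrpSchLib.act_mul, inv_mul_cancel, GrpSchLib.act_one]
    rw [h1, left_comp_apply, hp, ← left_comp_apply, h2]
    exact hq2

omit [GrpObj G] in
/-- Products of compact opens over an affine open of the base are compact. -/
theorem isCompact_prod {A B : Over S} {S₀ : S.Opens} (hS₀ : IsAffineOpen S₀) {P : A.left.Opens}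
    {Q : B.left.Opens} (hP : IsCompact (P : Set A.left)) (hQ : IsCompact (Q : Set B.left))
    (hPS : P ≤ A.hom ⁻¹ᵁ S₀) (hQS : Q ≤ B.hom ⁻¹ᵁ S₀) :
    IsCompact ((fst A B).left ⁻¹' (P : Set A.left) ∩ (snd A B).left ⁻¹' (Q : Set B.left)) := by
  haveI : IsAffine (S₀ : Scheme.{u}) := hS₀
  haveI : CompactSpace (P : Scheme.{u}) := isCompact_iff_compactSpace.mp hP
  haveI : CompactSpace (Q : Scheme.{u}) := isCompact_iff_compactSpace.mp hQ
  haveI : QuasiCompact (A.hom.resLE S₀ P hPS) :=
    (HasAffineProperty.iff_of_isAffine (P := @QuasiCompact)).mpr inferInstance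
  let m : pullback (A.hom.resLE S₀ P hPS) (B.hom.resLE S₀ Q hQS) ⟶ (A ⊗ B).left :=
    pullback.map _ _ A.hom B.hom P.ι Q.ι S₀.ι (Scheme.Hom.resLE_comp_ι _ _) (Scheme.Hom.resLE_comp_ι _ _)
  haveI : CompactSpace ↥(pullback (A.hom.resLE S₀ P hPS) (B.hom.resLE S₀ Q hQS)) :=
    QuasiCompact.compactSpace_of_compactSpace (pullback.snd (A.hom.resLE S₀ P hPS) (B.hom.resLE S₀ Q hQS))
  have hr : Set.range m = (fst A B).left ⁻¹' Set.range P.ι ∩ (snd A B).left ⁻¹' Set.range Q.ι :=
    Scheme.Pullback.range_map _ _ _ _ _ _ _ _ _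
  rw [Scheme.Opens.range_ι, Scheme.Opens.range_ι] at hr
  rw [← hr]
  exact isCompact_range m.continuous

/-- If an open quasi-compact over the base meets every fibre, the space is quasi-compact over the base. -/
theorem quasiCompact_of_fibres (a : AlgGrp.Action G X) (hΦ : Surjective (lift a.act (snd G X)).left)
    (hqs : ∀ s : S, QuasiSeparatedSpace ↥(X.hom ⁻¹' {s}))
    (hconn : ∀ s : S, _root_.IsPreconnected (X.hom ⁻¹' {s})) (V : X.left.Opens)
    [QuasiCompact (V.ι ≫ X.hom)]
    (hV : ∀ s : S, (X.hom ⁻¹' {s}).Nonempty → ((V : Set X.left) ∩ X.hom ⁻¹' {s}).Nonempty) :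
    QuasiCompact X.hom := by
  rw [quasiCompact_iff_forall_isAffineOpen]
  intro S₀ hS₀
  let V₀ : X.left.Opens := V ⊓ X.hom ⁻¹ᵁ S₀
  have hV₀ : IsCompact (V₀ : Set X.left) := by
    have h := (V.ι ≫ X.hom).isCompact_preimage hS₀.isCompact
    have := h.image V.ι.continuous
    convert this using 1
    show (V : Set X.left) ∩ X.hom ⁻¹' (S₀ : Set S) = V.ι '' (V.ι ⁻¹' (X.hom ⁻¹' (S₀ : Set S)))
    rw [Set.image_preimage_eq_inter_range, Scheme.Opens.range_ι, Set.inter_comm]
  -- a compact open neighbourhood of the unit section over `S₀`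
  obtain ⟨W, hWc, hWS, heW⟩ : ∃ W : G.left.Opens, IsCompact (W : Set G.left) ∧ W ≤ G.hom ⁻¹ᵁ S₀ ∧
      ∀ s ∈ S₀, unit G s ∈ W := by
    have hc : IsCompact (unit G '' (S₀ : Set S)) := hS₀.isCompact.image (unit G).continuous
    have hcov : unit G '' (S₀ : Set S) ⊆
        ⋃ W : {W : G.left.Opens // IsAffineOpen W ∧ W ≤ G.hom ⁻¹ᵁ S₀}, (W.1 : Set G.left) := by
      rintro _ ⟨s, hs, rfl⟩
      obtain ⟨W, hW, hsW, hWS⟩ := exists_isAffineOpen_mem_and_subset
        (show unit G s ∈ G.hom ⁻¹ᵁ S₀ by show G.hom (unit G s) ∈ S₀; rwa [hom_unit])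
      exact Set.mem_iUnion.mpr ⟨⟨W, hW, hWS⟩, hsW⟩
    obtain ⟨F, hF⟩ := hc.elim_finite_subcover _ (fun W => W.1.isOpen) hcov
    refine ⟨⟨⋃ W ∈ F, (W.1 : Set G.left), isOpen_biUnion fun W _ => W.1.isOpen⟩,
      F.finite_toSet.isCompact_biUnion fun W _ => W.2.1.isCompact, ?_, fun s hs => hF ⟨s, hs, rfl⟩⟩
    intro w hw
    obtain ⟨W, -, hw⟩ := Set.mem_iUnion₂.mp hw
    exact W.2.2 hw
  let P : (G ⊗ G).left.Opens := (fst G G).left ⁻¹ᵁ W ⊓ (snd G G).left ⁻¹ᵁ W
  have hP : IsCompact (P : Set (G ⊗ G).left) := isCompact_prod hS₀ hWc hWc hWS hWS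
  have hPS : P ≤ (G ⊗ G).hom ⁻¹ᵁ S₀ := by
    intro p hp
    show (G ⊗ G).hom p ∈ S₀
    rw [← Over.w (fst G G)]
    exact hWS hp.1
  have hC := (isCompact_prod hS₀ hP hV₀ hPS inf_le_right).image ((μ[G] ▷ X) ≫ a.act).left.continuous
  convert hC using 1
  refine subset_antisymm (fun z hz => ?_) ?_
  · obtain ⟨q, hq1, hq2, hq3⟩ := fibre_translate a hΦ (hqs _) (hconn _) V.isOpen (hV (X.hom z) ⟨z, rfl⟩)
      (z := z) rfl
    have hqs' : (G ⊗ X).hom q = X.hom z :=
      hq3 ▸ (congrArg (fun m : (G ⊗ X).left ⟶ S => m q) (Over.w a.act)).symm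
    have hfq : G.hom ((fst G X).left q) = X.hom z :=
      (congrArg (fun m : (G ⊗ X).left ⟶ S => m q) (Over.w (fst G X))).trans hqs'
    have hsq : X.hom ((snd G X).left q) = X.hom z :=
      (congrArg (fun m : (G ⊗ X).left ⟶ S => m q) (Over.w (snd G X))).trans hqs'
    obtain ⟨p, hp1, hp2, hp3⟩ := exists_mul G hq1 W (heW _ (show G.hom _ ∈ S₀ by rw [hfq]; exact hz))
    have hpb : IsPullback (μ[G] ▷ X) (fst (G ⊗ G) X) (fst G X) μ[G] :=
      IsPullback.of_isLimit' ⟨by simp⟩ (Limits.PullbackCone.IsLimit.mk _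
        (fun c => lift c.snd (c.fst ≫ snd G X))
        (fun c => by
          apply CartesianMonoidalCategory.hom_ext
          · simpa using c.condition.symm
          · simp)
        (fun c => by simp)
        (fun c m h1 h2 => by
          apply CartesianMonoidalCategory.hom_ext
          · simpa using h2
          · rw [lift_snd, ← h1]; simp))
    obtain ⟨w, hw1, hw2⟩ := Scheme.Pullback.exists_preimage_pullback (f := (fst G X).left) (g := μ[G].left)
      q p hp3.symm
    let r := (hpb.map (Over.forget S)).isoPullback.inv w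
    have hr1 : (μ[G] ▷ X).left r = q := by
      rw [← hw1]
      exact congrArg (fun m => (m : pullback (fst G X).left μ[G].left ⟶ (G ⊗ X).left) w)
        (hpb.map (Over.forget S)).isoPullback_inv_fst
    have hr2 : (fst (G ⊗ G) X).left r = p := by
      rw [← hw2]
      exact congrArg (fun m => (m : pullback (fst G X).left μ[G].left ⟶ (G ⊗ G).left) w)
        (hpb.map (Over.forget S)).isoPullback_inv_snd
    refine ⟨r, ⟨?_, ?_⟩, ?_⟩
    · show (fst (G ⊗ G) X).left r ∈ P
      rw [hr2]; exact ⟨hp1, hp2⟩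
    · show (snd (G ⊗ G) X).left r ∈ V₀
      rw [show snd (G ⊗ G) X = (μ[G] ▷ X) ≫ snd G X by simp, left_comp_apply, hr1]
      exact ⟨hq2, show X.hom _ ∈ S₀ by rw [hsq]; exact hz⟩
    · rw [left_comp_apply, hr1, hq3]
  · rintro _ ⟨r, ⟨-, hr⟩, rfl⟩
    show X.hom _ ∈ S₀
    rw [← Scheme.Hom.comp_apply, Over.w, ← Over.w (snd (G ⊗ G) X)]
    exact hr.2

end Groth.Agent.GrpFieldLib.HomogRel
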