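import Groth.Agent.GrpFieldLib.HomogDim

/-!
# Translating finitely many points into a dense open subset
-/

set_option backward.isDefEq.respectTransparency false
set_option backward.isDefEq.respectTransparency.types false

universe u

open CategoryTheory MonoidalCategory CartesianMonoidalCategory MonObj GrpObj AlgebraicGeometry
open Limits TopologicalSpace
open scoped CategoryTheory.Obj
open Groth.Agent.GrpSchLib (IsMaxPt left_comp_apply)

namespace Groth.Agent.GrpFieldLib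

/-- A dense open of a locally Noetherian scheme contains the maximal points. -/
theorem isMaxPt_mem_of_dense {X : Scheme.{u}} [IsLocallyNoetherian X] {c : X} (hc : IsMaxPt c) {U : X.Opens}
    (hU : Dense (U : Set X)) : c ∈ U := by
  obtain ⟨V, hV, hcV, -⟩ := exists_isAffineOpen_mem_and_subset (x := c) (U := ⊤) trivial
  haveI : IsNoetherianRing Γ(X, V) := IsLocallyNoetherian.component_noetherian ⟨V, hV⟩
  haveI : NoetherianSpace ↥(V : Scheme.{u}) := noetherianSpace_of_isAffineOpen V hV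
  let c' : (V : Scheme.{u}) := ⟨c, hcV⟩
  have hc' : IsMaxPt c' := fun d hd => V.ι.isOpenEmbedding.injective (hc _ (hd.map V.ι.continuous))
  obtain ⟨o, ho, hne, hle⟩ :=
    NoetherianSpace.exists_isOpen_nonempty_subset_irreducibleComponent _ (closure_mem_irreducibleComponents hc')
  obtain ⟨v, hv⟩ := hne
  obtain ⟨y, hy, hyU⟩ := hU.inter_open_nonempty _ (V.ι.isOpenEmbedding.isOpenMap o ho) ⟨_, v, hv, rfl⟩
  obtain ⟨w, hw, rfl⟩ := hy
  have h : V.ι c' ⤳ V.ι w := (specializes_iff_mem_closure.mpr (hle hw)).map V.ι.continuous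
  exact h.mem_open U.isOpen hyU

theorem isMaxPt_map_iso {S : Scheme.{u}} {X Y : Over S} (e : X ≅ Y) {c : X.left} (hc : IsMaxPt c) :
    IsMaxPt (e.hom.left c) := by
  intro d hd
  have h1 : ∀ x, e.inv.left (e.hom.left x) = x := fun x => by rw [← left_comp_apply, e.hom_inv_id]; rfl
  have h2 : ∀ x, e.hom.left (e.inv.left x) = x := fun x => by rw [← left_comp_apply, e.inv_hom_id]; rfl
  have h3 := hd.map e.inv.left.continuous
  rw [h1] at h3
  rw [← h2 d, hc _ h3]

variable {K : Type u} [Field K] [IsAlgClosed K] {G X : Over (Spec (CommRingCat.of K))} [GrpObj G]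
  [LocallyOfFiniteType G.hom] [LocallyOfFiniteType X.hom] (a : AlgGrp.Action G X)

theorem exists_point_eq {Y : Over (Spec (CommRingCat.of K))} [LocallyOfFiniteType Y.hom] (y : Y.left)
    (hy : IsClosed ({y} : Set Y.left)) : ∃ p : 𝟙_ _ ⟶ Y, p.left (pt K) = y := by
  obtain ⟨p, hp⟩ := exists_rationalPt_of_nonempty hy ⟨y, rfl⟩
  exact ⟨p, hp⟩

/-- Orbit maps of rational points send maximal points to maximal points. -/
theorem isMaxPt_orbitMap (hΦ : Surjective (lift a.act (snd G X)).left) (x : 𝟙_ _ ⟶ X)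
    {γ : G.left} (hγ : IsMaxPt γ) : IsMaxPt ((a.orbitMap x).left γ) := by
  obtain ⟨ξ, hξ, -⟩ := GrpSchLib.exists_isMaxPt (x.left (pt K))
  obtain ⟨γ₁, hγ₁⟩ := exists_orbitMap_eq a hΦ x ξ
  obtain ⟨γ₂, hγ₂, hγ₂₁⟩ := GrpSchLib.exists_isMaxPt γ₁
  have ho₂ : (a.orbitMap x).left γ₂ = ξ := hξ _ (hγ₁ ▸ hγ₂₁.map (a.orbitMap x).left.continuous)
  obtain ⟨p, hp⟩ := exists_rationalPt_of_nonempty (Y := G) (isClosed_closure (s := ({γ} : Set G.left))) ⟨γ, subset_closure rfl⟩
  obtain ⟨p₂, hp₂⟩ := exists_rationalPt_of_nonempty (Y := G) (isClosed_closure (s := ({γ₂} : Set G.left))) ⟨γ₂, subset_closure rfl⟩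
  let L := transl (selfAction G) (p * p₂⁻¹)
  have hL : p₂ ≫ L.hom = p := by
    show p₂ ≫ lift (toUnit G ≫ (p * p₂⁻¹)) (𝟙 G) ≫ μ[G] = p
    rw [← Category.assoc, comp_lift, Category.comp_id, ← Category.assoc, comp_toUnit, toUnit_unique (toUnit (𝟙_ _)) (𝟙 _),
      Category.id_comp, ← Hom.mul_def, inv_mul_cancel_right]
  have hLγ : L.hom.left γ₂ = γ := by
    refine (isMaxPt_map_iso L hγ₂).eq GrpSchLib.uniComp hγ (a := p.left (pt K)) ?_ (specializes_iff_mem_closure.mpr (hp : _ ∈ closure ({γ} : Set G.left)))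
    have h := (specializes_iff_mem_closure.mpr (hp₂ : _ ∈ closure ({γ₂} : Set G.left))).map L.hom.left.continuous
    rwa [← left_comp_apply, hL] at h
  have hcomm : L.hom ≫ a.orbitMap x = a.orbitMap x ≫ (transl a (p * p₂⁻¹)).hom := by
    show (lift (toUnit G ≫ (p * p₂⁻¹)) (𝟙 G) ≫ μ[G]) ≫ lift (𝟙 G) (toUnit G ≫ x) ≫ a.act =
      (lift (𝟙 G) (toUnit G ≫ x) ≫ a.act) ≫ lift (toUnit X ≫ (p * p₂⁻¹)) (𝟙 X) ≫ a.act
    rw [← Hom.mul_def, ← Category.assoc _ _ a.act, comp_lift, Category.comp_id, ← Category.assoc _ _ x, comp_toUnit,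
      ← Category.assoc _ (lift _ (𝟙 X)) a.act, comp_lift, Category.comp_id, ← Category.assoc _ (toUnit X), comp_toUnit,
      GrpSchLib.act_mul]
  rw [← hLγ, ← left_comp_apply, hcomm, left_comp_apply, ho₂]
  exact isMaxPt_map_iso _ hξ

/-- Finitely many closed points are translated into a dense open by a rational point of any non-empty open. -/
theorem exists_translate_into (hΦ : Surjective (lift a.act (snd G X)).left) {U : X.left.Opens}
    (hU : Dense (U : Set X.left)) {B : Set X.left} (hB : B.Finite) (hBc : ∀ b ∈ B, IsClosed ({b} : Set X.left))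
    {W : G.left.Opens} (hW : (W : Set G.left).Nonempty) :
    ∃ g : 𝟙_ _ ⟶ G, g.left (pt K) ∈ W ∧ ∀ b ∈ B, (transl a g).hom.left b ∈ U := by
  haveI := hB.to_subtype
  haveI : IsLocallyNoetherian X.left := LocallyOfFiniteType.isLocallyNoetherian X.hom
  haveI := LocallyOfFiniteType.jacobsonSpace G.hom
  choose x hx using fun b : B => exists_point_eq b.1 (hBc _ b.2)
  obtain ⟨w, hw⟩ := hW
  obtain ⟨γ, hγ, hγw⟩ := GrpSchLib.exists_isMaxPt w
  let O : Set G.left := (W : Set G.left) ∩ ⋂ b : B, (a.orbitMap (x b)).left ⁻¹' (U : Set X.left)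
  have hO : IsOpen O :=
    W.isOpen.inter (isOpen_iInter_of_finite fun b => U.isOpen.preimage (a.orbitMap (x b)).left.continuous)
  have hγO : γ ∈ O :=
    ⟨hγw.mem_open W.isOpen hw, Set.mem_iInter.mpr fun b => isMaxPt_mem_of_dense (isMaxPt_orbitMap a hΦ (x b) hγ) hU⟩
  obtain ⟨g₀, hg₀, hg₀c⟩ := nonempty_inter_closedPoints ⟨γ, hγO⟩ hO.isLocallyClosed
  obtain ⟨g, hg⟩ := exists_point_eq g₀ hg₀c
  refine ⟨g, hg.symm ▸ hg₀.1, fun b hb => ?_⟩
  have h : (a.orbitMap (x ⟨b, hb⟩)).left g₀ ∈ U := Set.mem_iInter.mp hg₀.2 ⟨b, hb⟩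
  have he : g ≫ a.orbitMap (x ⟨b, hb⟩) = x ⟨b, hb⟩ ≫ (transl a g).hom := by
    show g ≫ lift (𝟙 G) (toUnit G ≫ x ⟨b, hb⟩) ≫ a.act = x ⟨b, hb⟩ ≫ lift (toUnit X ≫ g) (𝟙 X) ≫ a.act
    rw [← Category.assoc, comp_lift, ← Category.assoc _ (lift _ (𝟙 X)), comp_lift]
    simp [← Category.assoc, toUnit_unique (toUnit (𝟙_ (Over (Spec (CommRingCat.of K))))) (𝟙 _)]
  rw [← hg, ← left_comp_apply, he, left_comp_apply, hx ⟨b, hb⟩] at h
  exact h

end Groth.Agent.GrpFieldLib
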