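import Groth.Agent.GrpFieldLib.DominantFlat
import Groth.Agent.GrpSchLib.MonoSubgroup
import Groth.Agent.Triage.SchDense
import Mathlib.AlgebraicGeometry.Morphisms.SchemeTheoreticallyDominant

/-! The schematic image of a quasi-compact homomorphism of group schemes over a field. -/

set_option backward.isDefEq.respectTransparency false
set_option backward.isDefEq.respectTransparency.types false

universe u

open CategoryTheory Limits AlgebraicGeometry MonoidalCategory CartesianMonoidalCategory MonObj

namespace Groth.Agent.GrpFieldLib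

/-- A morphism factors through a closed immersion if it does after a scheme-theoretically dominant morphism. -/
theorem exists_lift_of_dominant {T' T I H : Scheme.{u}} (g : T' ⟶ T) [IsSchemeTheoreticallyDominant g]
    (q : T ⟶ H) (i : I ⟶ H) [IsClosedImmersion i] (l : T' ⟶ I) (h : l ≫ i = g ≫ q) :
    ∃ m : T ⟶ I, m ≫ i = q := by
  have hker : i.ker ≤ q.ker := by
    have h1 : (g ≫ q).ker = q.ker := by
      rw [Scheme.Hom.ker_comp, g.ker_eq_bot, Scheme.IdealSheafData.map_bot]
    rw [← h1, ← h]
    exact Scheme.Hom.le_ker_comp l i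
  exact ⟨IsClosedImmersion.lift i q hker, IsClosedImmersion.lift_fac _ _ _⟩

theorem exists_schematic_image {k : Type u} [Field k] {H G : Over (Spec (CommRingCat.of k))} [GrpObj H]
    [GrpObj G] (f : H ⟶ G) [IsMonHom f] [QuasiCompact f.left] :
    ∃ (H' : Over (Spec (CommRingCat.of k))) (_ : GrpObj H') (i : H' ⟶ G) (f' : H ⟶ H'),
      IsMonHom i ∧ IsMonHom f' ∧ f' ≫ i = f ∧ IsClosedImmersion i.left ∧
      f'.left.ker = ⊥ ∧ QuasiCompact f'.left ∧ Surjective f'.left := by
  have hflat : ∀ {X : Scheme.{u}} (g : X ⟶ Spec (CommRingCat.of k)), Flat g := fun g => by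
    have : Subsingleton (Spec (CommRingCat.of k)) := inferInstanceAs (Subsingleton (PrimeSpectrum k))
    infer_instance
  let I : Over (Spec (CommRingCat.of k)) := Over.mk (f.left.imageι ≫ G.hom)
  let i : I ⟶ G := Over.homMk f.left.imageι rfl
  let t : H ⟶ I := Over.homMk f.left.toImage (by
    show f.left.toImage ≫ f.left.imageι ≫ G.hom = H.hom
    rw [Scheme.Hom.toImage_imageι_assoc, Over.w f])
  have hti : t ≫ i = f := Over.OverMorphism.ext f.left.toImage_imageι
  haveI : IsClosedImmersion i.left := inferInstanceAs (IsClosedImmersion f.left.imageι)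
  haveI : IsSchemeTheoreticallyDominant t.left :=
    Triage.SchDense.isSchemeTheoreticallyDominant_toImage f.left
  haveI : QuasiCompact t.left := by
    haveI : QuasiCompact (t.left ≫ i.left) := by rw [← Over.comp_left, hti]; infer_instance
    exact QuasiCompact.of_comp t.left i.left
  haveI : Mono i.left := inferInstance
  haveI : Mono i := (Over.forget _).mono_of_mono_map (inferInstanceAs (Mono i.left))
  have key : ∀ {T' T : Over (Spec (CommRingCat.of k))} (g : T' ⟶ T)
      [IsSchemeTheoreticallyDominant g.left] (q : T ⟶ G) (l : T' ⟶ I), l ≫ i = g ≫ q →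
      ∃ m : T ⟶ I, m ≫ i = q := by
    intro T' T g _ q l h
    obtain ⟨m, hm⟩ := exists_lift_of_dominant g.left q.left i.left l.left
      (by rw [← Over.comp_left, h, Over.comp_left])
    refine ⟨Over.homMk m ?_, Over.OverMorphism.ext hm⟩
    show m ≫ i.left ≫ G.hom = T.hom
    rw [← Category.assoc, hm, Over.w q]
  obtain ⟨v, hv⟩ := key t (i⁻¹) (ι[H] ≫ t) (by
    rw [Category.assoc, hti, GrpObj.comp_inv, hti, GrpObj.inv_eq_inv, GrpObj.inv_comp, Category.id_comp])
  haveI : Flat ((Over.forget (Spec (CommRingCat.of k))).map (fst I H)) :=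
    MorphismProperty.pullback_fst _ _ (hflat H.hom)
  haveI : Flat ((Over.forget (Spec (CommRingCat.of k))).map (snd I I)) :=
    MorphismProperty.pullback_snd _ _ (hflat I.hom)
  haveI h1 : IsSchemeTheoreticallyDominant (t ▷ H).left :=
    IsSchemeTheoreticallyDominant.of_isPullback (f := t.left) (g := (Over.forget _).map (fst I H))
      ((FpqcDescLib.isPullback_whiskerRight t H).map (Over.forget _)).flip
  haveI h2 : IsSchemeTheoreticallyDominant (I ◁ t).left :=
    IsSchemeTheoreticallyDominant.of_isPullback (f := t.left) (g := (Over.forget _).map (snd I I))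
      ((FpqcDescLib.isPullback_whiskerLeft t I).map (Over.forget _)).flip
  haveI : IsSchemeTheoreticallyDominant (t ⊗ₘ t).left := by
    rw [MonoidalCategory.tensorHom_def, Over.comp_left]; infer_instance
  obtain ⟨m, hm⟩ := key (t ⊗ₘ t) ((fst I I ≫ i) * (snd I I ≫ i)) (μ[H] ≫ t) (by
    rw [Category.assoc, hti, MonObj.comp_mul, tensorHom_fst_assoc, tensorHom_snd_assoc, hti,
      IsMonHom.mul_hom f, Hom.mul_def]
    congr 1)
  obtain ⟨str, hi⟩ := GrpSchLib.exists_grpObj_of_mono i (η[H] ≫ t)
    (by rw [Category.assoc, hti, IsMonHom.one_hom f]) m hm v hv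
  haveI := hi
  haveI ht : IsMonHom t :=
    { one_hom := by
        rw [← cancel_mono i, Category.assoc, hti, IsMonHom.one_hom f, IsMonHom.one_hom i]
      mul_hom := by
        rw [← cancel_mono i, Category.assoc, hti, IsMonHom.mul_hom f, Category.assoc,
          IsMonHom.mul_hom i, MonoidalCategory.tensorHom_comp_tensorHom_assoc, hti] }
  exact ⟨I, str, i, t, hi, ht, hti, inferInstance, t.left.ker_eq_bot, inferInstance,
    surjective_of_dominant t⟩

end Groth.Agent.GrpFieldLib
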