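import Groth.Agent.GrpQuotLib.Group
import Groth.Agent.GrpSchLib.KernelGrp
import Groth.Agent.S3023
import Groth.Agent.S5353
import Groth.Agent.S12442
import Groth.Prelude.Def_SGA7a
import Mathlib.AlgebraicGeometry.Morphisms.FlatMono

/-! An isogeny is a purely inseparable isogeny followed by a separable one. -/

set_option autoImplicit false
set_option backward.isDefEq.respectTransparency false
set_option linter.style.haveILetI false

universe u

open CategoryTheory CategoryTheory.Limits MonoidalCategory CartesianMonoidalCategory AlgebraicGeometry MonObj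

namespace Groth.Agent.GrpFieldLib.IsogFactor

variable {k : Type u} [Field k]

/-- The only point with values in a field of a one-point group scheme is the unit. -/
theorem eq_one_of_subsingleton {K P : Over (Spec (.of k))} [GrpObj K] [IsSeparated K.hom] [Subsingleton K.left]
    [IsReduced P.left] (x : P ⟶ K) : x = 1 := by
  haveI : IsClosedImmersion (η[K].left ≫ K.hom) := by
    rw [Over.w η[K]]; exact inferInstanceAs (IsClosedImmersion (𝟙 (Spec (CommRingCat.of k))))
  haveI : IsClosedImmersion η[K].left := IsClosedImmersion.of_comp η[K].left K.hom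
  haveI : Surjective η[K].left := ⟨fun z => ⟨IsLocalRing.closedPoint k, Subsingleton.elim _ _⟩⟩
  haveI := isIso_of_isClosedImmersion_of_surjective (pullback.fst x.left η[K].left)
  have e : x.left = (inv (pullback.fst x.left η[K].left) ≫ pullback.snd _ _) ≫ η[K].left := by
    rw [Category.assoc, ← pullback.condition, IsIso.inv_hom_id_assoc]
  have e2 : inv (pullback.fst x.left η[K].left) ≫ pullback.snd _ _ = P.hom := by
    have h := congrArg (· ≫ K.hom) e
    simp only [Category.assoc] at h
    rw [Over.w x, Over.w η[K]] at h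
    exact ((congrArg (_ ≫ ·) (Category.comp_id _)).symm.trans h.symm)
  rw [e2] at e
  rw [Hom.one_def]
  exact Over.OverMorphism.ext e

theorem exists_factor (G H : Over (Spec (.of k))) [GrpObj G] [GrpObj H]
    [QuasiCompact G.hom] [LocallyOfFiniteType G.hom] [QuasiCompact H.hom] [LocallyOfFiniteType H.hom]
    (φ : G ⟶ H) [IsMonHom φ] (hφ : SGA7.IsIsogenyOver φ) :
    ∃ (Q : Over (Spec (.of k))) (_ : GrpObj Q) (ψ : G ⟶ Q) (χ : Q ⟶ H),
      IsMonHom ψ ∧ IsMonHom χ ∧ ψ ≫ χ = φ ∧ SGA7.IsIsogenyOver ψ ∧ SGA7.IsIsogenyOver χ ∧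
      (∀ (N : Over (Spec (.of k))) (n : N ⟶ G), AlgGrp.IsKernel n ψ → ConnectedSpace ↥N.left) ∧
      (∀ (N : Over (Spec (.of k))) (n : N ⟶ Q), AlgGrp.IsKernel n χ → Etale N.hom) := by
  haveI := GrpSchLib.AntiAffine.isSeparated_grp G
  haveI := GrpSchLib.AntiAffine.isSeparated_grp H
  obtain ⟨hsurj, hfin⟩ := hφ
  obtain ⟨K, hKg, i, hi, hicl, hnorm, hk⟩ := GrpSchLib.exists_kernel φ
  letI := hKg; haveI := hi; haveI := hicl
  haveI : IsFinite K.hom := hfin K i hk
  haveI : Mono i := Over.mono_of_mono_left i
  haveI : IsLocallyArtinian K.left := IsLocallyArtinian.of_locallyQuasiFinite K.hom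
  haveI : CompactSpace K.left := QuasiCompact.compactSpace_of_compactSpace K.hom
  haveI : IsArtinianScheme K.left := {}
  haveI : DiscreteTopology K.left := (IsArtinianScheme.iff_isNoetherian_and_discreteTopology.1 inferInstance).2
  obtain ⟨K0, hK0g, i0, hi0, hi0cl, hi0fl, hr⟩ := S3023.result k K
  letI := hK0g; haveI := hi0; haveI := hi0cl; haveI := hi0fl
  haveI : LocallyOfFinitePresentation K.hom := LocallyOfFinitePresentation.iff_locallyOfFiniteType.2 inferInstance
  haveI : LocallyOfFiniteType K0.hom := by rw [← Over.w i0]; infer_instance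
  haveI : LocallyOfFinitePresentation K0.hom := LocallyOfFinitePresentation.iff_locallyOfFiniteType.2 inferInstance
  haveI : LocallyOfFinitePresentation i0.left := by
    haveI : LocallyOfFinitePresentation (i0.left ≫ K.hom) := by rw [Over.w]; infer_instance
    exact S12442.locallyOfFinitePresentation_of_comp i0.left K.hom
  haveI : IsOpenImmersion i0.left := IsOpenImmersion.of_flat_of_mono i0.left
  haveI : Mono i0 := Over.mono_of_mono_left i0
  haveI : IsFinite K0.hom := by rw [← Over.w i0]; infer_instance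
  haveI := GrpSchLib.AntiAffine.isSeparated_grp K0
  haveI : Subsingleton K0.left := ⟨fun a b => i0.left.isOpenEmbedding.injective (by
    have h : ∀ z, i0.left z ∈ connectedComponent (η[K].left (IsLocalRing.closedPoint k)) := fun z =>
      (hr (IsLocalRing.closedPoint k)).le ⟨z, rfl⟩
    have e := connectedComponent_eq_singleton (η[K].left (IsLocalRing.closedPoint k))
    rw [Set.eq_singleton_iff_unique_mem] at e
    rw [e.2 _ (h a), e.2 _ (h b)])⟩
  let j : K0 ⟶ G := i0 ≫ i
  haveI : IsMonHom j := inferInstance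
  haveI : IsClosedImmersion j.left := inferInstanceAs (IsClosedImmersion (i0.left ≫ i.left))
  haveI : Mono j := inferInstanceAs (Mono (i0 ≫ i))
  have hjn : AlgGrp.IsNormalHom j := by
    intro T g n
    obtain ⟨c, hc⟩ := hnorm T g (n ≫ i0)
    have hcr : Set.range c.left ⊆ Set.range i0.left := by
      rintro _ ⟨t, rfl⟩
      let P : Over (Spec (.of k)) := Over.mk (T.left.fromSpecResidueField t ≫ T.hom)
      let p : P ⟶ T := Over.homMk (T.left.fromSpecResidueField t) rfl
      haveI : IsReduced P.left := inferInstanceAs (IsReduced (Spec _))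
      have h1 : p ≫ n = 1 := eq_one_of_subsingleton _
      have h2 : p ≫ c = 1 := by
        rw [← cancel_mono i, Category.assoc, ← hc, MonObj.comp_mul, MonObj.comp_mul, GrpObj.comp_inv,
          ← Category.assoc, ← Category.assoc, h1, MonObj.one_comp, MonObj.one_comp, _root_.mul_one,
          mul_inv_cancel]
      obtain ⟨z, hz⟩ : ∃ z : T.left.residueField t |> Spec, T.left.fromSpecResidueField t z = t :=
        ⟨IsLocalRing.closedPoint _, Scheme.fromSpecResidueField_apply _ _⟩
      have h3 := congrArg (fun m : P ⟶ K => m.left z) (h2.trans (MonObj.one_comp (X := P) i0).symm)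
      refine ⟨(1 : P ⟶ K0).left z, ?_⟩
      simp only [Over.comp_left, Scheme.Hom.comp_apply] at h3
      rw [← h3]
      exact congrArg c.left hz
    refine ⟨Over.homMk (IsOpenImmersion.lift i0.left c.left hcr) (by
      rw [← Over.w i0, ← Category.assoc, IsOpenImmersion.lift_fac, Over.w c]), ?_⟩
    rw [show n ≫ j = (n ≫ i0) ≫ i from (Category.assoc _ _ _).symm, hc]
    refine Over.OverMorphism.ext ?_
    show c.left ≫ i.left = IsOpenImmersion.lift i0.left c.left hcr ≫ i0.left ≫ i.left
    rw [IsOpenImmersion.lift_fac_assoc]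
  obtain ⟨Q, hQg, ψ, hψ, hψ1, hψ2, hψ3, hQft, hc, hkψ⟩ := GrpQuotLib.exists_quotientGrp j hjn
  letI := hQg; haveI := hψ; haveI := hψ1; haveI := hψ2; haveI := hψ3; haveI := hQft
  haveI := GrpSchLib.AntiAffine.isSeparated_grp Q
  have hcov : FpqcDescLib.Covers ψ.left :=
    FpqcDescLib.covers_of_isCovering (FpqcDescLib.isCovering_of_lfp ψ.left)
  obtain ⟨χ, hχ, -⟩ := hcov.over_desc φ fun T a b e => by
    obtain ⟨h, rfl⟩ := (hc T a b).1 e
    rw [MonObj.mul_comp, Category.assoc, show j ≫ φ = i0 ≫ i ≫ φ from Category.assoc _ _ _, hk.w,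
      ← Category.assoc, ← Category.assoc, comp_toUnit]
    exact (_root_.mul_one (a ≫ φ)).symm
  haveI : Epi ψ := hcov.over_epi
  haveI : IsMonHom χ := by
    refine ⟨?_, ?_⟩
    · rw [← IsMonHom.one_hom ψ, Category.assoc, hχ, IsMonHom.one_hom φ]
    · haveI : Epi (ψ ▷ G) := (FpqcDescLib.covers_whiskerRight hcov G).over_epi
      haveI : Epi (Q ◁ ψ) := (FpqcDescLib.covers_whiskerLeft hcov Q).over_epi
      haveI : Epi (ψ ⊗ₘ ψ) := by
        rw [show ψ ⊗ₘ ψ = ψ ▷ G ≫ Q ◁ ψ by ext <;> simp]
        infer_instance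
      rw [← cancel_epi (ψ ⊗ₘ ψ), ← Category.assoc, ← IsMonHom.mul_hom ψ, Category.assoc, hχ,
        IsMonHom.mul_hom φ, tensorHom_comp_tensorHom_assoc, hχ]
  obtain ⟨N, hNg, n, hn, hncl, -, hkn⟩ := GrpSchLib.exists_kernel χ
  letI := hNg; haveI := hn; haveI := hncl
  haveI : Mono n := Over.mono_of_mono_left n
  let r : K ⟶ N := hkn.lift (i ≫ ψ) (toUnit K) (by rw [Category.assoc, hχ]; exact hk.w)
  have hr' : r ≫ n = i ≫ ψ := hkn.lift_fst _ _ _
  have hsq : IsPullback r i n ψ := by
    refine IsPullback.of_isLimit' ⟨hr'⟩ (PullbackCone.IsLimit.mk _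
      (fun s => hk.lift s.snd (toUnit _) ?_) ?_ (fun s => hk.lift_fst _ _ _) fun s m h1 h2 => ?_)
    · rw [← hχ, ← reassoc_of% s.condition, hkn.w, ← Category.assoc, comp_toUnit]
    · intro s
      rw [← cancel_mono n, Category.assoc, hr', ← Category.assoc, hk.lift_fst, s.condition]
    · rw [← cancel_mono i, h2, hk.lift_fst]
  have hrl : IsPullback r.left i.left n.left ψ.left := hsq.map (Over.forget _)
  haveI : Surjective r.left := MorphismProperty.of_isPullback (P := @Surjective) hrl.flip inferInstance
  haveI : Flat r.left := MorphismProperty.of_isPullback (P := @Flat) hrl.flip inferInstance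
  haveI : LocallyOfFinitePresentation r.left :=
    MorphismProperty.of_isPullback (P := @LocallyOfFinitePresentation) hrl.flip inferInstance
  haveI : IsMonHom r := by
    refine ⟨?_, ?_⟩
    · rw [← cancel_mono n, Category.assoc, hr', IsMonHom.one_hom n, ← Category.assoc, IsMonHom.one_hom i,
        IsMonHom.one_hom ψ]
    · rw [← cancel_mono n, Category.assoc, hr', Category.assoc, IsMonHom.mul_hom n,
        tensorHom_comp_tensorHom_assoc, hr', ← Category.assoc, IsMonHom.mul_hom i, Category.assoc,
        IsMonHom.mul_hom ψ, tensorHom_comp_tensorHom_assoc]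
  have hkr : AlgGrp.IsKernel i0 r := by
    have h : i0 ≫ r = toUnit K0 ≫ η[N] := by
      rw [← cancel_mono n, Category.assoc, hr', Category.assoc, IsMonHom.one_hom n]
      exact (Category.assoc _ _ _).symm.trans hkψ.w
    refine IsPullback.of_isLimit' ⟨h⟩ (PullbackCone.IsLimit.mk _
      (fun s => hkψ.lift (s.fst ≫ i) (toUnit _) ?_) ?_ (fun s => toUnit_unique _ _) fun s m h1 h2 => ?_)
    · rw [Category.assoc, ← hr', ← Category.assoc, s.condition, Category.assoc, IsMonHom.one_hom n,
        toUnit_unique s.snd (toUnit _)]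
    · intro s
      rw [← cancel_mono i, Category.assoc]
      exact hkψ.lift_fst _ _ _
    · rw [← cancel_mono j, hkψ.lift_fst, show m ≫ j = (m ≫ i0) ≫ i from (Category.assoc _ _ _).symm, h1]
  haveI : LocallyOfFiniteType N.hom := by rw [← Over.w n]; infer_instance
  haveI hNet : Etale N.hom := S5353.result k K0 K N i0 (IsLocalRing.closedPoint k) (hr _) r hkr
  haveI : CompactSpace N.left := r.left.surjective.compactSpace r.left.continuous
  haveI : QuasiCompact N.hom := (quasiCompact_iff_compactSpace N.hom).2 inferInstance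
  haveI : Finite K.left := finite_of_compact_of_discrete
  haveI : Finite N.left := Finite.of_surjective _ r.left.surjective
  haveI : LocallyQuasiFinite N.hom :=
    LocallyQuasiFinite.of_finite_preimage_singleton _ fun _ => Set.toFinite _
  haveI hNfin : IsFinite N.hom := IsFinite.of_locallyQuasiFinite N.hom
  refine ⟨Q, hQg, ψ, χ, hψ, inferInstance, hχ, ⟨hψ2, fun M m hm => ?_⟩, ⟨?_, fun M m hm => ?_⟩, fun M m hm => ?_,
    fun M m hm => ?_⟩
  · have e : (hm.isoIsPullback _ _ hkψ).hom ≫ toUnit K0 = toUnit M := toUnit_unique _ _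
    haveI : IsIso (hm.isoIsPullback _ _ hkψ).hom.left :=
      inferInstanceAs (IsIso ((Over.forget _).map _))
    rw [← Over.w (hm.isoIsPullback _ _ hkψ).hom]
    infer_instance
  · haveI : Surjective (ψ.left ≫ χ.left) := by rw [← Over.comp_left, hχ]; exact hsurj
    exact Surjective.of_comp ψ.left χ.left
  · haveI : IsIso (hm.isoIsPullback _ _ hkn).hom.left :=
      inferInstanceAs (IsIso ((Over.forget _).map _))
    rw [← Over.w (hm.isoIsPullback _ _ hkn).hom]
    infer_instance
  · haveI : Nonempty K0.left := ⟨η[K0].left (IsLocalRing.closedPoint k)⟩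
    let e := Scheme.homeoOfIso ((Over.forget _).mapIso (hm.isoIsPullback _ _ hkψ))
    haveI : ConnectedSpace K0.left := { toNonempty := inferInstance }
    haveI : ConnectedSpace ↥((Over.forget (Spec (CommRingCat.of k))).obj K0) := ‹ConnectedSpace K0.left›
    exact e.symm.surjective.connectedSpace e.symm.continuous
  · haveI : IsIso (hm.isoIsPullback _ _ hkn).hom.left :=
      inferInstanceAs (IsIso ((Over.forget _).map _))
    rw [← Over.w (hm.isoIsPullback _ _ hkn).hom]
    infer_instance

end Groth.Agent.GrpFieldLib.IsogFactor
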