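import Groth.Agent.GrpFieldLib.IsogTorus
import Groth.Agent.CurveBC.FiniteDim
import Groth.Agent.S4716

/-! Subgroups of isogenous groups over an algebraically closed field. -/

set_option autoImplicit false
set_option backward.isDefEq.respectTransparency false
set_option maxHeartbeats 1000000
set_option linter.style.haveILetI false

universe u

open CategoryTheory CategoryTheory.Limits AlgebraicGeometry MonoidalCategory CartesianMonoidalCategory TopologicalSpace
open scoped MonObj

namespace Groth.Agent.GrpFieldLib.IsogSub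

open Groth.Agent.Chevalley.CommAff Groth.Agent.GrpSchLib

theorem dim_eq_of_finite_surjective {X Y : Scheme.{u}} (f : X ⟶ Y) [IsFinite f] [Surjective f]
    [IsLocallyNoetherian X] [IsLocallyNoetherian Y] : topologicalKrullDim X = topologicalKrullDim Y := by
  refine le_antisymm ?_ (S4716.result f f.surjective (Or.inr f.isClosedMap))
  let g : IrreducibleCloseds X → IrreducibleCloseds Y := fun Z =>
    ⟨f '' (Z : Set X), Z.isIrreducible.image _ f.continuous.continuousOn, f.isClosedMap _ Z.isClosed⟩
  refine Order.krullDim_le_of_strictMono g fun A B hAB => ?_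
  refine lt_of_le_of_ne (Set.image_mono (f := f) hAB.le) fun h => ?_
  obtain ⟨a, ha⟩ := QuasiSober.sober A.isIrreducible A.isClosed
  obtain ⟨b, hb⟩ := QuasiSober.sober B.isIrreducible B.isClosed
  have hab : b ⤳ a := hb.specializes (hAB.le ha.mem)
  have hfb : f b ∈ f '' (A : Set X) :=
    (congrArg (fun Z : IrreducibleCloseds Y => (Z : Set Y)) h).ge ⟨b, hb.mem, rfl⟩
  obtain ⟨c, hc, hce⟩ := hfb
  have h1 : f a ⤳ f b := hce ▸ (ha.specializes hc).map f.continuous
  have he : f a = f b := (h1.antisymm (hab.map f.continuous)).eq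
  exact hAB.ne (IrreducibleCloseds.ext (by
    have e := CurveBC.eq_of_specializes_fibre f hab he.symm
    rw [← ha.def, ← hb.def, e]))

variable {k : Type u} [Field k] [IsAlgClosed k] {G H : Over (Spec (CommRingCat.of k))} [GrpObj G] [GrpObj H]
  [LocallyOfFiniteType G.hom] [QuasiCompact G.hom] [LocallyOfFiniteType H.hom] [QuasiCompact H.hom]
  (f : G ⟶ H) [IsMonHom f] [IsFinite f.left]

include f
/-- The image of a smooth connected subgroup. -/
theorem exists_image_sub {U : Over (Spec (CommRingCat.of k))} [GrpObj U] (i : U ⟶ G) [IsMonHom i]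
    [IsClosedImmersion i.left] [Smooth U.hom] [QuasiCompact U.hom] [ConnectedSpace U.left] :
    ∃ (J : Over (Spec (CommRingCat.of k))) (_ : GrpObj J) (b : J ⟶ H) (p : U ⟶ J), IsMonHom b ∧ IsMonHom p ∧
      IsClosedImmersion b.left ∧ Smooth J.hom ∧ ConnectedSpace J.left ∧ QuasiCompact J.hom ∧
      IsFinite p.left ∧ Surjective p.left ∧ Flat p.left ∧
      topologicalKrullDim ↥U.left = topologicalKrullDim ↥J.left := by
  obtain ⟨J, _, p, b, hp, hb, hpb, hbc, hpf, hps, hJl, hJq⟩ := ImageFactor.exists_image (i ≫ f)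
  haveI := hp; haveI := hb; haveI := hbc; haveI := hpf; haveI := hps; haveI := hJl; haveI := hJq
  obtain ⟨hJs, hJc⟩ := cover_props p
  haveI : IsFinite (p.left ≫ b.left) := by rw [← Over.comp_left, hpb, Over.comp_left]; infer_instance
  haveI : IsFinite p.left := IsFinite.of_comp p.left b.left
  haveI : IsLocallyNoetherian U.left := LocallyOfFiniteType.isLocallyNoetherian U.hom
  haveI : IsLocallyNoetherian J.left := LocallyOfFiniteType.isLocallyNoetherian J.hom
  exact ⟨J, inferInstance, b, p, hb, hp, hbc, hJs, hJc, hJq, inferInstance, hps, hpf,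
    dim_eq_of_finite_surjective p.left⟩

/-- The reduced neutral component of the preimage of a smooth connected subgroup. -/
theorem exists_preimage_sub [Surjective f.left] {U : Over (Spec (CommRingCat.of k))} [GrpObj U] (j : U ⟶ H)
    [IsMonHom j] [IsClosedImmersion j.left] [Smooth U.hom] [QuasiCompact U.hom] [ConnectedSpace U.left] :
    ∃ (P : Over (Spec (CommRingCat.of k))) (_ : GrpObj P) (i : P ⟶ G) (p : P ⟶ U), IsMonHom i ∧ IsMonHom p ∧
      IsClosedImmersion i.left ∧ Smooth P.hom ∧ ConnectedSpace P.left ∧ QuasiCompact P.hom ∧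
      IsFinite p.left ∧ Surjective p.left ∧ Flat p.left ∧
      topologicalKrullDim ↥P.left = topologicalKrullDim ↥U.left := by
  haveI := GrpSchLib.AntiAffine.isSeparated_grp H
  haveI := GrpSchLib.AntiAffine.isSeparated_grp U
  let P : Over (Spec (CommRingCat.of k)) := pullback f j
  let a : P ⟶ G := pullback.fst f j
  let b : P ⟶ U := pullback.snd f j
  have hab : a ≫ f = b ≫ j := pullback.condition
  haveI : Mono j := Over.mono_of_mono_left _
  haveI : Mono a := inferInstanceAs (Mono (pullback.fst f j))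
  obtain ⟨e, he, he'⟩ : ∃ e : 𝟙_ _ ⟶ P, e ≫ a = η[G] ∧ e ≫ b = η[U] :=
    ⟨pullback.lift η[G] η[U] (by rw [IsMonHom.one_hom f, IsMonHom.one_hom j]), pullback.lift_fst _ _ _,
      pullback.lift_snd _ _ _⟩
  obtain ⟨m, hm, hm'⟩ : ∃ m : P ⊗ P ⟶ P, m ≫ a = (fst P P ≫ a) * (snd P P ≫ a) ∧
      m ≫ b = (fst P P ≫ b) * (snd P P ≫ b) :=
    ⟨pullback.lift ((fst P P ≫ a) * (snd P P ≫ a)) ((fst P P ≫ b) * (snd P P ≫ b)) (by
      simp only [MonObj.mul_comp, Category.assoc, hab]), pullback.lift_fst _ _ _, pullback.lift_snd _ _ _⟩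
  obtain ⟨v, hv, hv'⟩ : ∃ v : P ⟶ P, v ≫ a = a⁻¹ ∧ v ≫ b = b⁻¹ :=
    ⟨pullback.lift a⁻¹ b⁻¹ (by rw [GrpObj.inv_comp, GrpObj.inv_comp, hab]), pullback.lift_fst _ _ _,
      pullback.lift_snd _ _ _⟩
  obtain ⟨str, hstr⟩ := exists_grpObj_of_mono a e he m hm v hv
  letI := str
  haveI : IsMonHom a := hstr
  haveI : IsMonHom b := by
    have h1 : η[P] = e := by rw [← cancel_mono a, he, IsMonHom.one_hom a]
    have h2 : μ[P] = m := by
      rw [← cancel_mono a, hm, IsMonHom.mul_hom a, Hom.mul_def, CartesianMonoidalCategory.lift_fst_comp_snd_comp]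
    refine ⟨?_, ?_⟩
    · rw [h1, he']
    · rw [h2, hm', Hom.mul_def, CartesianMonoidalCategory.lift_fst_comp_snd_comp]
  have hpb := (IsPullback.of_hasPullback f j).map (Over.forget (Spec (CommRingCat.of k)))
  haveI : IsFinite b.left := MorphismProperty.of_isPullback (P := @IsFinite) hpb (show IsFinite f.left from inferInstance)
  haveI : Surjective b.left :=
    MorphismProperty.of_isPullback (P := @Surjective) hpb (show Surjective f.left from inferInstance)
  haveI : IsClosedImmersion a.left :=
    MorphismProperty.of_isPullback (P := @IsClosedImmersion) hpb.flip (show IsClosedImmersion j.left from inferInstance)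
  haveI : LocallyOfFiniteType P.hom := by rw [← Over.w b]; infer_instance
  haveI : QuasiCompact P.hom := by rw [← Over.w b]; infer_instance
  obtain ⟨P₁, _, i₁, hi₁, hi₁c, hP₁r, hi₁s, hP₁l, hP₁q⟩ := RedSubgroup.exists_redSubgroup P
  haveI := hi₁; haveI := hi₁c; haveI := hP₁r; haveI := hi₁s; haveI := hP₁l; haveI := hP₁q
  obtain ⟨P₀, _, i₀, hi₀, hi₀c, hi₀f, hr, hP₀i, hP₀k⟩ := GrpSchLib.exists_identityComponent (G := P₁)
  haveI := hi₀; haveI := hi₀c; haveI := hi₀f; haveI := hP₀i; haveI := hP₀k
  haveI : IsLocallyNoetherian P₁.left := LocallyOfFiniteType.isLocallyNoetherian P₁.hom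
  haveI : LocallyOfFiniteType P₀.hom := by rw [← Over.w i₀]; infer_instance
  haveI : QuasiCompact P₀.hom := by rw [← Over.w i₀]; infer_instance
  haveI : Smooth P₁.hom := GrpSchLib.smooth_of_isReduced_of_isAlgClosed P₁
  haveI : Smooth i₀.left := by
    haveI : LocallyOfFinitePresentation i₀.left := inferInstance
    haveI : IsOpenImmersion i₀.left := IsOpenImmersion.of_flat_of_mono _
    infer_instance
  haveI : Smooth P₀.hom := by rw [← Over.w i₀]; infer_instance
  haveI : ConnectedSpace P₀.left := by
    have h : _root_.IsConnected (Set.range i₀.left) := hr ▸ isConnected_connectedComponent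
    rw [connectedSpace_iff_univ]
    rw [← Set.image_univ] at h
    exact ⟨⟨_, Set.mem_univ (h.nonempty.choose_spec.choose)⟩,
      i₀.left.isClosedEmbedding.isInducing.isPreconnected_image.1 h.isPreconnected⟩
  haveI : AlgebraicGeometry.IsReduced U.left := GrpSchLib.isReduced_of_smooth_field U.hom
  haveI : IsLocallyNoetherian U.left := LocallyOfFiniteType.isLocallyNoetherian U.hom
  let p : P₀ ⟶ U := i₀ ≫ i₁ ≫ b
  haveI : IsFinite p.left := by rw [Over.comp_left, Over.comp_left]; infer_instance
  haveI : Surjective p.left := by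
    haveI : Surjective (i₁ ≫ b).left := by rw [Over.comp_left]; infer_instance
    haveI : QuasiCompact (i₁ ≫ b).left := by rw [Over.comp_left]; infer_instance
    haveI : Flat (i₁ ≫ b).left := GrpSchLib.flat_of_surjective_hom (i₁ ≫ b)
    haveI : Flat p.left := by rw [Over.comp_left]; infer_instance
    haveI : LocallyOfFinitePresentation p.left := inferInstance
    refine ⟨Set.range_eq_univ.1 ?_⟩
    exact IsClopen.eq_univ ⟨p.left.isClosedMap.isClosed_range, p.left.isOpenMap.isOpen_range⟩ (Set.range_nonempty _)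
  haveI : Flat p.left := GrpSchLib.flat_of_surjective_hom p
  haveI : IsLocallyNoetherian P₀.left := LocallyOfFiniteType.isLocallyNoetherian P₀.hom
  refine ⟨P₀, inferInstance, i₀ ≫ i₁ ≫ a, p, inferInstance, inferInstance, ?_, inferInstance, inferInstance,
    inferInstance, inferInstance, inferInstance, inferInstance, dim_eq_of_finite_surjective p.left⟩
  rw [Over.comp_left, Over.comp_left]
  infer_instance

end Groth.Agent.GrpFieldLib.IsogSub
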