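import Groth.Agent.GrpFieldLib.SVHom
import Groth.Agent.Chevalley.CommAff.TorusImage
import Groth.Agent.Chevalley.CommAff.AntiAffTools
import Groth.Agent.GrpSchLib.RedSubgroup
import Groth.Agent.GrpSchLib.IdentityComp
import Groth.Agent.GrpSchLib.KernelGrp
import Groth.Agent.GrpSchLib.QuotAffine
import Groth.Agent.S3036

/-! Isogenies and subtori over an algebraically closed field. -/

set_option autoImplicit false
set_option backward.isDefEq.respectTransparency false
set_option maxHeartbeats 1000000
set_option linter.style.haveILetI false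

universe u

open CategoryTheory CategoryTheory.Limits AlgebraicGeometry MonoidalCategory CartesianMonoidalCategory
open scoped MonObj

namespace Groth.Agent.GrpFieldLib.IsogTorus

open Groth.Agent.Chevalley.CommAff Groth.Agent.GrpSchLib

variable {k : Type u} [Field k] {G H : Over (Spec (CommRingCat.of k))} [GrpObj G] [GrpObj H]

theorem hasNoSubtorus_of_finite [IsAffine H.left] [LocallyOfFiniteType H.hom] [QuasiCompact H.hom]
    (f : G ⟶ H) [IsMonHom f] [IsFinite f.left] [LocallyOfFiniteType G.hom] [QuasiCompact G.hom]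
    (hH : Red.HasNoSubtorus k H) : Red.HasNoSubtorus k G := by
  intro T _ j _ _ hT
  obtain ⟨hT1, hT2, hT3, hT4, hT5⟩ := torus_props hT
  haveI := hT1; haveI := hT5; haveI := hT3
  haveI : GeometricallyIntegral T.hom := AlbQuotLib.geometricallyIntegral T
  haveI : GeometricallyConnected T.hom := H23.CubeAb.geometricallyConnected_of_integral T.hom
  obtain ⟨J, _, p₁, b, hp₁, hb, hpb, hbc, hp₁f, hp₁s, hJl, hJq⟩ := ImageFactor.exists_image (j ≫ f)
  haveI := hp₁; haveI := hb; haveI := hbc; haveI := hp₁f; haveI := hp₁s; haveI := hJl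
  haveI : IsAffine J.left := isAffine_of_isAffineHom b.left
  haveI : Mono b := Over.mono_of_mono_left _
  have h1 := id_eq_one_of_isTrivialGrp (hH J b (isTorus_image hT p₁))
  have hjf : j ≫ f = 1 := by
    rw [← hpb, ← Category.id_comp b, h1, MonObj.one_comp, MonObj.comp_one]
  -- `T` meets the kernel of `f` in a finite connected smooth group
  let N : Over (Spec (CommRingCat.of k)) := pullback f η[H]
  let n : N ⟶ G := pullback.fst f η[H]
  let l : T ⟶ N := pullback.lift j (toUnit T) (by rw [hjf, Hom.one_def])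
  have hl : l ≫ n = j := pullback.lift_fst _ _ _
  haveI : IsFinite N.hom := by
    have h1 := ((IsPullback.of_hasPullback f η[H]).map (Over.forget (Spec (CommRingCat.of k)))).flip
    have h2 : IsFinite (pullback.snd f η[H]).left :=
      MorphismProperty.of_isPullback (P := @IsFinite) h1.flip (show IsFinite f.left from inferInstance)
    haveI := h2
    haveI : IsIso (𝟙_ (Over (Spec (CommRingCat.of k)))).hom := inferInstanceAs (IsIso (𝟙 _))
    rw [← Over.w (pullback.snd f η[H])]
    infer_instance
  haveI : AlgebraicGeometry.IsReduced T.left := GrpSchLib.isReduced_of_smooth_field T.hom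
  have hj : j = 1 := by
    rw [← hl, eq_const_of_finite l η[T], Category.assoc, Category.assoc, hl, IsMonHom.one_hom j, Hom.one_def]
  refine isTrivialGrp_of_id_eq_one T ?_
  rw [← cancel_mono j, Category.id_comp, MonObj.one_comp]
  exact hj

theorem hasNoSubtorus_of_surjective [IsAlgClosed k] [Smooth G.hom] [QuasiCompact G.hom] [IsAffine G.left]
    [Smooth H.hom] [QuasiCompact H.hom] [IsAffine H.left]
    (f : G ⟶ H) [IsMonHom f] [IsFinite f.left] [Surjective f.left]
    (hG : Red.HasNoSubtorus k G) : Red.HasNoSubtorus k H := by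
  intro T _ j _ _ hT
  obtain ⟨hT1, hT2, hT3, hT4, hT5⟩ := torus_props hT
  haveI := hT1; haveI := hT2; haveI := hT5; haveI := hT3; haveI := hT4
  haveI := GrpSchLib.AntiAffine.isSeparated_grp H
  haveI := GrpSchLib.AntiAffine.isSeparated_grp T
  -- the preimage of the torus
  let P : Over (Spec (CommRingCat.of k)) := pullback f j
  let a : P ⟶ G := pullback.fst f j
  let b : P ⟶ T := pullback.snd f j
  have hab : a ≫ f = b ≫ j := pullback.condition
  haveI : Mono a := inferInstanceAs (Mono (pullback.fst f j))
  obtain ⟨e, he, he'⟩ : ∃ e : 𝟙_ _ ⟶ P, e ≫ a = η[G] ∧ e ≫ b = η[T] :=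
    ⟨pullback.lift η[G] η[T] (by rw [IsMonHom.one_hom f, IsMonHom.one_hom j]), pullback.lift_fst _ _ _,
      pullback.lift_snd _ _ _⟩
  obtain ⟨m, hm, hm'⟩ : ∃ m : P ⊗ P ⟶ P, m ≫ a = (fst P P ≫ a) * (snd P P ≫ a) ∧
      m ≫ b = (fst P P ≫ b) * (snd P P ≫ b) :=
    ⟨pullback.lift ((fst P P ≫ a) * (snd P P ≫ a)) ((fst P P ≫ b) * (snd P P ≫ b)) (by
      simp only [MonObj.mul_comp, Category.assoc, hab]), pullback.lift_fst _ _ _, pullback.lift_snd _ _ _⟩
  obtain ⟨v, hv, hv'⟩ : ∃ v : P ⟶ P, v ≫ a = a⁻¹ ∧ v ≫ b = b⁻¹ :=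
    ⟨pullback.lift a⁻¹ b⁻¹ (by rw [GrpObj.inv_comp, GrpObj.inv_comp, hab]), pullback.lift_fst _ _ _,
      pullback.lift_snd _ _ _⟩
  obtain ⟨str, hstr⟩ := exists_grpObj_of_mono a e he m hm v hv
  letI := str
  haveI : IsMonHom a := hstr
  haveI : IsMonHom b := by
    have h1 : η[P] = e := by rw [← cancel_mono a, he, IsMonHom.one_hom a]
    have h2 : μ[P] = m := by
      rw [← cancel_mono a, hm, IsMonHom.mul_hom a, Hom.mul_def, CartesianMonoidalCategory.lift_fst_comp_snd_comp]

    refine ⟨?_, ?_⟩
    · rw [h1, he']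
    · rw [h2, hm', Hom.mul_def, CartesianMonoidalCategory.lift_fst_comp_snd_comp]

  have hpb := (IsPullback.of_hasPullback f j).map (Over.forget (Spec (CommRingCat.of k)))
  haveI : IsFinite b.left := MorphismProperty.of_isPullback (P := @IsFinite) hpb (show IsFinite f.left from inferInstance)
  haveI : Surjective b.left :=
    MorphismProperty.of_isPullback (P := @Surjective) hpb (show Surjective f.left from inferInstance)
  haveI : LocallyOfFiniteType P.hom := by rw [← Over.w b]; infer_instance
  haveI : QuasiCompact P.hom := by rw [← Over.w b]; infer_instance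
  -- its reduced neutral component
  obtain ⟨P₁, _, i₁, hi₁, hi₁c, hP₁r, hi₁s, hP₁l, hP₁q⟩ := RedSubgroup.exists_redSubgroup P
  haveI := hi₁; haveI := hi₁c; haveI := hP₁r; haveI := hi₁s; haveI := hP₁l; haveI := hP₁q
  obtain ⟨P₀, _, i₀, hi₀, hi₀c, hi₀f, hr, hP₀i, hP₀k⟩ := GrpSchLib.exists_identityComponent (G := P₁)
  haveI := hi₀; haveI := hi₀c; haveI := hi₀f; haveI := hP₀i; haveI := hP₀k
  haveI : IsLocallyNoetherian P₁.left := LocallyOfFiniteType.isLocallyNoetherian P₁.hom
  haveI : LocallyOfFiniteType P₀.hom := by rw [← Over.w i₀]; infer_instance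
  haveI : QuasiCompact P₀.hom := by rw [← Over.w i₀]; infer_instance
  haveI : Smooth P₁.hom := GrpSchLib.smooth_of_isReduced_of_isAlgClosed P₁
  haveI : Smooth i₀.left := by
    haveI : LocallyOfFinitePresentation i₀.left := inferInstance
    haveI : IsOpenImmersion i₀.left := IsOpenImmersion.of_flat_of_mono _
    infer_instance
  haveI : Smooth P₀.hom := by rw [← Over.w i₀]; infer_instance
  haveI : ConnectedSpace P₀.left := by
    have h : _root_.IsConnected (Set.range i₀.left) := hr ▸ isConnected_connectedComponent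
    rw [connectedSpace_iff_univ]
    rw [← Set.image_univ] at h
    exact ⟨⟨_, Set.mem_univ (h.nonempty.choose_spec.choose)⟩,
      i₀.left.isClosedEmbedding.isInducing.isPreconnected_image.1 h.isPreconnected⟩
  let p : P₀ ⟶ T := i₀ ≫ i₁ ≫ b
  haveI : IsFinite p.left := by rw [Over.comp_left, Over.comp_left]; infer_instance
  haveI : Surjective p.left := by
    haveI : Surjective (i₁ ≫ b).left := by rw [Over.comp_left]; infer_instance
    haveI : AlgebraicGeometry.IsReduced T.left := GrpSchLib.isReduced_of_smooth_field T.hom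
    haveI : QuasiCompact (i₁ ≫ b).left := by rw [Over.comp_left]; infer_instance
    haveI : Flat (i₁ ≫ b).left := GrpSchLib.flat_of_surjective_hom (i₁ ≫ b)
    haveI : Flat p.left := by rw [Over.comp_left]; infer_instance
    haveI : IsLocallyNoetherian T.left := LocallyOfFiniteType.isLocallyNoetherian T.hom
    haveI : LocallyOfFiniteType p.left := inferInstance
    haveI : LocallyOfFinitePresentation p.left := inferInstance
    refine ⟨Set.range_eq_univ.1 ?_⟩
    exact IsClopen.eq_univ ⟨p.left.isClosedMap.isClosed_range, p.left.isOpenMap.isOpen_range⟩ (Set.range_nonempty _)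
  haveI : AlgebraicGeometry.IsReduced T.left := GrpSchLib.isReduced_of_smooth_field T.hom
  haveI : Flat p.left := GrpSchLib.flat_of_surjective_hom p
  -- the kernel of `P₀ → T`
  obtain ⟨K, _, κ, hκ, hκc, -, hk⟩ := GrpSchLib.exists_kernel p
  haveI := hκ; haveI := hκc
  haveI : IsFinite K.hom := by
    have h2 : IsFinite (toUnit K).left :=
      MorphismProperty.of_isPullback (P := @IsFinite) (hk.map (Over.forget (Spec (CommRingCat.of k))))
        (show IsFinite p.left from inferInstance)
    haveI := h2
    haveI : IsIso (𝟙_ (Over (Spec (CommRingCat.of k)))).hom := inferInstanceAs (IsIso (𝟙 _))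
    rw [← Over.w (toUnit K)]
    infer_instance
  obtain ⟨T', _, i', A, _, q, hi', hi'c, hT', hq, hqs, hqf, hkq, hAp, hAs, hAc⟩ :=
    isSA_of_isogeny p κ hk (isSA_torus hT)
  haveI := hi'; haveI := hi'c; haveI := hq; haveI := hqs; haveI := hqf; haveI := hAp; haveI := hAs; haveI := hAc
  haveI : IsClosedImmersion a.left := by
    haveI : IsClosedImmersion j.left := by
      haveI : QuasiCompact (j.left ≫ H.hom) := by rw [Over.w j]; infer_instance
      haveI : QuasiCompact j.left := QuasiCompact.of_comp j.left H.hom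
      exact S3036.result k T H j
    exact MorphismProperty.of_isPullback (P := @IsClosedImmersion) hpb.flip (show IsClosedImmersion j.left from inferInstance)
  have h0 : Red.IsTrivialGrp T' := by
    haveI : Mono (i' ≫ i₀ ≫ i₁ ≫ a) := by
      haveI : Mono i' := Over.mono_of_mono_left _
      haveI : Mono i₀ := Over.mono_of_mono_left _
      haveI : Mono i₁ := Over.mono_of_mono_left _
      infer_instance
    exact hG T' (i' ≫ i₀ ≫ i₁ ≫ a) hT'
  haveI : IsAffine P₀.left := isAffine_of_isAffineHom p.left
  haveI : IsAffine A.left := GrpSchLib.isAffine_of_quotient q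
  haveI : IsFinite A.hom := IsFinite.iff_isProper_and_isAffineHom.2 ⟨inferInstance, inferInstance⟩
  haveI : Subsingleton A.left := by
    haveI := discrete_of_finite A
    exact PreconnectedSpace.trivial_of_discrete
  have hA := isTrivial_of_subsingleton A
  have hP₀ : 𝟙 P₀ = (1 : P₀ ⟶ P₀) := by
    have h2 : q = 1 := by rw [← Category.comp_id q, hA, MonObj.comp_one]
    have h3 := hkq.lift_fst (𝟙 P₀) (toUnit P₀) (by rw [Category.id_comp, h2, Hom.one_def])
    rw [← Category.comp_id (hkq.lift _ _ _), id_eq_one_of_isTrivialGrp h0, MonObj.comp_one, MonObj.one_comp] at h3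
    exact h3.symm
  refine isTrivialGrp_of_id_eq_one T ?_
  haveI : Epi p := (isCover_of_flat_surjective p).epi
  rw [← cancel_epi p, Category.comp_id, ← Category.id_comp p, hP₀, MonObj.one_comp, MonObj.one_comp]

theorem hasNoSubtorus_iff_bc (F : Type u) [Field F] (G H : Over (Spec (CommRingCat.of F))) [GrpObj G] [GrpObj H]
    [Smooth G.hom] [QuasiCompact G.hom] [IsAffine G.left] [Smooth H.hom] [QuasiCompact H.hom] [IsAffine H.left]
    (f : G ⟶ H) [IsMonHom f] [Surjective f.left] [IsFinite f.left]
    (σ : Spec (CommRingCat.of (AlgebraicClosure F)) ⟶ Spec (CommRingCat.of F)) :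
    Red.HasNoSubtorus (AlgebraicClosure F) (Red.bc σ G) ↔ Red.HasNoSubtorus (AlgebraicClosure F) (Red.bc σ H) := by
  let f' : Red.bc σ G ⟶ Red.bc σ H := (Over.pullback σ).map f
  have sq : IsPullback (pullback.fst G.hom σ) f'.left f.left (pullback.fst H.hom σ) := by
    refine IsPullback.of_bot ?_ (pullback.lift_fst _ _ _).symm (IsPullback.of_hasPullback H.hom σ)
    rw [show f'.left ≫ pullback.snd H.hom σ = pullback.snd G.hom σ from pullback.lift_snd _ _ _, Over.w f]
    exact IsPullback.of_hasPullback G.hom σ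
  haveI : IsFinite f'.left := MorphismProperty.of_isPullback (P := @IsFinite) sq inferInstance
  haveI : Surjective f'.left := MorphismProperty.of_isPullback (P := @Surjective) sq inferInstance
  haveI : Smooth (Red.bc σ G).hom := MorphismProperty.pullback_snd _ _ inferInstance
  haveI : Smooth (Red.bc σ H).hom := MorphismProperty.pullback_snd _ _ inferInstance
  haveI : QuasiCompact (Red.bc σ G).hom := MorphismProperty.pullback_snd _ _ inferInstance
  haveI : QuasiCompact (Red.bc σ H).hom := MorphismProperty.pullback_snd _ _ inferInstance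
  haveI : IsAffine (Red.bc σ G).left := inferInstanceAs (IsAffine (pullback G.hom σ))
  haveI : IsAffine (Red.bc σ H).left := inferInstanceAs (IsAffine (pullback H.hom σ))
  exact ⟨hasNoSubtorus_of_surjective f', hasNoSubtorus_of_finite f'⟩

end Groth.Agent.GrpFieldLib.IsogTorus

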