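import Mathlib

/-! Functions on an étale algebra over a polynomial ring which vanish on all infinitesimal
neighbourhoods of a section vanish near the section. -/

open TensorProduct MvPolynomial

universe u

namespace Groth.Agent.GrpFieldLib.Jet

section Quotient

variable {P : Type u} [CommRing P] (m : Ideal P) {A : Type u} [CommRing A] [Algebra P A]

/-- The kernel of a section of an unramified algebra is cut out by an element with value one. -/
theorem exists_cut [Algebra.FiniteType P A] [Algebra.FormallyUnramified P A] (e : A →ₐ[P] P ⧸ m) :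
    ∃ g : A, e g = 1 ∧ ∀ x, e x = 0 → g * x ∈ m.map (algebraMap P A) := by
  classical
  let M : Ideal A := m.map (algebraMap P A)
  let K : Ideal A := RingHom.ker e
  have hMK : M ≤ K := Ideal.map_le_iff_le_comap.mpr fun p hp => by
    show e (algebraMap P A p) = 0
    rw [AlgHom.commutes, Ideal.Quotient.algebraMap_eq, Ideal.Quotient.eq_zero_iff_mem]
    exact hp
  have hKK : K ≤ K * K ⊔ M := by
    let I : Ideal A := K * K ⊔ M
    let N : Ideal (A ⧸ I) := K.map (Ideal.Quotient.mk I)
    have hN : IsNilpotent N := ⟨2, by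
      rw [← Ideal.map_pow, Ideal.zero_eq_bot, Ideal.map_eq_bot_iff_le_ker, Ideal.mk_ker, pow_two]
      exact le_sup_left⟩
    let θ : P ⧸ m →ₐ[P] A ⧸ I := Ideal.Quotient.liftₐ m (Algebra.ofId P (A ⧸ I)) fun p hp => by
      show Ideal.Quotient.mk I (algebraMap P A p) = 0
      exact Ideal.Quotient.eq_zero_iff_mem.mpr (Ideal.mem_sup_right (Ideal.mem_map_of_mem _ hp))
    have hθ : Ideal.Quotient.mkₐ P I = θ.comp e := by
      refine Algebra.FormallyUnramified.ext N hN fun x => ?_
      obtain ⟨p, hp⟩ := Ideal.Quotient.mk_surjective (e x)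
      rw [Ideal.Quotient.eq]
      have h1 : θ.comp e x = Ideal.Quotient.mk I (algebraMap P A p) := by
        rw [AlgHom.comp_apply, ← hp]
        rfl
      rw [h1, Ideal.Quotient.mkₐ_eq_mk, ← map_sub]
      refine Ideal.mem_map_of_mem _ ?_
      show e (x - algebraMap P A p) = 0
      rw [map_sub, AlgHom.commutes, Ideal.Quotient.algebraMap_eq, hp, sub_self]
    intro x hx
    have := AlgHom.congr_fun hθ x
    rw [AlgHom.comp_apply, show e x = 0 from hx, map_zero] at this
    exact Ideal.Quotient.eq_zero_iff_mem.mp this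
  obtain ⟨s, hs⟩ := (‹Algebra.FiniteType P A›).out
  choose c hc using fun a : A => Ideal.Quotient.mk_surjective (e a)
  let F : Set A := (fun a => a - algebraMap P A (c a)) '' ↑s
  have hdec : ∀ x : A, ∃ p : P, x - algebraMap P A p ∈ Ideal.span F := by
    intro x
    have hx : x ∈ Algebra.adjoin P (s : Set A) := hs ▸ Algebra.mem_top
    induction hx using Algebra.adjoin_induction with
    | mem a ha => exact ⟨c a, Ideal.subset_span ⟨a, ha, rfl⟩⟩
    | algebraMap p => exact ⟨p, by simp⟩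
    | add a b _ _ ha hb =>
      obtain ⟨p, hp⟩ := ha; obtain ⟨q, hq⟩ := hb
      exact ⟨p + q, by rw [map_add, add_sub_add_comm]; exact add_mem hp hq⟩
    | mul a b _ _ ha hb =>
      obtain ⟨p, hp⟩ := ha; obtain ⟨q, hq⟩ := hb
      refine ⟨p * q, ?_⟩
      rw [map_mul, show a * b - algebraMap P A p * algebraMap P A q =
        a * (b - algebraMap P A q) + algebraMap P A q * (a - algebraMap P A p) by ring]
      exact add_mem (Ideal.mul_mem_left _ _ hq) (Ideal.mul_mem_left _ _ hp)
  have hF : Ideal.span F ≤ K := Ideal.span_le.mpr <| by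
    rintro _ ⟨a, -, rfl⟩
    show e (a - algebraMap P A (c a)) = 0
    rw [map_sub, AlgHom.commutes, Ideal.Quotient.algebraMap_eq, hc, sub_self]
  have hK : K = Ideal.span F ⊔ M := by
    refine le_antisymm (fun x hx => ?_) (sup_le hF hMK)
    obtain ⟨p, hp⟩ := hdec x
    have hpm : p ∈ m := by
      have h := hF hp
      change e (x - algebraMap P A p) = 0 at h
      rwa [map_sub, show e x = 0 from hx, zero_sub, neg_eq_zero, AlgHom.commutes,
        Ideal.Quotient.algebraMap_eq, Ideal.Quotient.eq_zero_iff_mem] at h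
    rw [← sub_add_cancel x (algebraMap P A p)]
    exact add_mem (Ideal.mem_sup_left hp) (Ideal.mem_sup_right (Ideal.mem_map_of_mem _ hpm))
  let Kb : Ideal (A ⧸ M) := K.map (Ideal.Quotient.mk M)
  have hfg : Kb.FG := by
    refine ⟨(s.image fun a => Ideal.Quotient.mk M (a - algebraMap P A (c a))), ?_⟩
    show Ideal.span _ = _
    rw [Finset.coe_image, ← Set.image_image (Ideal.Quotient.mk M), ← Ideal.map_span]
    show Ideal.map _ (Ideal.span F) = Kb
    simp [Kb, hK, Ideal.map_sup, M]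
  have hsq : Kb ≤ Kb • Kb := by
    rw [smul_eq_mul, ← Ideal.map_mul]
    refine (Ideal.map_mono hKK).trans ?_
    simp [Ideal.map_sup, M]
  obtain ⟨r, hr1, hr0⟩ := Submodule.exists_sub_one_mem_and_smul_eq_zero_of_fg_of_le_smul Kb Kb hfg hsq
  obtain ⟨g, rfl⟩ := Ideal.Quotient.mk_surjective r
  refine ⟨g, ?_, fun x hx => ?_⟩
  · have h : g - 1 ∈ K := by
      rw [← map_one (Ideal.Quotient.mk M), ← map_sub] at hr1
      have := (Ideal.mem_quotient_iff_mem hMK).mp hr1
      exact this
    change e (g - 1) = 0 at h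
    rwa [map_sub, map_one, sub_eq_zero] at h
  · have := hr0 (Ideal.Quotient.mk M x) (Ideal.mem_map_of_mem _ hx)
    rwa [smul_eq_mul, ← map_mul, Ideal.Quotient.eq_zero_iff_mem] at this

/-- An element killed by all the liftings of a section lies, after multiplying, in all powers of `m`. -/
theorem pow_mul_mem (e : A →ₐ[P] P ⧸ m) {g : A} (hg1 : e g = 1)
    (hg : ∀ x, e x = 0 → g * x ∈ m.map (algebraMap P A)) (σ : ∀ n : ℕ, A →ₐ[P] P ⧸ m ^ (n + 1))
    (hσ : ∀ n a p, σ n a = Ideal.Quotient.mk _ p → e a = Ideal.Quotient.mk m p) {x : A}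
    (hx : ∀ n, σ n x = 0) (n : ℕ) : g ^ n * x ∈ (m ^ n).map (algebraMap P A) := by
  induction n with
  | zero => simp [Ideal.map_top]
  | succ n ih =>
    have key : ∀ z ∈ (m ^ n).map (algebraMap P A),
        ∃ q ∈ m ^ n, g * z - g * algebraMap P A q ∈ (m ^ (n + 1)).map (algebraMap P A) := by
      intro z hz
      induction hz using Submodule.span_induction with
      | mem _ h =>
        obtain ⟨q, hq, rfl⟩ := h
        exact ⟨q, hq, by simp⟩
      | zero => exact ⟨0, zero_mem _, by simp⟩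
      | add a b _ _ ha hb =>
        obtain ⟨p, hp, hp'⟩ := ha; obtain ⟨q, hq, hq'⟩ := hb
        refine ⟨p + q, add_mem hp hq, ?_⟩
        rw [map_add, mul_add, mul_add, add_sub_add_comm]
        exact add_mem hp' hq'
      | smul c a _ ha =>
        obtain ⟨q, hq, hq'⟩ := ha
        obtain ⟨p, hp⟩ := Ideal.Quotient.mk_surjective (e c)
        refine ⟨p * q, Ideal.mul_mem_left _ _ hq, ?_⟩
        have hc : g * (c - algebraMap P A p) ∈ m.map (algebraMap P A) := hg _ (by
          rw [map_sub, AlgHom.commutes, Ideal.Quotient.algebraMap_eq, hp, sub_self])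
        rw [smul_eq_mul, map_mul, show g * (c * a) - g * (algebraMap P A p * algebraMap P A q) =
          c * (g * a - g * algebraMap P A q) + g * (c - algebraMap P A p) * algebraMap P A q by ring]
        refine add_mem (Ideal.mul_mem_left _ _ hq') ?_
        rw [pow_succ', Ideal.map_mul]
        exact Ideal.mul_mem_mul hc (Ideal.mem_map_of_mem _ hq)
    obtain ⟨q, hq, hdiff⟩ := key _ ih
    have hkill : ∀ w ∈ (m ^ (n + 1)).map (algebraMap P A), σ n w = 0 := by
      intro w hw
      refine (Ideal.map_le_iff_le_comap.mpr fun p hp => ?_ : _ ≤ RingHom.ker (σ n)) hw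
      show σ n (algebraMap P A p) = 0
      rw [AlgHom.commutes, Ideal.Quotient.algebraMap_eq, Ideal.Quotient.eq_zero_iff_mem]
      exact hp
    obtain ⟨v, hv⟩ := Ideal.Quotient.mk_surjective (σ n g)
    have hvm : v - 1 ∈ m := by
      have := hσ n g v hv.symm
      rw [hg1, eq_comm, ← map_one (Ideal.Quotient.mk m), Ideal.Quotient.eq] at this
      exact this
    have hvq : v * q ∈ m ^ (n + 1) := by
      have h1 := hkill _ hdiff
      rw [map_sub, map_mul, map_mul, map_mul, hx n, mul_zero, mul_zero, zero_sub, neg_eq_zero,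
        AlgHom.commutes, Ideal.Quotient.algebraMap_eq, ← hv, ← map_mul,
        Ideal.Quotient.eq_zero_iff_mem] at h1
      exact h1
    have hq1 : q ∈ m ^ (n + 1) := by
      rw [show q = v * q - (v - 1) * q by ring]
      refine sub_mem hvq ?_
      rw [pow_succ']
      exact Ideal.mul_mem_mul hvm hq
    rw [pow_succ' g, mul_assoc]
    have := add_mem hdiff (Ideal.mul_mem_left _ g (Ideal.mem_map_of_mem (algebraMap P A) hq1))
    rwa [sub_add_cancel] at this

end Quotient

/-- Krull's intersection theorem at a prime. -/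
theorem exists_annihilator_of_mem_pow {E₀ : Type u} [CommRing E₀] [IsNoetherianRing E₀] (q : Ideal E₀)
    [q.IsPrime] {x : E₀} (hx : ∀ n : ℕ, ∃ s ∉ q, s * x ∈ q ^ n) : ∃ h ∉ q, h * x = 0 := by
  have hK := Ideal.iInf_pow_eq_bot_of_isLocalRing _
    (IsLocalRing.maximalIdeal.isMaximal (Localization.AtPrime q)).ne_top
  have hzero : algebraMap E₀ (Localization.AtPrime q) x = 0 := by
    rw [← Ideal.mem_bot, ← hK, Ideal.mem_iInf]
    intro n
    obtain ⟨s, hs, hsx⟩ := hx n
    have hu : IsUnit (algebraMap E₀ (Localization.AtPrime q) s) :=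
      IsLocalization.map_units (Localization.AtPrime q) (⟨s, hs⟩ : q.primeCompl)
    have h2 := Ideal.mem_map_of_mem (algebraMap E₀ (Localization.AtPrime q)) hsx
    rw [map_mul, Ideal.map_pow, Localization.AtPrime.map_eq_maximalIdeal,
      Ideal.unit_mul_mem_iff_mem _ hu] at h2
    exact h2
  obtain ⟨⟨h₀, hh₀⟩, hh⟩ := (IsLocalization.map_eq_zero_iff q.primeCompl (Localization.AtPrime q) x).mp hzero
  exact ⟨h₀, hh₀, hh⟩

section Krull

variable {R : Type u} [CommRing R] {σ : Type} [Finite σ]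

/-- Over a polynomial ring a function on a smooth algebra lying in all powers of the ideal of the
variables vanishes near every prime containing the variables. -/
theorem exists_mul_eq_zero {E : Type u} [CommRing E] [Algebra (MvPolynomial σ R) E]
    [Algebra.Smooth (MvPolynomial σ R) E] (q : Ideal E) [q.IsPrime]
    (hq : (idealOfVars σ R).map (algebraMap _ E) ≤ q) {g x : E} (hg : g ∉ q)
    (hx : ∀ n : ℕ, ∃ k : ℕ, g ^ k * x ∈ (idealOfVars σ R ^ n).map (algebraMap _ E)) :
    ∃ h ∉ q, h * x = 0 := by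
  classical
  obtain ⟨A₀, B₀, _, _, hfg, hsm, ⟨e⟩⟩ := Algebra.Smooth.exists_subalgebra_fg ℤ (MvPolynomial σ R) E
  obtain ⟨s, hs⟩ := hfg
  obtain ⟨Sx, hSx⟩ := TensorProduct.exists_finset (e x)
  obtain ⟨Sg, hSg⟩ := TensorProduct.exists_finset (e g)
  let polys : Finset (MvPolynomial σ R) := s ∪ Sx.image Prod.fst ∪ Sg.image Prod.fst
  let cs : Finset R := polys.biUnion fun p => p.support.image fun m => p.coeff m
  let R₀ : Subalgebra ℤ R := Algebra.adjoin ℤ (cs : Set R)
  haveI : Algebra.FiniteType ℤ R₀ := (Subalgebra.fg_iff_finiteType R₀).mp ⟨cs, rfl⟩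
  haveI : IsNoetherianRing R₀ := Algebra.FiniteType.isNoetherianRing ℤ R₀
  let ι : MvPolynomial σ R₀ →+* MvPolynomial σ R := MvPolynomial.map R₀.val.toRingHom
  have hι : Function.Injective ι := MvPolynomial.map_injective _ Subtype.val_injective
  have hmem : ∀ p ∈ polys, p ∈ Set.range ι := by
    intro p hp
    refine MvPolynomial.mem_range_map_iff_coeffs_subset.mpr ?_
    intro c hc
    obtain ⟨m, hm, rfl⟩ := MvPolynomial.mem_coeffs_iff.mp hc
    exact ⟨⟨p.coeff m, Algebra.subset_adjoin (Finset.mem_biUnion.mpr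
      ⟨p, hp, Finset.mem_image.mpr ⟨m, hm, rfl⟩⟩)⟩, rfl⟩
  let P₀ := MvPolynomial σ R₀
  have hA₀ : A₀ ≤ ι.toIntAlgHom.range := by
    rw [← hs, Algebra.adjoin_le_iff]
    exact fun p hp => hmem p (by simp [polys, Finset.mem_coe.mp hp])
  let χ : A₀ →+* P₀ :=
    ((AlgEquiv.ofInjective ι.toIntAlgHom hι).symm.toAlgHom.comp (Subalgebra.inclusion hA₀)).toRingHom
  have hχ : ∀ a, ι (χ a) = a := fun a =>
    congrArg Subtype.val ((AlgEquiv.ofInjective ι.toIntAlgHom hι).apply_symm_apply (Subalgebra.inclusion hA₀ a))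
  letI : Algebra A₀ P₀ := χ.toAlgebra
  letI : Algebra P₀ (MvPolynomial σ R) := ι.toAlgebra
  haveI : IsScalarTower A₀ P₀ (MvPolynomial σ R) := IsScalarTower.of_algebraMap_eq fun a => (hχ a).symm
  let E₀ := P₀ ⊗[A₀] B₀
  haveI : Algebra.Smooth P₀ E₀ := inferInstance
  haveI : Module.Flat P₀ E₀ := inferInstance
  haveI : IsNoetherianRing E₀ := Algebra.FiniteType.isNoetherianRing P₀ E₀
  let f₁ : E₀ →ₐ[A₀] MvPolynomial σ R ⊗[A₀] B₀ :=
    Algebra.TensorProduct.map (IsScalarTower.toAlgHom A₀ P₀ (MvPolynomial σ R)) (AlgHom.id A₀ B₀)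
  let f : E₀ →+* E := e.symm.toRingEquiv.toRingHom.comp f₁.toRingHom
  have hsum : ∀ (S : Finset (MvPolynomial σ R × B₀)) (z : E), S.image Prod.fst ⊆ polys →
      e z = ∑ i ∈ S, i.1 ⊗ₜ[A₀] i.2 → ∃ z₀, f z₀ = z := by
    intro S z hS hz
    choose p₀ hp₀ using hmem
    refine ⟨∑ i ∈ S.attach, p₀ i.1.1 (hS (Finset.mem_image_of_mem _ i.2)) ⊗ₜ[A₀] i.1.2, ?_⟩
    refine e.injective ?_
    show e (e.symm (f₁ _)) = e z
    rw [e.apply_symm_apply, hz, map_sum, ← Finset.sum_attach S]
    refine Finset.sum_congr rfl fun i _ => ?_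
    show ι (p₀ i.1.1 _) ⊗ₜ[A₀] i.1.2 = _
    rw [hp₀]
  obtain ⟨x₀, rfl⟩ := hsum Sx x (fun p hp => by simp only [polys, Finset.mem_union]; tauto) hSx
  obtain ⟨g₀, rfl⟩ := hsum Sg g (fun p hp => by simp only [polys, Finset.mem_union]; tauto) hSg
  let m₀ : Ideal P₀ := idealOfVars σ R₀
  have key : ∀ (n : ℕ) (z : E₀), f z ∈ (idealOfVars σ R ^ n).map (algebraMap _ E) →
      z ∈ (m₀ ^ n).map (algebraMap P₀ E₀) := by
    intro n z hz
    let I : Ideal (MvPolynomial σ R) := idealOfVars σ R ^ n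
    have hmn : m₀ ^ n ≤ I.comap ι := by
      intro p hp
      rw [Ideal.mem_comap, mem_pow_idealOfVars_iff']
      intro d hd
      rw [MvPolynomial.coeff_map, (mem_pow_idealOfVars_iff' n p).mp hp d hd, map_zero]
    let j : P₀ ⧸ m₀ ^ n →ₐ[P₀] MvPolynomial σ R ⧸ I :=
      Ideal.Quotient.liftₐ _ (Algebra.ofId P₀ _) fun p hp => by
        show Ideal.Quotient.mk I (ι p) = 0
        exact Ideal.Quotient.eq_zero_iff_mem.mpr (hmn hp)
    have hj : Function.Injective j := by
      rw [injective_iff_map_eq_zero]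
      intro a ha
      obtain ⟨p, rfl⟩ := Ideal.Quotient.mk_surjective a
      change Ideal.Quotient.mk I (ι p) = 0 at ha
      rw [Ideal.Quotient.eq_zero_iff_mem, mem_pow_idealOfVars_iff'] at ha
      rw [Ideal.Quotient.eq_zero_iff_mem, mem_pow_idealOfVars_iff']
      intro d hd
      have := ha d hd
      rw [MvPolynomial.coeff_map] at this
      exact Subtype.val_injective (this.trans (map_zero R₀.val.toRingHom).symm)
    let pr : MvPolynomial σ R →ₐ[A₀] E₀ ⊗[P₀] (MvPolynomial σ R ⧸ I) :=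
      ((Algebra.TensorProduct.includeRight (R := P₀) (A := E₀) (B := MvPolynomial σ R ⧸ I)).comp
        (Ideal.Quotient.mkₐ P₀ I)).restrictScalars A₀
    let ψ : MvPolynomial σ R ⊗[A₀] B₀ →ₐ[A₀] E₀ ⊗[P₀] (MvPolynomial σ R ⧸ I) :=
      Algebra.TensorProduct.lift pr
        (((Algebra.TensorProduct.includeLeft (R := P₀) (S := P₀) (A := E₀) (B := MvPolynomial σ R ⧸ I)).restrictScalars A₀).comp
          (Algebra.TensorProduct.includeRight (R := A₀) (A := P₀) (B := B₀)))
        fun _ _ => by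
          exact mul_comm (G := E₀ ⊗[P₀] (MvPolynomial σ R ⧸ I)) _ _
    have hψf : ∀ w : E₀, ψ (f₁ w) = w ⊗ₜ 1 := by
      intro w
      induction w using TensorProduct.induction_on with
      | zero => simp
      | tmul p b =>
        have h1 : f₁ (p ⊗ₜ[A₀] b) = ι p ⊗ₜ[A₀] b := rfl
        rw [h1]
        show pr (ι p) * ((1 : P₀) ⊗ₜ[A₀] b) ⊗ₜ[P₀] (1 : MvPolynomial σ R ⧸ I) = _
        show (1 : E₀) ⊗ₜ[P₀] Ideal.Quotient.mk I (ι p) * _ = _
        have h2 : Ideal.Quotient.mk I (ι p) = p • (1 : MvPolynomial σ R ⧸ I) :=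
          (Algebra.algebraMap_eq_smul_one (A := MvPolynomial σ R ⧸ I) p :)
        rw [Algebra.TensorProduct.tmul_mul_tmul, one_mul, mul_one, h2, TensorProduct.tmul_smul,
          TensorProduct.smul_tmul']
        congr 1
        rw [TensorProduct.smul_tmul', smul_eq_mul, mul_one]
      | add a b ha hb => simp [ha, hb, TensorProduct.add_tmul]
    have hkill : ψ (e (f z)) = 0 := by
      refine (Ideal.map_le_iff_le_comap.mpr fun p hp => ?_ :
        I.map (algebraMap _ E) ≤ RingHom.ker (ψ.toRingHom.comp e.toAlgHom.toRingHom)) hz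
      show ψ (e (algebraMap _ E p)) = 0
      rw [e.commutes, Algebra.TensorProduct.algebraMap_apply]
      show pr p * _ = 0
      rw [show pr p = 0 by
        show (1 : E₀) ⊗ₜ[P₀] Ideal.Quotient.mk I p = 0
        rw [Ideal.Quotient.eq_zero_iff_mem.mpr hp, TensorProduct.tmul_zero]]
      exact zero_mul (M₀ := E₀ ⊗[P₀] (MvPolynomial σ R ⧸ I)) _
    have h0 : z ⊗ₜ[P₀] (1 : P₀ ⧸ m₀ ^ n) = 0 := by
      apply Module.Flat.lTensor_preserves_injective_linearMap (M := E₀) j.toLinearMap hj
      rw [map_zero, LinearMap.lTensor_tmul]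
      show z ⊗ₜ[P₀] j 1 = 0
      rw [map_one, ← hψf, ← hkill]
      exact congrArg ψ (e.apply_symm_apply (f₁ z)).symm
    refine (Ideal.Quotient.eq_zero_iff_mem (I := (m₀ ^ n).map (algebraMap P₀ E₀))).mp ?_
    apply (Algebra.TensorProduct.quotIdealMapEquivTensorQuot E₀ (m₀ ^ n)).injective
    rw [Algebra.TensorProduct.quotIdealMapEquivTensorQuot_mk, map_zero]
    exact h0
  let q₀ : Ideal E₀ := q.comap f
  haveI : q₀.IsPrime := Ideal.IsPrime.comap f
  have hm₀ : m₀.map (algebraMap P₀ E₀) ≤ q₀ := by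
    rw [Ideal.map_le_iff_le_comap]
    intro p hp
    show f (algebraMap P₀ E₀ p) ∈ q
    have : f (algebraMap P₀ E₀ p) = algebraMap _ E (ι p) := by
      apply e.injective
      show e (e.symm (f₁ _)) = _
      rw [e.apply_symm_apply, e.commutes]
      rfl
    rw [this]
    refine hq (Ideal.mem_map_of_mem _ ?_)
    have h1 := (mem_pow_idealOfVars_iff' 1 p).mp (by rwa [pow_one])
    rw [← pow_one (idealOfVars σ R), mem_pow_idealOfVars_iff']
    intro d hd
    rw [MvPolynomial.coeff_map, h1 d hd, map_zero]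
  obtain ⟨h₀, hh₀, hh⟩ := exists_annihilator_of_mem_pow (E₀ := E₀) q₀ (x := x₀) fun n => by
    obtain ⟨k, hk⟩ := hx n
    refine ⟨g₀ ^ k, fun h => hg (Ideal.IsPrime.mem_of_pow_mem (I := q₀) inferInstance k h), ?_⟩
    have := key n (g₀ ^ k * x₀) (by rwa [map_mul, map_pow])
    rw [Ideal.map_pow] at this
    exact Ideal.pow_right_mono hm₀ n this
  exact ⟨f h₀, hh₀, by rw [← map_mul]; exact (congrArg f hh).trans (map_zero f)⟩

end Krull

end Groth.Agent.GrpFieldLib.Jet
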