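import Groth.Agent.GrpFieldLib.SCChart
import Groth.Agent.GrpSchLib.Neutral

/-! Étale coordinates along the unit section of a smooth group, and along the unit of a subgroup. -/

open CategoryTheory Limits AlgebraicGeometry MonoidalCategory CartesianMonoidalCategory MonObj
open TensorProduct MvPolynomial

universe u

namespace Groth.Agent.GrpFieldLib.Jet

open Groth.Agent.GrpSchLib.Neutral (unit hom_unit)

/-- `Spec` of a ring map. -/
noncomputable abbrev sp {A B : Type u} [CommRing A] [CommRing B] (f : A →+* B) :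
    Spec (CommRingCat.of B) ⟶ Spec (CommRingCat.of A) := Spec.map (CommRingCat.ofHom f)

theorem sp_comp {A B C : Type u} [CommRing A] [CommRing B] [CommRing C] (f : A →+* B) (g : B →+* C) :
    sp (g.comp f) = sp g ≫ sp f := by
  rw [sp, CommRingCat.ofHom_comp, Spec.map_comp]

theorem sp_injective {A B : Type u} [CommRing A] [CommRing B] {f g : A →+* B} (h : sp f = sp g) :
    f = g := congrArg CommRingCat.Hom.hom (Spec.map_inj.mp h)

theorem exists_ringHom {A B : Type u} [CommRing A] [CommRing B]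
    (g : Spec (CommRingCat.of B) ⟶ Spec (CommRingCat.of A)) : ∃ f : A →+* B, sp f = g := by
  obtain ⟨f, hf⟩ := Spec.map_surjective g
  exact ⟨f.hom, hf⟩

/-- A base change of a flat morphism of finite presentation, on the right factor. -/
theorem flat_includeRight {P P' A : Type u} [CommRing P] [CommRing P'] [CommRing A] [Algebra P P']
    [Algebra P A] (h1 : (algebraMap P P').Flat) (h2 : (algebraMap P P').FinitePresentation) :
    (Algebra.TensorProduct.includeRight : A →ₐ[P] P' ⊗[P] A).toRingHom.Flat ∧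
      (Algebra.TensorProduct.includeRight : A →ₐ[P] P' ⊗[P] A).toRingHom.FinitePresentation := by
  haveI : Module.Flat P P' := RingHom.flat_algebraMap_iff.mp h1
  haveI : Algebra.FinitePresentation P P' := RingHom.finitePresentation_algebraMap.mp h2
  have e : (Algebra.TensorProduct.includeRight : A →ₐ[P] P' ⊗[P] A).toRingHom =
      (Algebra.TensorProduct.comm P A P').toRingEquiv.toRingHom.comp (algebraMap A (A ⊗[P] P')) := by
    ext z; simp
  rw [e]
  exact ⟨(RingHom.flat_algebraMap_iff.mpr inferInstance).comp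
      (RingHom.Flat.of_bijective (RingEquiv.bijective (Algebra.TensorProduct.comm P A P').toRingEquiv)),
    (RingHom.FinitePresentation.of_bijective (RingEquiv.bijective (Algebra.TensorProduct.comm P A P').toRingEquiv)).comp
      (RingHom.finitePresentation_algebraMap.mpr inferInstance)⟩

/-- Localizing the coefficients of a polynomial ring. -/
theorem flat_map_away {R R' : Type u} [CommRing R] [CommRing R'] [Algebra R R'] (r : R)
    [IsLocalization.Away r R'] {σ : Type} :
    (MvPolynomial.map (σ := σ) (algebraMap R R')).Flat ∧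
      (MvPolynomial.map (σ := σ) (algebraMap R R')).FinitePresentation := by
  letI : Algebra (MvPolynomial σ R) (MvPolynomial σ R') := MvPolynomial.algebraMvPolynomial
  haveI : IsLocalization ((Submonoid.powers r).map (C (σ := σ))) (MvPolynomial σ R') :=
    MvPolynomial.isLocalization _ R'
  haveI : IsLocalization.Away (C r : MvPolynomial σ R) (MvPolynomial σ R') := by
    rw [IsLocalization.Away, ← Submonoid.map_powers (f := (C : R →+* MvPolynomial σ R))]
    assumption
  constructor
  · exact RingHom.flat_algebraMap_iff.mpr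
      (IsLocalization.flat (MvPolynomial σ R') ((Submonoid.powers r).map (C (σ := σ))))
  · exact RingHom.finitePresentation_algebraMap.mpr
      (IsLocalization.Away.finitePresentation (C r : MvPolynomial σ R))

theorem isOpenImmersion_map_away {R R' : Type u} [CommRing R] [CommRing R'] [Algebra R R'] (r : R)
    [IsLocalization.Away r R'] {σ : Type} :
    IsOpenImmersion (sp (MvPolynomial.map (σ := σ) (algebraMap R R'))) := by
  letI : Algebra (MvPolynomial σ R) (MvPolynomial σ R') := MvPolynomial.algebraMvPolynomial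
  haveI : IsLocalization ((Submonoid.powers r).map (C (σ := σ))) (MvPolynomial σ R') :=
    MvPolynomial.isLocalization _ R'
  haveI : IsLocalization.Away (C r : MvPolynomial σ R) (MvPolynomial σ R') := by
    rw [IsLocalization.Away, ← Submonoid.map_powers (f := (C : R →+* MvPolynomial σ R))]
    assumption
  exact IsOpenImmersion.of_isLocalization (R := MvPolynomial σ R) (S := MvPolynomial σ R') (C r)

theorem isOpenImmersion_includeRight {P P' A : Type u} [CommRing P] [CommRing P'] [CommRing A] [Algebra P P']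
    [Algebra P A] (h : IsOpenImmersion (sp (algebraMap P P'))) :
    IsOpenImmersion (sp (Algebra.TensorProduct.includeRight : A →ₐ[P] P' ⊗[P] A).toRingHom) :=
  MorphismProperty.of_isPullback (P := @IsOpenImmersion)
    (isPullback_SpecMap_of_isPushout _ _ _ _ (CommRingCat.isPushout_tensorProduct P P' A)) h

/-- Points of a tensor product. -/
theorem exists_tensor_hom {P P' A T : Type u} [CommRing P] [CommRing P'] [CommRing A] [CommRing T]
    [Algebra P P'] [Algebra P A] (f : P' →+* T) (g : A →+* T)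
    (h : f.comp (algebraMap P P') = g.comp (algebraMap P A)) :
    ∃ u : P' ⊗[P] A →+* T, u.comp (algebraMap P' (P' ⊗[P] A)) = f ∧
      u.comp (Algebra.TensorProduct.includeRight : A →ₐ[P] P' ⊗[P] A).toRingHom = g := by
  letI : Algebra P T := (f.comp (algebraMap P P')).toAlgebra
  let fA : P' →ₐ[P] T := { f with commutes' := fun _ => rfl }
  let gA : A →ₐ[P] T := { g with commutes' := fun z => (RingHom.congr_fun h z).symm }
  exact ⟨(Algebra.TensorProduct.lift fA gA fun _ _ => mul_comm (G := T) _ _).toRingHom,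
    RingHom.ext fun z => by simp [fA], RingHom.ext fun z => by simp [gA]⟩

/-- The origin. -/
noncomputable abbrev ev₀ (σ : Type) (R : Type u) [CommRing R] : MvPolynomial σ R →+* R :=
  MvPolynomial.eval₂Hom (RingHom.id R) 0

variable {S Z : Scheme.{u}}

/-- Étale coordinates of `Z` along a section `e` over `Spec R`, with the section at the origin. -/
structure SChart (π : Z ⟶ S) (e : S ⟶ Z) {R : Type u} [CommRing R] (β : Spec (CommRingCat.of R) ⟶ S) where
  d : ℕ
  A : Type u
  [commA : CommRing A]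
  [algA : Algebra (MvPolynomial (Fin d) R) A]
  [etaleA : Algebra.Etale (MvPolynomial (Fin d) R) A]
  eA : A →+* R
  heA : eA.comp (algebraMap (MvPolynomial (Fin d) R) A) = ev₀ (Fin d) R
  a : Spec (CommRingCat.of A) ⟶ Z
  flat_a : Flat a
  lfp_a : LocallyOfFinitePresentation a
  ha : a ≫ π = sp ((algebraMap (MvPolynomial (Fin d) R) A).comp MvPolynomial.C) ≫ β
  hunit : sp eA ≫ a = β ≫ e

attribute [instance] SChart.commA SChart.algA SChart.etaleA SChart.flat_a SChart.lfp_a

/-- Étale coordinates along a section exist, on an open of the source. -/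
theorem exists_schart (π : Z ⟶ S) [Smooth π] (e : S ⟶ Z) (he : e ≫ π = 𝟙 S) (s : S) :
    ∃ (R : Type u) (_ : CommRing R) (β : Spec (CommRingCat.of R) ⟶ S),
      IsOpenImmersion β ∧ s ∈ Set.range β ∧ ∃ K : SChart π e β, IsOpenImmersion K.a := by
  classical
  have hfe : ∀ t, π (e t) = t := fun t => congrArg (fun f : S ⟶ S => f t) he
  obtain ⟨S₁, hS₁, hs₁, -⟩ := exists_isAffineOpen_mem_and_subset (show s ∈ (⊤ : S.Opens) from trivial)
  obtain ⟨U, hU, heU, hUS⟩ := exists_isAffineOpen_mem_and_subset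
    (show e s ∈ π ⁻¹ᵁ S₁ by show π (e s) ∈ S₁; rwa [hfe])
  obtain ⟨r, hr, hsr⟩ := hS₁.exists_basicOpen_le (V := S₁ ⊓ e ⁻¹ᵁ U) ⟨s, ⟨hs₁, heU⟩⟩ hs₁
  let S₀ := S.basicOpen r
  let W : Z.Opens := U ⊓ π ⁻¹ᵁ S₀
  have hS₀ : IsAffineOpen S₀ := hS₁.basicOpen r
  have hW : IsAffineOpen W := by
    have h1 : W = Z.basicOpen ((π.appLE S₁ U hUS) r) := by
      rw [Scheme.basicOpen_appLE]
    rw [h1]
    exact hU.basicOpen _
  have hWS : W ≤ π ⁻¹ᵁ S₀ := inf_le_right
  have hSW : S₀ ≤ e ⁻¹ᵁ W := fun t ht => ⟨(hr ht).2, show π (e t) ∈ S₀ by rwa [hfe]⟩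
  let A₀ := Γ(Z, W)
  let R₁ := Γ(S, S₀)
  letI : Algebra R₁ A₀ := (π.appLE S₀ W hWS).hom.toAlgebra
  haveI : Algebra.Smooth R₁ A₀ :=
    HasRingHomProperty.appLE @Smooth π inferInstance ⟨S₀, hS₀⟩ ⟨W, hW⟩ hWS
  let e₀ : A₀ →+* R₁ := ((e).appLE W S₀ hSW).hom
  have he₀W : sp e₀ ≫ hW.fromSpec = hS₀.fromSpec ≫ e :=
    IsAffineOpen.SpecMap_appLE_fromSpec (e) hW hS₀ hSW
  have halg : sp (algebraMap R₁ A₀) ≫ hS₀.fromSpec = hW.fromSpec ≫ π :=
    IsAffineOpen.SpecMap_appLE_fromSpec π hS₀ hW hWS
  have he₀ : ∀ c, e₀ (algebraMap R₁ A₀ c) = c := fun c => RingHom.congr_fun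
    (show e₀.comp (algebraMap R₁ A₀) = RingHom.id R₁ from sp_injective (by
      rw [sp_comp, ← cancel_mono hS₀.fromSpec, Category.assoc, halg, reassoc_of% he₀W,
        show e ≫ π = 𝟙 S from he, Category.comp_id]
      exact (congrArg (· ≫ hS₀.fromSpec) (show sp (RingHom.id R₁) = 𝟙 _ from Spec.map_id _)).trans
        (Category.id_comp _) |>.symm)) c
  let p : PrimeSpectrum R₁ := hS₀.primeIdealOf ⟨s, hsr⟩
  let q : Ideal A₀ := p.asIdeal.comap e₀
  haveI : q.IsPrime := Ideal.IsPrime.comap _
  haveI : Algebra.IsSmoothAt R₁ q :=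
    Algebra.FormallySmooth.comp R₁ A₀ (Localization.AtPrime q)
  obtain ⟨f, hf, d, alg, tow, hstd⟩ :=
    Algebra.IsSmoothAt.exists_isStandardEtale_mvPolynomial (R := R₁) (p := q)
  let c₀ : R₁ := e₀ f
  let R := Localization.Away c₀
  let ρ : R₁ →+* R := algebraMap R₁ R
  have hu : IsUnit ((ρ.comp e₀) f) := IsLocalization.Away.algebraMap_isUnit c₀
  let ef : Localization.Away f →+* R := IsLocalization.Away.lift f hu
  have hef : ∀ z, ef (algebraMap A₀ _ z) = ρ (e₀ z) := fun z => IsLocalization.Away.lift_eq f hu z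
  let shift : Fin d → R := fun i => ef (algebraMap (MvPolynomial (Fin d) R₁) (Localization.Away f) (X i))
  let θ : MvPolynomial (Fin d) R₁ →+* MvPolynomial (Fin d) R :=
    MvPolynomial.eval₂Hom (C.comp ρ) fun i => X i + C (shift i)
  let fwd : MvPolynomial (Fin d) R →ₐ[R] MvPolynomial (Fin d) R := aeval fun i => X i + C (shift i)
  let bwd : MvPolynomial (Fin d) R →ₐ[R] MvPolynomial (Fin d) R := aeval fun i => X i - C (shift i)
  let τ : MvPolynomial (Fin d) R ≃ₐ[R] MvPolynomial (Fin d) R := AlgEquiv.ofAlgHom fwd bwd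
    (MvPolynomial.algHom_ext fun i => by simp [fwd, bwd])
    (MvPolynomial.algHom_ext fun i => by simp [fwd, bwd])
  have hθeq : θ = τ.toRingEquiv.toRingHom.comp (MvPolynomial.map ρ) := by
    refine MvPolynomial.ringHom_ext (fun c => ?_) fun i => ?_
    · simp [θ, τ, fwd]
    · simp [θ, τ, fwd]
  have hθ : θ.Flat ∧ θ.FinitePresentation := by
    rw [hθeq]
    exact ⟨(flat_map_away c₀).1.comp (RingHom.Flat.of_bijective τ.bijective),
    (RingHom.FinitePresentation.of_bijective τ.bijective).comp (flat_map_away c₀).2⟩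
  letI : Algebra (MvPolynomial (Fin d) R₁) (MvPolynomial (Fin d) R) := θ.toAlgebra
  let A := MvPolynomial (Fin d) R ⊗[MvPolynomial (Fin d) R₁] Localization.Away f
  let inr : Localization.Away f →+* A :=
    (Algebra.TensorProduct.includeRight : Localization.Away f →ₐ[MvPolynomial (Fin d) R₁] A).toRingHom
  have hflat_inr := flat_includeRight (A := Localization.Away f) hθ.1 hθ.2
  have hC : ∀ c : R₁, algebraMap (MvPolynomial (Fin d) R₁) (Localization.Away f) (C c) =
      algebraMap A₀ (Localization.Away f) (algebraMap R₁ A₀ c) := fun c => by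
    rw [← MvPolynomial.algebraMap_eq, ← IsScalarTower.algebraMap_apply, ← IsScalarTower.algebraMap_apply]
  obtain ⟨eA, heA, hinr⟩ := exists_tensor_hom (P := MvPolynomial (Fin d) R₁)
    (ev₀ (Fin d) R) ef (MvPolynomial.ringHom_ext (fun c => by
      show ev₀ (Fin d) R (θ (C c)) = ef (algebraMap _ (Localization.Away f) (C c))
      rw [hC, hef, he₀]
      simp [θ])
      fun i => by simp [RingHom.algebraMap_toAlgebra, θ, shift])
  let a : Spec (CommRingCat.of A) ⟶ Z := (sp (A := Localization.Away f) (B := A) inr) ≫ sp (algebraMap A₀ (Localization.Away f)) ≫ hW.fromSpec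
  haveI : IsOpenImmersion (sp (algebraMap A₀ (Localization.Away f))) :=
    IsOpenImmersion.of_isLocalization (R := A₀) (S := Localization.Away f) f
  haveI : Flat ((sp (A := Localization.Away f) (B := A) inr)) := (HasRingHomProperty.Spec_iff (P := @Flat) (φ := CommRingCat.ofHom (R := Localization.Away f) (S := A) inr)).2 hflat_inr.1
  haveI : LocallyOfFinitePresentation ((sp (A := Localization.Away f) (B := A) inr)) :=
    (HasRingHomProperty.Spec_iff (P := @LocallyOfFinitePresentation) (φ := CommRingCat.ofHom (R := Localization.Away f) (S := A) inr)).2 hflat_inr.2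
  refine ⟨R, inferInstance, sp ρ ≫ hS₀.fromSpec, ?_, ?_, {
    d := d, A := A, eA := eA, a := a, flat_a := inferInstance, lfp_a := inferInstance
    heA := heA, ha := ?_, hunit := ?_ }, ?_⟩
  · haveI : IsOpenImmersion (sp ρ) := IsOpenImmersion.of_isLocalization (R := R₁) (S := R) c₀
    infer_instance
  · obtain ⟨p', hp'⟩ : p ∈ Set.range (PrimeSpectrum.comap ρ) := by
      rw [PrimeSpectrum.localization_away_comap_range R c₀]
      exact hf
    refine ⟨p', ?_⟩
    rw [Scheme.Hom.comp_apply, show sp ρ p' = p from hp']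
    exact hS₀.fromSpec_primeIdealOf ⟨s, hsr⟩
  · have h2 : (sp (A := Localization.Away f) (B := A) inr) ≫ sp ((algebraMap A₀ (Localization.Away f)).comp (algebraMap R₁ A₀)) =
        sp ((algebraMap (MvPolynomial (Fin d) R) A).comp C) ≫ sp ρ := by
      rw [← sp_comp, ← sp_comp]
      congr 1
      refine RingHom.ext fun c => ?_
      show inr (algebraMap A₀ (Localization.Away f) (algebraMap R₁ A₀ c)) = algebraMap (MvPolynomial (Fin d) R) A (C (ρ c))
      rw [← hC]
      show (1 : MvPolynomial (Fin d) R) ⊗ₜ[MvPolynomial (Fin d) R₁] _ = _ ⊗ₜ _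
      rw [Algebra.algebraMap_eq_smul_one (A := Localization.Away f) (C c), TensorProduct.tmul_smul,
        TensorProduct.smul_tmul', Algebra.smul_def, _root_.mul_one]
      simp [RingHom.algebraMap_toAlgebra, θ]
    rw [sp_comp] at h2
    simp only [a, Category.assoc] at h2 ⊢
    rw [← halg, reassoc_of% h2]
  · simp only [a]
    rw [← Category.assoc, ← sp_comp, hinr, ← Category.assoc, ← sp_comp,
      show ef.comp (algebraMap A₀ (Localization.Away f)) = ρ.comp e₀ from RingHom.ext hef,
      sp_comp, Category.assoc, he₀W, Category.assoc]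
  · haveI : IsOpenImmersion (sp θ) := by
      rw [hθeq, sp_comp]
      haveI : IsOpenImmersion (sp τ.toRingEquiv.toRingHom) := by
        haveI : IsIso (CommRingCat.ofHom τ.toRingEquiv.toRingHom) :=
          τ.toRingEquiv.toCommRingCatIso.isIso_hom
        infer_instance
      haveI : IsOpenImmersion (sp (MvPolynomial.map (σ := Fin d) ρ)) := isOpenImmersion_map_away c₀
      infer_instance
    haveI : IsOpenImmersion (sp (A := Localization.Away f) (B := A) inr) :=
      isOpenImmersion_includeRight (P := MvPolynomial (Fin d) R₁) (P' := MvPolynomial (Fin d) R) ‹IsOpenImmersion (sp θ)›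
    show IsOpenImmersion (_ ≫ _ ≫ hW.fromSpec)
    infer_instance

variable (G : Over S) [GrpObj G]

/-- Étale coordinates of `G` along the unit section over `Spec R`, with the section at the origin. -/
abbrev GChart {R : Type u} [CommRing R] (β : Spec (CommRingCat.of R) ⟶ S) := SChart G.hom (unit G) β

theorem exists_gchart [Smooth G.hom] (s : S) :
    ∃ (R : Type u) (_ : CommRing R) (β : Spec (CommRingCat.of R) ⟶ S),
      IsOpenImmersion β ∧ s ∈ Set.range β ∧ Nonempty (GChart G β) := by
  obtain ⟨R, _, β, hβ, hs, K, -⟩ := exists_schart G.hom (unit G) (Over.w η[G]) s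
  exact ⟨R, inferInstance, β, hβ, hs, ⟨K⟩⟩

variable {G} {Y : Over S} (i : Y ⟶ G)

/-- Coordinates on the subgroup along its unit, with an étale algebra covering it. -/
structure YChart {R : Type u} [CommRing R] (β : Spec (CommRingCat.of R) ⟶ S) extends SChart G.hom (unit G) β where
  B : Type u
  U : Type u
  [commB : CommRing B]
  [algB : Algebra A B]
  [commU : CommRing U]
  [algU : Algebra A U]
  [etaleU : Algebra.Etale A U]
  π : U →ₐ[A] B
  hπ : Function.Surjective π
  hker : (RingHom.ker π).FG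
  eB : B →+* R
  heB : eB.comp (algebraMap A B) = eA
  b : Spec (CommRingCat.of B) ⟶ Y.left
  hb : b ≫ i.left = sp (algebraMap A B) ≫ a
  hepi : ∀ (T : Type u) [CommRing T] (τ τ' : B →+* T),
    τ.comp (algebraMap A B) = τ'.comp (algebraMap A B) → τ = τ'
  hlift : ∀ (T C : Type u) [CommRing T] [CommRing C] (θ : T →+* C),
    Function.Surjective θ → IsNilpotent (RingHom.ker θ) →
    ∀ (σ : A →+* T) (χ : R →+* C), θ.comp σ = χ.comp eA →
      (∃ l : Spec (CommRingCat.of T) ⟶ Y.left, l ≫ i.left = sp σ ≫ a) →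
        ∃ τ : B →+* T, τ.comp (algebraMap A B) = σ

attribute [instance] YChart.commB YChart.algB YChart.commU YChart.algU YChart.etaleU

/-- A chart transported along a ring map of the base. -/
theorem exists_gchart_of {R R₂ : Type u} [CommRing R] [CommRing R₂] {β : Spec (CommRingCat.of R) ⟶ S}
    (K : GChart G β) (ρ : R →+* R₂) {A₂ : Type u} [CommRing A₂] [Algebra (MvPolynomial (Fin K.d) R₂) A₂]
    [Algebra.Etale (MvPolynomial (Fin K.d) R₂) A₂] (inr : K.A →+* A₂) (hflat : inr.Flat)
    (hfp : inr.FinitePresentation) (eA₂ : A₂ →+* R₂)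
    (heA₂ : eA₂.comp (algebraMap (MvPolynomial (Fin K.d) R₂) A₂) = ev₀ (Fin K.d) R₂)
    (heinr : eA₂.comp inr = ρ.comp K.eA)
    (h1 : inr.comp ((algebraMap (MvPolynomial (Fin K.d) R) K.A).comp C) =
      ((algebraMap (MvPolynomial (Fin K.d) R₂) A₂).comp C).comp ρ) :
    ∃ (K₂ : GChart G (sp ρ ≫ β)) (inr' : K.A →+* K₂.A), K₂.a = sp inr' ≫ K.a ∧
      K₂.eA.comp inr' = ρ.comp K.eA := by
  haveI : Flat (sp inr) := (HasRingHomProperty.Spec_iff (P := @Flat)).2 hflat
  haveI : LocallyOfFinitePresentation (sp inr) :=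
    (HasRingHomProperty.Spec_iff (P := @LocallyOfFinitePresentation)).2 hfp
  refine ⟨{
    d := K.d, A := A₂, eA := eA₂, heA := heA₂, a := sp inr ≫ K.a, flat_a := inferInstance, lfp_a := inferInstance
    ha := ?_, hunit := ?_ }, inr, rfl, heinr⟩
  · rw [Category.assoc, K.ha, ← Category.assoc, ← sp_comp, h1, sp_comp, Category.assoc]
  · rw [← Category.assoc, ← sp_comp, heinr, sp_comp, Category.assoc, K.hunit, Category.assoc]

/-- Charts localize on the base. -/
theorem exists_gchart_away {R : Type u} [CommRing R] {β : Spec (CommRingCat.of R) ⟶ S} (K : GChart G β) (r : R) :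
    ∃ (K₂ : GChart G (sp (algebraMap R (Localization.Away r)) ≫ β)) (inr : K.A →+* K₂.A),
      K₂.a = sp inr ≫ K.a ∧ K₂.eA.comp inr = (algebraMap R (Localization.Away r)).comp K.eA := by
  let ρ : R →+* Localization.Away r := algebraMap R (Localization.Away r)
  letI : Algebra (MvPolynomial (Fin K.d) R) (MvPolynomial (Fin K.d) (Localization.Away r)) :=
    MvPolynomial.algebraMvPolynomial
  have hmap : RingHom.Flat (algebraMap (MvPolynomial (Fin K.d) R) (MvPolynomial (Fin K.d) (Localization.Away r))) ∧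
      RingHom.FinitePresentation (algebraMap (MvPolynomial (Fin K.d) R) (MvPolynomial (Fin K.d) (Localization.Away r))) :=
    flat_map_away r
  have hinr := flat_includeRight (A := K.A) hmap.1 hmap.2
  obtain ⟨eA₂, heA₂, heinr⟩ := exists_tensor_hom (P := MvPolynomial (Fin K.d) R)
    (ev₀ (Fin K.d) (Localization.Away r)) (ρ.comp K.eA)
    (RingHom.ext fun z => by
      show ev₀ (Fin K.d) _ (MvPolynomial.map ρ z) = ρ (K.eA (algebraMap _ K.A z))
      rw [show K.eA (algebraMap _ K.A z) = ev₀ (Fin K.d) R z from RingHom.congr_fun K.heA z]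
      exact RingHom.congr_fun (f := (ev₀ (Fin K.d) _).comp (MvPolynomial.map ρ)) (g := ρ.comp (ev₀ (Fin K.d) R))
        (MvPolynomial.ringHom_ext (fun c => by simp) fun i => by simp) z)
  let P₂ := MvPolynomial (Fin K.d) (Localization.Away r)
  let A₂ := P₂ ⊗[MvPolynomial (Fin K.d) R] K.A
  let inr : K.A →+* A₂ :=
    (Algebra.TensorProduct.includeRight : K.A →ₐ[MvPolynomial (Fin K.d) R] A₂).toRingHom
  refine exists_gchart_of (A₂ := A₂) K ρ inr hinr.1 hinr.2 eA₂ heA₂ heinr ?_
  refine RingHom.ext fun c => ?_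
  show (1 : P₂) ⊗ₜ[MvPolynomial (Fin K.d) R]
    algebraMap (MvPolynomial (Fin K.d) R) K.A (C c) = (C (ρ c) : P₂) ⊗ₜ (1 : K.A)
  rw [Algebra.algebraMap_eq_smul_one (A := K.A) (C c), TensorProduct.tmul_smul,
    TensorProduct.smul_tmul', Algebra.smul_def, _root_.mul_one]
  congr 1
  exact MvPolynomial.map_C _ c

theorem exists_ychart_of [Mono i] {eY : S ⟶ Y.left} (heY : eY ≫ i.left = unit G) {R : Type u} [CommRing R]
    {β : Spec (CommRingCat.of R) ⟶ S} (K : GChart G β) {A : Type u} [CommRing A] (a : Spec (CommRingCat.of A) ⟶ G.left)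
    (inr : A →+* K.A) (hinr : K.a = sp inr ≫ a)
    {Bf U : Type u} [CommRing Bf] [CommRing U] [Algebra A Bf] [Algebra A U] [Algebra.Etale A U]
    [Algebra.FinitePresentation A Bf] (φ₁ : U →ₐ[A] Bf) (hφ₁ : Function.Surjective φ₁)
    (j : Spec (CommRingCat.of Bf) ⟶ pullback i.left a) [IsOpenImmersion j]
    (hjA : sp (algebraMap A Bf) = j ≫ pullback.snd i.left a)
    (ef : Bf →+* R) (hef₁ : sp ef ≫ j ≫ pullback.fst i.left a = β ≫ eY)
    (hefA : ef.comp (algebraMap A Bf) = K.eA.comp inr) : Nonempty (YChart i β) := by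
  letI : Algebra A K.A := inr.toAlgebra
  let π : K.A ⊗[A] U →ₐ[K.A] K.A ⊗[A] Bf := Algebra.TensorProduct.map (AlgHom.id K.A K.A) φ₁
  have hπ : Function.Surjective π := Algebra.TensorProduct.map_surjective _ _ Function.surjective_id hφ₁
  let inrB : Bf →+* K.A ⊗[A] Bf := (Algebra.TensorProduct.includeRight : Bf →ₐ[A] K.A ⊗[A] Bf).toRingHom
  let sinrB := sp (A := Bf) (B := K.A ⊗[A] Bf) inrB
  obtain ⟨eB, heB, -⟩ := exists_tensor_hom (P := A) K.eA ef hefA.symm
  have hinrB : sinrB ≫ sp (algebraMap A Bf) = sp (algebraMap K.A (K.A ⊗[A] Bf)) ≫ sp inr := by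
    show sp inrB ≫ _ = _
    rw [← sp_comp, ← sp_comp]
    congr 1
    refine RingHom.ext fun z => ?_
    show (1 : K.A) ⊗ₜ[A] algebraMap A Bf z = inr z ⊗ₜ[A] (1 : Bf)
    rw [Algebra.algebraMap_eq_smul_one, TensorProduct.tmul_smul, TensorProduct.smul_tmul', Algebra.smul_def,
      _root_.mul_one]
    rfl
  haveI : Mono i.left := inferInstanceAs (Mono ((Over.forget S).map i))
  haveI : Mono (sp (algebraMap A Bf)) := by rw [hjA]; exact mono_comp _ _
  have hjY : j ≫ pullback.fst i.left a ≫ i.left = sp (algebraMap A Bf) ≫ a :=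
    (congrArg (j ≫ ·) pullback.condition).trans
      ((Category.assoc _ _ _).symm.trans (congrArg (· ≫ a) hjA.symm))
  refine ⟨{
    toSChart := K
    B := K.A ⊗[A] Bf, U := K.A ⊗[A] U, π := π, hπ := hπ
    hker := Algebra.FinitePresentation.ker_fG_of_surjective π hπ
    eB := eB, b := sinrB ≫ j ≫ pullback.fst i.left a
    heB := heB, hb := ?_, hepi := ?_, hlift := ?_ }⟩
  · rw [Category.assoc, Category.assoc, hjY, reassoc_of% hinrB, hinr]
  · intro T _ τ τ' h
    have h0 : (sp τ ≫ sinrB) ≫ sp (algebraMap A Bf) = (sp τ' ≫ sinrB) ≫ sp (algebraMap A Bf) := by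
      rw [Category.assoc, Category.assoc, hinrB]
      simp only [← Category.assoc, ← sp_comp]
      rw [← RingHom.comp_assoc, h, RingHom.comp_assoc]
    have h1 : τ.comp inrB = τ'.comp inrB := sp_injective (by
      rw [sp_comp inrB τ, sp_comp inrB τ']
      exact (cancel_mono _).mp h0)
    refine RingHom.ext fun z => ?_
    induction z using TensorProduct.induction_on with
    | zero => simp
    | tmul x y =>
      have hxy : x ⊗ₜ[A] y = algebraMap K.A (K.A ⊗[A] Bf) x * inrB y := by simp [inrB]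
      rw [hxy, map_mul, map_mul]
      exact congrArg₂ (· * ·) (RingHom.congr_fun h x) (RingHom.congr_fun h1 y)
    | add x y hx hy => rw [map_add, map_add, hx, hy]
  · intro T C _ _ θ hθs hθn σ χ hσ ⟨l, hl⟩
    have hσ0 : sp σ ≫ sp inr = sp (σ.comp inr) := (sp_comp inr σ).symm
    let lA : Spec (CommRingCat.of T) ⟶ pullback i.left a := pullback.lift l (sp (σ.comp inr))
      (by rw [hl, hinr, reassoc_of% hσ0])
    have hsurj : Function.Surjective (sp θ) := by
      intro z
      obtain ⟨y, hy⟩ : z ∈ Set.range (PrimeSpectrum.comap θ) := by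
        refine (Set.ext_iff.mp (range_comap_of_surjective _ θ hθs) z).mpr ?_
        intro w hw
        obtain ⟨n, hn⟩ := hθn
        have hw'' := Ideal.pow_mem_pow hw n
        rw [hn] at hw''
        have hw' : w ^ n ∈ z.asIdeal := by
          rw [show w ^ n = 0 from hw'']
          exact z.asIdeal.zero_mem
        exact z.isPrime.mem_of_pow_mem n hw'
      exact ⟨y, hy⟩
    have hσ' : sp θ ≫ sp σ = sp χ ≫ sp K.eA := by rw [← sp_comp, hσ, sp_comp]
    have hef' : sp ef ≫ sp (algebraMap A Bf) = sp K.eA ≫ sp inr := by rw [← sp_comp, hefA, sp_comp]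
    have hlθ : sp θ ≫ lA = sp χ ≫ sp ef ≫ j := by
      apply pullback.hom_ext
      · rw [← cancel_mono i.left]
        simp only [lA, Category.assoc, pullback.lift_fst_assoc]
        rw [hl, hjY, reassoc_of% hσ', reassoc_of% hef', hinr]
      · simp only [lA, Category.assoc, pullback.lift_snd]
        rw [← hσ0, reassoc_of% hσ', ← hjA, hef']
    have hrange : Set.range lA ⊆ Set.range j := by
      rintro _ ⟨z, rfl⟩
      obtain ⟨y, rfl⟩ := hsurj z
      rw [← Scheme.Hom.comp_apply, hlθ, Scheme.Hom.comp_apply, Scheme.Hom.comp_apply]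
      exact ⟨_, rfl⟩
    obtain ⟨τ₁, hτ₁⟩ := exists_ringHom (IsOpenImmersion.lift j lA hrange)
    have hτ₁A : τ₁.comp (algebraMap A Bf) = σ.comp inr := sp_injective (by
      rw [sp_comp (algebraMap A Bf) τ₁]
      exact (congrArg (sp τ₁ ≫ ·) hjA).trans ((congrArg (· ≫ j ≫ pullback.snd i.left a) hτ₁).trans
        ((IsOpenImmersion.lift_fac_assoc _ _ _ _).trans (pullback.lift_snd _ _ _))))
    obtain ⟨τ, hτ, -⟩ := exists_tensor_hom (P := A) σ τ₁ hτ₁A.symm
    exact ⟨τ, hτ⟩

theorem exists_ychart [Mono i] [LocallyOfFinitePresentation i.left] [Smooth G.hom]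
    (hone : ∃ e : 𝟙_ (Over S) ⟶ Y, e ≫ i = η[G]) (s : S) :
    ∃ (R : Type u) (_ : CommRing R) (β : Spec (CommRingCat.of R) ⟶ S),
      IsOpenImmersion β ∧ s ∈ Set.range β ∧ Nonempty (YChart i β) := by
  classical
  obtain ⟨R, _, β, hβ, ⟨p, hp⟩, ⟨K⟩⟩ := exists_gchart G s
  let A := K.A
  let a := K.a
  let eA := K.eA
  have hunit : sp eA ≫ a = β ≫ unit G := K.hunit
  obtain ⟨eY, heY⟩ := hone
  have heY' : eY.left ≫ i.left = unit G := congrArg (fun m : 𝟙_ (Over S) ⟶ G => m.left) heY
  haveI : Mono i.left := inferInstanceAs (Mono ((Over.forget S).map i))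
  let YA := pullback i.left a
  let pt : Spec (CommRingCat.of R) ⟶ YA := pullback.lift (β ≫ eY.left) (sp eA)
    ((Category.assoc _ _ _).trans ((congrArg (β ≫ ·) heY').trans hunit.symm))
  obtain ⟨V, hV, hptV, -⟩ := exists_isAffineOpen_mem_and_subset (show pt p ∈ (⊤ : YA.Opens) from trivial)
  let B₁ := Γ(YA, V)
  let j₁ : Spec (CommRingCat.of B₁) ⟶ YA := hV.fromSpec
  obtain ⟨φ, hφ⟩ := exists_ringHom (j₁ ≫ pullback.snd i.left a)
  letI : Algebra A B₁ := φ.toAlgebra
  haveI : Mono (pullback.snd i.left a) := inferInstance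
  haveI : Mono (sp φ) := by rw [hφ]; exact mono_comp _ _
  haveI : IsOpenImmersion (pullback.diagonal (sp φ)) := inferInstance
  haveI : FormallyUnramified (sp φ) := inferInstance
  haveI : LocallyOfFinitePresentation (sp φ) := by rw [hφ]; infer_instance
  haveI : Algebra.FinitePresentation A B₁ :=
    RingHom.finitePresentation_algebraMap.mp
      ((HasRingHomProperty.Spec_iff (P := @LocallyOfFinitePresentation)).1 ‹LocallyOfFinitePresentation (sp φ)›)
  haveI : Algebra.FormallyUnramified A B₁ :=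
    RingHom.formallyUnramified_algebraMap.mp
      ((HasRingHomProperty.Spec_iff (P := @FormallyUnramified)).1 ‹FormallyUnramified (sp φ)›)
  let q₁ : PrimeSpectrum B₁ := hV.primeIdealOf ⟨pt p, hptV⟩
  obtain ⟨f, hf, P₁, φ₁, hφ₁⟩ :=
    Algebra.IsUnramifiedAt.exists_hasStandardEtaleSurjectionOn (R := A) q₁.asIdeal
  let Bf := Localization.Away f
  let j : Spec (CommRingCat.of Bf) ⟶ YA := sp (algebraMap B₁ Bf) ≫ j₁
  haveI : IsOpenImmersion (sp (algebraMap B₁ Bf)) :=
    IsOpenImmersion.of_isLocalization (R := B₁) (S := Bf) f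
  haveI : IsOpenImmersion j := inferInstance
  have hptj : pt p ∈ j.opensRange := by
    obtain ⟨q', hq'⟩ : q₁ ∈ Set.range (PrimeSpectrum.comap (algebraMap B₁ Bf)) := by
      rw [PrimeSpectrum.localization_away_comap_range Bf f]
      exact hf
    refine ⟨q', ?_⟩
    show j q' = pt p
    rw [Scheme.Hom.comp_apply, show sp (algebraMap B₁ Bf) q' = q₁ from hq']
    exact hV.fromSpec_primeIdealOf ⟨pt p, hptV⟩
  have hjA : sp (algebraMap A Bf) = j ≫ pullback.snd i.left a := by
    rw [IsScalarTower.algebraMap_eq A B₁ Bf, sp_comp, RingHom.algebraMap_toAlgebra, hφ, Category.assoc]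
  -- shrink the base
  obtain ⟨_, ⟨_, ⟨r, rfl⟩, rfl⟩, hpr, hrle⟩ :=
    PrimeSpectrum.isBasis_basic_opens.exists_subset_of_mem_open
      (show p ∈ (pt ⁻¹ᵁ j.opensRange : Set _) from hptj) (pt ⁻¹ᵁ j.opensRange).isOpen
  let R₂ := Localization.Away r
  let ρ : R →+* R₂ := algebraMap R R₂
  have hρrange : Set.range (sp ρ ≫ pt) ⊆ Set.range j := by
    rintro _ ⟨z, rfl⟩
    rw [Scheme.Hom.comp_apply]
    exact hrle ((PrimeSpectrum.localization_away_comap_range R₂ r).le ⟨z, rfl⟩)
  obtain ⟨ef, hef⟩ := exists_ringHom (IsOpenImmersion.lift j (sp ρ ≫ pt) hρrange)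
  have hef' : sp ef ≫ j = sp ρ ≫ pt := by rw [hef, IsOpenImmersion.lift_fac]
  obtain ⟨K₂, inr, hK₂a, hK₂e⟩ := exists_gchart_away K r
  have hef₁ : sp ef ≫ j ≫ pullback.fst i.left a = (sp ρ ≫ β) ≫ eY.left := by
    rw [reassoc_of% hef', pullback.lift_fst, Category.assoc]
  have hefA : ef.comp (algebraMap A Bf) = K₂.eA.comp inr := by
    rw [hK₂e]
    refine sp_injective ?_
    rw [sp_comp eA ρ, sp_comp (algebraMap A Bf) ef]
    exact (congrArg (sp ef ≫ ·) hjA).trans (((reassoc_of% hef') _).trans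
      (congrArg (sp ρ ≫ ·) (pullback.lift_snd _ _ _)))
  refine ⟨R₂, inferInstance, sp ρ ≫ β, ?_, ?_,
    exists_ychart_of i heY' K₂ a inr hK₂a φ₁ hφ₁ j hjA ef hef₁ hefA⟩
  · haveI : IsOpenImmersion (sp ρ) := IsOpenImmersion.of_isLocalization (R := R) (S := R₂) r
    infer_instance
  · obtain ⟨z, hz⟩ : p ∈ Set.range (PrimeSpectrum.comap ρ) := by
      rw [PrimeSpectrum.localization_away_comap_range R₂ r]
      exact hpr
    exact ⟨z, by rw [Scheme.Hom.comp_apply, show sp ρ z = p from hz, hp]⟩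

end Groth.Agent.GrpFieldLib.Jet
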