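import Groth.Agent.GrpFieldLib.SCGroup
import Groth.Agent.FpqcDescLib.Basic

/-! A monomorphism into a smooth connected group which contains a flat neighbourhood of the unit and is
stable under products has a section. -/

universe u

open CategoryTheory Limits AlgebraicGeometry MonoidalCategory CartesianMonoidalCategory MonObj
open scoped CategoryTheory.Obj

namespace Groth.Agent.GrpFieldLib.Jet

open Groth.Agent.GrpSchLib Groth.Agent.GrpSchLib.Neutral

variable {S : Scheme.{u}} {G Y : Over S} [GrpObj G]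

/-- A subfunctor stable under products containing a flat neighbourhood of the unit is everything. -/
theorem exists_section [Smooth G.hom] (hconn : SGA3x.neutralSet G = Set.univ) (i : Y ⟶ G) [Mono i]
    (hmul : ∃ m : Y ⊗ Y ⟶ Y, m ≫ i = (i ⊗ₘ i) ≫ μ[G])
    {W : Over S} (w : W ⟶ G) [Flat w.left] [LocallyOfFinitePresentation w.left]
    (hw : ∃ v : W ⟶ Y, v ≫ i = w) (he : ∀ s, unit G s ∈ Set.range w.left) :
    ∃ r : G ⟶ Y, r ≫ i = 𝟙 G := by
  obtain ⟨mY, hmY⟩ := hmul
  obtain ⟨v, hv⟩ := hw
  let m : W ⊗ W ⟶ G := (w ⊗ₘ w) ≫ μ[G]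
  have hμ : Smooth (μ[G]).left := by
    have h := SecComp.smooth_mul G (𝟙 G)
    rwa [id_tensorHom_id, Category.id_comp] at h
  have hF : Flat (w ⊗ₘ w).left := by
    rw [Over.tensorHom_left]
    exact MorphismProperty.pullbackMap (P := @Flat) ‹Flat w.left› ‹Flat w.left› (Over.w w).symm (Over.w w).symm
  have hL : LocallyOfFinitePresentation (w ⊗ₘ w).left := by
    rw [Over.tensorHom_left]
    exact MorphismProperty.pullbackMap (P := @LocallyOfFinitePresentation) ‹LocallyOfFinitePresentation w.left› ‹LocallyOfFinitePresentation w.left› (Over.w w).symm (Over.w w).symm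
  haveI : Flat m.left := by simp only [m, Over.comp_left]; infer_instance
  haveI : LocallyOfFinitePresentation m.left := by simp only [m, Over.comp_left]; infer_instance
  haveI : Surjective m.left := by
    refine ⟨fun x => ?_⟩
    obtain ⟨p, hp1, hp2, hp⟩ := exists_mul G (x := x) (hconn.symm ▸ trivial)
      ⟨_, w.left.isOpenMap.isOpen_range⟩ (he _)
    have hr : Set.range (w ⊗ₘ w).left =
        (fst G G).left ⁻¹' Set.range w.left ∩ (snd G G).left ⁻¹' Set.range w.left := by
      rw [Over.tensorHom_left]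
      exact Scheme.Pullback.range_map _ _ _ _ _ _ _ _ _
    obtain ⟨q, hq⟩ : p ∈ Set.range (w ⊗ₘ w).left := hr ▸ ⟨hp1, hp2⟩
    exact ⟨q, by rw [Over.comp_left, Scheme.Hom.comp_apply, hq]; exact hp⟩
  have hcov : FpqcDescLib.Covers m.left :=
    FpqcDescLib.covers_of_isCovering (FpqcDescLib.isCovering_of_lfp _)
  have hmi : ((v ⊗ₘ v) ≫ mY) ≫ i = m := by
    rw [Category.assoc, hmY, tensorHom_comp_tensorHom_assoc, hv]
  obtain ⟨r, hr, -⟩ := hcov.over_desc ((v ⊗ₘ v) ≫ mY) fun T a b e => by
    rw [← cancel_mono i, Category.assoc a, Category.assoc b, hmi]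
    exact e
  refine ⟨r, ?_⟩
  haveI := hcov.over_epi
  rw [← cancel_epi m, reassoc_of% hr, Category.comp_id]
  simpa [Category.assoc] using hmi

end Groth.Agent.GrpFieldLib.Jet
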