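import Groth.Agent.GrpFieldLib.JetAlg

/-! Ring theory of infinitesimal neighbourhoods: a subgroup containing all of them is open near the unit. -/

open TensorProduct MvPolynomial

universe u

namespace Groth.Agent.GrpFieldLib.Jet

variable {R : Type u} [CommRing R] {d : ℕ}

/-- The truncations of a polynomial ring are projective. -/
theorem projective_truncation (N : ℕ) :
    Module.Projective R (MvPolynomial (Fin d) R ⧸ idealOfVars (Fin d) R ^ N) := by
  classical
  let P := MvPolynomial (Fin d) R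
  let I : Ideal P := idealOfVars (Fin d) R ^ N
  let trunc : P →ₗ[R] P := (MvPolynomial.basisMonomials (Fin d) R).constr R
    fun e => if e.degree < N then monomial e 1 else 0
  have htr : ∀ e (c : R), trunc (monomial e c) = if e.degree < N then monomial e c else 0 := by
    intro e c
    have h1 : monomial e c = c • monomial e (1 : R) := by rw [smul_monomial, smul_eq_mul, mul_one]
    have h2 : trunc (monomial e (1 : R)) = if e.degree < N then monomial e 1 else 0 := by
      have := (MvPolynomial.basisMonomials (Fin d) R).constr_basis R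
        (fun e => if e.degree < N then monomial e (1 : R) else 0) e
      rwa [MvPolynomial.coe_basisMonomials] at this
    rw [h1, map_smul, h2]
    split <;> simp
  have hker : ∀ p ∈ I, trunc p = 0 := by
    intro p hp
    rw [p.as_sum, map_sum]
    refine Finset.sum_eq_zero fun e he => ?_
    rw [htr, if_neg]
    have := (mem_pow_idealOfVars_iff N p).mp hp e he
    omega
  have hmk : ∀ p, Ideal.Quotient.mk I (trunc p) = Ideal.Quotient.mk I p := by
    intro p
    induction p using MvPolynomial.induction_on' with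
    | monomial e c =>
      rw [htr]
      split
      · rfl
      · rw [map_zero, eq_comm, Ideal.Quotient.eq_zero_iff_mem]
        rcases eq_or_ne c 0 with rfl | hc
        · rw [monomial_zero]; exact zero_mem I
        · rw [monomial_mem_pow_idealOfVars_iff N e hc]; omega
    | add p q hp hq => rw [map_add trunc, map_add, map_add, hp, hq]
  let sec : (P ⧸ I) →ₗ[R] P :=
    Submodule.liftQ (I.restrictScalars R) trunc (fun p hp => hker p hp) ∘ₗ
      (Submodule.Quotient.restrictScalarsEquiv R I).symm.toLinearMap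
  refine Module.Projective.of_split sec (Ideal.Quotient.mkₐ R I).toLinearMap ?_
  refine LinearMap.ext fun z => ?_
  obtain ⟨p, rfl⟩ := Ideal.Quotient.mk_surjective z
  exact hmk p

/-- Reduction of an infinitesimal neighbourhood to the section. -/
noncomputable def jetHom (n : ℕ) : MvPolynomial (Fin d) R ⧸ idealOfVars (Fin d) R ^ (n + 1) →ₐ[MvPolynomial (Fin d) R]
    MvPolynomial (Fin d) R ⧸ idealOfVars (Fin d) R :=
  Ideal.Quotient.factorₐ _ (Ideal.pow_le_self n.succ_ne_zero)

theorem jetHom_mk (n : ℕ) (p : MvPolynomial (Fin d) R) :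
    jetHom n (Ideal.Quotient.mk _ p) = Ideal.Quotient.mk _ p := rfl

theorem jetHom_surjective (n : ℕ) : Function.Surjective (jetHom (R := R) (d := d) n) := by
  intro z
  obtain ⟨p, rfl⟩ := Ideal.Quotient.mk_surjective z
  exact ⟨Ideal.Quotient.mk _ p, rfl⟩

theorem isNilpotent_ker_jetHom (n : ℕ) : IsNilpotent (RingHom.ker (jetHom (R := R) (d := d) n)) := by
  refine ⟨n + 1, ?_⟩
  have h : RingHom.ker (jetHom (R := R) (d := d) n) =
      (idealOfVars (Fin d) R).map (Ideal.Quotient.mk (idealOfVars (Fin d) R ^ (n + 1))) := by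
    ext z
    obtain ⟨p, rfl⟩ := Ideal.Quotient.mk_surjective z
    rw [RingHom.mem_ker, jetHom_mk, Ideal.Quotient.eq_zero_iff_mem,
      Ideal.mem_quotient_iff_mem (Ideal.pow_le_self n.succ_ne_zero)]
  rw [h, ← Ideal.map_pow, Ideal.zero_eq_bot, Ideal.map_eq_bot_iff_le_ker, Ideal.mk_ker]

theorem mk_C_ev₀ (p : MvPolynomial (Fin d) R) :
    Ideal.Quotient.mk (idealOfVars (Fin d) R) (C (MvPolynomial.eval₂Hom (RingHom.id R) 0 p)) =
      Ideal.Quotient.mk (idealOfVars (Fin d) R) p :=
  RingHom.congr_fun (f := ((Ideal.Quotient.mk (idealOfVars (Fin d) R)).comp C).comp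
      (MvPolynomial.eval₂Hom (RingHom.id R) 0)) (g := Ideal.Quotient.mk (idealOfVars (Fin d) R))
    (MvPolynomial.ringHom_ext (fun c => by simp) fun i => by
      simp only [RingHom.comp_apply, eval₂Hom_X', Pi.zero_apply, map_zero]
      exact (Ideal.Quotient.eq_zero_iff_mem.mpr (Ideal.subset_span (Set.mem_range_self i))).symm) p

section

variable {A : Type u} [CommRing A] [Algebra (MvPolynomial (Fin d) R) A]

/-- The unit section on the level of the first neighbourhood. -/
noncomputable def sec₀ (eA : A →+* R)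
    (heA : eA.comp (algebraMap (MvPolynomial (Fin d) R) A) = MvPolynomial.eval₂Hom (RingHom.id R) 0) :
    A →ₐ[MvPolynomial (Fin d) R] MvPolynomial (Fin d) R ⧸ idealOfVars (Fin d) R :=
  { ((Ideal.Quotient.mk (idealOfVars (Fin d) R)).comp C).comp eA with
    commutes' := fun p => by
      show Ideal.Quotient.mk _ (C (eA (algebraMap _ A p))) = Ideal.Quotient.mk _ p
      rw [show eA (algebraMap _ A p) = MvPolynomial.eval₂Hom (RingHom.id R) 0 p from RingHom.congr_fun heA p,
        mk_C_ev₀] }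

theorem sec₀_apply (eA : A →+* R)
    (heA : eA.comp (algebraMap (MvPolynomial (Fin d) R) A) = MvPolynomial.eval₂Hom (RingHom.id R) 0) (a : A) :
    sec₀ eA heA a = Ideal.Quotient.mk (idealOfVars (Fin d) R) (C (eA a)) := rfl

/-- The infinitesimal neighbourhoods of the section inside an étale algebra. -/
theorem exists_jets [Algebra.Etale (MvPolynomial (Fin d) R) A] (eA : A →+* R)
    (heA : eA.comp (algebraMap (MvPolynomial (Fin d) R) A) = MvPolynomial.eval₂Hom (RingHom.id R) 0) :
    ∃ σ : ∀ n : ℕ, A →ₐ[MvPolynomial (Fin d) R] MvPolynomial (Fin d) R ⧸ idealOfVars (Fin d) R ^ (n + 1),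
      ∀ n, (jetHom n).comp (σ n) = sec₀ eA heA :=
  ⟨fun n => Algebra.FormallySmooth.liftOfSurjective (sec₀ eA heA) (jetHom n) (jetHom_surjective n)
      (isNilpotent_ker_jetHom n),
    fun n => Algebra.FormallySmooth.comp_liftOfSurjective _ _ _ _⟩

end

variable (J : Ideal R)

/-- The reduction of the neighbourhoods modulo an ideal of the base. -/
noncomputable def redHom (n : ℕ) : MvPolynomial (Fin d) R ⧸ idealOfVars (Fin d) R ^ (n + 1) →+*
    MvPolynomial (Fin d) (R ⧸ J) ⧸ idealOfVars (Fin d) (R ⧸ J) ^ (n + 1) :=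
  Ideal.quotientMap _ (MvPolynomial.map (Ideal.Quotient.mk J)) fun p hp => by
    rw [Ideal.mem_comap, mem_pow_idealOfVars_iff']
    intro e he
    rw [coeff_map, (mem_pow_idealOfVars_iff' (n + 1) p).mp hp e he, map_zero]

theorem redHom_mk (n : ℕ) (p : MvPolynomial (Fin d) R) :
    redHom J n (Ideal.Quotient.mk _ p) = Ideal.Quotient.mk _ (MvPolynomial.map (Ideal.Quotient.mk J) p) :=
  rfl

variable {A B U : Type u} [CommRing A] [Algebra (MvPolynomial (Fin d) R) A] [CommRing B] [Algebra A B]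
  [CommRing U] [Algebra A U]

/-- The first neighbourhood is the base. -/
theorem exists_retraction (R' : Type u) [CommRing R'] (d : ℕ) :
    ∃ χ : MvPolynomial (Fin d) R' ⧸ idealOfVars (Fin d) R' →+* R', ∀ r, χ (Ideal.Quotient.mk _ (C r)) = r :=
  ⟨Ideal.Quotient.lift _ (MvPolynomial.eval₂Hom (RingHom.id R') 0) fun p hp => by
      refine (Ideal.span_le.mpr ?_ : idealOfVars (Fin d) R' ≤ RingHom.ker _) hp
      rintro _ ⟨i, rfl⟩
      exact eval₂Hom_X' (RingHom.id R') 0 i,
    fun r => by simp⟩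

/-- The kernel of the base change along a quotient of the base. -/
theorem mem_of_one_tmul_eq_zero {P P' U : Type u} [CommRing P] [CommRing P'] [CommRing U] [Algebra P P']
    [Algebra P U] (hs : Function.Surjective (algebraMap P P')) (I : Ideal U)
    (hI : ∀ p ∈ RingHom.ker (algebraMap P P'), algebraMap P U p ∈ I) {u : U}
    (hu : (1 : P') ⊗ₜ[P] u = 0) : u ∈ I := by
  let f : P' →ₐ[P] U ⧸ I := AlgHom.liftOfSurjective (Algebra.ofId P P') hs (Algebra.ofId P (U ⧸ I))
    fun p hp => Ideal.Quotient.eq_zero_iff_mem.mpr (hI p hp)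
  have := congrArg (Algebra.TensorProduct.lift f (Ideal.Quotient.mkₐ P I)
    fun _ _ => mul_comm (G := U ⧸ I) _ _) hu
  rw [Algebra.TensorProduct.lift_tmul, map_one, one_mul, map_zero] at this
  exact Ideal.Quotient.eq_zero_iff_mem.mp this

/-- On an étale algebra, finitely many functions killed by all infinitesimal neighbourhoods of a section are killed
by a function with value one along the section. -/
theorem exists_one_annihilator {R' : Type u} [CommRing R'] {E : Type u} [CommRing E]
    [Algebra (MvPolynomial (Fin d) R') E] [Algebra.Etale (MvPolynomial (Fin d) R') E]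
    (e : E →ₐ[MvPolynomial (Fin d) R'] MvPolynomial (Fin d) R' ⧸ idealOfVars (Fin d) R')
    (σ : ∀ n : ℕ, E →ₐ[MvPolynomial (Fin d) R'] MvPolynomial (Fin d) R' ⧸ idealOfVars (Fin d) R' ^ (n + 1))
    (hσ : ∀ n a p, σ n a = Ideal.Quotient.mk _ p → e a = Ideal.Quotient.mk _ p)
    (s : Finset E) (hs : ∀ x ∈ s, ∀ n, σ n x = 0) : ∃ h : E, e h = 1 ∧ ∀ x ∈ s, h * x = 0 := by
  classical
  obtain ⟨g, hg1, hg⟩ := exists_cut (idealOfVars (Fin d) R') e
  let H : Ideal E :=
    { carrier := {h | ∀ x ∈ s, h * x = 0}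
      add_mem' := fun {a b} ha hb x hx => by rw [add_mul, ha x hx, hb x hx, add_zero]
      zero_mem' := fun x _ => zero_mul x
      smul_mem' := fun c a ha x hx => by rw [smul_eq_mul, mul_assoc, ha x hx, mul_zero] }
  have hes : Function.Surjective e := fun z => by
    obtain ⟨p, rfl⟩ := Ideal.Quotient.mk_surjective z
    exact ⟨algebraMap _ E p, by rw [AlgHom.commutes, Ideal.Quotient.algebraMap_eq]⟩
  have htop : H.map e = ⊤ := by
    by_contra hne
    obtain ⟨q, hq, hle⟩ := Ideal.exists_le_maximal _ hne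
    haveI : (q.comap e).IsPrime := Ideal.IsPrime.comap _
    have hm : (idealOfVars (Fin d) R').map (algebraMap _ E) ≤ q.comap e := by
      refine Ideal.map_le_iff_le_comap.mpr fun p hp => ?_
      rw [Ideal.mem_comap, Ideal.mem_comap, AlgHom.commutes, Ideal.Quotient.algebraMap_eq,
        Ideal.Quotient.eq_zero_iff_mem.mpr hp]
      exact zero_mem _
    have hgQ : g ∉ q.comap e := fun h => by
      rw [Ideal.mem_comap, hg1] at h
      exact hq.ne_top ((Ideal.eq_top_iff_one _).mpr h)
    have hker : ∀ x ∈ s, ∃ h : E, h ∉ q.comap e ∧ h * x = 0 := fun x hx =>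
      exists_mul_eq_zero (q.comap e) hm hgQ fun n => ⟨n, pow_mul_mem _ e hg1 hg σ hσ (hs x hx) n⟩
    choose h hh using hker
    have h₀H : (∏ x ∈ s.attach, h x.1 x.2) ∈ H := by
      intro x hx
      obtain ⟨c, hc⟩ := Finset.dvd_prod_of_mem (fun x : s => h x.1 x.2) (Finset.mem_attach s ⟨x, hx⟩)
      rw [hc, mul_right_comm, (hh x hx).2, zero_mul]
    have hQ : (∏ x ∈ s.attach, h x.1 x.2) ∈ q.comap e := hle (Ideal.mem_map_of_mem e h₀H)
    obtain ⟨x, -, hx⟩ := (inferInstance : (q.comap e).IsPrime).prod_mem_iff.mp hQ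
    exact (hh x.1 x.2).1 hx
  obtain ⟨h, hhH, he⟩ := (Ideal.mem_map_iff_of_surjective e hes).mp ((Ideal.eq_top_iff_one _).mp htop)
  exact ⟨h, he, hhH⟩

set_option maxHeartbeats 1000000 in
/-- If a subgroup contains all infinitesimal neighbourhoods modulo `J`, some function with value one along
the section kills the equations of the subgroup modulo `J`. -/
theorem exists_annihilator [Algebra.Etale (MvPolynomial (Fin d) R) A] [Algebra.Etale A U]
    (π : U →ₐ[A] B) (eA : A →+* R)
    (heA : eA.comp (algebraMap (MvPolynomial (Fin d) R) A) = MvPolynomial.eval₂Hom (RingHom.id R) 0)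
    (eB : B →+* R) (heB : eB.comp (algebraMap A B) = eA)
    (hepi : ∀ (T : Type u) [CommRing T] (τ τ' : B →+* T),
      τ.comp (algebraMap A B) = τ'.comp (algebraMap A B) → τ = τ')
    (hfg : (RingHom.ker π).FG)
    (σ : ∀ n : ℕ, A →ₐ[MvPolynomial (Fin d) R] MvPolynomial (Fin d) R ⧸ idealOfVars (Fin d) R ^ (n + 1))
    (hσ : ∀ n, (jetHom n).comp (σ n) = sec₀ eA heA)
    (hτ : ∀ n, ∃ τ : B →+* MvPolynomial (Fin d) (R ⧸ J) ⧸ idealOfVars (Fin d) (R ⧸ J) ^ (n + 1),
      τ.comp (algebraMap A B) = (redHom J n).comp (σ n).toRingHom) :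
    ∃ h : U, eB (π h) - 1 ∈ J ∧
      ∀ x ∈ RingHom.ker π, h * x ∈
        J.map ((algebraMap A U).comp ((algebraMap (MvPolynomial (Fin d) R) A).comp C)) := by
  classical
  let P := MvPolynomial (Fin d) R
  let Pb := MvPolynomial (Fin d) (R ⧸ J)
  let μ : P →+* Pb := MvPolynomial.map (Ideal.Quotient.mk J)
  let mb : Ideal Pb := idealOfVars (Fin d) (R ⧸ J)
  letI : Algebra P U := ((algebraMap A U).comp (algebraMap P A)).toAlgebra
  haveI : IsScalarTower P A U := IsScalarTower.of_algebraMap_eq fun _ => rfl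
  haveI : Algebra.Etale P U := Algebra.Etale.comp P A U
  letI : Algebra P Pb := μ.toAlgebra
  choose τ hτA using hτ
  let kC : R →+* Pb ⧸ mb := ((Ideal.Quotient.mk mb).comp C).comp (Ideal.Quotient.mk J)
  have hkC : ∀ p : P, kC (MvPolynomial.eval₂Hom (RingHom.id R) 0 p) = Ideal.Quotient.mk mb (μ p) := fun p =>
    RingHom.congr_fun (f := kC.comp (MvPolynomial.eval₂Hom (RingHom.id R) 0))
      (g := (Ideal.Quotient.mk mb).comp μ)
      (MvPolynomial.ringHom_ext (fun c => by
        show kC (MvPolynomial.eval₂Hom (RingHom.id R) 0 (C c)) = Ideal.Quotient.mk mb (μ (C c))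
        rw [eval₂Hom_C, MvPolynomial.map_C]
        rfl) fun i => by
        show kC (MvPolynomial.eval₂Hom (RingHom.id R) 0 (X i)) = Ideal.Quotient.mk mb (μ (X i))
        rw [eval₂Hom_X', Pi.zero_apply, map_zero, MvPolynomial.map_X]
        exact ((Ideal.Quotient.eq_zero_iff_mem (I := mb)).mpr (Ideal.subset_span (Set.mem_range_self i))).symm) p
  have halgU : ∀ p : P, π (algebraMap P U p) = algebraMap A B (algebraMap P A p) := fun p =>
    π.commutes (algebraMap P A p)
  let eU : U →+* R := eB.comp π.toRingHom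
  have heU : ∀ p : P, eU (algebraMap P U p) = MvPolynomial.eval₂Hom (RingHom.id R) 0 p := fun p => by
    show eB (π (algebraMap P U p)) = _
    rw [halgU, ← RingHom.comp_apply eB, heB, ← RingHom.comp_apply eA, heA]
  have hσa : ∀ n a, jetHom n (σ n a) = Ideal.Quotient.mk _ (C (eA a)) := fun n a => AlgHom.congr_fun (hσ n) a
  let fac : ∀ n, Pb ⧸ mb ^ (n + 1) →+* Pb ⧸ mb := fun n => Ideal.Quotient.factor (Ideal.pow_le_self n.succ_ne_zero)
  have hfac : ∀ n b, fac n (τ n b) = kC (eB b) := by
    intro n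
    refine fun b => RingHom.congr_fun (f := (fac n).comp (τ n)) (g := kC.comp eB) (hepi (Pb ⧸ mb) ((fac n).comp (τ n)) (kC.comp eB) ?_) b
    rw [RingHom.comp_assoc, RingHom.comp_assoc, heB, hτA]
    refine RingHom.ext fun a => ?_
    obtain ⟨p, hp⟩ := Ideal.Quotient.mk_surjective (σ n a)
    show fac n (redHom J n (σ n a)) = kC (eA a)
    have h1 := hσa n a
    rw [← hp, jetHom_mk, Ideal.Quotient.eq] at h1
    rw [← hp, redHom_mk]
    show Ideal.Quotient.mk mb (μ p) = Ideal.Quotient.mk mb (C (Ideal.Quotient.mk J (eA a)))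
    rw [Ideal.Quotient.eq, show C (Ideal.Quotient.mk J (eA a)) = μ (C (eA a)) from (MvPolynomial.map_C _ _).symm,
      ← map_sub]
    have : (idealOfVars (Fin d) R).map μ ≤ mb := by
      rw [Ideal.map_span, Ideal.span_le]
      rintro _ ⟨_, ⟨i, rfl⟩, rfl⟩
      exact Ideal.subset_span ⟨i, (MvPolynomial.map_X _ i).symm⟩
    exact this (Ideal.mem_map_of_mem μ h1)
  let Ub := Pb ⊗[P] U
  let ψ : U →ₐ[P] Ub := Algebra.TensorProduct.includeRight
  obtain ⟨e₀, he₀⟩ : ∃ e : Ub →ₐ[Pb] Pb ⧸ mb, ∀ u, e (ψ u) = kC (eU u) := by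
    let g : U →ₐ[P] Pb ⧸ mb :=
      { kC.comp eU with commutes' := fun p => (congrArg kC (heU p)).trans (hkC p) }
    refine ⟨Algebra.TensorProduct.lift (Algebra.ofId Pb _) g fun _ _ => mul_comm (G := Pb ⧸ mb) _ _,
      fun u => ?_⟩
    show Algebra.TensorProduct.lift (Algebra.ofId Pb _) g _ ((1 : Pb) ⊗ₜ[P] u) = _
    rw [Algebra.TensorProduct.lift_tmul, map_one, one_mul]
    rfl
  have hσ'ex : ∀ n, ∃ e : Ub →ₐ[Pb] Pb ⧸ mb ^ (n + 1), ∀ u, e (ψ u) = τ n (π u) := by
    intro n
    let g : U →ₐ[P] Pb ⧸ mb ^ (n + 1) :=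
      { (τ n).comp π.toRingHom with
        commutes' := fun p => by
          show τ n (π (algebraMap P U p)) = _
          rw [halgU, ← RingHom.comp_apply (τ n), hτA]
          show redHom J n (σ n (algebraMap P A p)) = Ideal.Quotient.mk _ (μ p)
          rw [AlgHom.commutes, Ideal.Quotient.algebraMap_eq, redHom_mk] }
    refine ⟨Algebra.TensorProduct.lift (Algebra.ofId Pb _) g fun _ _ => mul_comm (G := Pb ⧸ mb ^ (n + 1)) _ _,
      fun u => ?_⟩
    show Algebra.TensorProduct.lift (Algebra.ofId Pb _) g _ ((1 : Pb) ⊗ₜ[P] u) = _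
    rw [Algebra.TensorProduct.lift_tmul, map_one, one_mul]
    rfl
  choose σ' hσ' using hσ'ex
  have hμ : Function.Surjective μ := MvPolynomial.map_surjective _ Ideal.Quotient.mk_surjective
  have hψ : Function.Surjective ψ := by
    intro z
    induction z using TensorProduct.induction_on with
    | zero => exact ⟨0, map_zero ψ⟩
    | tmul q u =>
      obtain ⟨p, rfl⟩ := hμ q
      refine ⟨p • u, ?_⟩
      show (1 : Pb) ⊗ₜ[P] (p • u) = μ p ⊗ₜ[P] u
      rw [TensorProduct.tmul_smul, TensorProduct.smul_tmul', Algebra.smul_def, mul_one]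
      rfl
    | add x y hx hy =>
      obtain ⟨a, rfl⟩ := hx; obtain ⟨b, rfl⟩ := hy
      exact ⟨a + b, map_add ψ a b⟩
  have hcompat : ∀ n z p, σ' n z = Ideal.Quotient.mk _ p → e₀ z = Ideal.Quotient.mk mb p := by
    intro n z p hz
    obtain ⟨u, rfl⟩ := hψ z
    rw [hσ'] at hz
    rw [he₀]
    show kC (eB (π u)) = _
    rw [← hfac n, hz]
    rfl
  obtain ⟨s, hs⟩ := hfg
  obtain ⟨hb, hhb1, hhb⟩ := exists_one_annihilator (E := Ub) e₀ σ' hcompat (s.image ψ) fun x hx n => by
    obtain ⟨u, hu, rfl⟩ := Finset.mem_image.mp hx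
    exact (hσ' n u).trans ((congrArg (τ n) (hs ▸ Submodule.subset_span hu : u ∈ RingHom.ker π)).trans
      (map_zero (τ n)))
  obtain ⟨h, rfl⟩ := hψ hb
  have hhH : ∀ x ∈ RingHom.ker π, ψ (h * x) = 0 := by
    intro x hx
    rw [← hs] at hx
    induction hx using Submodule.span_induction with
    | mem x hx => rw [map_mul]; exact hhb (ψ x) (Finset.mem_image_of_mem _ hx)
    | zero => rw [mul_zero, map_zero]
    | add a b _ _ ha hb => rw [mul_add, map_add, ha, hb, add_zero]
    | smul c a _ ha => rw [smul_eq_mul, mul_left_comm, map_mul, ha, mul_zero]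
  refine ⟨h, ?_, fun x hx => ?_⟩
  · obtain ⟨χ, hχ⟩ := exists_retraction (R ⧸ J) d
    have h1 : kC (eU h) = (1 : Pb ⧸ mb) := (he₀ h).symm.trans hhb1
    rw [← Ideal.Quotient.eq, map_one]
    exact (hχ (Ideal.Quotient.mk J (eU h))).symm.trans ((congrArg χ h1).trans (map_one χ))
  · refine mem_of_one_tmul_eq_zero (P := P) (P' := Pb) hμ _ (fun p hp => ?_) (hhH x hx)
    rw [show RingHom.ker (algebraMap P Pb) = J.map (C : R →+* P) by
      show RingHom.ker (MvPolynomial.map (Ideal.Quotient.mk J)) = _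
      rw [MvPolynomial.ker_map, Ideal.mk_ker]] at hp
    have := Ideal.mem_map_of_mem (algebraMap P U) hp
    rw [Ideal.map_map] at this
    exact this

end Groth.Agent.GrpFieldLib.Jet
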