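import Groth.Agent.GrpFieldLib.JetChart
import Groth.Agent.GrpFieldLib.JetRing
import Groth.Agent.GrpFieldLib.JetCriterion
import Groth.Agent.GrpSchLib.WeilClosed
import Groth.Agent.GrpSchLib.CoincidenceFP

/-! The locus of the base over which a smooth connected group lies in a given subgroup is closed and of finite
presentation. -/

universe u

open CategoryTheory Limits AlgebraicGeometry MonoidalCategory CartesianMonoidalCategory MonObj
open TensorProduct MvPolynomial
open scoped CategoryTheory.Obj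

namespace Groth.Agent.GrpFieldLib.Jet

open Groth.Agent.GrpSchLib (Good HasIdeal HasIdeals)
open Groth.Agent.GrpSchLib.Neutral (unit hom_unit)

theorem exists_fg_le_map {R U : Type u} [CommRing R] [CommRing U] (f : R →+* U) (J : Ideal R) {x : U}
    (hx : x ∈ J.map f) : ∃ J₀ ≤ J, J₀.FG ∧ x ∈ J₀.map f := by
  induction hx using Submodule.span_induction with
  | mem x hx =>
    obtain ⟨a, ha, rfl⟩ := hx
    exact ⟨Ideal.span {a}, (Ideal.span_singleton_le_iff_mem _).mpr ha, Submodule.fg_span_singleton a,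
      Ideal.mem_map_of_mem f (Ideal.mem_span_singleton_self a)⟩
  | zero => exact ⟨⊥, bot_le, Submodule.fg_bot, zero_mem _⟩
  | add x y _ _ hx hy =>
    obtain ⟨I, hI, hIf, hxI⟩ := hx
    obtain ⟨I', hI', hI'f, hyI⟩ := hy
    exact ⟨I ⊔ I', sup_le hI hI', Submodule.FG.sup hIf hI'f,
      add_mem (Ideal.map_mono le_sup_left hxI) (Ideal.map_mono le_sup_right hyI)⟩
  | smul c x _ hx =>
    obtain ⟨I, hI, hIf, hxI⟩ := hx
    exact ⟨I, hI, hIf, Ideal.mul_mem_left _ c hxI⟩

theorem exists_fg_le_map_finset {R U : Type u} [CommRing R] [CommRing U] (f : R →+* U) (J : Ideal R)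
    (s : Finset U) (hs : ∀ x ∈ s, x ∈ J.map f) : ∃ J₀ ≤ J, J₀.FG ∧ ∀ x ∈ s, x ∈ J₀.map f := by
  classical
  induction s using Finset.induction_on with
  | empty => exact ⟨⊥, bot_le, Submodule.fg_bot, by simp⟩
  | insert a s _ ih =>
    obtain ⟨I, hI, hIf, hI'⟩ := ih fun x hx => hs x (Finset.mem_insert_of_mem hx)
    obtain ⟨I', hI₁, hI₁f, ha⟩ := exists_fg_le_map f J (hs a (Finset.mem_insert_self a s))
    refine ⟨I ⊔ I', sup_le hI hI₁, Submodule.FG.sup hIf hI₁f, fun x hx => ?_⟩
    rcases Finset.mem_insert.mp hx with rfl | hx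
    · exact Ideal.map_mono le_sup_right ha
    · exact Ideal.map_mono le_sup_left (hI' x hx)

theorem surjective_sp {A B : Type u} [CommRing A] [CommRing B] (θ : A →+* B) (hs : Function.Surjective θ)
    (hn : IsNilpotent (RingHom.ker θ)) : Surjective (sp θ) := by
  refine ⟨fun z => ?_⟩
  obtain ⟨y, hy⟩ : z ∈ Set.range (PrimeSpectrum.comap θ) := by
    refine (Set.ext_iff.mp (range_comap_of_surjective _ θ hs) z).mpr ?_
    intro w hw
    obtain ⟨n, hn⟩ := hn
    have h1 := Ideal.pow_mem_pow hw n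
    rw [hn] at h1
    have h2 : w ^ n ∈ z.asIdeal := by
      rw [show w ^ n = 0 from h1]
      exact z.asIdeal.zero_mem
    exact z.isPrime.mem_of_pow_mem n h2
  exact ⟨y, hy⟩

variable {S : Scheme.{u}} {G Y : Over S} [GrpObj G] [Smooth G.hom] {i : Y ⟶ G} [Mono i]
  [LocallyOfFinitePresentation i.left] {R : Type u} [CommRing R] {β : Spec (CommRingCat.of R) ⟶ S}

/-- A monomorphism containing the section over a nilpotent thickening is a closed immersion there. -/
theorem isClosedImmersion_snd {A B : Type u} [CommRing A] [CommRing B] (θ : A →+* B)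
    (hs : Function.Surjective θ) (hn : IsNilpotent (RingHom.ker θ)) (w : Spec (CommRingCat.of A) ⟶ G.left)
    (hl : ∃ l : Spec (CommRingCat.of B) ⟶ Y.left, l ≫ i.left = sp θ ≫ w) :
    IsClosedImmersion (pullback.snd i.left w) := by
  obtain ⟨l, hl⟩ := hl
  haveI : Mono i.left := inferInstanceAs (Mono ((Over.forget S).map i))
  let c := pullback.snd i.left w
  let q : Spec (CommRingCat.of B) ⟶ pullback i.left w := pullback.lift l (sp θ) hl
  have hq : q ≫ c = sp θ := pullback.lift_snd _ _ _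
  haveI := surjective_sp θ hs hn
  haveI hθ : IsClosedImmersion (sp θ) := IsClosedImmersion.spec_of_surjective _ hs
  haveI : Surjective q := ⟨fun z => by
    obtain ⟨t, ht⟩ := (sp θ).surjective (c z)
    refine ⟨t, ?_⟩
    apply c.injective
    rw [← Scheme.Hom.comp_apply, hq]
    exact ht⟩
  haveI : UniversallyClosed (q ≫ c) := by rw [hq]; infer_instance
  haveI : UniversallyClosed c := UniversallyClosed.of_comp_surjective q c
  haveI : IsProper c := {}
  exact (IsClosedImmersion.iff_isProper_and_mono (f := c)).mpr ⟨inferInstance, inferInstance⟩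

omit [LocallyOfFinitePresentation i.left] in
/-- Reduction of the neighbourhoods to the first one. -/
theorem factor_redHom {d : ℕ} (J : Ideal R) (n : ℕ) (z : MvPolynomial (Fin d) R ⧸ idealOfVars (Fin d) R ^ (n + 1))
    (r : R) (h : jetHom n z = Ideal.Quotient.mk _ (C r)) :
    jetHom n (redHom J n z) = Ideal.Quotient.mk _ (C (Ideal.Quotient.mk J r)) := by
  obtain ⟨p, rfl⟩ := Ideal.Quotient.mk_surjective z
  rw [jetHom_mk, Ideal.Quotient.eq] at h
  rw [redHom_mk, jetHom_mk, Ideal.Quotient.eq,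
    show C (Ideal.Quotient.mk J r) = MvPolynomial.map (Ideal.Quotient.mk J) (C r) from (MvPolynomial.map_C _ _).symm,
    ← map_sub]
  have hle : (idealOfVars (Fin d) R).map (MvPolynomial.map (Ideal.Quotient.mk J)) ≤ idealOfVars (Fin d) (R ⧸ J) := by
    rw [Ideal.map_span, Ideal.span_le]
    rintro _ ⟨_, ⟨k, rfl⟩, rfl⟩
    exact Ideal.subset_span ⟨k, (MvPolynomial.map_X _ k).symm⟩
  exact hle (Ideal.mem_map_of_mem _ h)

/-- The universal condition for an infinitesimal neighbourhood to lie in the subgroup. -/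
theorem exists_jetIdeal {T : Type u} [CommRing T] [Algebra R T] [Module.Projective R T]
    (w : Spec (CommRingCat.of T) ⟶ G.left) (hw : w ≫ G.hom = sp (algebraMap R T) ≫ β)
    [IsClosedImmersion (pullback.snd i.left w)] :
    ∃ J : Ideal R, (∀ (C : Type u) [CommRing C] (φ : R →+* C), Good G.hom i.left (sp φ ≫ β) → J ≤ RingHom.ker φ) ∧
      ∀ (C : Type u) [CommRing C] (φ : R →+* C), J ≤ RingHom.ker φ → ∀ (D : Type u) [CommRing D] (f : C →+* D)
        (ψ : T →+* D), f.comp φ = ψ.comp (algebraMap R T) →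
          ∃ l : Spec (CommRingCat.of D) ⟶ Y.left, l ≫ i.left = sp ψ ≫ w := by
  obtain ⟨I, hI⟩ := GrpSchLib.factors_closed_iff (pullback.snd i.left w) (B := CommRingCat.of T) (𝟙 _)
  have hI' : ∀ (D : Type u) [CommRing D] (ψ : T →+* D),
      (∃ l : Spec (CommRingCat.of D) ⟶ Y.left, l ≫ i.left = sp ψ ≫ w) ↔ I ≤ RingHom.ker ψ := fun D _ ψ => by
    refine Iff.trans ⟨fun ⟨l, hl⟩ => ?_, fun ⟨l, hl⟩ => ?_⟩ (hI (CommRingCat.of D) (CommRingCat.ofHom ψ))
    · exact ⟨pullback.lift l (sp ψ) hl, by rw [pullback.lift_snd, Category.comp_id]⟩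
    · rw [Category.comp_id] at hl
      exact ⟨l ≫ pullback.fst _ _, by rw [Category.assoc, pullback.condition, reassoc_of% hl]⟩
  obtain ⟨J, hJ⟩ := GrpSchLib.exists_contentIdeal_of_projective (A := R) (I : Set T)
  refine ⟨J, fun C _ φ ⟨l0, hl0⟩ => ?_, fun C _ φ hφ D _ f ψ hfψ => ?_⟩
  · letI : Algebra R C := φ.toAlgebra
    refine (hJ C).mp fun x hx => ?_
    let inl : C →+* C ⊗[R] T := Algebra.TensorProduct.includeLeftRingHom
    let inr : T →+* C ⊗[R] T := (Algebra.TensorProduct.includeRight (R := R) (A := C) (B := T)).toRingHom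
    refine (hI' (C ⊗[R] T) inr).mp ?_ hx
    have hcond : sp inl ≫ sp φ ≫ β = (sp inr ≫ w) ≫ G.hom := by
      rw [Category.assoc, hw, ← Category.assoc, ← sp_comp, ← Category.assoc, ← sp_comp]
      exact congrArg (fun f => sp f ≫ β)
        (Algebra.TensorProduct.includeLeftRingHom_comp_algebraMap (R := R) (A := C) (B := T))
    exact ⟨pullback.lift (sp inl) (sp inr ≫ w) hcond ≫ l0, by rw [Category.assoc, hl0, pullback.lift_snd]⟩
  · letI : Algebra R C := φ.toAlgebra
    obtain ⟨u, -, hu⟩ := exists_tensor_hom (P := R) (P' := C) (A := T) f ψ hfψ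
    refine (hI' D ψ).mpr fun x hx => ?_
    rw [RingHom.mem_ker, ← hu]
    show u ((1 : C) ⊗ₜ[R] x) = 0
    rw [(hJ C).mpr hφ x hx, map_zero]

set_option maxHeartbeats 1000000 in
/-- A function with value one along the section and killing the equations spreads the subgroup over the whole
group. -/
theorem good_of_annihilator (hconn : SGA3x.neutralSet G = Set.univ)
    (hmul : ∃ m : Y ⊗ Y ⟶ Y, m ≫ i = (i ⊗ₘ i) ≫ μ[G]) [IsOpenImmersion β] (K : YChart i β) (J₀ : Ideal R)
    (h : K.U) (hh1 : K.eB (K.π h) - 1 ∈ J₀)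
    (hker₀ : ∀ x ∈ RingHom.ker K.π, h * x ∈
      J₀.map ((algebraMap K.A K.U).comp ((algebraMap (MvPolynomial (Fin K.d) R) K.A).comp C))) :
    Good G.hom i.left (sp (Ideal.Quotient.mk J₀) ≫ β) := by
  let P := MvPolynomial (Fin K.d) R
  let algR : R →+* K.U := (algebraMap K.A K.U).comp ((algebraMap P K.A).comp C)
  let C₀ := R ⧸ J₀
  let ρ : R →+* C₀ := Ideal.Quotient.mk J₀
  let g : Spec (CommRingCat.of C₀) ⟶ S := sp ρ ≫ β
  show Good G.hom i.left g
  let Uh := Localization.Away h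
  let toUh : K.U →+* Uh := algebraMap K.U Uh
  haveI : Algebra.Etale K.U Uh := Algebra.Etale.of_isLocalizationAway h
  haveI : Algebra.Etale K.A Uh := Algebra.Etale.comp K.A K.U Uh
  letI : Algebra R Uh := (toUh.comp algR).toAlgebra
  let w₁ : Spec (CommRingCat.of Uh) ⟶ G.left := sp (algebraMap K.A Uh) ≫ K.a
  haveI : Flat (sp (algebraMap K.A Uh)) :=
    (HasRingHomProperty.Spec_iff (P := @Flat)).2 (RingHom.flat_algebraMap_iff.mpr inferInstance)
  haveI : LocallyOfFinitePresentation (sp (algebraMap K.A Uh)) :=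
    (HasRingHomProperty.Spec_iff (P := @LocallyOfFinitePresentation)).2
      (RingHom.finitePresentation_algebraMap.mpr inferInstance)
  haveI : Flat w₁ := inferInstanceAs (Flat (_ ≫ _))
  haveI : LocallyOfFinitePresentation w₁ :=
    haveI := K.lfp_a
    inferInstanceAs (LocallyOfFinitePresentation (_ ≫ _))
  have hw₁ : w₁ ≫ G.hom = sp (algebraMap R Uh) ≫ β := by
    simp only [w₁, Category.assoc]
    rw [K.ha, ← Category.assoc, ← sp_comp]
  let F := Over.pullback g
  let G₀ := F.obj G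
  let pG : G₀.left ⟶ G.left := pullback.fst G.hom g
  let W := pullback w₁ pG
  let inl : C₀ →+* C₀ ⊗[R] Uh := Algebra.TensorProduct.includeLeftRingHom
  let inr : Uh →+* C₀ ⊗[R] Uh := (Algebra.TensorProduct.includeRight (R := R) (A := C₀) (B := Uh)).toRingHom
  have hsq : IsPullback (sp inl) (sp inr) (sp (algebraMap R C₀)) (sp (algebraMap R Uh)) :=
    isPullback_SpecMap_of_isPushout _ _ _ _ (CommRingCat.isPushout_tensorProduct R C₀ Uh)
  let toC₀ : W ⟶ Spec (CommRingCat.of C₀) := pullback.snd w₁ pG ≫ pullback.snd G.hom g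
  have hW : toC₀ ≫ sp (algebraMap R C₀) = pullback.fst w₁ pG ≫ sp (algebraMap R Uh) := by
    rw [← cancel_mono β]
    simp only [Category.assoc]
    rw [← hw₁, pullback.condition_assoc]
    show (_ ≫ _) ≫ g = _
    rw [Category.assoc, ← pullback.condition]
  let toD := hsq.lift toC₀ (pullback.fst w₁ pG) hW
  let ν : K.U →+* C₀ ⊗[R] Uh := inr.comp toUh
  have hν : RingHom.ker K.π.toRingHom ≤ RingHom.ker ν := by
    intro x hx
    have h1 : ν (h * x) = 0 := by
      refine (Ideal.map_le_iff_le_comap.mpr (fun r hr => ?_) : J₀.map algR ≤ RingHom.ker ν) (hker₀ x hx)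
      show inr (algebraMap R Uh r) = 0
      rw [← RingHom.comp_apply inr, show inr.comp (algebraMap R Uh) = inl.comp (algebraMap R C₀) from
        (Algebra.TensorProduct.includeLeftRingHom_comp_algebraMap (R := R) (A := C₀) (B := Uh)).symm,
        RingHom.comp_apply, show algebraMap R C₀ r = 0 from Ideal.Quotient.eq_zero_iff_mem.mpr hr, map_zero]
    have hu : IsUnit (ν h) := (IsLocalization.Away.algebraMap_isUnit h).map inr
    rw [map_mul, hu.mul_right_eq_zero] at h1
    exact h1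
  let τ : K.B →+* C₀ ⊗[R] Uh := RingHom.liftOfSurjective K.π.toRingHom K.hπ ⟨ν, hν⟩
  have hτ : τ.comp (algebraMap K.A K.B) = inr.comp (algebraMap K.A Uh) := by
    refine RingHom.ext fun a => ?_
    show τ (algebraMap K.A K.B a) = inr (algebraMap K.A Uh a)
    rw [← K.π.commutes a, IsScalarTower.algebraMap_apply K.A K.U Uh]
    exact RingHom.liftOfSurjective_comp_apply K.π.toRingHom K.hπ ⟨ν, hν⟩ _
  let v : W ⟶ Y.left := toD ≫ sp τ ≫ K.b
  have hv : v ≫ i.left = pullback.fst w₁ pG ≫ w₁ := by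
    simp only [v, w₁, Category.assoc]
    rw [K.hb, ← Category.assoc (sp τ), ← sp_comp, hτ, sp_comp, Category.assoc, hsq.lift_snd_assoc]
  haveI : Smooth G₀.hom := inferInstanceAs (Smooth (pullback.snd G.hom g))
  haveI : Mono (F.map i) := inferInstance
  let W₀ : Over (Spec (CommRingCat.of C₀)) := Over.mk toC₀
  let w₀ : W₀ ⟶ G₀ := Over.homMk (pullback.snd w₁ pG) rfl
  haveI : Flat w₀.left := inferInstanceAs (Flat (pullback.snd w₁ pG))
  haveI : LocallyOfFinitePresentation w₀.left :=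
    inferInstanceAs (LocallyOfFinitePresentation (pullback.snd w₁ pG))
  have hvY : v ≫ Y.hom = toC₀ ≫ g := by
    rw [← Over.w i, reassoc_of% hv, pullback.condition_assoc]
    show _ = (_ ≫ _) ≫ g
    rw [Category.assoc, ← pullback.condition]
  let v₀ : W₀ ⟶ F.obj Y := Over.homMk (pullback.lift v toC₀ hvY) (pullback.lift_snd _ _ _)
  have hv₀ : v₀ ≫ F.map i = w₀ := by
    refine Over.OverMorphism.ext (pullback.hom_ext ?_ ?_)
    · show (pullback.lift v toC₀ hvY ≫ (F.map i).left) ≫ pullback.fst G.hom g =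
        pullback.snd w₁ pG ≫ pullback.fst G.hom g
      rw [Category.assoc, show (F.map i).left ≫ pullback.fst G.hom g = pullback.fst Y.hom g ≫ i.left from
        pullback.lift_fst _ _ _, pullback.lift_fst_assoc, hv]
      exact pullback.condition
    · show (pullback.lift v toC₀ hvY ≫ (F.map i).left) ≫ pullback.snd G.hom g =
        pullback.snd w₁ pG ≫ pullback.snd G.hom g
      rw [Category.assoc, show (F.map i).left ≫ pullback.snd G.hom g = pullback.snd Y.hom g from
        pullback.lift_snd _ _ _, pullback.lift_snd]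
  have hunit₀ : ∀ s, unit G₀ s ∈ Set.range w₀.left := by
    intro s
    show unit G₀ s ∈ Set.range (pullback.snd w₁ pG)
    rw [Scheme.Pullback.range_snd, Set.mem_preimage]
    show pullback.fst G.hom g (unit (Red.bc g G) s) ∈ _
    rw [GrpSchLib.Neutral.bc_unit]
    have he : IsUnit ((ρ.comp (K.eB.comp K.π.toRingHom)) h) := by
      have : ρ (K.eB (K.π h) - 1) = 0 := Ideal.Quotient.eq_zero_iff_mem.mpr
        hh1
      rw [map_sub, map_one, sub_eq_zero] at this
      show IsUnit (ρ (K.eB (K.π h)))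
      rw [this]; exact isUnit_one
    let e' : Uh →+* C₀ := IsLocalization.Away.lift h he
    refine ⟨sp e' s, ?_⟩
    have : sp e' ≫ w₁ = g ≫ unit G := by
      simp only [w₁, g, Category.assoc]
      rw [← K.hunit, ← Category.assoc, ← sp_comp, ← Category.assoc, ← sp_comp]
      congr 2
      refine RingHom.ext fun a => ?_
      show e' (algebraMap K.A Uh a) = ρ (K.eA a)
      rw [IsScalarTower.algebraMap_apply K.A K.U Uh]
      refine (IsLocalization.Away.lift_eq h he _).trans ?_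
      show ρ (K.eB (K.π (algebraMap K.A K.U a))) = _
      rw [K.π.commutes, ← K.heB]
      rfl
    exact congrArg (fun m : Spec (CommRingCat.of C₀) ⟶ G.left => m s) this
  obtain ⟨mY, hmY⟩ := hmul
  obtain ⟨r, hr⟩ := exists_section (G := G₀) (by
      show SGA3x.neutralSet (Red.bc g G) = _
      rw [GrpSchLib.Neutral.neutralSet_bc, hconn, Set.preimage_univ]) (F.map i)
    ⟨Functor.LaxMonoidal.μ F Y Y ≫ F.map mY, by
      rw [Category.assoc, ← F.map_comp, hmY, F.map_comp, ← Functor.LaxMonoidal.μ_natural_assoc]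
      rfl⟩ w₀ ⟨v₀, hv₀⟩ hunit₀
  refine ⟨(pullbackSymmetry g G.hom).hom ≫ r.left ≫ pullback.fst Y.hom g, ?_⟩
  simp only [Category.assoc]
  rw [show pullback.fst Y.hom g ≫ i.left = (F.map i).left ≫ pullback.fst G.hom g from
    (pullback.lift_fst _ _ _).symm, ← Category.assoc r.left, ← Over.comp_left, hr]
  exact (congrArg ((pullbackSymmetry g G.hom).hom ≫ ·) (Category.id_comp _)).trans
    (pullbackSymmetry_hom_comp_fst g G.hom)

/-- The universal ideal on a chart. -/
theorem exists_hasIdeal (hconn : SGA3x.neutralSet G = Set.univ)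
    (hone : ∃ e : 𝟙_ (Over S) ⟶ Y, e ≫ i = η[G])
    (hmul : ∃ m : Y ⊗ Y ⟶ Y, m ≫ i = (i ⊗ₘ i) ≫ μ[G]) [IsOpenImmersion β] (K : YChart i β) :
    ∃ J : Ideal R, HasIdeal G.hom i.left β J ∧ J.FG := by
  classical
  obtain ⟨σ, hσ⟩ := exists_jets K.eA K.heA
  obtain ⟨eY, heY⟩ := hone
  have heY' : eY.left ≫ i.left = unit G := congrArg (fun m : 𝟙_ (Over S) ⟶ G => m.left) heY
  have hJex : ∀ n, ∃ Jn : Ideal R,
      (∀ (C : Type u) [CommRing C] (φ : R →+* C), Good G.hom i.left (sp φ ≫ β) → Jn ≤ RingHom.ker φ) ∧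
      ∀ J : Ideal R, Jn ≤ J → ∃ l : Spec (CommRingCat.of (MvPolynomial (Fin K.d) (R ⧸ J) ⧸ idealOfVars (Fin K.d) (R ⧸ J) ^ (n + 1))) ⟶ Y.left,
        l ≫ i.left = sp (A := K.A) (B := MvPolynomial (Fin K.d) (R ⧸ J) ⧸ idealOfVars (Fin K.d) (R ⧸ J) ^ (n + 1)) ((redHom J n).comp (σ n).toRingHom) ≫ K.a := fun n => by
    have hnil : IsNilpotent (RingHom.ker (jetHom (R := R) (d := K.d) n).toRingHom) := isNilpotent_ker_jetHom n
    have hsur : Function.Surjective (jetHom (R := R) (d := K.d) n).toRingHom := jetHom_surjective n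
    haveI := isClosedImmersion_snd (i := i)
      (A := MvPolynomial (Fin K.d) R ⧸ idealOfVars (Fin K.d) R ^ (n + 1))
      (B := MvPolynomial (Fin K.d) R ⧸ idealOfVars (Fin K.d) R) (jetHom n).toRingHom hsur hnil
      (sp (σ n).toRingHom ≫ K.a)
      ⟨sp ((Ideal.Quotient.mk (idealOfVars (Fin K.d) R)).comp C) ≫ β ≫ eY.left, by
        have h : (jetHom n).toRingHom.comp (σ n).toRingHom =
            ((Ideal.Quotient.mk (idealOfVars (Fin K.d) R)).comp C).comp K.eA :=
          RingHom.ext fun a => AlgHom.congr_fun (hσ n) a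
        simp only [Category.assoc]
        rw [heY', ← K.hunit, ← Category.assoc, ← sp_comp, ← h, sp_comp, Category.assoc]⟩
    haveI := projective_truncation (R := R) (d := K.d) (n + 1)
    obtain ⟨Jn, h1, h2⟩ := exists_jetIdeal (i := i) (β := β) (sp (σ n).toRingHom ≫ K.a) (by
      rw [Category.assoc, K.ha, ← Category.assoc, ← sp_comp]
      exact congrArg (fun f => sp f ≫ β) (RingHom.ext fun r => (σ n).commutes (C r)))
    refine ⟨Jn, h1, fun J hJ => ?_⟩
    obtain ⟨l, hl⟩ := h2 (R ⧸ J) (Ideal.Quotient.mk J) (hJ.trans Ideal.mk_ker.ge) (MvPolynomial (Fin K.d) (R ⧸ J) ⧸ idealOfVars (Fin K.d) (R ⧸ J) ^ (n + 1))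
      ((Ideal.Quotient.mk (idealOfVars (Fin K.d) (R ⧸ J) ^ (n + 1))).comp C) (redHom J n)
      (RingHom.ext fun r => by
        show Ideal.Quotient.mk _ (C (Ideal.Quotient.mk J r)) = redHom J n (Ideal.Quotient.mk _ (C r))
        rw [redHom_mk, MvPolynomial.map_C])
    exact ⟨l, hl.trans (by rw [sp_comp, Category.assoc])⟩
  choose Jn hJn₁ hJn₂ using hJex
  let J : Ideal R := ⨆ n, Jn n
  have hnec : ∀ (C : Type u) [CommRing C] (φ : R →+* C), Good G.hom i.left (sp φ ≫ β) → J ≤ RingHom.ker φ :=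
    fun C _ φ hg => iSup_le fun n => hJn₁ n C φ hg
  have hred : ∀ n, ∃ τ : K.B →+* MvPolynomial (Fin K.d) (R ⧸ J) ⧸ idealOfVars (Fin K.d) (R ⧸ J) ^ (n + 1),
      τ.comp (algebraMap K.A K.B) = (redHom J n).comp (σ n).toRingHom := by
    intro n
    obtain ⟨l, hl⟩ := hJn₂ n J (le_iSup Jn n)
    refine K.hlift _ _ (jetHom (R := R ⧸ J) n).toRingHom (jetHom_surjective n) (isNilpotent_ker_jetHom n)
      ((redHom J n).comp (σ n).toRingHom)
      (((Ideal.Quotient.mk (idealOfVars (Fin K.d) (R ⧸ J))).comp C).comp (Ideal.Quotient.mk J))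
      (RingHom.ext fun a => factor_redHom J n (σ n a) (K.eA a) (AlgHom.congr_fun (hσ n) a)) ⟨l, hl⟩
  obtain ⟨h, hh1, hh⟩ := exists_annihilator J K.π K.eA K.heA K.eB K.heB K.hepi K.hker σ hσ hred
  obtain ⟨gens, hgens⟩ := K.hker
  let algR : R →+* K.U := (algebraMap K.A K.U).comp ((algebraMap (MvPolynomial (Fin K.d) R) K.A).comp C)
  obtain ⟨J₁, hJ₁, hJ₁f, hgJ₁⟩ := exists_fg_le_map_finset algR J (gens.image (h * ·)) fun x hx => by
    obtain ⟨y, hy, rfl⟩ := Finset.mem_image.mp hx
    exact hh y (hgens ▸ Submodule.subset_span hy)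
  let J₀ : Ideal R := J₁ ⊔ Ideal.span {K.eB (K.π h) - 1}
  have hJ₀ : J₀ ≤ J := sup_le hJ₁ ((Ideal.span_singleton_le_iff_mem _).mpr hh1)
  have hJ₀f : J₀.FG := Submodule.FG.sup hJ₁f (Submodule.fg_span_singleton _)
  have hker₀ : ∀ x ∈ RingHom.ker K.π, h * x ∈ J₀.map algR := by
    intro x hx
    rw [← hgens] at hx
    induction hx using Submodule.span_induction with
    | mem x hx => exact Ideal.map_mono le_sup_left (hgJ₁ _ (Finset.mem_image_of_mem _ hx))
    | zero => rw [mul_zero]; exact zero_mem _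
    | add a b _ _ ha hb => rw [mul_add]; exact add_mem ha hb
    | smul c a _ ha => rw [smul_eq_mul, mul_left_comm]; exact Ideal.mul_mem_left _ _ ha
  have hgood := good_of_annihilator hconn hmul K J₀ h (le_sup_right (a := J₁) (Ideal.mem_span_singleton_self _)) hker₀
  refine ⟨J₀, fun C _ φ => ⟨fun hg => hJ₀.trans (hnec C φ hg), fun hle => ?_⟩, hJ₀f⟩
  let φ' : R ⧸ J₀ →+* C := Ideal.Quotient.lift J₀ φ hle
  have := hgood.comp G.hom i.left (sp φ')
  rwa [← Category.assoc, ← sp_comp, show φ'.comp (Ideal.Quotient.mk J₀) = φ from RingHom.ext fun _ => rfl] at this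

omit [LocallyOfFinitePresentation i.left] in
/-- Universal ideals on a covering of the base give one on every affine open. -/
theorem hasIdeals_of_cover
    (h : ∀ x : S, ∃ (A : Type u) (_ : CommRing A) (a : Spec (CommRingCat.of A) ⟶ S),
      IsOpenImmersion a ∧ x ∈ Set.range a ∧ ∃ I : Ideal A, HasIdeal G.hom i.left a I ∧ I.FG) :
    HasIdeals G.hom i.left := by
  haveI : Mono i.left := inferInstanceAs (Mono ((Over.forget S).map i))
  choose A _ a ha hra I hI hfg using h
  intro U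
  let good : Set Γ(S, U) := {r | ∃ s : S, (S.basicOpen r : Set S) ⊆ Set.range (a s)}
  have hspan : Ideal.span good = ⊤ := by
    rw [← U.2.self_le_iSup_basicOpen_iff]
    intro x hx
    obtain ⟨r, hr, hxr⟩ := U.2.exists_basicOpen_le (V := (a x).opensRange) ⟨x, hra x⟩ hx
    exact TopologicalSpace.Opens.mem_iSup.mpr ⟨⟨r, x, hr⟩, hxr⟩
  refine GrpSchLib.hasIdeal_of_span U.2.fromSpec good hspan fun ⟨r, s, hrs⟩ => ?_
  haveI := ha s
  let ar : Spec (CommRingCat.of (Localization.Away r)) ⟶ S :=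
    Spec.map (CommRingCat.ofHom (algebraMap Γ(S, U) (Localization.Away r))) ≫ U.2.fromSpec
  have hr : Set.range ar ⊆ Set.range (a s) := by
    rintro _ ⟨p, rfl⟩
    refine hrs ?_
    rw [← U.2.fromSpec_image_basicOpen r]
    exact ⟨Spec.map (CommRingCat.ofHom (algebraMap Γ(S, U) (Localization.Away r))) p,
      (PrimeSpectrum.localization_away_comap_range (Localization.Away r) r).le ⟨p, rfl⟩, rfl⟩
  obtain ⟨ψ, hψ⟩ := Spec.map_surjective (IsOpenImmersion.lift (a s) ar hr)
  refine ⟨(I s).map ψ.hom, ?_⟩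
  have := (hI s).map ψ.hom
  rwa [CommRingCat.ofHom_hom, hψ, IsOpenImmersion.lift_fac] at this

/-- The locus of the base over which a smooth connected group lies in a subgroup. -/
theorem exists_locus (hconn : SGA3x.neutralSet G = Set.univ)
    (hone : ∃ e : 𝟙_ (Over S) ⟶ Y, e ≫ i = η[G])
    (hmul : ∃ m : Y ⊗ Y ⟶ Y, m ≫ i = (i ⊗ₘ i) ≫ μ[G]) :
    ∃ (T : Scheme.{u}) (t : T ⟶ S), IsClosedImmersion t ∧ LocallyOfFinitePresentation t ∧
      ∀ (S' : Scheme.{u}) (g : S' ⟶ S), (∃ g' : S' ⟶ T, g' ≫ t = g) ↔ Good G.hom i.left g := by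
  have hchart : ∀ x : S, ∃ (A : Type u) (_ : CommRing A) (a : Spec (CommRingCat.of A) ⟶ S),
      IsOpenImmersion a ∧ x ∈ Set.range a ∧ ∃ I : Ideal A, HasIdeal G.hom i.left a I ∧ I.FG := by
    intro x
    obtain ⟨A, _, a, ha, hxa, ⟨K⟩⟩ := exists_ychart i hone x
    exact ⟨A, inferInstance, a, ha, hxa, exists_hasIdeal hconn hone hmul K⟩
  haveI : Mono i.left := inferInstanceAs (Mono ((Over.forget S).map i))
  obtain ⟨T, t, ht, htf⟩ := GrpSchLib.exists_weilRestriction (hasIdeals_of_cover hchart)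
  exact ⟨T, t, ht, GrpSchLib.locallyOfFinitePresentation_of_hasIdeal htf hchart, htf⟩

end Groth.Agent.GrpFieldLib.Jet
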