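import Mathlib

/-! Chain basis (Jordan form) of a nilpotent endomorphism. -/

namespace Groth.Agent.GrpFieldLib

open Polynomial DirectSum

universe u v

/-- A nilpotent endomorphism of a finite-dimensional space has a basis made of chains. -/
theorem exists_chain_basis (k : Type u) [Field k] {V : Type v} [AddCommGroup V] [Module k V]
    [Module.Finite k V] (N : Module.End k V) (hN : IsNilpotent N) :
    ∃ (ι : Type u) (_ : Fintype ι) (e : ι → ℕ) (b : Module.Basis (Σ l, Fin (e l)) k V),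
      (∀ l (h : 0 < e l), N (b ⟨l, ⟨0, h⟩⟩) = 0) ∧
      ∀ l j (h : j + 1 < e l), N (b ⟨l, ⟨j + 1, h⟩⟩) = b ⟨l, ⟨j, by omega⟩⟩ := by
  classical
  obtain ⟨n, hn⟩ := hN
  let M := Module.AEval' N
  have hkill : ∀ m : M, (X ^ n : k[X]) • m = 0 := fun m => by
    obtain ⟨v, rfl⟩ := (Module.AEval.of k V N).surjective m
    rw [Module.AEval.X_pow_smul_of, hn, zero_smul, map_zero]
  have htors : Module.IsTorsion k[X] M := fun {m} =>
    ⟨⟨X ^ n, mem_nonZeroDivisors_of_ne_zero (pow_ne_zero n X_ne_zero)⟩, hkill m⟩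
  obtain ⟨ι, hι, p, hp, e, ⟨Φ⟩⟩ := Module.equiv_directSum_of_isTorsion htors
  have hassoc : ∀ i, Submodule.span k[X] {p i ^ e i} = Ideal.span {(X : k[X]) ^ e i} := by
    intro i
    rcases Nat.eq_zero_or_pos (e i) with h | h
    · rw [h]; simp [Ideal.span]
    · have hz : (X ^ n : k[X]) • (Submodule.Quotient.mk 1 : k[X] ⧸ k[X] ∙ p i ^ e i) = 0 := by
        have h1 := congrArg (fun x => Φ x i)
          (hkill (Φ.symm (DirectSum.of (fun i => k[X] ⧸ k[X] ∙ p i ^ e i) i (Submodule.Quotient.mk 1))))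
        simpa [DirectSum.smul_apply] using h1
      rw [← Submodule.Quotient.mk_smul, smul_eq_mul, mul_one, Submodule.Quotient.mk_eq_zero,
        Submodule.mem_span_singleton] at hz
      obtain ⟨a, ha⟩ := hz
      have hdvd : p i ∣ X ^ n := ⟨a * p i ^ (e i - 1), by
        rw [← ha, smul_eq_mul, mul_left_comm, ← pow_succ', Nat.sub_add_cancel h]⟩
      have hA : Associated (p i) X := (hp i).associated_of_dvd irreducible_X
        ((hp i).prime.dvd_of_dvd_pow hdvd)
      exact Ideal.span_singleton_eq_span_singleton.2 (hA.pow_pow)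
  let q : ∀ i, (k[X] ⧸ k[X] ∙ p i ^ e i) ≃ₗ[k] AdjoinRoot ((X : k[X]) ^ e i) := fun i =>
    (Submodule.quotEquivOfEq _ _ (hassoc i)).restrictScalars k
  let B : ∀ i, Module.Basis (Fin (e i)) k (AdjoinRoot ((X : k[X]) ^ e i)) := fun i =>
    (AdjoinRoot.powerBasis' (monic_X_pow (R := k) (e i))).basis.reindex
      ((finCongr (natDegree_X_pow (R := k) (e i))).trans Fin.revPerm)
  have hB : ∀ i (j : Fin (e i)), B i j = AdjoinRoot.mk _ (X ^ (e i - 1 - j)) := by
    intro i j
    simp only [B, Module.Basis.reindex_apply, PowerBasis.coe_basis, AdjoinRoot.powerBasis'_gen,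
      map_pow, AdjoinRoot.mk_X]
    refine congrArg _ ?_
    change (((finCongr (natDegree_X_pow (R := k) (e i))).trans Fin.revPerm).symm j : ℕ) = _
    simp [Fin.val_rev]
    omega
  let Bq : ∀ i, Module.Basis (Fin (e i)) k (k[X] ⧸ k[X] ∙ p i ^ e i) := fun i =>
    (B i).map (q i).symm
  have hBq : ∀ i (j : Fin (e i)), Bq i j = Submodule.Quotient.mk (X ^ (e i - 1 - j)) := by
    intro i j
    simp only [Bq, Module.Basis.map_apply, hB]
    apply (q i).injective
    rw [LinearEquiv.apply_symm_apply]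
    rfl
  let b : Module.Basis (Σ l, Fin (e l)) k V :=
    (DFinsupp.basis Bq).map ((Φ.restrictScalars k).symm.trans (Module.AEval.of k V N).symm)
  have hb : ∀ l (j : Fin (e l)), b ⟨l, j⟩ = (Module.AEval.of k V N).symm
      (Φ.symm (DirectSum.of (fun i => k[X] ⧸ k[X] ∙ p i ^ e i) l (Bq l j))) := by
    intro l j
    simp only [b, Module.Basis.map_apply]
    have : DFinsupp.basis Bq ⟨l, j⟩ = DFinsupp.single l (Bq l j) := by
      apply (DFinsupp.basis Bq).repr.injective
      rw [Module.Basis.repr_self]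
      ext ⟨i, s⟩
      by_cases h : i = l
      · subst h; simp [DFinsupp.basis, sigmaFinsuppLequivDFinsupp, Finsupp.single_apply]
      · simp [DFinsupp.basis, sigmaFinsuppLequivDFinsupp, Finsupp.single_apply, h, Ne.symm h]
    rw [this]
    rfl
  have hNb : ∀ l (j : Fin (e l)), N (b ⟨l, j⟩) = (Module.AEval.of k V N).symm
      (Φ.symm (DirectSum.of (fun i => k[X] ⧸ k[X] ∙ p i ^ e i) l ((X : k[X]) • Bq l j))) := by
    intro l j
    rw [hb, DirectSum.of_smul, map_smul, Module.AEval.of_symm_X_smul, Module.End.smul_def]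
  refine ⟨ι, hι, e, b, fun l h => ?_, fun l j h => ?_⟩
  · rw [hNb, hBq, ← Submodule.Quotient.mk_smul, smul_eq_mul, ← pow_succ',
      show e l - 1 - ((⟨0, h⟩ : Fin (e l)) : ℕ) + 1 = e l by simp only; omega]
    have : (Submodule.Quotient.mk ((X : k[X]) ^ e l) : k[X] ⧸ k[X] ∙ p l ^ e l) = 0 := by
      rw [Submodule.Quotient.mk_eq_zero, hassoc l]
      exact Ideal.mem_span_singleton_self _
    rw [this, map_zero, map_zero, map_zero]
  · rw [hNb, hBq, hb, hBq, ← Submodule.Quotient.mk_smul, smul_eq_mul, ← pow_succ',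
      show e l - 1 - ((⟨j + 1, h⟩ : Fin (e l)) : ℕ) + 1 = e l - 1 - j by simp only; omega]

end Groth.Agent.GrpFieldLib
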