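import Groth.Agent.SquareLib.Square
import Groth.Agent.AVSubLib.Component
import Groth.Agent.S8117
import Groth.Agent.S11992
import Groth.Agent.S7785
import Groth.Agent.H23.RatExt
import Groth.Agent.H23.MaxAbelian
import Groth.Agent.GrpLimLib.Basic

/-! Maps from a product of two pointed varieties to an abelian variety. -/

set_option autoImplicit false
set_option backward.isDefEq.respectTransparency false
set_option linter.style.haveILetI false

universe u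

open CategoryTheory CategoryTheory.Limits MonoidalCategory CartesianMonoidalCategory MonObj AlgebraicGeometry
open scoped CategoryTheory.Obj

namespace Groth.Agent.GrpFieldLib.ProdAV

variable {k : Type u} [Field k] [IsAlgClosed k]

local notation "pt₀" => (𝟙_ (Over (Spec (CommRingCat.of k))))

/-- The relation on open pieces of smooth proper curves. -/
theorem curves {A : Over (Spec (.of k))} [GrpObj A] [IsCommMonObj A] [IsProper A.hom] [GeometricallyIntegral A.hom]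
    {C C₀ D D₀ : Over (Spec (.of k))} [IsProper C.hom] [Smooth C.hom] [GeometricallyIntegral C.hom]
    [IsProper D.hom] [Smooth D.hom] [GeometricallyIntegral D.hom]
    (i : C₀ ⟶ C) [IsOpenImmersion i.left] (j : D₀ ⟶ D) [IsOpenImmersion j.left] (φ : C₀ ⊗ D₀ ⟶ A)
    (a a' : pt₀ ⟶ C₀) (b b' : pt₀ ⟶ D₀) :
    (lift a' b' ≫ φ) * (lift a b ≫ φ) = (lift a b' ≫ φ) * (lift a' b ≫ φ) := by
  haveI : IsOpenImmersion (i ⊗ₘ j).left := SquareLib.isOpenImmersion_tensorHom i j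
  haveI : Smooth (C ⊗ D).hom := inferInstanceAs (Smooth (pullback.fst C.hom D.hom ≫ C.hom))
  haveI : IsProper (C ⊗ D).hom := inferInstanceAs (IsProper (pullback.fst C.hom D.hom ≫ C.hom))
  haveI : GeometricallyIntegral (C ⊗ D).hom := H23.RatExt.geometricallyIntegral_prod C D
  let U := (i ⊗ₘ j).left.opensRange
  let e := (i ⊗ₘ j).left.isoOpensRange
  have he : e.inv ≫ (i ⊗ₘ j).left = U.ι := by
    rw [Iso.inv_comp_eq]; exact (i ⊗ₘ j).left.isoOpensRange_hom_ι.symm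
  have hU : (U : Set (C ⊗ D).left).Nonempty :=
    ⟨(i ⊗ₘ j).left ((lift a b).left (IsLocalRing.closedPoint k)), ⟨_, rfl⟩⟩
  obtain ⟨g, hg, hgU⟩ := S11992.result k (C ⊗ D).left (C ⊗ D).hom A U hU (e.inv ≫ φ.left) (by
    rw [Category.assoc, Over.w φ, ← he, Category.assoc, Over.w (i ⊗ₘ j)])
  let Φ : C ⊗ D ⟶ A := Over.homMk g hg
  have hΦ : (i ⊗ₘ j) ≫ Φ = φ := Over.OverMorphism.ext (by
    show (i ⊗ₘ j).left ≫ g = φ.left
    rw [← (i ⊗ₘ j).left.isoOpensRange_hom_ι, Category.assoc, hgU, Iso.hom_inv_id_assoc])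
  let ψ : C ⊗ D ⟶ A := Φ * (fst C D ≫ lift (𝟙 C) (toUnit C ≫ b ≫ j) ≫ Φ)⁻¹ *
    (snd C D ≫ lift (toUnit D ≫ a ≫ i) (𝟙 D) ≫ Φ)⁻¹ * (toUnit _ ≫ lift (a ≫ i) (b ≫ j) ≫ Φ)
  have hev : ∀ {T : Over (Spec (.of k))} (c : T ⟶ C) (d : T ⟶ D), lift c d ≫ ψ =
      (lift c d ≫ Φ) * (lift c (toUnit T ≫ b ≫ j) ≫ Φ)⁻¹ * (lift (toUnit T ≫ a ≫ i) d ≫ Φ)⁻¹ *
        (toUnit T ≫ lift (a ≫ i) (b ≫ j) ≫ Φ) := fun {T} c d => by
    simp [ψ, MonObj.comp_mul, GrpObj.comp_inv, comp_lift_assoc, comp_toUnit_assoc]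
  have h := S8117.result k C D A ψ (a ≫ i) (b ≫ j) 1 (by
    rw [hev, mul_inv_cancel, _root_.one_mul, comp_lift_assoc, inv_mul_cancel, MonObj.comp_one]) (by
    rw [hev, mul_right_comm _ _ ((lift (toUnit D ≫ a ≫ i) (𝟙 D) ≫ Φ)⁻¹), mul_inv_cancel, _root_.one_mul,
      comp_lift_assoc, inv_mul_cancel, MonObj.comp_one])
  have h2 := congrArg (lift (a' ≫ i) (b' ≫ j) ≫ ·) h
  simp only [hev, MonObj.comp_one] at h2
  simp only [← hΦ, lift_map_assoc]
  simp only [toUnit_unique (toUnit pt₀) (𝟙 _), Category.id_comp] at h2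
  rw [← mul_inv_eq_one]
  refine Eq.trans ?_ h2
  simp only [mul_inv]
  ac_rfl

variable {X Y A : Over (Spec (.of k))} [LocallyOfFiniteType X.hom] [LocallyOfFiniteType Y.hom]
  [GeometricallyIntegral X.hom] [GeometricallyIntegral Y.hom]
  [GrpObj A] [IsCommMonObj A] [IsProper A.hom] [GeometricallyIntegral A.hom]

/-- The relation for all rational points. -/
theorem points (f : X ⊗ Y ⟶ A) (a a' : pt₀ ⟶ X) (b b' : pt₀ ⟶ Y) :
    (lift a' b' ≫ f) * (lift a b ≫ f) = (lift a b' ≫ f) * (lift a' b ≫ f) := by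
  haveI : IsIntegral X.left := GeometricallyIntegral.isIntegral_of_subsingleton X.hom
  haveI : IsIntegral Y.left := GeometricallyIntegral.isIntegral_of_subsingleton Y.hom
  have key : ∀ (a a' : pt₀ ⟶ X) (D D₀ : Over (Spec (.of k))), IsProper D.hom → Smooth D.hom →
      GeometricallyIntegral D.hom → ∀ (j : D₀ ⟶ D), IsOpenImmersion j.left → ∀ (ρ : D₀ ⟶ Y) (b b' : pt₀ ⟶ D₀),
      (lift a' (b' ≫ ρ) ≫ f) * (lift a' (b ≫ ρ) ≫ f)⁻¹ = (lift a (b' ≫ ρ) ≫ f) * (lift a (b ≫ ρ) ≫ f)⁻¹ := by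
    intro a a' D D₀ _ _ _ j _ ρ b b'
    refine SquareLib.const_of_curves_scheme X
      (fun a => (lift a (b' ≫ ρ) ≫ f) * (lift a (b ≫ ρ) ≫ f)⁻¹) ?_ a' a
    intro C C₀ _ _ _ i _ π c c'
    have h := curves i j ((π ⊗ₘ ρ) ≫ f) c c' b b'
    simp only [lift_map_assoc] at h
    show _ * _⁻¹ = _ * _⁻¹
    rw [mul_inv_eq_iff_eq_mul, mul_right_comm, eq_mul_inv_iff_mul_eq]
    exact h.symm
  have h := SquareLib.const_of_curves_scheme Y (fun b => (lift a' b ≫ f) * (lift a b ≫ f)⁻¹)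
    (fun D D₀ h1 h2 h3 j h4 ρ c c' => by
      have h := key a a' D D₀ h1 h2 h3 j h4 ρ c c'
      show _ * _⁻¹ = _ * _⁻¹
      rw [mul_inv_eq_iff_eq_mul, mul_right_comm, eq_mul_inv_iff_mul_eq] at h ⊢
      rw [mul_comm, h, mul_comm]) b' b
  have h' : (lift a' b' ≫ f) * (lift a b' ≫ f)⁻¹ = (lift a' b ≫ f) * (lift a b ≫ f)⁻¹ := h
  rw [mul_inv_eq_iff_eq_mul, mul_right_comm, eq_mul_inv_iff_mul_eq] at h'
  rw [h', mul_comm]

/-- The decomposition, over an algebraically closed field. -/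
theorem closed [IsSeparated A.hom] (x₀ : pt₀ ⟶ X) (y₀ : pt₀ ⟶ Y) (f : X ⊗ Y ⟶ A) :
    f = (toUnit (X ⊗ Y) ≫ lift x₀ y₀ ≫ f)⁻¹ * (snd X Y ≫ lift (toUnit Y ≫ x₀) (𝟙 Y) ≫ f) *
      (fst X Y ≫ lift (𝟙 X) (toUnit X ≫ y₀) ≫ f) := by
  set g := (toUnit (X ⊗ Y) ≫ lift x₀ y₀ ≫ f)⁻¹ * (snd X Y ≫ lift (toUnit Y ≫ x₀) (𝟙 Y) ≫ f) *
      (fst X Y ≫ lift (𝟙 X) (toUnit X ≫ y₀) ≫ f) with hg
  haveI : GeometricallyIntegral (X ⊗ Y).hom := H23.RatExt.geometricallyIntegral_prod X Y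
  haveI : IsIntegral (X ⊗ Y).left := GeometricallyIntegral.isIntegral_of_subsingleton (X ⊗ Y).hom
  haveI : LocallyOfFiniteType (X ⊗ Y).hom :=
    inferInstanceAs (LocallyOfFiniteType (pullback.fst X.hom Y.hom ≫ X.hom))
  refine Over.OverMorphism.ext ?_
  haveI : LocallyOfFiniteType (f.left ≫ A.hom) := by rw [Over.w f]; infer_instance
  refine ext_of_apply_eq A.hom Set.univ isClosed_univ.isLocallyClosed dense_univ (fun z _ hz => ?_)
    ((Over.w f).trans (Over.w g).symm)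
  obtain ⟨p, rfl⟩ := AVSubLib.exists_pt hz
  rw [← Scheme.Hom.comp_apply, ← Scheme.Hom.comp_apply, ← Over.comp_left, ← Over.comp_left]
  suffices h : p ≫ f = p ≫ g by rw [h]
  have hp : p = lift (p ≫ fst X Y) (p ≫ snd X Y) := by rw [← comp_lift, lift_fst_snd, Category.comp_id]
  have h := points f x₀ (p ≫ fst X Y) y₀ (p ≫ snd X Y)
  rw [hp]
  simp only [hg, MonObj.comp_mul, GrpObj.comp_inv, lift_snd_assoc, lift_fst_assoc, comp_lift_assoc,
    comp_toUnit_assoc, Category.comp_id, toUnit_unique (toUnit pt₀) (𝟙 _), Category.id_comp]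
  simp only [lift_fst, lift_snd]
  rw [_root_.mul_assoc, ← h, mul_comm (lift (p ≫ fst X Y) (p ≫ snd X Y) ≫ f), inv_mul_cancel_left]

end Groth.Agent.GrpFieldLib.ProdAV
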