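import Groth.Agent.GrpSchLib.FieldAllComp
import Groth.Agent.SchTop.ZeroDim

/-!
# Profinite families of points of a group scheme lie in an affine open
-/

set_option backward.isDefEq.respectTransparency false
set_option backward.isDefEq.respectTransparency.types false

universe u

open CategoryTheory MonoidalCategory CartesianMonoidalCategory MonObj GrpObj AlgebraicGeometry
open Limits TopologicalSpace
open scoped CategoryTheory.Obj
open Groth.Agent.GrpSchLib (IsMaxPt hull left_comp_apply)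

namespace Groth.Agent.GrpFieldLib

variable {k : Type u} [Field k] {G : Over (Spec (CommRingCat.of k))} [GrpObj G]

theorem isClopen_hull_affine {V : G.left.Opens} (hV : IsAffineOpen V) :
    IsClopen (hull (V : Set G.left)) :=
  ⟨GrpSchLib.isClosed_hull V.2 hV.isCompact, GrpSchLib.isOpen_hull V.2⟩

/-- An affine open containing the generalizations of a compact family of points. -/
theorem exists_affineOpen_maxPts {T : Type*} [TopologicalSpace T] [CompactSpace T] {f : T → G.left}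
    (hf : Continuous f) : ∃ U : G.left.Opens, IsAffineOpen U ∧
      ∀ t c, IsMaxPt c → c ⤳ f t → c ∈ U := by
  classical
  have hex : ∀ t, ∃ V : G.left.Opens, IsAffineOpen V ∧ f t ∈ V := fun t => by
    obtain ⟨V, hV, ht, -⟩ := exists_isAffineOpen_mem_and_subset (show f t ∈ (⊤ : G.left.Opens) from trivial)
    exact ⟨V, hV, ht⟩
  choose V hV hVt using hex
  obtain ⟨s, hs⟩ := isCompact_univ.elim_finite_subcover (fun t => f ⁻¹' hull (V t : Set G.left))
    (fun t => (isClopen_hull_affine (hV t)).isOpen.preimage hf)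
    (fun t _ => Set.mem_iUnion.mpr ⟨t, f t, hVt t, specializes_rfl⟩)
  let e := s.equivFin.symm
  let W : Fin s.card → Set G.left := fun i =>
    hull (V (e i).1 : Set G.left) ∩ ⋂ j : {j : Fin s.card // j < i}, (hull (V (e j.1).1 : Set G.left))ᶜ
  have hW : ∀ i, IsClopen (W i) := fun i =>
    (isClopen_hull_affine (hV _)).inter (isClopen_iInter_of_finite fun j => (isClopen_hull_affine (hV _)).compl)
  let U : Fin s.card → G.left.Opens := fun i => V (e i).1 ⊓ ⟨W i, (hW i).isOpen⟩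
  refine ⟨⨆ i, U i, IsAffineOpen.iSup_of_disjoint
    (fun i => SchTop.isAffineOpen_inf_of_isClopen (hV _) (hW i)) ?_, fun t c hc hct => ?_⟩
  · intro i j hij
    rcases lt_or_gt_of_ne hij with h | h
    · refine Opens.coe_disjoint.mp (Set.disjoint_left.mpr fun x hxi hxj => ?_)
      exact Set.mem_iInter.mp hxj.2.2 ⟨i, h⟩ hxi.2.1
    · refine Opens.coe_disjoint.mp (Set.disjoint_left.mpr fun x hxi hxj => ?_)
      exact Set.mem_iInter.mp hxi.2.2 ⟨j, h⟩ hxj.2.1
  · obtain ⟨t₀, ht₀, htm⟩ : ∃ t₀ ∈ s, f t ∈ hull (V t₀ : Set G.left) := by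
      obtain ⟨t₀, h⟩ := Set.mem_iUnion₂.mp (hs (Set.mem_univ t))
      exact ⟨t₀, h.1, h.2⟩
    let P : Finset (Fin s.card) := Finset.univ.filter fun i => f t ∈ hull (V (e i).1 : Set G.left)
    have hP : P.Nonempty := ⟨s.equivFin ⟨t₀, ht₀⟩, by simp [P, e, htm]⟩
    let i := P.min' hP
    have hi : f t ∈ hull (V (e i).1 : Set G.left) := (Finset.mem_filter.mp (P.min'_mem hP)).2
    have hiW : f t ∈ W i := ⟨hi, Set.mem_iInter.mpr fun j hj => by
      have := P.min'_le j.1 (Finset.mem_filter.mpr ⟨Finset.mem_univ _, hj⟩)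
      exact absurd (lt_of_le_of_lt this j.2) (lt_irrefl _)⟩
    obtain ⟨d, hdV, hdt⟩ := hi
    obtain ⟨d', hd', hd'd⟩ := GrpSchLib.exists_isMaxPt d
    obtain rfl := hc.eq GrpSchLib.uniComp hd' hct (hd'd.trans hdt)
    exact Opens.mem_iSup.mpr ⟨i, hd'd.mem_open (V _).2 hdV, hct.mem_open (hW i).isOpen hiW⟩

/-- A translate of an affine open containing a profinite family of rational points. -/
theorem exists_affineOpen_range [JacobsonSpace G.left]
    (hrat : ∀ g : G.left, IsClosed ({g} : Set G.left) →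
      ∃ x : 𝟙_ (Over (Spec (CommRingCat.of k))) ⟶ G, x.left (IsLocalRing.closedPoint k) = g)
    {Y : Over (Spec (CommRingCat.of k))} [IsAffine Y.left] (hY : IsIntegralHom Y.hom)
    (hpts : ∀ y : Y.left, ∃ a : 𝟙_ (Over (Spec (CommRingCat.of k))) ⟶ Y,
      a.left (IsLocalRing.closedPoint k) = y) (f : Y ⟶ G) :
    ∃ U : G.left.Opens, IsAffineOpen U ∧ Set.range f.left ⊆ U := by
  obtain ⟨U, hU, hUc⟩ := exists_affineOpen_maxPts (G := G) f.left.continuous
  obtain ⟨g, hg, hge⟩ := GrpSchLib.exists_isMaxPt (η[G].left (IsLocalRing.closedPoint k))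
  let m : G ⊗ Y ⟶ G := fst G Y * (snd G Y ≫ f)
  haveI : IsIntegralHom (fst G Y).left := inferInstanceAs (IsIntegralHom (pullback.fst G.hom Y.hom))
  let O : Set G.left := ((fst G Y).left '' (m.left ⁻¹' (U : Set G.left)ᶜ))ᶜ
  have hO : IsOpen O :=
    ((fst G Y).left.isClosedMap _ ((U.2.isClosed_compl).preimage m.left.continuous)).isOpen_compl
  have hgO : g ∈ O := by
    rintro ⟨q, hq, hqg⟩
    obtain ⟨a, ha⟩ := hpts ((snd G Y).left q)
    obtain ⟨r, rfl⟩ : q ∈ Set.range (𝟙 G ⊗ₘ a).left := by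
      rw [Over.tensorHom_left]
      refine (Scheme.Pullback.range_map _ _ _ _ _ _ _ _ _).symm.subset ?_
      exact ⟨⟨_, rfl⟩, ⟨_, ha⟩⟩
    let κ := a ≫ f
    let R : G ≅ G :=
      { hom := 𝟙 G * (toUnit G ≫ κ)
        inv := 𝟙 G * (toUnit G ≫ κ⁻¹)
        hom_inv_id := by simp [MonObj.comp_mul, GrpObj.comp_inv, _root_.mul_assoc]
        inv_hom_id := by simp [MonObj.comp_mul, GrpObj.comp_inv, _root_.mul_assoc] }
    have hm : (𝟙 G ⊗ₘ a) ≫ m = fst G (𝟙_ _) ≫ R.hom := by
      simp [m, R, κ, MonObj.comp_mul, toUnit_unique (toUnit (G ⊗ 𝟙_ _)) (snd G (𝟙_ _))]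
    have hr : (fst G (𝟙_ _)).left r = g := by
      rw [← hqg, ← left_comp_apply]
      congr 2
      simp
    haveI : IsIso R.hom.left := ((Over.forget _).mapIso R).isIso_hom
    have hRg : IsMaxPt (R.hom.left g) := hg.map R.hom.left.isOpenEmbedding.generalizingMap
    have hRe : R.hom.left g ⤳ f.left (a.left (IsLocalRing.closedPoint k)) := by
      have := hge.map R.hom.left.continuous
      rw [← left_comp_apply] at this
      have h1 : η[G] ≫ R.hom = κ := by
        simp [R, MonObj.comp_mul, MonObj.one_eq_one, toUnit_unique (toUnit (𝟙_ _)) (𝟙 _)]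
      rw [h1] at this
      exact this
    refine hq ?_
    rw [← left_comp_apply, hm, left_comp_apply, hr]
    exact hUc _ _ hRg hRe
  obtain ⟨x₀, hx₀O, hx₀c⟩ := nonempty_inter_closedPoints ⟨g, hgO⟩ hO.isLocallyClosed
  obtain ⟨x, hx⟩ := hrat x₀ hx₀c
  let L : G ≅ G :=
    { hom := (toUnit G ≫ x) * 𝟙 G
      inv := (toUnit G ≫ x⁻¹) * 𝟙 G
      hom_inv_id := by simp [MonObj.comp_mul, GrpObj.comp_inv, ← _root_.mul_assoc]
      inv_hom_id := by simp [MonObj.comp_mul, GrpObj.comp_inv, ← _root_.mul_assoc] }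
  haveI : IsIso L.hom.left := ((Over.forget _).mapIso L).isIso_hom
  refine ⟨L.hom.left ⁻¹ᵁ U, hU.preimage L.hom.left, ?_⟩
  rintro _ ⟨y, rfl⟩
  show L.hom.left (f.left y) ∈ U
  have h1 : lift (toUnit Y ≫ x) (𝟙 Y) ≫ m = f ≫ L.hom := by
    simp [m, L, MonObj.comp_mul]
  rw [← left_comp_apply, ← h1, left_comp_apply]
  by_contra hn
  refine hx₀O ⟨_, hn, ?_⟩
  rw [← left_comp_apply, lift_fst, GrpSchLib.apply_pointSection]
  exact hx

end Groth.Agent.GrpFieldLib
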