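import Mathlib

/-! Localizations of an integrally closed integral extension of a Dedekind domain are valuation
rings. -/

namespace Groth.Agent.GrpFieldLib.Pruefer

open Polynomial

universe u

/-- Seidenberg: over an integrally closed local domain, a root of a polynomial with some unit
coefficient is integral or has integral inverse. -/
theorem isInteger_or_inv {O : Type u} [CommRing O] [IsDomain O] [IsLocalRing O] [IsIntegrallyClosed O]
    {L : Type u} [Field L] [Algebra O L] [IsFractionRing O L] (x : L) (n : ℕ) :
    ∀ f : O[X], f.natDegree ≤ n → (∃ i, IsUnit (f.coeff i)) → aeval x f = 0 →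
      IsLocalization.IsInteger O x ∨ IsLocalization.IsInteger O x⁻¹ := by
  induction n with
  | zero =>
    rintro f hf ⟨i, hi⟩ h
    rw [eq_C_of_natDegree_le_zero hf, aeval_C, map_eq_zero_iff _ (IsFractionRing.injective O L)] at h
    rcases i with _ | i
    · rw [h] at hi; exact absurd hi not_isUnit_zero
    · rw [coeff_eq_zero_of_natDegree_lt (by omega)] at hi; exact absurd hi not_isUnit_zero
  | succ n ih =>
    rintro f hf hu h
    by_cases hd : f.natDegree ≤ n
    · exact ih f hd hu h
    have hdeg : f.natDegree = n + 1 := by omega
    obtain ⟨y, hy⟩ := IsIntegrallyClosed.isIntegral_iff.1 (isIntegral_leadingCoeff_smul f x h)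
    have hlc : f.leadingCoeff = f.coeff (n + 1) := by rw [leadingCoeff, hdeg]
    rw [hlc, Algebra.smul_def] at hy
    set a := f.coeff (n + 1)
    by_cases ha : IsUnit a
    · obtain ⟨b, hb⟩ := ha.exists_left_inv
      refine Or.inl ⟨b * y, ?_⟩
      rw [map_mul, hy, ← mul_assoc, ← map_mul, hb, map_one, one_mul]
    by_cases hx : x = 0
    · exact Or.inl ⟨0, by rw [hx, map_zero]⟩
    by_cases hyu : IsUnit y
    · obtain ⟨b, hb⟩ := hyu.exists_left_inv
      refine Or.inr ⟨b * a, ?_⟩
      refine eq_inv_of_mul_eq_one_left ?_
      rw [map_mul, mul_assoc, ← hy, ← map_mul, hb, map_one]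
    obtain ⟨i, hi⟩ := hu
    let g : O[X] := f - monomial (n + 1) a + monomial n y
    refine ih g ?_ ⟨i, ?_⟩ ?_
    · refine natDegree_le_iff_coeff_eq_zero.2 fun m hm => ?_
      rcases eq_or_ne m (n + 1) with rfl | hm'
      · simp [g, a, coeff_monomial]
      · have : f.coeff m = 0 := coeff_eq_zero_of_natDegree_lt (by omega)
        simp [g, coeff_monomial, Ne.symm hm', this, show ¬n = m by omega]
    · have hi' : i ≠ n + 1 := fun h' => ha (by rw [h'] at hi; exact hi)
      rcases eq_or_ne i n with rfl | hin
      · have : g.coeff i = f.coeff i + y := by simp [g, coeff_monomial]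
        rw [this]
        by_contra hnu
        have hmem : f.coeff i + y ∈ IsLocalRing.maximalIdeal O := hnu
        have := (IsLocalRing.maximalIdeal O).sub_mem hmem (show y ∈ IsLocalRing.maximalIdeal O from hyu)
        rw [add_sub_cancel_right] at this
        exact this hi
      · simpa [g, coeff_monomial, Ne.symm hi', Ne.symm hin] using hi
    · simp only [g, map_add, map_sub, aeval_monomial, h, hy, pow_succ]
      ring

/-- A finite family in a valuation ring has a member dividing all others. -/
theorem exists_dvd_all {A : Type u} [CommRing A] [IsDomain A] [ValuationRing A] {ι : Type*}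
    (s : Finset ι) (hs : s.Nonempty) (a : ι → A) : ∃ i ∈ s, ∀ j ∈ s, a i ∣ a j := by
  classical
  induction hs using Finset.Nonempty.cons_induction with
  | singleton i => exact ⟨i, by simp⟩
  | cons i s hi _ ih =>
    obtain ⟨j, hj, hj'⟩ := ih
    rcases ValuationRing.dvd_total (a i) (a j) with h | h
    · exact ⟨i, by simp, fun k hk => by
        rcases Finset.mem_cons.1 hk with rfl | hk
        · rfl
        · exact h.trans (hj' k hk)⟩
    · exact ⟨j, Finset.mem_cons_of_mem hj, fun k hk => by
        rcases Finset.mem_cons.1 hk with rfl | hk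
        · exact h
        · exact hj' k hk⟩

variable {R C : Type u} [CommRing R] [IsDedekindDomain R] [CommRing C] [IsDomain C] [Algebra R C]
  [Algebra.IsIntegral R C] [IsIntegrallyClosed C]

/-- Localizations of `C` at primes are valuation rings. -/
theorem valuationRing_localization (hinj : Function.Injective (algebraMap R C)) (q : Ideal C) [q.IsPrime] :
    ValuationRing (Localization.AtPrime q) := by
  classical
  haveI : FaithfulSMul R C := (faithfulSMul_iff_algebraMap_injective R C).2 hinj
  haveI : IsIntegrallyClosed (Localization.AtPrime q) :=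
    isIntegrallyClosed_of_isLocalization _ q.primeCompl q.primeCompl_le_nonZeroDivisors
  rw [ValuationRing.iff_isInteger_or_isInteger (Localization.AtPrime q) (FractionRing C)]
  intro x
  have hAlg : IsAlgebraic R x := by
    obtain ⟨c, d, hd, rfl⟩ := IsFractionRing.div_surjective C x
    have h : ∀ z : C, IsAlgebraic R (algebraMap C (FractionRing C) z) := fun z =>
      ((Algebra.IsIntegral.isIntegral z).isAlgebraic).algebraMap
    rw [div_eq_mul_inv]
    exact (h c).mul (h d).inv
  obtain ⟨f, hf0, hf⟩ := hAlg
  let p : Ideal R := q.comap (algebraMap R C)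
  haveI : p.IsPrime := Ideal.IsPrime.comap _
  let A := Localization.AtPrime p
  haveI : ValuationRing A := by
    by_cases hp : p = ⊥
    · haveI : IsLocalization (nonZeroDivisors R) A := by
        convert (inferInstance : IsLocalization p.primeCompl A)
        ext r
        simp [Ideal.primeCompl, hp]
      let := (IsFractionRing.toField R : Field A)
      infer_instance
    · haveI := IsLocalization.AtPrime.isDiscreteValuationRing_of_dedekind_domain R hp A
      infer_instance
  have hu : ∀ s : p.primeCompl,
      IsUnit (((algebraMap C (Localization.AtPrime q)).comp (algebraMap R C)) s) := fun s =>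
    IsLocalization.map_units (Localization.AtPrime q) (⟨algebraMap R C s, s.2⟩ : q.primeCompl)
  let φ : A →+* Localization.AtPrime q := IsLocalization.lift hu
  have hφ : ∀ r : R, φ (algebraMap R A r) = algebraMap C (Localization.AtPrime q) (algebraMap R C r) :=
    fun r => IsLocalization.lift_eq hu r
  obtain ⟨i₀, hi₀, hdvd⟩ := exists_dvd_all f.support (support_nonempty.2 hf0)
    (fun i => algebraMap R A (f.coeff i))
  choose! b hb using hdvd
  let g : (Localization.AtPrime q)[X] := ∑ i ∈ f.support, monomial i (φ (b i))
  have ha0 : algebraMap R A (f.coeff i₀) ≠ 0 := by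
    rw [map_ne_zero_iff _ (IsLocalization.injective A p.primeCompl_le_nonZeroDivisors)]
    exact mem_support_iff.1 hi₀
  have hb0 : b i₀ = 1 := by
    have h := hb i₀ hi₀
    exact (mul_left_cancel₀ ha0 (h.symm.trans (mul_one _).symm))
  refine isInteger_or_inv x g.natDegree g le_rfl ⟨i₀, ?_⟩ ?_
  · simp [g, coeff_monomial, hb0, if_pos hi₀, mem_support_iff.1 hi₀]
  · have key : algebraMap (Localization.AtPrime q) (FractionRing C) (φ (algebraMap R A (f.coeff i₀))) *
        aeval x g = aeval x f := by
      conv_rhs => rw [f.as_sum_support]
      simp only [g, map_sum, Finset.mul_sum, aeval_monomial]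
      refine Finset.sum_congr rfl fun i hi => ?_
      rw [← mul_assoc, ← map_mul, ← map_mul, ← hb i hi, hφ,
        ← IsScalarTower.algebraMap_apply C (Localization.AtPrime q) (FractionRing C),
        ← IsScalarTower.algebraMap_apply R C (FractionRing C)]
    rw [hf] at key
    refine (mul_eq_zero.1 key).resolve_left ?_
    rw [hφ, ← IsScalarTower.algebraMap_apply C (Localization.AtPrime q) (FractionRing C),
      ← IsScalarTower.algebraMap_apply R C (FractionRing C),
      map_eq_zero_iff _ (FaithfulSMul.algebraMap_injective R (FractionRing C))]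
    exact mem_support_iff.1 hi₀

end Groth.Agent.GrpFieldLib.Pruefer
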