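import Groth.Agent.GrpQuotLib.Group
import Groth.Agent.GrpSchLib.KernelGrp
import Groth.Agent.GrpSchLib.KernelPair
import Groth.Agent.AlgSpLib.Descends2
import Groth.Agent.S3020
import Groth.Agent.S3036
import Groth.Prelude.Def_Mor2
import Groth.Agent.EtFound.Descent

/-! A quasi-affine homomorphism of group schemes over a field is affine. -/

set_option autoImplicit false
set_option backward.isDefEq.respectTransparency false
set_option linter.style.haveILetI false

universe u

open CategoryTheory CategoryTheory.Limits MonoidalCategory CartesianMonoidalCategory AlgebraicGeometry MonObj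

namespace Groth.Agent.GrpFieldLib.QAff

variable {k : Type u} [Field k] {G Q X : Over (Spec (.of k))} [GrpObj G] [GrpObj Q] [GrpObj X]

/-- An affine-kernel quotient map is quasi-compact and affine. -/
theorem isAffineHom_quot {N : Over (Spec (.of k))} (i : N ⟶ G) (q : G ⟶ X) [IsMonHom q] [Flat q.left]
    [Surjective q.left] [LocallyOfFinitePresentation q.left] (hk : AlgGrp.IsKernel i q) [IsAffine N.left] :
    QuasiCompact q.left ∧ IsAffineHom q.left := by
  obtain ⟨p, hp, hps⟩ := GrpSchLib.exists_kernelPair_iso i q hk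
  haveI := hp
  haveI : IsAffineHom N.hom := isAffineHom_of_isAffine _
  haveI : IsAffineHom (snd N G).left :=
    MorphismProperty.pullback_snd (P := @IsAffineHom) N.hom G.hom inferInstance
  haveI hsnd : IsAffineHom (pullback.snd q.left q.left) := by
    rw [show pullback.snd q.left q.left = inv p ≫ (snd N G).left by rw [← hps, IsIso.inv_hom_id_assoc]]
    infer_instance
  haveI hfst : IsAffineHom (pullback.fst q.left q.left) := by
    rw [← pullbackSymmetry_hom_comp_snd]
    infer_instance
  haveI : QuasiCompact q.left := by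
    rw [quasiCompact_iff_forall_isAffineOpen]
    intro V hV
    have hcov : ∀ y : X.left, y ∈ V → ∃ W : G.left.Opens, IsAffineOpen W ∧ (W : Set G.left) ⊆ q.left ⁻¹' V ∧
        y ∈ q.left '' W := fun y hy => by
      obtain ⟨x, rfl⟩ := q.left.surjective y
      obtain ⟨W, hW, hxW, hWV⟩ := exists_isAffineOpen_mem_and_subset (show x ∈ q.left ⁻¹ᵁ V from hy)
      exact ⟨W, hW, hWV, x, hxW, rfl⟩
    choose W hW hWV hyW using hcov
    obtain ⟨t, ht⟩ := hV.isCompact.elim_finite_subcover (fun y : (V : Set X.left) => q.left '' W y.1 y.2)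
      (fun y => q.left.isOpenMap _ (W y.1 y.2).2) (fun y hy => Set.mem_iUnion.2 ⟨⟨y, hy⟩, hyW y hy⟩)
    have hc : IsCompact (⋃ y ∈ t, (W y.1 y.2 : Set G.left)) := t.isCompact_biUnion fun y _ => (hW _ _).isCompact
    have e : pullback.snd q.left q.left '' (pullback.fst q.left q.left ⁻¹' ⋃ y ∈ t, (W y.1 y.2 : Set G.left)) =
        q.left ⁻¹' (V : Set X.left) := by
      ext x
      constructor
      · rintro ⟨z, hz, rfl⟩
        obtain ⟨y, -, hy⟩ := Set.mem_iUnion₂.1 hz
        show q.left (pullback.snd q.left q.left z) ∈ V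
        rw [← Scheme.Hom.comp_apply, ← pullback.condition, Scheme.Hom.comp_apply]
        exact hWV _ _ hy
      · intro hx
        obtain ⟨y, hy, w, hw, hwx⟩ := Set.mem_iUnion₂.1 (ht (show q.left x ∈ (V : Set X.left) from hx))
        obtain ⟨z, hz1, hz2⟩ := Scheme.Pullback.exists_preimage_pullback w x hwx
        exact ⟨z, Set.mem_iUnion₂.2 ⟨y, hy, by rw [hz1]; exact hw⟩, hz2⟩
    show IsCompact (q.left ⁻¹' (V : Set X.left))
    rw [← e]
    exact (QuasiCompact.isCompact_preimage (f := pullback.fst q.left q.left) _ (isOpen_biUnion fun y _ => (W y.1 y.2).2) hc).image (pullback.snd q.left q.left).continuous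
  haveI := EtFound.fpqc_isAffineHom.{u}
  exact ⟨inferInstance, MorphismProperty.of_isPullback_of_descendsAlong (P := @IsAffineHom)
    (Q := @Surjective ⊓ @Flat ⊓ @QuasiCompact) (IsPullback.of_hasPullback q.left q.left)
    ⟨⟨inferInstance, inferInstance⟩, inferInstance⟩ hfst⟩

variable [LocallyOfFiniteType G.hom] [LocallyOfFiniteType Q.hom]

/-- A quasi-affine homomorphism is affine. -/
theorem isAffineHom_of_isQuasiAffine (f : G ⟶ Q) [IsMonHom f] (hf : Mor2.IsQuasiAffine f.left) :
    IsAffineHom f.left := by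
  haveI := GrpSchLib.AntiAffine.isSeparated_grp Q
  haveI : QuasiCompact f.left := hf.1
  obtain ⟨N, hNg, i, hi, hicl, hnorm, hk⟩ := GrpSchLib.exists_kernel f
  letI := hNg; haveI := hi; haveI := hicl
  haveI : LocallyOfFiniteType N.hom := by rw [← Over.w i]; infer_instance
  haveI : Mono i := Over.mono_of_mono_left i
  -- the kernel is quasi-affine, hence affine
  haveI : N.left.IsQuasiAffine := by
    obtain ⟨V, hV, hVe, -⟩ := exists_isAffineOpen_mem_and_subset
      (show η[Q].left (IsLocalRing.closedPoint k) ∈ (⊤ : Q.left.Opens) from trivial)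
    haveI := hf.2 V hV
    have hr : Set.range i.left ⊆ Set.range (f.left ⁻¹ᵁ V).ι := by
      rw [Scheme.Opens.range_ι]
      rintro _ ⟨n, rfl⟩
      show f.left (i.left n) ∈ V
      rw [← Scheme.Hom.comp_apply, ← Over.comp_left, hk.w, Over.comp_left, Scheme.Hom.comp_apply]
      exact (Subsingleton.elim (α := Spec (CommRingCat.of k)) _ ((toUnit N).left n)) ▸ hVe
    let l := IsOpenImmersion.lift (f.left ⁻¹ᵁ V).ι i.left hr
    haveI : IsClosedImmersion (l ≫ (f.left ⁻¹ᵁ V).ι) := by rw [IsOpenImmersion.lift_fac]; exact hicl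
    haveI : IsClosedImmersion l := IsClosedImmersion.of_comp l (f.left ⁻¹ᵁ V).ι
    exact Scheme.IsQuasiAffine.of_isAffineHom l
  haveI : QuasiCompact N.hom := (quasiCompact_iff_compactSpace N.hom).2 inferInstance
  haveI : IsAffine N.left := S3020.result k N
  obtain ⟨X, hXg, q, hq, hq1, hq2, hq3, hXft, hc, hkq⟩ := GrpQuotLib.exists_quotientGrp i hnorm
  letI := hXg; haveI := hq; haveI := hq1; haveI := hq2; haveI := hq3; haveI := hXft
  obtain ⟨hqc, hqaff⟩ := isAffineHom_quot i q hkq
  have hcov : FpqcDescLib.Covers q.left :=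
    FpqcDescLib.covers_of_isCovering (FpqcDescLib.isCovering_of_lfp q.left)
  obtain ⟨m, hm, -⟩ := hcov.over_desc f fun T a b e => by
    obtain ⟨h, rfl⟩ := (hc T a b).1 e
    rw [MonObj.mul_comp, Category.assoc, hk.w, ← Category.assoc, comp_toUnit]
    exact (_root_.mul_one (a ≫ f)).symm
  haveI : Epi q := hcov.over_epi
  haveI : IsMonHom m := by
    refine ⟨?_, ?_⟩
    · rw [← IsMonHom.one_hom q, Category.assoc, hm, IsMonHom.one_hom f]
    · haveI : Epi (q ▷ G) := (FpqcDescLib.covers_whiskerRight hcov G).over_epi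
      haveI : Epi (X ◁ q) := (FpqcDescLib.covers_whiskerLeft hcov X).over_epi
      haveI : Epi (q ⊗ₘ q) := by
        rw [show q ⊗ₘ q = q ▷ G ≫ X ◁ q by ext <;> simp]
        infer_instance
      rw [← cancel_epi (q ⊗ₘ q), ← Category.assoc, ← IsMonHom.mul_hom q, Category.assoc, hm,
        IsMonHom.mul_hom f, tensorHom_comp_tensorHom_assoc, hm]
  haveI : Mono m := by
    have h1 : ∀ {T : Over (Spec (.of k))} (x : T ⟶ X), x ≫ m = 1 → x = 1 := fun {T} x hx => by
      have hu := hcov.over_pullback x (pullback.fst x q) (pullback.snd x q) (IsPullback.of_hasPullback x q)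
      haveI : Epi (pullback.fst x q) := hu.over_epi
      have hg : pullback.snd x q ≫ f = 1 := by
        rw [← hm, ← pullback.condition_assoc, hx, MonObj.comp_one]
      let n := hk.lift (pullback.snd x q) (toUnit _) hg
      have hn : n ≫ i = pullback.snd x q := hk.lift_fst _ _ _
      have hiq : i ≫ q = 1 := hkq.w
      rw [← cancel_epi (pullback.fst x q), pullback.condition, MonObj.comp_one, ← hn, Category.assoc,
        hiq, MonObj.comp_one]
    refine ⟨fun a b e => ?_⟩
    have := h1 (a * b⁻¹) (by rw [MonObj.mul_comp, GrpObj.inv_comp, e, mul_inv_cancel])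
    exact mul_inv_eq_one.1 this
  haveI : QuasiCompact m.left := by
    haveI : QuasiCompact (q.left ≫ m.left) := by rw [← Over.comp_left, hm]; infer_instance
    exact AlgSpLib.quasiCompact_of_comp_surjective q.left m.left
  haveI : IsClosedImmersion m.left := S3036.result k X Q m
  rw [← hm, Over.comp_left]
  haveI := hqaff
  infer_instance

end Groth.Agent.GrpFieldLib.QAff
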