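import Mathlib
import Groth.Agent.UnivOpen.UnibranchAlg

/-!
# Going down along a graph for a quasi-finite algebra over a polynomial ring
-/

set_option autoImplicit false
set_option linter.style.haveILetI false
set_option linter.style.setOption false

open TensorProduct

namespace Groth.Agent.GrpFieldLib

universe u

/-- A field containing a domain is flat over it. -/
theorem flat_of_injective_field {D K : Type u} [CommRing D] [IsDomain D] [Field K] [Algebra D K]
    (h : Function.Injective (algebraMap D K)) : Module.Flat D K := by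
  letI : Algebra (FractionRing D) K := (IsFractionRing.lift h).toAlgebra
  haveI : IsScalarTower D (FractionRing D) K :=
    IsScalarTower.of_algebraMap_eq fun d => (IsFractionRing.lift_algebraMap h d).symm
  haveI : Module.Flat D (FractionRing D) := IsLocalization.flat _ (nonZeroDivisors D)
  exact Module.Flat.trans D (FractionRing D) K

/-- Primes of `A ⊗ K` below a given field valued point, with prescribed trace on `A`. -/
theorem exists_prime_tensor_le {D A K L : Type u} [CommRing D] [IsDomain D] [CommRing A] [Field K]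
    [Field L] [Algebra D A] [Algebra D K] (hinj : Function.Injective (algebraMap D K))
    (f : A →+* L) (g : K →+* L) (hfg : f.comp (algebraMap D A) = g.comp (algebraMap D K))
    (p : Ideal A) [p.IsPrime] (hp : p ≤ RingHom.ker f) :
    ∃ (Φ : A ⊗[D] K →+* L) (q : Ideal (A ⊗[D] K)), (∀ a k, Φ (a ⊗ₜ k) = f a * g k) ∧
      q.IsPrime ∧ q ≤ RingHom.ker Φ ∧ ∀ a, a ⊗ₜ[D] (1 : K) ∈ q ↔ a ∈ p := by
  letI : Algebra D L := (f.comp (algebraMap D A)).toAlgebra
  let fA : A →ₐ[D] L := { f with commutes' := fun _ => rfl }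
  let gK : K →ₐ[D] L := { g with commutes' := fun d => (RingHom.congr_fun hfg d).symm }
  let Φ : A ⊗[D] K →ₐ[D] L := Algebra.TensorProduct.lift fA gK fun _ _ => .all _ _
  have hΦ : ∀ a k, Φ (a ⊗ₜ k) = f a * g k := fun a k => Algebra.TensorProduct.lift_tmul fA gK _ a k
  haveI : Module.Flat D K := flat_of_injective_field hinj
  haveI : Module.Flat A (A ⊗[D] K) := inferInstance
  let Q : Ideal (A ⊗[D] K) := RingHom.ker Φ.toRingHom
  haveI : Q.IsPrime := RingHom.ker_isPrime _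
  have hle : p ≤ Q.under A := fun a ha => by
    show Φ (algebraMap A (A ⊗[D] K) a) = 0
    rw [show algebraMap A (A ⊗[D] K) a = a ⊗ₜ 1 from rfl, hΦ, RingHom.mem_ker.1 (hp ha), zero_mul]
  obtain ⟨q, hqQ, hq, hqp⟩ := Ideal.exists_ideal_le_liesOver_of_le (S := A ⊗[D] K) (q := Q.under A) Q hle
  refine ⟨Φ.toRingHom, q, hΦ, hq, hqQ, fun a => ?_⟩
  rw [hqp.over]
  rfl

section Tensor

variable {R B V : Type u} [CommRing R] [CommRing B] [CommRing V] [Algebra R B] [Algebra R V]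

theorem tensor_ringHom_ext {E : Type u} [CommRing E] {f g : V ⊗[R] B →+* E}
    (hV : ∀ v, f (v ⊗ₜ 1) = g (v ⊗ₜ 1)) (hB : ∀ b, f (1 ⊗ₜ b) = g (1 ⊗ₜ b)) : f = g := by
  refine RingHom.ext fun t => ?_
  induction t using TensorProduct.induction_on with
  | zero => rw [map_zero, map_zero]
  | tmul v b =>
    rw [show v ⊗ₜ[R] b = (v ⊗ₜ 1) * (1 ⊗ₜ b) by rw [Algebra.TensorProduct.tmul_mul_tmul, mul_one, one_mul],
      map_mul, map_mul, hV, hB]
  | add a b ha hb => rw [map_add, map_add, ha, hb]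

theorem exists_tensor_lift {E : Type u} [CommRing E] (fV : V →+* E) (fB : B →+* E)
    (h : ∀ r, fV (algebraMap R V r) = fB (algebraMap R B r)) :
    ∃ γ : V ⊗[R] B →+* E, (∀ v, γ (v ⊗ₜ 1) = fV v) ∧ ∀ b, γ (1 ⊗ₜ b) = fB b := by
  letI : Algebra R E := (fV.comp (algebraMap R V)).toAlgebra
  let a : V →ₐ[R] E := { fV with commutes' := fun _ => rfl }
  let b : B →ₐ[R] E := { fB with commutes' := fun r => (h r).symm }
  refine ⟨(Algebra.TensorProduct.lift a b fun _ _ => .all _ _).toRingHom, fun v => ?_, fun x => ?_⟩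
  · show Algebra.TensorProduct.lift a b _ (v ⊗ₜ 1) = _
    rw [Algebra.TensorProduct.lift_tmul, map_one, mul_one]; rfl
  · show Algebra.TensorProduct.lift a b _ (1 ⊗ₜ x) = _
    rw [Algebra.TensorProduct.lift_tmul, map_one, one_mul]; rfl

theorem exists_C_mul_eq {ι : Type u} [IsDomain V] [ValuationRing V] {f : MvPolynomial ι V} (hf : f ≠ 0) :
    ∃ (c : V) (f₀ : MvPolynomial ι V) (d : ι →₀ ℕ), c ≠ 0 ∧ f = MvPolynomial.C c * f₀ ∧ f₀.coeff d = 1 := by
  have key : ∀ s : Finset (ι →₀ ℕ), s.Nonempty → ∃ d ∈ s, ∀ e ∈ s, f.coeff d ∣ f.coeff e := by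
    intro s hs
    induction hs using Finset.Nonempty.cons_induction with
    | singleton a => exact ⟨a, Finset.mem_singleton_self a, fun e he => by rw [Finset.mem_singleton.1 he]⟩
    | cons a s has hs ih =>
      obtain ⟨d, hd, hdall⟩ := ih
      rcases ValuationRing.dvd_total (f.coeff a) (f.coeff d) with h | h
      · refine ⟨a, Finset.mem_cons_self a s, fun e he => ?_⟩
        rcases Finset.mem_cons.1 he with rfl | he
        · exact dvd_rfl
        · exact h.trans (hdall e he)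
      · refine ⟨d, Finset.mem_cons.2 (Or.inr hd), fun e he => ?_⟩
        rcases Finset.mem_cons.1 he with rfl | he
        · exact h
        · exact hdall e he
  obtain ⟨d, hd, hall⟩ := key f.support (MvPolynomial.support_nonempty.2 hf)
  have hc : f.coeff d ≠ 0 := MvPolynomial.mem_support_iff.1 hd
  obtain ⟨f₀, hf₀⟩ : MvPolynomial.C (f.coeff d) ∣ f := (MvPolynomial.C_dvd_iff_dvd_coeff _ _).2 fun e => by
    by_cases he : e ∈ f.support
    · exact hall e he
    · rw [MvPolynomial.notMem_support_iff.1 he]; exact dvd_zero _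
  refine ⟨f.coeff d, f₀, d, hc, hf₀, mul_left_cancel₀ hc ?_⟩
  rw [mul_one, ← MvPolynomial.coeff_C_mul, ← hf₀]

end Tensor

section Core

variable {R B V : Type u} [CommRing R] [CommRing B] [CommRing V] [Algebra R B] [Algebra R V]
  [IsDomain V] [ValuationRing V] {ι : Type u}

/-- In the closed fibre: a prime over `z` below `P`. -/
theorem exists_over_fibre_point (P : Ideal (V ⊗[R] B)) [P.IsPrime]
    (hPV : ∀ v : V, v ⊗ₜ[R] (1 : B) ∈ P ↔ v ∈ IsLocalRing.maximalIdeal V)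
    (z : Ideal B) [z.IsPrime] (hzP : ∀ b ∈ z, (1 : V) ⊗ₜ[R] b ∈ P)
    (hzR : z.comap (algebraMap R B) = (IsLocalRing.maximalIdeal V).comap (algebraMap R V)) :
    ∃ C : Ideal (V ⊗[R] B), C.IsPrime ∧ C ≤ P ∧ (∀ b, (1 : V) ⊗ₜ[R] b ∈ C ↔ b ∈ z) ∧
      ∀ v : V, v ⊗ₜ[R] (1 : B) ∈ C ↔ v ∈ IsLocalRing.maximalIdeal V := by
  let m := IsLocalRing.maximalIdeal V
  let s := m.comap (algebraMap R V)
  letI : Field (V ⧸ m) := Ideal.Quotient.field m
  let A := B ⧸ s.map (algebraMap R B)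
  letI : Algebra (R ⧸ s) A := (Ideal.quotientMap _ (algebraMap R B) Ideal.le_comap_map).toAlgebra
  letI : Algebra (R ⧸ s) (V ⧸ m) := (Ideal.quotientMap m (algebraMap R V) le_rfl).toAlgebra
  haveI : s.IsPrime := Ideal.IsPrime.comap _
  let L := FractionRing ((V ⊗[R] B) ⧸ P)
  let ΦP : V ⊗[R] B →+* L := (algebraMap _ L).comp (Ideal.Quotient.mk P)
  have hΦP : ∀ t, ΦP t = 0 ↔ t ∈ P := fun t => by
    show algebraMap _ L (Ideal.Quotient.mk P t) = 0 ↔ _
    rw [map_eq_zero_iff _ (IsFractionRing.injective _ L), Ideal.Quotient.eq_zero_iff_mem]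
  let g : V ⧸ m →+* L := Ideal.Quotient.lift m (ΦP.comp Algebra.TensorProduct.includeLeftRingHom)
    fun v hv => (hΦP _).2 ((hPV v).2 hv)
  have hsB : ∀ b ∈ s.map (algebraMap R B), b ∈ z := by
    have : s.map (algebraMap R B) ≤ z := Ideal.map_le_iff_le_comap.2 (le_of_eq hzR.symm)
    exact fun b hb => this hb
  let f : A →+* L := Ideal.Quotient.lift _
    (ΦP.comp (Algebra.TensorProduct.includeRight : B →ₐ[R] V ⊗[R] B).toRingHom)
    fun b hb => (hΦP _).2 (hzP b (hsB b hb))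
  let p : Ideal A := RingHom.ker (Ideal.Quotient.lift _ (Ideal.Quotient.mk z)
    fun b hb => Ideal.Quotient.eq_zero_iff_mem.2 (hsB b hb) : A →+* B ⧸ z)
  haveI : p.IsPrime := RingHom.ker_isPrime _
  have hp : ∀ b, Ideal.Quotient.mk _ b ∈ p ↔ b ∈ z := fun b => by
    show Ideal.Quotient.lift _ (Ideal.Quotient.mk z) _ (Ideal.Quotient.mk _ b) = 0 ↔ _
    rw [Ideal.Quotient.lift_mk, Ideal.Quotient.eq_zero_iff_mem]
  have hcompat : ∀ r, ΦP ((1 : V) ⊗ₜ[R] algebraMap R B r) = ΦP (algebraMap R V r ⊗ₜ[R] (1 : B)) := fun r => by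
    rw [Algebra.algebraMap_eq_smul_one, Algebra.algebraMap_eq_smul_one, TensorProduct.smul_tmul]
  obtain ⟨Φ, q, hΦ, hq, hqle, hqA⟩ := exists_prime_tensor_le (D := R ⧸ s) (A := A) (K := V ⧸ m)
    Ideal.quotientMap_injective f g (Ideal.Quotient.ringHom_ext (RingHom.ext hcompat)) p (fun a ha => by
      obtain ⟨b, rfl⟩ := Ideal.Quotient.mk_surjective a
      exact (hΦP _).2 (hzP b ((hp b).1 ha)))
  obtain ⟨γ, hγV, hγB⟩ := exists_tensor_lift (R := R)
    ((Algebra.TensorProduct.includeRight : (V ⧸ m) →ₐ[R ⧸ s] A ⊗[R ⧸ s] (V ⧸ m)).toRingHom.comp (Ideal.Quotient.mk m))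
    ((Algebra.TensorProduct.includeLeftRingHom : A →+* A ⊗[R ⧸ s] (V ⧸ m)).comp (Ideal.Quotient.mk (s.map (algebraMap R B))))
    (fun r => ((Algebra.TensorProduct.includeRight : (V ⧸ m) →ₐ[R ⧸ s] A ⊗[R ⧸ s] (V ⧸ m)).commutes
      (Ideal.Quotient.mk s r)).trans rfl)
  have hΦγ : Φ.comp γ = ΦP := by
    refine tensor_ringHom_ext (fun v => ?_) (fun b => ?_)
    · rw [RingHom.comp_apply, hγV]
      exact (hΦ 1 _).trans ((congrArg (· * _) (map_one f)).trans (one_mul _))
    · rw [RingHom.comp_apply, hγB]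
      exact (hΦ _ 1).trans ((congrArg (_ * ·) (map_one g)).trans (mul_one _))
  refine ⟨q.comap γ, Ideal.IsPrime.comap _, fun t ht => (hΦP t).1 ?_, fun b => ?_, fun v => ?_⟩
  · rw [← hΦγ]; exact hqle ht
  · rw [Ideal.mem_comap, hγB]
    exact (hqA _).trans (hp b)
  · rw [Ideal.mem_comap, hγV]
    constructor
    · intro h
      by_contra hv
      have hu : IsUnit v := by simpa using hv
      exact hq.ne_top (Ideal.eq_top_of_isUnit_mem _ h ((hu.map (Ideal.Quotient.mk m)).map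
        (Algebra.TensorProduct.includeRight : (V ⧸ m) →ₐ[R ⧸ s] A ⊗[R ⧸ s] (V ⧸ m)).toRingHom))
    · intro h
      show (1 : A) ⊗ₜ[R ⧸ s] (Ideal.Quotient.mk m v) ∈ q
      rw [Ideal.Quotient.eq_zero_iff_mem.2 h, TensorProduct.tmul_zero]
      exact q.zero_mem

/-- In the closed fibre: a prime over `z` and over the generic point of affine space. -/
theorem exists_over_generic (φ : MvPolynomial ι R →ₐ[R] B) (C : Ideal (V ⊗[R] B)) [C.IsPrime]
    (z : Ideal B) [z.IsPrime] (hCB : ∀ b, (1 : V) ⊗ₜ[R] b ∈ C ↔ b ∈ z)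
    (hCV : ∀ v : V, v ⊗ₜ[R] (1 : B) ∈ C ↔ v ∈ IsLocalRing.maximalIdeal V)
    (hzT : ∀ p : MvPolynomial ι R, φ p ∈ z → ∀ e, p.coeff e ∈ (IsLocalRing.maximalIdeal V).comap (algebraMap R V))
    (hzR : z.comap (algebraMap R B) = (IsLocalRing.maximalIdeal V).comap (algebraMap R V)) :
    ∃ C₂ : Ideal (V ⊗[R] B), C₂.IsPrime ∧ C₂ ≤ C ∧ (∀ b, (1 : V) ⊗ₜ[R] b ∈ C₂ ↔ b ∈ z) ∧
      ∀ p : MvPolynomial ι V, MvPolynomial.eval₂Hom Algebra.TensorProduct.includeLeftRingHom
          (fun i => (1 : V) ⊗ₜ[R] φ (MvPolynomial.X i)) p ∈ C₂ ↔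
        ∀ e, p.coeff e ∈ IsLocalRing.maximalIdeal V := by
  let m := IsLocalRing.maximalIdeal V
  letI : Field (V ⧸ m) := Ideal.Quotient.field m
  let s' : Ideal (MvPolynomial ι R) := z.comap φ.toRingHom
  haveI : s'.IsPrime := Ideal.IsPrime.comap _
  let res : R →+* V ⧸ m := (Ideal.Quotient.mk m).comp (algebraMap R V)
  let A := MvPolynomial ι (V ⧸ m)
  let K := FractionRing (B ⧸ z)
  letI : Algebra (MvPolynomial ι R ⧸ s') A := (Ideal.Quotient.lift s' (MvPolynomial.map res) fun p hp =>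
    MvPolynomial.ext _ _ fun e => by
      rw [MvPolynomial.coeff_map, MvPolynomial.coeff_zero]
      exact Ideal.Quotient.eq_zero_iff_mem.2 (hzT p hp e)).toAlgebra
  letI : Algebra (MvPolynomial ι R ⧸ s') K :=
    ((algebraMap (B ⧸ z) K).comp (Ideal.quotientMap z φ.toRingHom le_rfl)).toAlgebra
  let L := FractionRing ((V ⊗[R] B) ⧸ C)
  let ΦC : V ⊗[R] B →+* L := (algebraMap _ L).comp (Ideal.Quotient.mk C)
  have hΦC : ∀ t, ΦC t = 0 ↔ t ∈ C := fun t => by
    show algebraMap _ L (Ideal.Quotient.mk C t) = 0 ↔ _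
    rw [map_eq_zero_iff _ (IsFractionRing.injective _ L), Ideal.Quotient.eq_zero_iff_mem]
  let g₀ : B ⧸ z →+* L := Ideal.Quotient.lift z
    (ΦC.comp (Algebra.TensorProduct.includeRight : B →ₐ[R] V ⊗[R] B).toRingHom)
    fun b hb => (hΦC _).2 ((hCB b).2 hb)
  have hg₀ : Function.Injective g₀ := (injective_iff_map_eq_zero g₀).2 fun x hx => by
    obtain ⟨b, rfl⟩ := Ideal.Quotient.mk_surjective x
    exact Ideal.Quotient.eq_zero_iff_mem.2 ((hCB b).1 ((hΦC _).1 hx))
  let g : K →+* L := IsFractionRing.lift hg₀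
  let gV : V ⧸ m →+* L := Ideal.Quotient.lift m (ΦC.comp Algebra.TensorProduct.includeLeftRingHom)
    fun v hv => (hΦC _).2 ((hCV v).2 hv)
  let f : A →+* L := MvPolynomial.eval₂Hom gV fun i => ΦC ((1 : V) ⊗ₜ[R] φ (MvPolynomial.X i))
  have hgb : ∀ b, g (algebraMap (B ⧸ z) K (Ideal.Quotient.mk z b)) = ΦC ((1 : V) ⊗ₜ[R] b) := fun b => by
    rw [IsFractionRing.lift_algebraMap]; rfl
  obtain ⟨Φ, q, hΦ, hq, hqle, hqA⟩ := exists_prime_tensor_le (D := MvPolynomial ι R ⧸ s') (A := A) (K := K)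
    ((IsFractionRing.injective (B ⧸ z) K).comp Ideal.quotientMap_injective) f g (by
      refine Ideal.Quotient.ringHom_ext (MvPolynomial.ringHom_ext (fun r => ?_) (fun i => ?_))
      · show f (MvPolynomial.map res (MvPolynomial.C r)) =
          g (algebraMap (B ⧸ z) K (Ideal.Quotient.mk z (φ (MvPolynomial.C r))))
        rw [hgb, MvPolynomial.map_C]
        show MvPolynomial.eval₂Hom gV _ (MvPolynomial.C (res r)) = _
        rw [MvPolynomial.eval₂Hom_C]
        show ΦC (algebraMap R V r ⊗ₜ[R] (1 : B)) = _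
        rw [← MvPolynomial.algebraMap_eq, φ.commutes, Algebra.algebraMap_eq_smul_one,
          Algebra.algebraMap_eq_smul_one, TensorProduct.smul_tmul]
      · show f (MvPolynomial.map res (MvPolynomial.X i)) =
          g (algebraMap (B ⧸ z) K (Ideal.Quotient.mk z (φ (MvPolynomial.X i))))
        rw [hgb, MvPolynomial.map_X]
        exact MvPolynomial.eval₂Hom_X' _ _ _) ⊥ bot_le
  let incA : A →+* A ⊗[MvPolynomial ι R ⧸ s'] K := Algebra.TensorProduct.includeLeftRingHom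
  let incK : K →+* A ⊗[MvPolynomial ι R ⧸ s'] K :=
    (Algebra.TensorProduct.includeRight : K →ₐ[MvPolynomial ι R ⧸ s'] _).toRingHom
  have hcomm : ∀ p : MvPolynomial ι R, incA (MvPolynomial.map res p) =
      incK (algebraMap (B ⧸ z) K (Ideal.Quotient.mk z (φ p))) := fun p =>
    (((Algebra.TensorProduct.includeRight : K →ₐ[MvPolynomial ι R ⧸ s'] A ⊗[MvPolynomial ι R ⧸ s'] K)).commutes
      (Ideal.Quotient.mk s' p)).symm
  letI : CommRing (A ⊗[MvPolynomial ι R ⧸ s'] K) := Algebra.TensorProduct.instCommRing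
  obtain ⟨γ, hγV, hγB⟩ := exists_tensor_lift (R := R) (E := A ⊗[MvPolynomial ι R ⧸ s'] K)
    (incA.comp (MvPolynomial.C.comp (Ideal.Quotient.mk m)))
    (incK.comp ((algebraMap (B ⧸ z) K).comp (Ideal.Quotient.mk z))) (fun r => by
      have := hcomm (MvPolynomial.C r)
      rw [MvPolynomial.map_C, show φ (MvPolynomial.C r) = algebraMap R B r from φ.commutes r] at this
      exact this)
  have hΦγ : Φ.comp γ = ΦC := by
    refine tensor_ringHom_ext (fun v => ?_) (fun b => ?_)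
    · rw [RingHom.comp_apply, hγV]
      refine (hΦ _ 1).trans ?_
      rw [map_one, mul_one]
      exact MvPolynomial.eval₂Hom_C _ _ _
    · rw [RingHom.comp_apply, hγB]
      refine (hΦ 1 _).trans ?_
      rw [map_one, one_mul, RingHom.comp_apply, hgb]
  refine ⟨q.comap γ, Ideal.IsPrime.comap _, fun t ht => (hΦC t).1 (by rw [← hΦγ]; exact hqle ht),
    fun b => ?_, fun p => ?_⟩
  · rw [Ideal.mem_comap, hγB]
    constructor
    · intro h
      rw [← Ideal.Quotient.eq_zero_iff_mem]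
      by_contra hb
      have hu : IsUnit (algebraMap (B ⧸ z) K (Ideal.Quotient.mk z b)) :=
        ((map_ne_zero_iff _ (IsFractionRing.injective (B ⧸ z) K)).2 hb).isUnit
      exact hq.ne_top (Ideal.eq_top_of_isUnit_mem _ h (hu.map incK))
    · intro h
      rw [RingHom.comp_apply, RingHom.comp_apply, Ideal.Quotient.eq_zero_iff_mem.2 h, map_zero, map_zero]
      exact q.zero_mem
  · have hψ : γ.comp (MvPolynomial.eval₂Hom Algebra.TensorProduct.includeLeftRingHom
        (fun i => (1 : V) ⊗ₜ[R] φ (MvPolynomial.X i))) = incA.comp (MvPolynomial.map (Ideal.Quotient.mk m)) := by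
      refine MvPolynomial.ringHom_ext (fun v => ?_) (fun i => ?_)
      · rw [RingHom.comp_apply, RingHom.comp_apply, MvPolynomial.eval₂Hom_C, MvPolynomial.map_C]
        exact hγV v
      · rw [RingHom.comp_apply, RingHom.comp_apply, MvPolynomial.eval₂Hom_X', MvPolynomial.map_X]
        have := hcomm (MvPolynomial.X i)
        rw [MvPolynomial.map_X] at this
        rw [hγB, this]
        rfl
    rw [Ideal.mem_comap, ← RingHom.comp_apply γ, hψ]
    refine (hqA _).trans ?_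
    rw [Ideal.mem_bot, MvPolynomial.ext_iff]
    exact forall_congr' fun e => by
      rw [MvPolynomial.coeff_map, MvPolynomial.coeff_zero, Ideal.Quotient.eq_zero_iff_mem]

/-- The main algebraic statement: a generization on the graph of `a`. -/
theorem exists_le_graph (φ : MvPolynomial ι R →ₐ[R] B) (hqf : φ.toRingHom.QuasiFinite)
    [Algebra.FiniteType R B] (a : ι → V) (P : Ideal (V ⊗[R] B)) [P.IsPrime]
    (hPV : ∀ v : V, v ⊗ₜ[R] (1 : B) ∈ P ↔ v ∈ IsLocalRing.maximalIdeal V)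
    (hPa : ∀ i, a i ⊗ₜ[R] (1 : B) - (1 : V) ⊗ₜ[R] φ (MvPolynomial.X i) ∈ P)
    (z : Ideal B) [z.IsPrime] (hzP : ∀ b ∈ z, (1 : V) ⊗ₜ[R] b ∈ P)
    (hzR : z.comap (algebraMap R B) = (IsLocalRing.maximalIdeal V).comap (algebraMap R V))
    (hzT : ∀ p : MvPolynomial ι R, φ p ∈ z → ∀ e, p.coeff e ∈ (IsLocalRing.maximalIdeal V).comap (algebraMap R V))
    (hopen : ∀ c : Ideal (V ⊗[R] B), c.IsPrime → (∀ b, (1 : V) ⊗ₜ[R] b ∈ c ↔ b ∈ z) →
      (∀ v : V, v ⊗ₜ[R] (1 : B) ∈ c ↔ v ∈ IsLocalRing.maximalIdeal V) →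
      ∀ h ∉ c, ∃ q : Ideal (V ⊗[R] B), q.IsPrime ∧ h ∉ q ∧ ∀ v : V, v ⊗ₜ[R] (1 : B) ∈ q → v = 0) :
    ∃ q : Ideal (V ⊗[R] B), q.IsPrime ∧ q ≤ P ∧ (∀ v : V, v ⊗ₜ[R] (1 : B) ∈ q → v = 0) ∧
      ∀ i, a i ⊗ₜ[R] (1 : B) - (1 : V) ⊗ₜ[R] φ (MvPolynomial.X i) ∈ q := by
  obtain ⟨C, hC, hCP, hCB, hCV⟩ := exists_over_fibre_point P hPV z hzP hzR
  obtain ⟨C₂, hC₂, hC₂C, hC₂B, hC₂ψ⟩ := exists_over_generic φ C z hCB hCV hzT hzR
  haveI := hC₂
  let ψ : MvPolynomial ι V →+* V ⊗[R] B := MvPolynomial.eval₂Hom Algebra.TensorProduct.includeLeftRingHom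
    fun i => (1 : V) ⊗ₜ[R] φ (MvPolynomial.X i)
  have hψC : ∀ v, ψ (MvPolynomial.C v) = v ⊗ₜ[R] (1 : B) := fun v => MvPolynomial.eval₂Hom_C _ _ v
  have hψX : ∀ i, ψ (MvPolynomial.X i) = (1 : V) ⊗ₜ[R] φ (MvPolynomial.X i) := fun i =>
    MvPolynomial.eval₂Hom_X' _ _ i
  have hC₂V : ∀ v : V, v ⊗ₜ[R] (1 : B) ∈ C₂ ↔ v ∈ IsLocalRing.maximalIdeal V := fun v => by
    rw [← hψC, hC₂ψ]
    refine ⟨fun h => by simpa using h 0, fun h e => ?_⟩
    classical
    rw [MvPolynomial.coeff_C]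
    split_ifs
    · exact h
    · exact (IsLocalRing.maximalIdeal V).zero_mem
  -- a prime `E ≤ C₂` over the generic point of the base
  let S : Submonoid (V ⊗[R] B) :=
    { carrier := {t | ∃ h ∉ C₂, ∃ v : V, v ≠ 0 ∧ t = h * (v ⊗ₜ[R] (1 : B))}
      one_mem' := ⟨1, hC₂.one_notMem, 1, one_ne_zero, (one_mul _).symm⟩
      mul_mem' := by
        rintro _ _ ⟨h, hh, v, hv, rfl⟩ ⟨h', hh', v', hv', rfl⟩
        refine ⟨h * h', hC₂.mul_notMem hh hh', v * v', mul_ne_zero hv hv', ?_⟩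
        rw [mul_mul_mul_comm, Algebra.TensorProduct.tmul_mul_tmul, one_mul] }
  have hS0 : (0 : V ⊗[R] B) ∉ S := by
    rintro ⟨h, hh, v, hv, he⟩
    obtain ⟨q, hq, hhq, hqV⟩ := hopen C₂ hC₂ hC₂B hC₂V h hh
    rcases hq.mem_or_mem (he ▸ q.zero_mem : h * (v ⊗ₜ[R] (1 : B)) ∈ q) with h' | h'
    · exact hhq h'
    · exact hv (hqV v h')
  obtain ⟨E, hE, -, hES⟩ := Ideal.exists_le_prime_disjoint (⊥ : Ideal (V ⊗[R] B)) S
    (Set.disjoint_left.2 fun t ht htS => hS0 (by rwa [Ideal.mem_bot.1 ht] at htS))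
  haveI := hE
  have hEC : E ≤ C₂ := fun t ht => by
    by_contra hh
    exact Set.disjoint_left.1 hES ht ⟨t, hh, 1, one_ne_zero, (mul_one _).symm⟩
  have hE0 : ∀ p, ψ p ∈ E → p = 0 := by
    intro p hp
    by_contra hne
    obtain ⟨c, p₀, d, hc, rfl, hd⟩ := exists_C_mul_eq hne
    rw [map_mul, hψC] at hp
    rcases hE.mem_or_mem hp with h | h
    · exact Set.disjoint_left.1 hES h ⟨1, hC₂.one_notMem, c, hc, (one_mul _).symm⟩
    · have := (hC₂ψ p₀).1 (hEC h) d
      rw [hd] at this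
      exact (IsLocalRing.maximalIdeal.isMaximal V).ne_top ((Ideal.eq_top_iff_one _).2 this)
  -- the domain `W` over the polynomial ring
  let W := (V ⊗[R] B) ⧸ E
  let mkE : V ⊗[R] B →+* W := Ideal.Quotient.mk E
  letI : Algebra (MvPolynomial ι V) W := (mkE.comp ψ).toAlgebra
  have hinj : Function.Injective (algebraMap (MvPolynomial ι V) W) :=
    (injective_iff_map_eq_zero _).2 fun p hp => hE0 p (Ideal.Quotient.eq_zero_iff_mem.1 hp)
  letI : Algebra (MvPolynomial ι R) B := φ.toRingHom.toAlgebra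
  haveI : IsScalarTower R (MvPolynomial ι R) B := IsScalarTower.of_algebraMap_eq fun r => (φ.commutes r).symm
  haveI : Algebra.QuasiFinite (MvPolynomial ι R) B := hqf
  haveI : Algebra.FiniteType (MvPolynomial ι R) B := Algebra.FiniteType.of_restrictScalars_finiteType R _ _
  letI : Algebra (MvPolynomial ι R) (MvPolynomial ι V) := (MvPolynomial.map (algebraMap R V)).toAlgebra
  letI : Algebra (MvPolynomial ι R) W :=
    ((mkE.comp ψ).comp (MvPolynomial.map (algebraMap R V))).toAlgebra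
  haveI : IsScalarTower (MvPolynomial ι R) (MvPolynomial ι V) W := IsScalarTower.of_algebraMap_eq fun _ => rfl
  let fB : B →ₐ[MvPolynomial ι R] W :=
    { mkE.comp (Algebra.TensorProduct.includeRight : B →ₐ[R] V ⊗[R] B).toRingHom with
      commutes' := fun p => by
        show mkE ((1 : V) ⊗ₜ[R] φ p) = mkE (ψ (MvPolynomial.map (algebraMap R V) p))
        refine congrArg mkE (RingHom.congr_fun (f := (Algebra.TensorProduct.includeRight :
          B →ₐ[R] V ⊗[R] B).toRingHom.comp φ.toRingHom) (g := ψ.comp (MvPolynomial.map (algebraMap R V)))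
          (MvPolynomial.ringHom_ext (fun r => ?_) (fun i => ?_)) p)
        · show (1 : V) ⊗ₜ[R] φ (MvPolynomial.C r) = ψ (MvPolynomial.map _ (MvPolynomial.C r))
          rw [MvPolynomial.map_C, hψC, ← MvPolynomial.algebraMap_eq, φ.commutes,
            Algebra.algebraMap_eq_smul_one, Algebra.algebraMap_eq_smul_one, TensorProduct.smul_tmul]
        · show (1 : V) ⊗ₜ[R] φ (MvPolynomial.X i) = ψ (MvPolynomial.map _ (MvPolynomial.X i))
          rw [MvPolynomial.map_X, hψX] }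
  let ρ : MvPolynomial ι V ⊗[MvPolynomial ι R] B →ₐ[MvPolynomial ι V] W :=
    Algebra.TensorProduct.lift (Algebra.ofId _ _) fB fun _ _ => .all _ _
  have hρ : Function.Surjective ρ := by
    intro w
    obtain ⟨t, rfl⟩ := Ideal.Quotient.mk_surjective w
    induction t using TensorProduct.induction_on with
    | zero => exact ⟨0, map_zero _⟩
    | tmul v b =>
      refine ⟨MvPolynomial.C v ⊗ₜ b, ?_⟩
      rw [Algebra.TensorProduct.lift_tmul]
      show mkE (ψ (MvPolynomial.C v)) * mkE ((1 : V) ⊗ₜ[R] b) = mkE (v ⊗ₜ b)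
      rw [← map_mul, hψC, Algebra.TensorProduct.tmul_mul_tmul, mul_one, one_mul]
    | add s t hs ht =>
      obtain ⟨s', hs'⟩ := hs
      obtain ⟨t', ht'⟩ := ht
      exact ⟨s' + t', by rw [map_add, hs', ht']; rfl⟩
  haveI : Algebra.QuasiFinite (MvPolynomial ι V) W := Algebra.QuasiFinite.of_surjective_algHom ρ hρ
  haveI : Algebra.FiniteType (MvPolynomial ι V) W := Algebra.FiniteType.of_surjective ρ hρ
  have hEP : E ≤ P := hEC.trans (hC₂C.trans hCP)
  let P' : Ideal W := RingHom.ker (Ideal.Quotient.lift E (Ideal.Quotient.mk P)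
    fun t ht => Ideal.Quotient.eq_zero_iff_mem.2 (hEP ht) : W →+* (V ⊗[R] B) ⧸ P)
  haveI : P'.IsPrime := RingHom.ker_isPrime _
  have hP' : ∀ t, mkE t ∈ P' ↔ t ∈ P := fun t => by
    show Ideal.Quotient.lift E _ _ (Ideal.Quotient.mk E t) = 0 ↔ _
    rw [Ideal.Quotient.lift_mk, Ideal.Quotient.eq_zero_iff_mem]
  obtain ⟨r, hr, hrint, hrall⟩ := Algebra.zariskisMainProperty_iff.1
    (Algebra.ZariskisMainProperty.of_finiteType (R := MvPolynomial ι V) P')
  -- going down on the integral closure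
  let W' := integralClosure (MvPolynomial ι V) W
  haveI : IsIntegrallyClosed (MvPolynomial ι V) := UnivOpen.isIntegrallyClosed_mvPolynomial V ι
  haveI : FaithfulSMul (MvPolynomial ι V) W' := (faithfulSMul_iff_algebraMap_injective _ _).2
    fun p q h => hinj (congrArg Subtype.val h)
  let ev : MvPolynomial ι V →+* V := MvPolynomial.eval a
  let Q : Ideal W' := P'.comap (algebraMap W' W)
  haveI : Q.IsPrime := Ideal.IsPrime.comap _
  haveI : (RingHom.ker ev).IsPrime := RingHom.ker_isPrime _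
  have hker : RingHom.ker ev ≤ Q.under (MvPolynomial ι V) := by
    intro p hp
    show mkE (ψ p) ∈ P'
    rw [hP', ← Ideal.Quotient.eq_zero_iff_mem]
    have h1 : (Ideal.Quotient.mk P).comp ψ =
        ((Ideal.Quotient.mk P).comp Algebra.TensorProduct.includeLeftRingHom).comp ev := by
      refine MvPolynomial.ringHom_ext (fun v => ?_) (fun i => ?_)
      · simp only [RingHom.comp_apply, hψC, ev, MvPolynomial.eval_C]; rfl
      · simp only [RingHom.comp_apply, hψX, ev, MvPolynomial.eval_X]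
        exact (Ideal.Quotient.eq.2 (hPa i)).symm
    rw [show Ideal.Quotient.mk P (ψ p) = ((Ideal.Quotient.mk P).comp ψ) p from rfl, h1, RingHom.comp_apply,
      RingHom.mem_ker.1 hp, map_zero]
  obtain ⟨q', hq'Q, hq', hq'over⟩ := Ideal.exists_ideal_le_liesOver_of_le (q := Q.under (MvPolynomial ι V)) Q hker
  let r' : W' := ⟨r, hrint⟩
  have hr' : r' ∉ q' := fun h => hr (hq'Q h)
  choose μ hμ using hrall
  let y : W → W' := fun w => ⟨r ^ μ w * w, hμ w⟩
  have hy : ∀ w, (y w).1 = r ^ μ w * w := fun w => rfl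
  have hpow : ∀ k, r' ^ k ∉ q' := fun k h => hr' (hq'.mem_of_pow_mem k h)
  -- the contraction of the localization
  let J : Ideal W :=
    { carrier := {w | y w ∈ q'}
      zero_mem' := by
        show y 0 ∈ q'
        rw [show y 0 = 0 from Subtype.ext (mul_zero _)]; exact q'.zero_mem
      add_mem' := by
        intro w₁ w₂ h₁ h₂
        have h : r' ^ (μ w₁ + μ w₂) * y (w₁ + w₂) =
            r' ^ (μ (w₁ + w₂) + μ w₂) * y w₁ + r' ^ (μ (w₁ + w₂) + μ w₁) * y w₂ := Subtype.ext (by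
          simp only [Subalgebra.coe_add, Subalgebra.coe_mul, Subalgebra.coe_pow, hy, r', pow_add]
          ring)
        refine (hq'.mem_or_mem (h ▸ q'.add_mem (q'.mul_mem_left _ h₁) (q'.mul_mem_left _ h₂))).resolve_left (hpow _)
      smul_mem' := by
        intro c w hw
        have h : r' ^ (μ c + μ w) * y (c * w) = r' ^ μ (c * w) * (y c * y w) := Subtype.ext (by
          simp only [Subalgebra.coe_mul, Subalgebra.coe_pow, hy, r', pow_add]
          ring)
        refine (hq'.mem_or_mem (h ▸ q'.mul_mem_left _ (q'.mul_mem_left _ hw))).resolve_left (hpow _) }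
  have hJ' : ∀ w' : W', w'.1 ∈ J ↔ w' ∈ q' := fun w' => by
    have h : y w'.1 = r' ^ μ w'.1 * w' := Subtype.ext rfl
    show y w'.1 ∈ q' ↔ _
    rw [h]
    exact ⟨fun h => (hq'.mem_or_mem h).resolve_left (hpow _), fun h => q'.mul_mem_left _ h⟩
  haveI hJ : J.IsPrime := by
    refine Ideal.isPrime_iff.2 ⟨fun h => ?_, fun {w₁ w₂} h => ?_⟩
    · exact hq'.ne_top ((Ideal.eq_top_iff_one _).2 ((hJ' 1).1 (h ▸ Submodule.mem_top)))
    · have e : r' ^ μ (w₁ * w₂) * (y w₁ * y w₂) = r' ^ (μ w₁ + μ w₂) * y (w₁ * w₂) := Subtype.ext (by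
        simp only [Subalgebra.coe_mul, Subalgebra.coe_pow, hy, r', pow_add]
        ring)
      have h2 : r' ^ μ (w₁ * w₂) * (y w₁ * y w₂) ∈ q' := e ▸ q'.mul_mem_left _ (show y (w₁ * w₂) ∈ q' from h)
      exact hq'.mem_or_mem ((hq'.mem_or_mem h2).resolve_left (hpow _))
  have hJP : J ≤ P' := fun w hw => by
    have : r ^ μ w * w ∈ P' := hq'Q (show y w ∈ q' from hw)
    exact ((inferInstance : P'.IsPrime).mem_or_mem this).resolve_left fun h =>
      hr ((inferInstance : P'.IsPrime).mem_of_pow_mem _ h)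
  have hJK : ∀ p, mkE (ψ p) ∈ J ↔ p ∈ RingHom.ker ev := fun p => by
    rw [hq'over.over]
    exact hJ' (algebraMap (MvPolynomial ι V) W' p)
  refine ⟨J.comap mkE, Ideal.IsPrime.comap _, fun t ht => (hP' t).1 (hJP ht), fun v hv => ?_, fun i => ?_⟩
  · rw [Ideal.mem_comap, ← hψC, hJK, RingHom.mem_ker] at hv
    simpa [ev] using hv
  · rw [Ideal.mem_comap, ← hψC, ← hψX, ← map_sub, hJK, RingHom.mem_ker]
    simp [ev]

end Core

end Groth.Agent.GrpFieldLib
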