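import Groth.Prelude.Def_EGA43
import Groth.Prelude.Def_Flat
import Groth.Agent.GrpFieldLib.QFOpenAlg
import Groth.Agent.UnivOpen.Unibranch
import Groth.Agent.FibDim.AffineSpaceFibre
import Groth.Agent.QHomeo.OpenAt
import Groth.Agent.S12442

/-!
# Quasi-finite morphisms to affine spaces at points of universally open components (SGA3 VI_B)
-/

set_option autoImplicit false
set_option linter.style.haveILetI false
set_option linter.style.setOption false

universe u

open AlgebraicGeometry CategoryTheory Limits Topology TensorProduct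

namespace Groth.Agent.GrpFieldLib

variable {X S : Scheme.{u}}

theorem univOpenAt_of_isOpenImmersion {W : Scheme.{u}} (j : W ⟶ X) [IsOpenImmersion j] (w : W) :
    EGA43.IsUnivOpenAt j w :=
  fun _ g x' _ _ hU => (pullback.snd j g).isOpenEmbedding.isOpenMap.image_mem_nhds hU

/-- Points of full relative dimension go to the generic point of the affine fibre. -/
theorem qf_image_generic_of_rd (f : X ⟶ S) [LocallyOfFiniteType f] (n : ℕ)
    (u : X ⟶ 𝔸(ULift.{u} (Fin n); S)) [LocallyQuasiFinite u]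
    (hu : u ≫ (𝔸(ULift.{u} (Fin n); S) ↘ S) = f) (z : X) (hrd : FibDim.rd f z = n)
    (w : 𝔸(ULift.{u} (Fin n); S)) (hw : (𝔸(ULift.{u} (Fin n); S) ↘ S) w = f z) : u z ⤳ w := by
  let q := (𝔸(ULift.{u} (Fin n); S) ↘ S)
  haveI : LocallyOfFiniteType (u ≫ q) := by rw [hu]; infer_instance
  haveI : LocallyOfFiniteType u := locallyOfFiniteType_of_comp u q
  have hqz : q (u z) = f z := by
    rw [← Scheme.Hom.comp_apply, hu]
  have hrq : FibDim.rd q (u z) = n := by
    have h1 := FibDim.rd_comp u q z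
    rw [FibDim.rd_eq_zero_of_quasiFinite u z, add_zero] at h1
    rw [← h1]
    simp only [q, hu, hrd]
  have hmax : FibDim.FibMax q (u z) := by
    intro t ht he
    by_contra hne
    have h1 := FibDim.rd_lt q ht hne he
    have h2 : FibDim.rd q t ≤ n := FibDim.rd_affineSpace_le n t
    omega
  exact FibDim.fibMax_affineSpace n hmax (hw.trans hqz.symm)

/-- The image of the generic point of a component of top dimension is generic in the affine fibre. -/
theorem qf_image_generic (f : X ⟶ S) [LocallyOfFiniteType f] (n : ℕ)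
    (u : X ⟶ 𝔸(ULift.{u} (Fin n); S)) [LocallyQuasiFinite u]
    (hu : u ≫ (𝔸(ULift.{u} (Fin n); S) ↘ S) = f) (s : S)
    (Z : Set ↥(f.base ⁻¹' {s})) (hZ : IsClosed Z)
    (z : X) (hz : z ∈ Subtype.val '' Z ∧ Subtype.val '' Z ⊆ closure {z})
    (hdimZ : topologicalKrullDim ↥Z = n)
    (w : 𝔸(ULift.{u} (Fin n); S)) (hw : (𝔸(ULift.{u} (Fin n); S) ↘ S) w = s) : u z ⤳ w := by
  let q := (𝔸(ULift.{u} (Fin n); S) ↘ S)
  haveI : LocallyOfFiniteType (u ≫ q) := by rw [hu]; infer_instance
  haveI : LocallyOfFiniteType u := locallyOfFiniteType_of_comp u q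
  obtain ⟨⟨⟨z, hzs⟩, hzZ, rfl⟩, hsub⟩ := hz
  have hfz : f z = s := hzs
  have hset : closure {z} ∩ f ⁻¹' {f z} = Subtype.val '' Z := by
    refine Set.Subset.antisymm (fun y hy => ?_) fun y hy => ⟨hsub hy, ?_⟩
    · refine ⟨⟨y, hy.2.trans hfz⟩, ?_, rfl⟩
      have hcl : (⟨y, hy.2.trans hfz⟩ : ↥(f.base ⁻¹' {s})) ∈ closure {⟨z, hzs⟩} := by
        rw [closure_subtype, Set.image_singleton]
        exact hy.1
      exact closure_minimal (Set.singleton_subset_iff.2 hzZ) hZ hcl
    · obtain ⟨⟨y, hys⟩, -, rfl⟩ := hy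
      exact (show f y = s from hys).trans hfz.symm
  have hrd : FibDim.rd f z = n := by
    have h1 := FibDim.dim_closure_inter f z
    rw [hset, ← ((IsEmbedding.subtypeVal.homeomorphImage Z)).isHomeomorph.topologicalKrullDim_eq, hdimZ] at h1
    exact_mod_cast h1.symm
  exact qf_image_generic_of_rd f n u hu z hrd w (hw.trans hfz.symm)

set_option maxHeartbeats 1000000 in
/-- Lifting generizations over a valuation ring. -/
theorem exists_generization_over_valuationRing (f : X ⟶ S) [LocallyOfFinitePresentation f] (n : ℕ)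
    (u : X ⟶ 𝔸(ULift.{u} (Fin n); S)) [LocallyQuasiFinite u]
    (hu : u ≫ (𝔸(ULift.{u} (Fin n); S) ↘ S) = f) (z x : X) (hzx : z ⤳ x) (hfz : f z = f x)
    (hgen : ∀ w, (𝔸(ULift.{u} (Fin n); S) ↘ S) w = f x → u z ⤳ w) (hopen : EGA43.IsUnivOpenAt f z)
    (V : Type u) [CommRing V] [IsDomain V] [ValuationRing V]
    (g : Spec (CommRingCat.of V) ⟶ 𝔸(ULift.{u} (Fin n); S)) (p : ↥(pullback u g))
    (hp : pullback.fst u g p = x) (hpc : pullback.snd u g p = IsLocalRing.closedPoint V) :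
    ∃ w, w ⤳ p ∧ pullback.snd u g w = (⟨⊥, Ideal.isPrime_bot⟩ : PrimeSpectrum V) := by
  let q := (𝔸(ULift.{u} (Fin n); S) ↘ S)
  let ι := ULift.{u} (Fin n)
  obtain ⟨W, hW, hsW, -⟩ := exists_isAffineOpen_mem_and_subset (x := f x) (U := ⊤) trivial
  obtain ⟨U, hU, hxU, hUW⟩ := exists_isAffineOpen_mem_and_subset (x := x) (U := f ⁻¹ᵁ W) hsW
  let R := Γ(S, W)
  let B := Γ(X, U)
  letI : Algebra R B := (f.appLE W U hUW).hom.toAlgebra
  haveI : Algebra.FiniteType R B := f.finiteType_appLE hW hU hUW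
  let j : Spec (CommRingCat.of (MvPolynomial ι R)) ⟶ 𝔸(ι; S) :=
    (AffineSpace.SpecIso ι R).inv ≫ AffineSpace.map ι hW.fromSpec
  haveI : IsOpenImmersion (AffineSpace.map ι hW.fromSpec) :=
    MorphismProperty.of_isPullback (P := @IsOpenImmersion) (AffineSpace.isPullback_map (n := ι) hW.fromSpec).flip
      inferInstance
  have hjq : j ≫ q = Spec.map (CommRingCat.ofHom MvPolynomial.C) ≫ hW.fromSpec := by
    show ((AffineSpace.SpecIso ι R).inv ≫ AffineSpace.map ι hW.fromSpec) ≫ (𝔸(ι; S) ↘ S) = _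
    rw [Category.assoc, AffineSpace.map_over]
    exact AffineSpace.SpecIso_inv_over_assoc R hW.fromSpec
  have hjr : Set.range j = q ⁻¹' (W : Set S) := by
    ext w
    constructor
    · rintro ⟨t, rfl⟩
      show q (j t) ∈ W
      rw [← Scheme.Hom.comp_apply, hjq, Scheme.Hom.comp_apply]
      exact hW.range_fromSpec.le ⟨_, rfl⟩
    · intro hw
      obtain ⟨t, ht⟩ := hW.range_fromSpec.ge hw
      obtain ⟨m, hm, -⟩ := Scheme.exists_preimage_of_isPullback
        (AffineSpace.isPullback_map (n := ι) hW.fromSpec) w t ht.symm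
      refine ⟨(AffineSpace.SpecIso ι R).hom m, ?_⟩
      rw [← Scheme.Hom.comp_apply]
      simp only [j, Iso.hom_inv_id_assoc, hm]
  have hmem : ∀ w, q w = f x → w ∈ Set.range j := fun w hw => by
    rw [hjr]
    show q w ∈ W
    rw [hw]; exact hsW
  -- the morphism on the chart of `X`
  have hrange : Set.range (hU.fromSpec ≫ u) ⊆ Set.range j := by
    rw [hjr]
    rintro _ ⟨t, rfl⟩
    show q ((hU.fromSpec ≫ u) t) ∈ W
    rw [Scheme.Hom.comp_apply, ← Scheme.Hom.comp_apply u, hu]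
    exact hUW (hU.range_fromSpec.le ⟨t, rfl⟩)
  let uB : Spec B ⟶ Spec (CommRingCat.of (MvPolynomial ι R)) := IsOpenImmersion.lift j (hU.fromSpec ≫ u) hrange
  have huB : uB ≫ j = hU.fromSpec ≫ u := IsOpenImmersion.lift_fac _ _ _
  let φc : CommRingCat.of (MvPolynomial ι R) ⟶ B := Spec.preimage uB
  have hφc : Spec.map φc = uB := Spec.map_preimage uB
  have happ : Spec.map (f.appLE W U hUW) ≫ hW.fromSpec = hU.fromSpec ≫ f :=
    IsAffineOpen.SpecMap_appLE_fromSpec f hW hU hUW
  have hφC : CommRingCat.ofHom MvPolynomial.C ≫ φc = f.appLE W U hUW := by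
    apply Spec.map_injective
    rw [← cancel_mono hW.fromSpec, Spec.map_comp, Category.assoc, ← hjq, hφc, reassoc_of% huB, hu, happ]
  let φ : MvPolynomial ι R →ₐ[R] B :=
    { φc.hom with commutes' := fun r => congr($(hφC).hom r) }
  have hqf : φ.toRingHom.QuasiFinite := by
    haveI : LocallyQuasiFinite (uB ≫ j) := by rw [huB]; infer_instance
    haveI hq : LocallyQuasiFinite uB := LocallyQuasiFinite.of_comp uB j
    have h2 : LocallyQuasiFinite (Spec.map φc) := by rwa [hφc]
    exact (HasRingHomProperty.Spec_iff (P := @LocallyQuasiFinite)).1 h2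
  -- the morphism on the valuation ring
  have hgc : q (g (IsLocalRing.closedPoint V)) = f x := by
    rw [← hpc, ← hp, ← Scheme.Hom.comp_apply, ← Scheme.Hom.comp_apply, ← Scheme.Hom.comp_apply, ← hu,
      pullback.condition_assoc]
  have hgrange : Set.range g ⊆ Set.range j := by
    rintro _ ⟨t, rfl⟩
    rw [hjr]
    refine ((IsLocalRing.specializes_closedPoint (t : PrimeSpectrum V)).map (g ≫ q).continuous).mem_open W.isOpen ?_
    show q (g (IsLocalRing.closedPoint V)) ∈ W
    rw [hgc]; exact hsW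
  let gB : Spec (CommRingCat.of V) ⟶ Spec (CommRingCat.of (MvPolynomial ι R)) := IsOpenImmersion.lift j g hgrange
  have hgB : gB ≫ j = g := IsOpenImmersion.lift_fac _ _ _
  let evc : CommRingCat.of (MvPolynomial ι R) ⟶ CommRingCat.of V := Spec.preimage gB
  have hevc : Spec.map evc = gB := Spec.map_preimage gB
  letI : Algebra R V := (evc.hom.comp MvPolynomial.C).toAlgebra
  let a : ι → V := fun i => evc.hom (MvPolynomial.X i)
  -- the point
  let κ := (pullback u g).residueField p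
  let ip := (pullback u g).fromSpecResidueField p
  have hipr : Set.range (ip ≫ pullback.fst u g) ⊆ Set.range hU.fromSpec := by
    rintro _ ⟨t, rfl⟩
    rw [hU.range_fromSpec, Scheme.Hom.comp_apply, Scheme.fromSpecResidueField_apply, hp]
    exact hxU
  let bκ : B ⟶ κ := Spec.preimage (IsOpenImmersion.lift hU.fromSpec (ip ≫ pullback.fst u g) hipr)
  have hbκ : Spec.map bκ ≫ hU.fromSpec = ip ≫ pullback.fst u g := by
    rw [Spec.map_preimage]; exact IsOpenImmersion.lift_fac _ _ _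
  let vκ : CommRingCat.of V ⟶ κ := Spec.preimage (ip ≫ pullback.snd u g)
  have hvκ : Spec.map vκ = ip ≫ pullback.snd u g := Spec.map_preimage _
  have hbv : φc ≫ bκ = evc ≫ vκ := by
    apply Spec.map_injective
    rw [← cancel_mono j, Spec.map_comp, Spec.map_comp, Category.assoc, Category.assoc, hφc, hevc, huB, hgB,
      reassoc_of% hbκ, hvκ, Category.assoc, pullback.condition]
  obtain ⟨Θ, hΘV, hΘB⟩ := exists_tensor_lift (R := R) (V := V) (B := B) vκ.hom bκ.hom fun r => by
    have := congr($(hbv).hom (MvPolynomial.C r))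
    exact (this.trans rfl).symm.trans (congrArg bκ.hom (φ.commutes r))
  let P : Ideal (V ⊗[R] B) := RingHom.ker Θ
  haveI : P.IsPrime := RingHom.ker_isPrime _
  let pt : Spec κ := IsLocalRing.closedPoint κ
  have hip : ip pt = p := Scheme.fromSpecResidueField_apply _ _
  have hPV : ∀ v : V, v ⊗ₜ[R] (1 : B) ∈ P ↔ v ∈ IsLocalRing.maximalIdeal V := fun v => by
    have h1 : Spec.map vκ pt = IsLocalRing.closedPoint V := by
      rw [hvκ, Scheme.Hom.comp_apply, hip, hpc]
    have h2 : (IsLocalRing.maximalIdeal κ).comap vκ.hom = IsLocalRing.maximalIdeal V :=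
      congrArg PrimeSpectrum.asIdeal h1
    rw [RingHom.mem_ker, hΘV, ← h2, IsLocalRing.maximalIdeal_eq_bot, Ideal.mem_comap, Ideal.mem_bot]
  have hPa : ∀ i, a i ⊗ₜ[R] (1 : B) - (1 : V) ⊗ₜ[R] φ (MvPolynomial.X i) ∈ P := fun i => by
    rw [RingHom.mem_ker, map_sub, hΘV, hΘB, sub_eq_zero]
    exact congr($(hbv).hom (MvPolynomial.X i)).symm
  -- the generic point of the component in the chart
  obtain ⟨zB, hzB⟩ := hU.range_fromSpec.ge (hzx.mem_open U.isOpen hxU)
  let xB : Spec B := Spec.map bκ pt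
  have hxB : hU.fromSpec xB = x := by
    rw [← Scheme.Hom.comp_apply, hbκ, Scheme.Hom.comp_apply, hip, hp]
  let zI : Ideal B := (zB : PrimeSpectrum B).asIdeal
  haveI : zI.IsPrime := (zB : PrimeSpectrum B).isPrime
  have hzP : ∀ b ∈ zI, (1 : V) ⊗ₜ[R] b ∈ P := fun b hb => by
    have h1 : (zB : PrimeSpectrum B).asIdeal ≤ (xB : PrimeSpectrum B).asIdeal :=
      (PrimeSpectrum.le_iff_specializes (zB : PrimeSpectrum B) (xB : PrimeSpectrum B)).2
        (hU.fromSpec.isOpenEmbedding.isInducing.specializes_iff.1 (by rw [hzB, hxB]; exact hzx))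
    have h2 : b ∈ (IsLocalRing.maximalIdeal κ).comap bκ.hom := h1 hb
    rw [IsLocalRing.maximalIdeal_eq_bot, Ideal.mem_comap, Ideal.mem_bot] at h2
    rw [RingHom.mem_ker, hΘB, h2]
  have hzR : zI.comap (algebraMap R B) = (IsLocalRing.maximalIdeal V).comap (algebraMap R V) := by
    have h1 : hW.fromSpec (Spec.map (f.appLE W U hUW) zB) =
        hW.fromSpec (Spec.map (CommRingCat.ofHom MvPolynomial.C ≫ evc) (IsLocalRing.closedPoint V)) := by
      rw [← Scheme.Hom.comp_apply, happ, Scheme.Hom.comp_apply, hzB, hfz, ← Scheme.Hom.comp_apply,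
        Spec.map_comp, Category.assoc, ← hjq, hevc, reassoc_of% hgB, Scheme.Hom.comp_apply, hgc]
    exact congrArg PrimeSpectrum.asIdeal (hW.fromSpec.isOpenEmbedding.injective h1)
  have hzT : ∀ t : MvPolynomial ι R, φ t ∈ zI →
      ∀ e, t.coeff e ∈ (IsLocalRing.maximalIdeal V).comap (algebraMap R V) := by
    intro t ht e
    let sI := zI.comap (algebraMap R B)
    haveI : sI.IsPrime := Ideal.IsPrime.comap _
    let w : Spec (CommRingCat.of (MvPolynomial ι R)) :=
      (⟨RingHom.ker (MvPolynomial.map (σ := ι) (Ideal.Quotient.mk sI)), RingHom.ker_isPrime _⟩ :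
        PrimeSpectrum (MvPolynomial ι R))
    have hwq : q (j w) = f x := by
      rw [← Scheme.Hom.comp_apply, hjq, Scheme.Hom.comp_apply, ← hfz, ← hzB, ← Scheme.Hom.comp_apply hU.fromSpec,
        ← happ, Scheme.Hom.comp_apply]
      refine congrArg hW.fromSpec (PrimeSpectrum.ext (Ideal.ext fun r => ?_))
      show MvPolynomial.map (σ := ι) (Ideal.Quotient.mk sI) (MvPolynomial.C r) = 0 ↔ r ∈ sI
      rw [MvPolynomial.map_C, MvPolynomial.C_eq_zero, Ideal.Quotient.eq_zero_iff_mem]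
    have h1 : uB zB ⤳ w := by
      refine j.isOpenEmbedding.isInducing.specializes_iff.1 ?_
      rw [← Scheme.Hom.comp_apply, huB, Scheme.Hom.comp_apply, hzB]
      exact hgen _ hwq
    rw [← hφc] at h1
    have h2 : t ∈ RingHom.ker (MvPolynomial.map (σ := ι) (Ideal.Quotient.mk sI)) :=
      (PrimeSpectrum.le_iff_specializes
        (Spec.map φc zB : PrimeSpectrum (MvPolynomial ι R)) (w : PrimeSpectrum (MvPolynomial ι R))).2 h1 ht
    have h3 := congrArg (MvPolynomial.coeff e) (RingHom.mem_ker.1 h2)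
    rw [MvPolynomial.coeff_map, MvPolynomial.coeff_zero, Ideal.Quotient.eq_zero_iff_mem] at h3
    rwa [← hzR]
  -- openness
  have hop : ∀ c : Ideal (V ⊗[R] B), c.IsPrime → (∀ b, (1 : V) ⊗ₜ[R] b ∈ c ↔ b ∈ zI) →
      (∀ v : V, v ⊗ₜ[R] (1 : B) ∈ c ↔ v ∈ IsLocalRing.maximalIdeal V) →
      ∀ h ∉ c, ∃ q : Ideal (V ⊗[R] B), q.IsPrime ∧ h ∉ q ∧ ∀ v : V, v ⊗ₜ[R] (1 : B) ∈ q → v = 0 := by
    intro c hc hcB hcV h hh
    let iR : B ⟶ CommRingCat.of (V ⊗[R] B) :=
      CommRingCat.ofHom (Algebra.TensorProduct.includeRight : B →ₐ[R] V ⊗[R] B).toRingHom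
    let iL : CommRingCat.of V ⟶ CommRingCat.of (V ⊗[R] B) :=
      CommRingCat.ofHom Algebra.TensorProduct.includeLeftRingHom
    have sq0 : IsPullback (Spec.map iR) (Spec.map iL) (Spec.map (f.appLE W U hUW))
        (Spec.map (CommRingCat.ofHom (algebraMap R V))) :=
      isPullback_SpecMap_of_isPushout _ _ _ _ (CommRingCat.isPushout_tensorProduct R V B).flip
    have sq : IsPullback (Spec.map iR) (Spec.map iL) (hU.fromSpec ≫ f)
        (Spec.map (CommRingCat.ofHom (algebraMap R V)) ≫ hW.fromSpec) := by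
      rw [← happ]
      exact IsPullback.of_isLimit (PullbackCone.isLimitOfCompMono _ _ hW.fromSpec _ sq0.isLimit)
    let cP : Spec (CommRingCat.of (V ⊗[R] B)) := (⟨c, hc⟩ : PrimeSpectrum (V ⊗[R] B))
    have hcz : Spec.map iR cP = zB := PrimeSpectrum.ext (Ideal.ext hcB)
    have hcc : Spec.map iL cP = IsLocalRing.closedPoint V := PrimeSpectrum.ext (Ideal.ext hcV)
    have hfU : EGA43.IsUnivOpenAt (hU.fromSpec ≫ f) zB :=
      QHomeo.univOpenAt_comp (univOpenAt_of_isOpenImmersion _ _)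
        (by rw [show hU.fromSpec.base zB = z from hzB]; exact hopen)
    have hnh := QHomeo.univOpenAt_openAt hfU sq cP hcz (PrimeSpectrum.basicOpen h : Set (PrimeSpectrum (V ⊗[R] B)))
      ((PrimeSpectrum.basicOpen h).isOpen.mem_nhds hh)
    rw [show (Spec.map iL).base cP = IsLocalRing.closedPoint V from hcc] at hnh
    obtain ⟨O, hO, hOo, hOc⟩ := mem_nhds_iff.1 hnh
    have hb : ((⟨⊥, Ideal.isPrime_bot⟩ : PrimeSpectrum V) : Spec (CommRingCat.of V)) ∈ O :=
      (IsLocalRing.specializes_closedPoint (⟨⊥, Ideal.isPrime_bot⟩ : PrimeSpectrum V)).mem_open hOo hOc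
    obtain ⟨Q, hQh, hQ⟩ := hO hb
    refine ⟨(Q : PrimeSpectrum (V ⊗[R] B)).asIdeal, (Q : PrimeSpectrum (V ⊗[R] B)).isPrime, hQh, fun v hv => ?_⟩
    have h3 : (Q : PrimeSpectrum (V ⊗[R] B)).asIdeal.comap iL.hom = (⊥ : Ideal V) :=
      congrArg PrimeSpectrum.asIdeal hQ
    have h4 : v ∈ (Q : PrimeSpectrum (V ⊗[R] B)).asIdeal.comap iL.hom := hv
    rwa [h3, Ideal.mem_bot] at h4
  obtain ⟨Q, hQ, hQP, hQV, hQa⟩ := exists_le_graph φ hqf a P hPV hPa zI hzP hzR hzT hop
  -- back to the scheme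
  let D := (V ⊗[R] B) ⧸ Q
  let fV : CommRingCat.of V ⟶ CommRingCat.of D :=
    CommRingCat.ofHom ((Ideal.Quotient.mk Q).comp Algebra.TensorProduct.includeLeftRingHom)
  let fB : B ⟶ CommRingCat.of D :=
    CommRingCat.ofHom ((Ideal.Quotient.mk Q).comp (Algebra.TensorProduct.includeRight : B →ₐ[R] V ⊗[R] B).toRingHom)
  have hagree : φc ≫ fB = evc ≫ fV := by
    refine CommRingCat.hom_ext (MvPolynomial.ringHom_ext (fun r => ?_) (fun i => ?_))
    · show Ideal.Quotient.mk Q ((1 : V) ⊗ₜ[R] φ (MvPolynomial.C r)) =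
        Ideal.Quotient.mk Q (algebraMap R V r ⊗ₜ[R] (1 : B))
      rw [show φ (MvPolynomial.C r) = algebraMap R B r from φ.commutes r, Algebra.algebraMap_eq_smul_one,
        Algebra.algebraMap_eq_smul_one, TensorProduct.smul_tmul]
    · exact (Ideal.Quotient.eq.2 (hQa i)).symm
  have hw : (Spec.map fB ≫ hU.fromSpec) ≫ u = Spec.map fV ≫ g := by
    rw [Category.assoc, ← huB, ← hgB, ← hφc, ← hevc, ← Spec.map_comp_assoc, ← Spec.map_comp_assoc, hagree]
  let m : Spec (CommRingCat.of D) ⟶ pullback u g := pullback.lift _ _ hw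
  let θ : CommRingCat.of D ⟶ κ := CommRingCat.ofHom (Ideal.Quotient.lift Q Θ fun t ht => hQP ht)
  have hm : Spec.map θ ≫ m = ip := by
    apply pullback.hom_ext
    · rw [Category.assoc, pullback.lift_fst, ← Spec.map_comp_assoc, ← hbκ]
      congr 2
      exact CommRingCat.hom_ext (RingHom.ext hΘB)
    · rw [Category.assoc, pullback.lift_snd, ← Spec.map_comp, ← hvκ]
      congr 1
      exact CommRingCat.hom_ext (RingHom.ext hΘV)
  haveI : IsDomain D := Ideal.Quotient.isDomain Q
  let η : Spec (CommRingCat.of D) := (⟨⊥, Ideal.isPrime_bot⟩ : PrimeSpectrum D)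
  refine ⟨m η, ?_, ?_⟩
  · rw [← hip, ← hm, Scheme.Hom.comp_apply]
    exact Specializes.map ((PrimeSpectrum.le_iff_specializes (⟨⊥, Ideal.isPrime_bot⟩ : PrimeSpectrum D)
      (Spec.map θ pt : PrimeSpectrum D)).1 bot_le) m.continuous
  · rw [← Scheme.Hom.comp_apply, pullback.lift_snd]
    refine PrimeSpectrum.ext (Ideal.ext fun v => ?_)
    show Ideal.Quotient.mk Q (v ⊗ₜ[R] (1 : B)) ∈ (⊥ : Ideal D) ↔ v ∈ (⊥ : Ideal V)
    rw [Ideal.mem_bot, Ideal.mem_bot, Ideal.Quotient.eq_zero_iff_mem]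
    exact ⟨hQV v, fun h => by rw [h, TensorProduct.zero_tmul]; exact Q.zero_mem⟩

/-- A quasi-finite morphism to affine space is universally open at points of a universally open
component of top dimension. -/
theorem univOpenAt_qf_to_affineSpace (f : X ⟶ S) [LocallyOfFinitePresentation f] (n : ℕ)
    (u : X ⟶ 𝔸(ULift.{u} (Fin n); S)) [LocallyQuasiFinite u]
    (hu : u ≫ (𝔸(ULift.{u} (Fin n); S) ↘ S) = f) (z x : X) (hzx : z ⤳ x) (hfz : f z = f x)
    (hgen : ∀ w, (𝔸(ULift.{u} (Fin n); S) ↘ S) w = f x → u z ⤳ w) (hopen : EGA43.IsUnivOpenAt f z) :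
    EGA43.IsUnivOpenAt u x := by
  haveI : LocallyOfFinitePresentation (u ≫ (𝔸(ULift.{u} (Fin n); S) ↘ S)) := by rw [hu]; infer_instance
  haveI : LocallyOfFinitePresentation u :=
    S12442.locallyOfFinitePresentation_of_comp u (𝔸(ULift.{u} (Fin n); S) ↘ S)
  intro Y' g x' hx'
  refine UnivOpen.isOpenAt_of_lifts_fp (pullback.snd u g) x' fun t ht => ?_
  by_cases hne : pullback.snd u g x' = t
  · exact ⟨x', specializes_rfl, hne⟩
  obtain ⟨A, τ, -, hclosed, hgenpt⟩ := Proj16.exists_valuationSubring_path (p := 𝟙 Y') (x := t) ht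
    (fun h => hne h)
  let η : Spec (CommRingCat.of A) := (⟨⊥, Ideal.isPrime_bot⟩ : PrimeSpectrum A)
  have hη : τ η = t := by
    have h1 : η = Spec.map (CommRingCat.ofHom A.subtype) (IsLocalRing.closedPoint (Y'.residueField t)) := by
      refine PrimeSpectrum.ext (Ideal.ext fun a => ?_)
      show a ∈ (⊥ : Ideal A) ↔ A.subtype a ∈ IsLocalRing.maximalIdeal (Y'.residueField t)
      rw [IsLocalRing.maximalIdeal_eq_bot, Ideal.mem_bot, Ideal.mem_bot]
      exact (map_eq_zero_iff A.subtype Subtype.val_injective).symm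
    rw [h1]
    show (Spec.map (CommRingCat.ofHom A.subtype) ≫ τ) _ = t
    rw [hgenpt, Category.comp_id]
    exact Scheme.fromSpecResidueField_apply _ _
  let k : pullback u (τ ≫ g) ⟶ pullback u g := pullback.lift (pullback.fst u (τ ≫ g))
    (pullback.snd u (τ ≫ g) ≫ τ) (by rw [Category.assoc, pullback.condition])
  have sq : IsPullback k (pullback.snd u (τ ≫ g)) (pullback.snd u g) τ := by
    refine IsPullback.of_right ?_ (pullback.lift_snd _ _ _) (IsPullback.of_hasPullback u g)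
    rw [pullback.lift_fst]
    exact IsPullback.of_hasPullback u (τ ≫ g)
  obtain ⟨p, hpk, hpc⟩ := Scheme.exists_preimage_of_isPullback sq x' (IsLocalRing.closedPoint A) hclosed.symm
  have hp : pullback.fst u (τ ≫ g) p = x := by
    have h1 : (k ≫ pullback.fst u g) p = x := by rw [Scheme.Hom.comp_apply, hpk]; exact hx'
    rwa [pullback.lift_fst] at h1
  obtain ⟨w, hw, hwη⟩ := exists_generization_over_valuationRing f n u hu z x hzx hfz hgen hopen A (τ ≫ g) p hp hpc
  refine ⟨k w, ?_, ?_⟩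
  · rw [← hpk]; exact hw.map k.continuous
  · rw [← Scheme.Hom.comp_apply, pullback.lift_snd, Scheme.Hom.comp_apply, hwη]
    exact hη

end Groth.Agent.GrpFieldLib
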