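import Groth.Agent.FibDim.AffineChart

/-!
# Charts to affine space vanishing at a given closed point of the fibre
-/

set_option autoImplicit false
set_option linter.style.haveILetI false
set_option linter.style.setOption false

open AlgebraicGeometry CategoryTheory Limits Topology
open Groth.Agent

namespace Groth.Agent.GrpFieldLib

universe u

variable {X Y : Scheme.{u}}

/-- A polynomial over the residue field lifts, up to a nonzero scalar. -/
theorem exists_lift_poly [IsAffine Y] (y : Y) (m : Polynomial (Y.residueField y)) :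
    ∃ (P : Polynomial Γ(Y, ⊤)) (d : Y.residueField y), d ≠ 0 ∧
      P.map (Y.evaluation ⊤ y trivial).hom = Polynomial.C d * m := by
  let ev := (Y.evaluation ⊤ y trivial).hom
  suffices H : ∃ (P : Polynomial Γ(Y, ⊤)) (s : Γ(Y, ⊤)), ev s ≠ 0 ∧ P.map ev = Polynomial.C (ev s) * m by
    obtain ⟨P, s, hs, h⟩ := H
    exact ⟨P, ev s, hs, h⟩
  induction m using Polynomial.induction_on' with
  | add p q hp hq =>
    obtain ⟨P, s, hs, h⟩ := hp
    obtain ⟨Q, s', hs', h'⟩ := hq
    refine ⟨Polynomial.C s' * P + Polynomial.C s * Q, s * s', ?_, ?_⟩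
    · rw [map_mul]; exact mul_ne_zero hs hs'
    · rw [Polynomial.map_add, Polynomial.map_mul, Polynomial.map_mul, Polynomial.map_C, Polynomial.map_C, h, h',
        map_mul, map_mul]
      ring
  | monomial n c =>
    obtain ⟨a, s, hs, e⟩ := FibDim.exists_mul_eq_evaluation (Y := Y) y c
    refine ⟨Polynomial.monomial n a, s, hs, ?_⟩
    rw [Polynomial.map_monomial, Polynomial.C_mul_monomial]
    congr 1
    rw [mul_comm]
    exact e.symm

set_option maxHeartbeats 800000 in
/-- Finite charts on a fibre can be chosen to vanish at a given closed point. -/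
theorem exists_fibrePoly_finite_vanishing [IsAffine X] [IsAffine Y] (f : X ⟶ Y) [LocallyOfFiniteType f] (y : Y)
    (x : X) (hxy : f x = y) (z : ↥(f.fiber y)) (hzx : f.fiberι y z = x) (hz : IsClosed ({z} : Set ↥(f.fiber y)))
    (e : ℕ) (he : topologicalKrullDim ↥(f.fiber y) = e) :
    ∃ t : Fin e → Γ(X, ⊤), (FibDim.fibrePoly f y t).Finite ∧ ∀ i, X.evaluation ⊤ x trivial (t i) = 0 := by
  obtain ⟨t, ht⟩ := FibDim.exists_fibrePoly_finite f y ⟨x, hxy⟩ e he
  let K := Y.residueField y
  let S := Γ(f.fiber y, ⊤)
  haveI : IsAffine (f.fiber y) := .of_isPullback (IsPullback.of_hasPullback f (Y.fromSpecResidueField y))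
  let κ : K →+* S :=
    ((Scheme.ΓSpecIso (Y.residueField y)).inv ≫ (f.fiberToSpecResidueField y).appTop).hom
  letI : Algebra K S := κ.toAlgebra
  have hft : κ.FiniteType := by
    have h1 := HasRingHomProperty.appTop (P := @LocallyOfFiniteType) (f.fiberToSpecResidueField y) inferInstance
    exact h1.comp (RingHom.FiniteType.of_surjective _ (ConcreteCategory.bijective_of_isIso
      ((Scheme.ΓSpecIso (Y.residueField y)).inv)).2)
  haveI : Algebra.FiniteType K S := hft
  let pz : PrimeSpectrum S := (f.fiber y).isoSpec.hom z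
  have hmax : pz.asIdeal.IsMaximal := by
    rw [← PrimeSpectrum.isClosed_singleton_iff_isMaximal]
    have h := (f.fiber y).isoSpec.hom.homeomorph.isClosedMap _ hz
    rwa [Set.image_singleton] at h
  haveI := hmax
  letI : Field (S ⧸ pz.asIdeal) := Ideal.Quotient.field _
  haveI : Algebra.FiniteType K (S ⧸ pz.asIdeal) :=
    Algebra.FiniteType.of_surjective (Ideal.Quotient.mkₐ K pz.asIdeal) Ideal.Quotient.mk_surjective
  haveI : Module.Finite K (S ⧸ pz.asIdeal) := finite_of_finite_type_of_isJacobsonRing K _
  let sec : Fin e → S := fun i => (f.fiberι y).appTop (t i)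
  have hint : ∀ i, IsIntegral K (Ideal.Quotient.mkₐ K pz.asIdeal (sec i)) := fun i => Algebra.IsIntegral.isIntegral _
  let m : Fin e → Polynomial K := fun i => minpoly K (Ideal.Quotient.mkₐ K pz.asIdeal (sec i))
  choose P d hd hP using fun i => exists_lift_poly (Y := Y) y (m i)
  let t' : Fin e → Γ(X, ⊤) := fun i => (P i).eval₂ f.appTop.hom (t i)
  have hsq : ∀ a, (f.fiberι y).appTop (f.appTop a) = κ ((Y.evaluation ⊤ y trivial).hom a) := fun a => by
    have h1 : (f.fiberι y ≫ f).appTop a = (f.fiberToSpecResidueField y ≫ Y.fromSpecResidueField y).appTop a := by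
      rw [show f.fiberι y ≫ f = f.fiberToSpecResidueField y ≫ Y.fromSpecResidueField y from pullback.condition]
    rw [Scheme.Hom.comp_appTop, Scheme.Hom.comp_appTop, FibDim.fromSpecResidueField_appTop] at h1
    exact h1
  have hsec : ∀ i, (f.fiberι y).appTop (t' i) = algebraMap K S (d i) * Polynomial.aeval (sec i) (m i) := fun i => by
    have h1 : (f.fiberι y).appTop (t' i) =
        ((P i).map (Y.evaluation ⊤ y trivial).hom).eval₂ κ (sec i) := by
      rw [Polynomial.eval₂_map]
      show (f.fiberι y).appTop.hom ((P i).eval₂ f.appTop.hom (t i)) = _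
      rw [Polynomial.hom_eval₂]
      exact congrArg (fun r => (P i).eval₂ r (sec i)) (RingHom.ext hsq)
    rw [h1, hP, Polynomial.eval₂_mul, Polynomial.eval₂_C]
    rfl
  refine ⟨t', ?_, fun i => ?_⟩
  · let σ : MvPolynomial (Fin e) K →ₐ[K] MvPolynomial (Fin e) K :=
      MvPolynomial.aeval fun i => MvPolynomial.C (d i) * Polynomial.aeval (MvPolynomial.X i) (m i)
    have heq : FibDim.fibrePoly f y t' = (FibDim.fibrePoly f y t).comp σ.toRingHom := by
      have hC : ∀ r, FibDim.fibrePoly f y t (MvPolynomial.C r) = κ r := fun r => by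
        rw [FibDim.fibrePoly, MvPolynomial.eval₂Hom_C]
      let Φ : MvPolynomial (Fin e) K →ₐ[K] S := { FibDim.fibrePoly f y t with commutes' := hC }
      refine MvPolynomial.ringHom_ext (fun r => ?_) fun i => ?_
      · rw [FibDim.fibrePoly, MvPolynomial.eval₂Hom_C]
        exact ((Φ.comp σ).commutes r).symm
      · rw [FibDim.fibrePoly, MvPolynomial.eval₂Hom_X', hsec]
        show _ = Φ (σ (MvPolynomial.X i))
        rw [MvPolynomial.aeval_X, map_mul, ← MvPolynomial.algebraMap_eq, AlgHom.commutes,
          ← Polynomial.aeval_algHom_apply]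
        have hX : Φ (MvPolynomial.X i) = sec i := by
          show FibDim.fibrePoly f y t (MvPolynomial.X i) = sec i
          rw [FibDim.fibrePoly, MvPolynomial.eval₂Hom_X']
        rw [hX]
    rw [heq]
    refine RingHom.Finite.comp ht ?_
    refine RingHom.IsIntegral.to_finite ?_ ?_
    · letI alg : Algebra (MvPolynomial (Fin e) K) (MvPolynomial (Fin e) K) := σ.toRingHom.toAlgebra
      intro p
      induction p using MvPolynomial.induction_on with
      | C r =>
        have : σ.toRingHom (MvPolynomial.C r) = MvPolynomial.C r := σ.commutes r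
        rw [← this]
        exact σ.toRingHom.isIntegralElem_map
      | add p q hp hq => exact RingHom.IsIntegralElem.add _ hp hq
      | mul_X p i hp =>
        refine RingHom.IsIntegralElem.mul _ hp ?_
        refine ⟨(m i).map (MvPolynomial.C : K →+* MvPolynomial (Fin e) K) -
          Polynomial.C (MvPolynomial.C (d i)⁻¹ * MvPolynomial.X i), ?_, ?_⟩
        · refine ((minpoly.monic (hint i)).map _).sub_of_left (lt_of_le_of_lt Polynomial.degree_C_le ?_)
          rw [(minpoly.monic (hint i)).degree_map]
          exact minpoly.degree_pos (hint i)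
        · rw [Polynomial.eval₂_sub, Polynomial.eval₂_C, sub_eq_zero, Polynomial.eval₂_map]
          show _ = σ (MvPolynomial.C (d i)⁻¹ * MvPolynomial.X i)
          rw [map_mul, MvPolynomial.aeval_X, MvPolynomial.aeval_C, MvPolynomial.algebraMap_eq, ← mul_assoc,
            ← map_mul, inv_mul_cancel₀ (hd i), map_one, one_mul]
          rw [show σ.toRingHom.comp (MvPolynomial.C : K →+* MvPolynomial (Fin e) K) = algebraMap K _ from
            σ.comp_algebraMap]
          rfl
    · refine RingHom.FiniteType.of_comp_finiteType (f := (MvPolynomial.C : K →+* MvPolynomial (Fin e) K)) ?_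
      rw [show σ.toRingHom.comp (MvPolynomial.C : K →+* MvPolynomial (Fin e) K) = algebraMap K _ from
        σ.comp_algebraMap, RingHom.finiteType_algebraMap]
      infer_instance
  · rw [Scheme.evaluation_eq_zero_iff_notMem_basicOpen]
    intro hx
    have h1 : z ∈ f.fiberι y ⁻¹ᵁ X.basicOpen (t' i) := by
      refine (?_ : f.fiberι y z ∈ X.basicOpen (t' i))
      rw [hzx]; exact hx
    rw [Scheme.preimage_basicOpen_top, ← Scheme.toSpecΓ_preimage_basicOpen] at h1
    refine (h1 : (f.fiberι y).appTop (t' i) ∉ pz.asIdeal) ?_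
    rw [hsec]
    refine pz.asIdeal.mul_mem_left _ ?_
    rw [← Ideal.Quotient.eq_zero_iff_mem]
    show Ideal.Quotient.mkₐ K pz.asIdeal (Polynomial.aeval (sec i) (m i)) = 0
    rw [← Polynomial.aeval_algHom_apply]
    exact minpoly.aeval K _

/-- The sections give a morphism to affine space which is finite on the fibre. -/
theorem isFinite_chart [IsAffine X] [IsAffine Y] (f : X ⟶ Y) (y : Y) {e : ℕ} (t : Fin e → Γ(X, ⊤))
    (ht : (FibDim.fibrePoly f y t).Finite) :
    IsFinite (pullback.snd (AffineSpace.homOfVector f fun i : ULift.{u} (Fin e) => t i.down)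
      ((𝔸(ULift.{u} (Fin e); Y) ↘ Y).fiberι y)) := by
  let π := (𝔸(ULift.{u} (Fin e); Y) ↘ Y)
  let g := AffineSpace.homOfVector f fun i : ULift.{u} (Fin e) => t i.down
  have hg : g ≫ π = f := AffineSpace.homOfVector_over _ _
  haveI : IsAffine (π.fiber y) := .of_isPullback (IsPullback.of_hasPullback π (Y.fromSpecResidueField y))
  have hP := (IsPullback.of_hasPullback g (π.fiberι y)).paste_vert (IsPullback.of_hasPullback π (Y.fromSpecResidueField y))
  rw [hg] at hP
  haveI : IsAffine (pullback g (π.fiberι y)) := .of_isPullback hP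
  rw [HasAffineProperty.iff_of_isAffine (P := @IsFinite)]
  refine ⟨inferInstance, ?_⟩
  let iso := hP.isoPullback
  let θ : MvPolynomial (Fin e) (Y.residueField y) →+* Γ(π.fiber y, ⊤) :=
    MvPolynomial.eval₂Hom ((Scheme.ΓSpecIso (Y.residueField y)).inv ≫ (π.fiberToSpecResidueField y).appTop).hom
      fun i => (π.fiberι y).appTop (AffineSpace.coord Y (ULift.up i))
  refine RingHom.Finite.of_comp_finite (f := θ) ?_
  have h2 : ((pullback.snd g (π.fiberι y)).appTop.hom).comp θ = iso.hom.appTop.hom.comp (FibDim.fibrePoly f y t) := by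
    refine MvPolynomial.ringHom_ext (fun r => ?_) fun i => ?_
    · rw [RingHom.comp_apply, RingHom.comp_apply]
      unfold FibDim.fibrePoly
      erw [MvPolynomial.eval₂Hom_C, MvPolynomial.eval₂Hom_C]
      show ((pullback.snd g (π.fiberι y) ≫ π.fiberToSpecResidueField y).appTop)
          ((Scheme.ΓSpecIso (Y.residueField y)).inv r) =
        ((iso.hom ≫ pullback.snd f (Y.fromSpecResidueField y)).appTop) _
      rw [hP.isoPullback_hom_snd]
      rfl
    · rw [RingHom.comp_apply, RingHom.comp_apply]
      unfold FibDim.fibrePoly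
      erw [MvPolynomial.eval₂Hom_X', MvPolynomial.eval₂Hom_X']
      show ((pullback.snd g (π.fiberι y) ≫ π.fiberι y).appTop) (AffineSpace.coord Y (ULift.up i)) =
        ((iso.hom ≫ pullback.fst f (Y.fromSpecResidueField y)).appTop) (t i)
      rw [hP.isoPullback_hom_fst, ← pullback.condition, Scheme.Hom.comp_appTop, CommRingCat.comp_apply,
        AffineSpace.homOfVector_appTop_coord]
  rw [h2]
  exact RingHom.Finite.comp (RingHom.Finite.of_surjective _ ((Scheme.Γ.mapIso iso.op).commRingCatIsoToRingEquiv.surjective)) ht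

end Groth.Agent.GrpFieldLib
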