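import Groth.Agent.GrpFieldLib.QFOpen
import Groth.Agent.GrpFieldLib.QSectionChart
import Groth.Agent.MorLib.ElemEtaleFinite
import Groth.Agent.RadPtLib.Basic

/-!
# Quasi-sections through a closed point of a fibre (SGA3 VI_B)
-/

set_option autoImplicit false
set_option linter.style.haveILetI false
set_option linter.style.setOption false

universe u

open AlgebraicGeometry CategoryTheory Limits Topology

namespace Groth.Agent.GrpFieldLib

theorem univOpenAt_of_comp_mono {X Y Z : Scheme.{u}} (a : X ⟶ Y) (m : Y ⟶ Z) [Mono m] (x : X)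
    (h : EGA43.IsUnivOpenAt (a ≫ m) x) : EGA43.IsUnivOpenAt a x := by
  have sq : IsPullback (𝟙 X) a (a ≫ m) m :=
    IsPullback.of_horiz_isIso_mono ⟨by simp⟩
  exact QHomeo.univOpenAt_of_isPullback h sq x rfl

set_option maxHeartbeats 800000 in
/-- A finite part over an etale neighbourhood, at a quasi-finite point where the morphism is universally open. -/
theorem exists_finite_nbhd {P W : Scheme.{u}} (π₂ : P ⟶ W) [LocallyOfFinitePresentation π₂] (p : P)
    (hqf : π₂.QuasiFiniteAt p) (hopen : EGA43.IsUnivOpenAt π₂ p) :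
    ∃ (S' S'' : Scheme.{u}) (_ : IsAffine S') (w : S' ⟶ W) (π : S'' ⟶ S') (k : S'' ⟶ P),
      Etale w ∧ IsFinite π ∧ Surjective π ∧ LocallyOfFinitePresentation π ∧ k ≫ π₂ = π ≫ w ∧
      ∃ s'' : S'', (π ≫ w).base ⁻¹' {π₂ p} = {s''} ∧ k s'' = p ∧ Function.Bijective (k.residueFieldMap s'') := by
  obtain ⟨U₁, g₁, u₁, hu₁, V, v, hv, hVfin, hvu, hVuniq, hvp, hres⟩ := MorLib.EEF.exists_elem_nbhd π₂ p hqf
  haveI := hu₁.etale
  haveI := hVfin
  -- isolate the point in its fibre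
  haveI : LocallyQuasiFinite g₁ := MorLib.WT.locallyQuasiFinite_of_etale g₁
  obtain ⟨O₁, hO₁, hO₁eq⟩ : ∃ O₁ : Set U₁, IsOpen O₁ ∧ ∀ a, g₁ a = π₂ p → (a ∈ O₁ ↔ a = u₁) := by
    haveI : DiscreteTopology ↥(g₁ ⁻¹' {π₂ p}) :=
      isDiscrete_iff_discreteTopology.1 (g₁.isDiscrete_preimage_singleton (π₂ p))
    obtain ⟨O, hO, hOe⟩ := isOpen_induced_iff.1 (isOpen_discrete ({⟨u₁, hu₁.base_eq⟩} : Set ↥(g₁ ⁻¹' {π₂ p})))
    refine ⟨O, hO, fun a ha => ?_⟩
    have h := Set.ext_iff.1 hOe ⟨a, ha⟩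
    exact h.trans ⟨fun e => congrArg Subtype.val e, fun e => Subtype.ext e⟩
  -- the image is a neighbourhood
  have hop : EGA43.IsOpenAt (pullback.snd π₂ g₁).base v := hopen U₁ g₁ v hvp
  have himg := hop V (V.isOpen.mem_nhds hv)
  rw [show (pullback.snd π₂ g₁).base v = u₁ from hvu] at himg
  obtain ⟨O₂, hO₂sub, hO₂, hu₁O₂⟩ := mem_nhds_iff.1 himg
  obtain ⟨T, hT, huT, hTsub⟩ := exists_isAffineOpen_mem_and_subset (x := u₁)
    (U := ⟨O₁ ∩ O₂, hO₁.inter hO₂⟩) ⟨(hO₁eq u₁ hu₁.base_eq).2 rfl, hu₁O₂⟩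
  let ρ : (V : Scheme.{u}) ⟶ U₁ := V.ι ≫ pullback.snd π₂ g₁
  haveI : IsFinite ρ := hVfin
  let π := ρ ∣_ T
  let k : ↑(ρ ⁻¹ᵁ T) ⟶ P := (ρ ⁻¹ᵁ T).ι ≫ V.ι ≫ pullback.fst π₂ g₁
  have hcomm : k ≫ π₂ = π ≫ T.ι ≫ g₁ := by
    simp only [k, π, morphismRestrict_ι_assoc, ρ, Category.assoc, pullback.condition]
  haveI : IsAffine (T : Scheme.{u}) := hT
  refine ⟨T, ρ ⁻¹ᵁ T, inferInstance, T.ι ≫ g₁, π, k, inferInstance,
    IsZariskiLocalAtTarget.restrict ‹IsFinite ρ› T, ⟨fun t => ?_⟩, inferInstance, hcomm,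
    ⟨⟨v, hv⟩, show pullback.snd π₂ g₁ v ∈ T by rw [hvu]; exact huT⟩, ?_, hvp, ?_⟩
  · obtain ⟨a, ha, hat⟩ := hO₂sub (hTsub t.2).2
    refine ⟨⟨⟨a, ha⟩, show pullback.snd π₂ g₁ a ∈ T from hat.symm ▸ t.2⟩, T.ι.isOpenEmbedding.injective ?_⟩
    rw [← Scheme.Hom.comp_apply, morphismRestrict_ι]
    exact hat
  · ext ⟨⟨a, ha⟩, haT⟩
    rw [Set.mem_preimage, Set.mem_singleton_iff, Set.mem_singleton_iff, ← hcomm]
    have hk : (k ≫ π₂) ⟨⟨a, ha⟩, haT⟩ = g₁ (pullback.snd π₂ g₁ a) := by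
      show π₂ (pullback.fst π₂ g₁ a) = _
      rw [← Scheme.Hom.comp_apply, pullback.condition, Scheme.Hom.comp_apply]
    rw [hk]
    constructor
    · intro he
      exact Subtype.ext (Subtype.ext (hVuniq a ha ((hO₁eq _ he).1 (hTsub haT).1)))
    · intro he
      have : a = v := congrArg (fun t => t.1.1) he
      rw [this, hvu]
      exact hu₁.base_eq
  · refine MorLib.EEF.bijective_rfm_comp _ _ _ (MorLib.EEF.bijective_rfm_isOpenImmersion _ _) ?_
    exact MorLib.EEF.bijective_rfm_comp _ _ _ (MorLib.EEF.bijective_rfm_isOpenImmersion _ _) hres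

set_option maxHeartbeats 1600000 in
/-- Quasi-sections through a closed point of a fibre. -/
theorem exists_quasiSection {X S : Scheme.{u}} (f : X ⟶ S) [LocallyOfFinitePresentation f] (z x : X) (n : ℕ)
    (hzx : z ⤳ x) (hfz : f z = f x) (hrd : FibDim.rd f z = n) (hxcl : IsClosed ({f.asFiber x} : Set ↥(f.fiber (f x))))
    (hopen : EGA43.IsUnivOpenAt f z)
    (O : X.Opens) (hxO : x ∈ O) (hdimO : ∀ a ∈ O, f a = f x → FibDim.rd f a ≤ n) :
    ∃ (S' S'' : Scheme.{u}) (_ : IsAffine S') (w : S' ⟶ S) (π : S'' ⟶ S') (h : S'' ⟶ X),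
      Etale w ∧ IsFinite π ∧ Surjective π ∧ LocallyOfFinitePresentation π ∧ h ≫ f = π ≫ w ∧
      ∃ s'' : S'', (π ≫ w).base ⁻¹' {f x} = {s''} ∧ h s'' = x ∧ Function.Bijective (h.residueFieldMap s'') := by
  obtain ⟨W, hW, hsW, -⟩ := exists_isAffineOpen_mem_and_subset (x := f x) (U := ⊤) trivial
  obtain ⟨U, hU, hxU, hUsub⟩ := exists_isAffineOpen_mem_and_subset (x := x) (U := f ⁻¹ᵁ W ⊓ O) ⟨hsW, hxO⟩
  have hUW : U ≤ f ⁻¹ᵁ W := fun a ha => (hUsub ha).1
  haveI : IsAffine (U : Scheme.{u}) := hU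
  haveI : IsAffine (W : Scheme.{u}) := hW
  let fU := f.resLE W U hUW
  have hfU : fU ≫ W.ι = U.ι ≫ f := Scheme.Hom.resLE_comp_ι _ _
  have hzU : z ∈ U := hzx.mem_open U.isOpen hxU
  let xU : (U : Scheme.{u}) := ⟨x, hxU⟩
  let zU : (U : Scheme.{u}) := ⟨z, hzU⟩
  have happ : ∀ a : (U : Scheme.{u}), W.ι (fU a) = f (U.ι a) := fun a => by
    rw [← Scheme.Hom.comp_apply, hfU]; rfl
  have hzs : fU zU = fU xU := W.ι.isOpenEmbedding.injective (by rw [happ, happ]; exact hfz)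
  have hrdU : ∀ a : (U : Scheme.{u}), FibDim.rd fU a = FibDim.rd f (U.ι a) := fun a => by
    have h1 := FibDim.rd_comp fU W.ι a
    rw [FibDim.rd_eq_zero_of_quasiFinite W.ι, zero_add] at h1
    rw [← h1, ← FibDim.rd_opens f U a]
    simp only [hfU]
  have hdim : topologicalKrullDim ↥(fU.fiber (fU xU)) = n := by
    refine le_antisymm ((FibDim.topologicalKrullDim_fiber_le_iff fU _ n).2 fun a ha => ?_)
      ((FibDim.le_topologicalKrullDim_fiber_iff fU _ n).2 ⟨zU, hzs, le_of_eq ((hrdU zU).trans hrd).symm⟩)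
    rw [hrdU]
    exact hdimO _ (hUsub a.2).2 (by rw [← happ a, ha, happ]; rfl)
  -- the chosen point is closed in the fibre of the chart
  have hclU : IsClosed ({fU.asFiber xU} : Set ↥(fU.fiber (fU xU))) := by
    rw [← (fU.fiberHomeo (fU xU)).isClosed_image, Set.image_singleton]
    have h0 : IsClosed ({⟨x, rfl⟩} : Set ↥(f ⁻¹' {f x})) := by
      have h := (f.fiberHomeo (f x)).isClosedMap _ hxcl
      rw [Set.image_singleton] at h
      simpa only [Scheme.Hom.asFiber, Homeomorph.apply_symm_apply] using h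
    let e : ↥(fU ⁻¹' {fU xU}) → ↥(f ⁻¹' {f x}) := fun a => ⟨U.ι a.1, by
      show f (U.ι a.1) = f x
      rw [← happ, show fU a.1 = fU xU from a.2, happ]; rfl⟩
    have he : Continuous e := (U.ι.continuous.comp continuous_subtype_val).subtype_mk _
    have h1 := h0.preimage he
    convert h1 using 1
    ext a
    simp only [Scheme.Hom.asFiber, Homeomorph.apply_symm_apply, Set.mem_singleton_iff, Set.mem_preimage]
    exact ⟨fun h => by rw [h]; rfl, fun h => Subtype.ext (U.ι.isOpenEmbedding.injective (congrArg Subtype.val h))⟩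
  obtain ⟨t, htfin, htx⟩ := exists_fibrePoly_finite_vanishing fU (fU xU) xU rfl (fU.asFiber xU)
    (Scheme.Hom.fiberι_asFiber fU xU) hclU n hdim
  let A := 𝔸(ULift.{u} (Fin n); (W : Scheme.{u}))
  let q : A ⟶ (W : Scheme.{u}) := 𝔸(ULift.{u} (Fin n); (W : Scheme.{u})) ↘ (W : Scheme.{u})
  let g : (U : Scheme.{u}) ⟶ A := AffineSpace.homOfVector fU fun i : ULift.{u} (Fin n) => t i.down
  have hgq : g ≫ q = fU := AffineSpace.homOfVector_over _ _
  haveI : LocallyOfFiniteType (g ≫ q) := by rw [hgq]; infer_instance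
  haveI : LocallyOfFiniteType g := locallyOfFiniteType_of_comp g q
  -- quasi-finite at the points of the fibre
  have hqfg : g.QuasiFiniteAt xU := by
    haveI := isFinite_chart fU (fU xU) t htfin
    rw [Scheme.Hom.quasiFiniteAt_iff_isOpen_singleton_asFiber]
    haveI : DiscreteTopology ↥(g ⁻¹' {g xU}) := by
      refine isDiscrete_iff_discreteTopology.1 ?_
      obtain ⟨b, hb⟩ : g xU ∈ Set.range (q.fiberι (fU xU)) := by
        rw [Scheme.Hom.range_fiberι]
        show q (g xU) = fU xU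
        rw [← Scheme.Hom.comp_apply, hgq]
      refine (((pullback.snd g (q.fiberι (fU xU))).isDiscrete_preimage_singleton b).image
        (pullback.fst g (q.fiberι (fU xU))).isEmbedding.toIsInducing).mono ?_
      intro a ha
      obtain ⟨c, hc1, hc2⟩ := Scheme.Pullback.exists_preimage_pullback a b
        (show g a = q.fiberι (fU xU) b by rw [hb]; exact ha)
      exact ⟨c, hc2, hc1⟩
    rw [← (g.fiberHomeo (g xU)).isOpen_image]
    exact isOpen_discrete _
  let Q := g.quasiFiniteLocus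
  have hxQ : xU ∈ Q := hqfg
  have hzQ : zU ∈ Q := (U.ι.isOpenEmbedding.isInducing.specializes_iff.1 (show U.ι zU ⤳ U.ι xU from hzx)).mem_open
    Q.isOpen hxQ
  let u : (Q : Scheme.{u}) ⟶ A := Q.ι ≫ g
  let f' : (Q : Scheme.{u}) ⟶ (W : Scheme.{u}) := Q.ι ≫ fU
  have hu : u ≫ q = f' := by simp only [u, f', Category.assoc, hgq]
  let xQ : (Q : Scheme.{u}) := ⟨xU, hxQ⟩
  let zQ : (Q : Scheme.{u}) := ⟨zU, hzQ⟩
  have hzxQ : zQ ⤳ xQ := (Q.ι ≫ U.ι).isOpenEmbedding.isInducing.specializes_iff.1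
    (show (Q.ι ≫ U.ι) zQ ⤳ (Q.ι ≫ U.ι) xQ from hzx)
  have hfzQ : f' zQ = f' xQ := hzs
  have hopen' : EGA43.IsUnivOpenAt f' zQ := by
    refine univOpenAt_of_comp_mono f' W.ι zQ ?_
    have e : f' ≫ W.ι = (Q.ι ≫ U.ι) ≫ f := by simp only [f', Category.assoc, hfU]
    rw [e]
    exact QHomeo.univOpenAt_comp (univOpenAt_of_isOpenImmersion _ _) hopen
  have hrd' : FibDim.rd f' zQ = n := by
    show FibDim.rd (Q.ι ≫ fU) zQ = n
    rw [FibDim.rd_opens fU Q zQ]
    exact (hrdU zU).trans hrd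
  have huo : EGA43.IsUnivOpenAt u xQ := univOpenAt_qf_to_affineSpace f' n u hu zQ xQ hzxQ hfzQ
    (fun w hw => qf_image_generic_of_rd f' n u hu zQ hrd' w (hw.trans hfzQ.symm)) hopen'
  -- the zero section
  let σ : (W : Scheme.{u}) ⟶ A := AffineSpace.homOfVector (𝟙 _) fun _ => 0
  have hσq : σ ≫ q = 𝟙 _ := AffineSpace.homOfVector_over _ _
  haveI : IsClosedImmersion (σ ≫ q) := by rw [hσq]; infer_instance
  haveI : IsClosedImmersion σ := IsClosedImmersion.of_comp σ q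
  have hux : σ (fU xU) = g xU := by
    have e : (U : Scheme.{u}).fromSpecResidueField xU ≫ g = ((U : Scheme.{u}).fromSpecResidueField xU ≫ fU) ≫ σ := by
      refine AffineSpace.hom_ext ?_ fun i => ?_
      · rw [Category.assoc, Category.assoc, show g ≫ q = fU from hgq, show σ ≫ q = 𝟙 _ from hσq, Category.comp_id]
      · rw [Scheme.Hom.comp_appTop, Scheme.Hom.comp_appTop, CommRingCat.comp_apply, CommRingCat.comp_apply,
          AffineSpace.homOfVector_appTop_coord, AffineSpace.homOfVector_appTop_coord, map_zero,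
          FibDim.fromSpecResidueField_appTop, CommRingCat.comp_apply, htx, map_zero]
    have h1 := congrArg (fun (φ : Spec ((U : Scheme.{u}).residueField xU) ⟶ A) =>
      φ (IsLocalRing.closedPoint ((U : Scheme.{u}).residueField xU))) e
    simp only [Scheme.Hom.comp_apply, Scheme.fromSpecResidueField_apply] at h1
    exact h1.symm
  haveI : LocallyOfFinitePresentation (u ≫ q) := by rw [hu]; infer_instance
  haveI : LocallyOfFinitePresentation u := S12442.locallyOfFinitePresentation_of_comp u q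
  haveI : LocallyQuasiFinite u := inferInstanceAs (LocallyQuasiFinite (g.quasiFiniteLocus.ι ≫ g))
  obtain ⟨p, hp1, hp2⟩ := Scheme.Pullback.exists_preimage_pullback (f := u) (g := σ) xQ (fU xU)
    (show g xU = σ (fU xU) from hux.symm)
  have hop2 : EGA43.IsUnivOpenAt (pullback.snd u σ) p :=
    QHomeo.univOpenAt_of_isPullback huo (IsPullback.of_hasPullback u σ) p hp1
  obtain ⟨S', S'', hS', w, π, k, hw, hπ, hπs, hπp, hk, s'', hs'', hks, hkres⟩ :=
    exists_finite_nbhd (pullback.snd u σ) p ((pullback.snd u σ).quasiFiniteAt p) hop2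
  haveI := hw
  have hpu : pullback.fst u σ ≫ f' = pullback.snd u σ := by
    rw [← hu, pullback.condition_assoc, hσq, Category.comp_id]
  refine ⟨S', S'', hS', w ≫ W.ι, π, k ≫ pullback.fst u σ ≫ Q.ι ≫ U.ι, inferInstance, hπ, hπs, hπp, ?_, s'', ?_, ?_, ?_⟩
  · have e : (Q.ι ≫ U.ι) ≫ f = f' ≫ W.ι := by simp only [f', Category.assoc, hfU]
    rw [Category.assoc, Category.assoc, e, reassoc_of% hpu, reassoc_of% hk]
  · rw [← hs'', hp2]
    ext a
    simp only [Set.mem_preimage, Set.mem_singleton_iff]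
    rw [show f x = W.ι (fU xU) from (happ xU).symm]
    show W.ι ((π ≫ w) a) = _ ↔ _
    exact W.ι.isOpenEmbedding.injective.eq_iff
  · show U.ι (Q.ι (pullback.fst u σ (k s''))) = x
    rw [hks, hp1]; rfl
  · refine MorLib.EEF.bijective_rfm_comp _ _ _ hkres ?_
    refine MorLib.EEF.bijective_rfm_comp _ _ _ (RadPtLib.bijective_residueFieldMap _ _) ?_
    exact MorLib.EEF.bijective_rfm_comp _ _ _ (MorLib.EEF.bijective_rfm_isOpenImmersion _ _)
      (MorLib.EEF.bijective_rfm_isOpenImmersion _ _)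

end Groth.Agent.GrpFieldLib
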