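import Groth.Agent.GrpFieldLib.FibreClosure
import Groth.Agent.GrpFieldLib.QSection

/-!
# Quasi-sections translating finitely many points of a fibre into an open subset (SGA3 VI_B 5)
-/

set_option backward.isDefEq.respectTransparency false
set_option backward.isDefEq.respectTransparency.types false

universe u

open CategoryTheory MonoidalCategory CartesianMonoidalCategory MonObj GrpObj AlgebraicGeometry
open Limits TopologicalSpace
open scoped CategoryTheory.Obj
open Groth.Agent.GrpSchLib (IsMaxPt left_comp_apply)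

namespace Groth.Agent.GrpFieldLib

/-- A universally open morphism is universally open at every point. -/
theorem isUnivOpenAt_of_universallyOpen {A B : Scheme.{u}} (f : A ⟶ B) [UniversallyOpen f] (x : A) :
    EGA43.IsUnivOpenAt f x := by
  intro Y' g x' _ U hU
  haveI : UniversallyOpen (pullback.snd f g) := inferInstance
  exact (pullback.snd f g).isOpenMap.image_mem_nhds hU

/-- A rational point of a scheme locally of finite type over a field is closed. -/
theorem isClosed_rationalPt {K : Type u} [Field K] {Y : Over (Spec (CommRingCat.of K))} [LocallyOfFiniteType Y.hom]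
    (g : 𝟙_ _ ⟶ Y) : IsClosed ({g.left (pt K)} : Set Y.left) := by
  haveI := LocallyOfFiniteType.jacobsonSpace Y.hom
  haveI := FibDim.subsingleton_spec_field K
  refine isClosed_singleton_of_isLocallyClosed_singleton ?_
  obtain ⟨V, hV, hgV, -⟩ := exists_isAffineOpen_mem_and_subset (x := g.left (pt K)) (U := ⊤) trivial
  let g' : Spec (CommRingCat.of K) ⟶ Y.left := g.left
  have hr : Set.range g' ⊆ Set.range V.ι := by
    rintro _ ⟨v, rfl⟩
    rw [Subsingleton.elim (α := ↥(Spec (CommRingCat.of K))) v (pt K), Scheme.Opens.range_ι]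
    exact hgV
  let gV := IsOpenImmersion.lift V.ι g' hr
  have hgι : gV ≫ V.ι = g' := IsOpenImmersion.lift_fac _ _ _
  haveI : IsAffine (V : Scheme.{u}) := hV
  haveI : IsAffineHom (V.ι ≫ Y.hom) := inferInstance
  haveI : IsClosedImmersion (gV ≫ V.ι ≫ Y.hom) := by
    rw [← Category.assoc, hgι]
    have : g' ≫ Y.hom = 𝟙 _ := Over.w g
    rw [this]; infer_instance
  haveI : IsClosedImmersion gV := IsClosedImmersion.of_comp gV (V.ι ≫ Y.hom)
  have h1 : IsLocallyClosed (V.ι '' Set.range gV) :=
    (gV.isClosedEmbedding.isClosed_range.isLocallyClosed).image V.ι.isEmbedding.isInducing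
      (by rw [Scheme.Opens.range_ι]; exact V.isOpen.isLocallyClosed)
  convert h1 using 1
  ext y
  constructor
  · rintro rfl
    refine ⟨gV (pt K), ⟨_, rfl⟩, ?_⟩
    rw [← Scheme.Hom.comp_apply, hgι]; rfl
  · rintro ⟨_, ⟨v, rfl⟩, rfl⟩
    rw [← Scheme.Hom.comp_apply, hgι, Subsingleton.elim (α := ↥(Spec (CommRingCat.of K))) v (pt K)]
    rfl

variable {S : Scheme.{u}}

/-- The relative dimension of a group scheme is bounded on each fibre by that of its maximal points. -/
theorem rd_le_of_isMaxPt (G : Over S) [GrpObj G] [LocallyOfFiniteType G.hom] (s : S) {c : G.hom.fiber s}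
    (hc : IsMaxPt c) {b : G.left} (hb : G.hom b = s) :
    FibDim.rd G.hom b ≤ FibDim.rd G.hom (G.hom.fiberι s c) := by
  let H := (Over.pullback (S.fromSpecResidueField s)).obj G
  haveI : LocallyOfFiniteType H.hom := inferInstanceAs (LocallyOfFiniteType (pullback.snd G.hom _))
  obtain ⟨d, hd⟩ := GrpSchLib.exists_height_isMaxPt (k := S.residueField s) H
  obtain ⟨b', hb'⟩ : b ∈ Set.range (G.hom.fiberι s) := by rw [Scheme.Hom.range_fiberι]; exact hb
  obtain ⟨m, hm, hmb⟩ := GrpSchLib.exists_isMaxPt b'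
  have h1 := VarDim.deg_le_of_specializes (k := S.residueField s) (G.hom.fiberToSpecResidueField s) hmb
  have h2 : VarDim.deg (k := S.residueField s) (G.hom.fiberToSpecResidueField s) m = d := hd m hm
  have h3 : VarDim.deg (k := S.residueField s) (G.hom.fiberToSpecResidueField s) c = d := hd c hc
  rw [h2, ← h3, FibDim.deg_fiber, FibDim.deg_fiber, hb'] at h1
  exact_mod_cast h1

/-- Quasi-sections of a group translating finitely many points of a fibre into an open subset. -/
theorem exists_quasiSection_translate (G X : Over S) [GrpObj G] [LocallyOfFinitePresentation G.hom]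
    (hGo : ∃ W : G.left.Opens, (∀ p : ↥(𝟙_ (Over S)).left, η[G].left p ∈ W) ∧ UniversallyOpen (W.ι ≫ G.hom))
    (a : AlgGrp.Action G X) (hΦ : Surjective (lift a.act (snd G X)).left)
    (U : X.left.Opens) (s : S) (hft : LocallyOfFiniteType (X.hom.fiberToSpecResidueField s))
    (hdense : X.hom ⁻¹' {s} ⊆ closure ((U : Set X.left) ∩ X.hom ⁻¹' {s}))
    (A : Set X.left) (hA : A.Finite) (hAs : A ⊆ X.hom ⁻¹' {s}) :
    ∃ (S' S'' : Scheme.{u}) (w : S' ⟶ S) (π : S'' ⟶ S') (h : Over.mk (π ≫ w) ⟶ G),
      Etale w ∧ IsFinite π ∧ Surjective π ∧ (∃ s₀ : S'', (π ≫ w) ⁻¹' {s} = {s₀}) ∧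
      ∀ z : ↥(X ⊗ Over.mk (π ≫ w)).left, (fst X (Over.mk (π ≫ w))).left z ∈ A →
        (lift (snd X (Over.mk (π ≫ w)) ≫ h) (fst X (Over.mk (π ≫ w))) ≫ a.act).left z ∈ U := by
  classical
  obtain ⟨W, hW1, hW⟩ := hGo
  -- the geometric fibre
  let k := AlgebraicClosure (S.residueField s)
  let φ : S.residueField s ⟶ CommRingCat.of k := CommRingCat.ofHom (algebraMap (S.residueField s) k)
  have hint : IsIntegralHom (Spec.map φ) :=
    (IsIntegralHom.SpecMap_iff).mpr (algebraMap_isIntegral_iff.mpr inferInstance)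
  let j := fibPt s φ
  let F := Over.pullback j
  haveI := hft
  haveI : LocallyOfFiniteType (F.obj X).hom := locallyOfFiniteType_pullback_snd s φ X
  haveI : LocallyOfFiniteType (F.obj G).hom := inferInstanceAs (LocallyOfFiniteType (pullback.snd G.hom j))
  haveI := LocallyOfFiniteType.jacobsonSpace (X.hom.fiberToSpecResidueField s)
  let Uk : (F.obj X).left.Opens := (toFib s φ X) ⁻¹ᵁ ((X.hom.fiberι s) ⁻¹ᵁ U)
  have hUk : Dense (Uk : Set (F.obj X).left) := by
    haveI := universallyOpen_toFib s φ X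
    have h : Dense ((X.hom.fiberι s) ⁻¹' (U : Set X.left)) := ?_
    · exact h.preimage (toFib s φ X).isOpenMap
    intro x
    show x ∈ closure ((X.hom.fiberι s) ⁻¹' (U : Set X.left))
    rw [(X.hom.fiberι s).isEmbedding.closure_eq_preimage_closure_image, Set.image_preimage_eq_inter_range,
      Scheme.Hom.range_fiberι]
    refine hdense ?_
    have : X.hom.fiberι s x ∈ Set.range (X.hom.fiberι s) := ⟨x, rfl⟩
    rwa [Scheme.Hom.range_fiberι] at this
  let Wk : (F.obj G).left.Opens := pullback.fst G.hom j ⁻¹ᵁ W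
  have hWk : (Wk : Set (F.obj G).left).Nonempty := by
    obtain ⟨p, hp, -⟩ := Scheme.Pullback.exists_preimage_pullback (f := G.hom) (g := j)
      (η[G].left s) (IsLocalRing.closedPoint k) (by
        rw [fibPt_apply, ← Scheme.Hom.comp_apply, Over.w η[G]]; rfl)
    refine ⟨p, ?_⟩
    show pullback.fst G.hom j p ∈ W
    rw [hp]; exact hW1 s
  -- closed points above the given points
  have hx : ∀ b : A, ∃ x a' : X.hom.fiber s, X.hom.fiberι s a' = b.1 ∧ a' ⤳ x ∧ IsClosed ({x} : Set ↥(X.hom.fiber s)) := by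
    intro b
    obtain ⟨a', ha'⟩ : b.1 ∈ Set.range (X.hom.fiberι s) := by rw [Scheme.Hom.range_fiberι]; exact hAs b.2
    obtain ⟨x, hx, hxc⟩ := nonempty_inter_closedPoints (X := ↥(X.hom.fiber s)) (Z := closure {a'})
      ⟨a', subset_closure rfl⟩ isClosed_closure.isLocallyClosed
    exact ⟨x, a', ha', specializes_iff_mem_closure.2 hx, hxc⟩
  choose x a' ha' hax hxc using hx
  haveI := hA.to_subtype
  obtain ⟨g, hgW, hgU⟩ := exists_translate_into (bcAction j a) (surjective_bcAction j a hΦ) hUk
    (B := ⋃ b : A, toFib s φ X ⁻¹' {x b})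
    (Set.finite_iUnion fun b => (finite_toFib_preimage s φ X hint (x b) (hxc b)).1)
    (fun b hb => by
      obtain ⟨i, hi⟩ := Set.mem_iUnion.1 hb
      exact (finite_toFib_preimage s φ X hint (x i) (hxc i)).2 b hi) hWk
  -- every point above the given ones is translated into the open
  have hgood : ∀ v : (F.obj X).left, pullback.fst X.hom j v ∈ A →
      pullback.fst X.hom j ((transl (bcAction j a) g).hom.left v) ∈ U := by
    intro v hv
    rw [← toFib_fiberι_apply] at hv ⊢
    have hva : toFib s φ X v = a' ⟨_, hv⟩ := (X.hom.fiberι s).isEmbedding.injective (ha' ⟨_, hv⟩).symm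
    obtain ⟨b, hb, hbx⟩ : x ⟨_, hv⟩ ∈ toFib s φ X '' closure {v} :=
      closure_minimal (Set.singleton_subset_iff.2 ⟨v, subset_closure rfl, hva⟩ : ({a' ⟨_, hv⟩} : Set _) ⊆ toFib s φ X '' closure {v})
        (isClosedMap_toFib s φ X hint _ isClosed_closure) (hax ⟨_, hv⟩).mem_closure
    exact ((specializes_iff_mem_closure.2 hb).map (transl (bcAction j a) g).hom.left.continuous).mem_open
      Uk.isOpen (hgU b (Set.mem_iUnion.2 ⟨_, hbx⟩))
  -- the point of the group
  let q : (F.obj G).left := g.left (pt k)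
  haveI := LocallyOfFiniteType.jacobsonSpace (F.obj G).hom
  have hqc : IsClosed ({q} : Set (F.obj G).left) :=
    isClosed_rationalPt g
  let pG : G.hom.fiber s := toFib s φ G q
  have hpGc : IsClosed ({pG} : Set ↥(G.hom.fiber s)) := by
    have := isClosedMap_toFib s φ G hint _ hqc
    rwa [Set.image_singleton] at this
  let gG : Spec (CommRingCat.of k) ⟶ G.left := g.left ≫ pullback.fst G.hom j
  have hgG : gG ≫ G.hom = j := by
    rw [Category.assoc, pullback.condition, ← Category.assoc]
    exact (congrArg (· ≫ j) (Over.w g)).trans (Category.id_comp j)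
  have hrange : Set.range gG ⊆ Set.range W.ι := by
    rintro _ ⟨v, rfl⟩
    haveI := FibDim.subsingleton_spec_field k
    rw [Subsingleton.elim (α := ↥(Spec (CommRingCat.of k))) v (pt k), Scheme.Opens.range_ι, Scheme.Hom.comp_apply]
    exact hgW
  let gW := IsOpenImmersion.lift W.ι gG hrange
  have hgWι : gW ≫ W.ι = gG := IsOpenImmersion.lift_fac _ _ _
  haveI : UniversallyOpen (W.ι ≫ G.hom) := hW
  let f := W.ι ≫ G.hom
  let xW := gW (pt k)
  have hxW : W.ι xW = G.hom.fiberι s pG := by
    show W.ι (gW (pt k)) = _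
    rw [← Scheme.Hom.comp_apply, hgWι, toFib_fiberι_apply, Scheme.Hom.comp_apply]; rfl
  have hfxW : f xW = s := by
    show (W.ι ≫ G.hom) (gW (pt k)) = s
    rw [← Scheme.Hom.comp_apply, ← Category.assoc, hgWι, hgG]
    exact fibPt_apply s φ _
  obtain ⟨c, hc, hcp⟩ := GrpSchLib.exists_isMaxPt pG
  have hcW : G.hom.fiberι s c ∈ W :=
    (hcp.map (G.hom.fiberι s).continuous).mem_open W.isOpen (hxW ▸ xW.2)
  let zW : (W : Scheme.{u}) := ⟨_, hcW⟩
  have hzx : zW ⤳ xW := by
    rw [subtype_specializes_iff]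
    exact (hcp.map (G.hom.fiberι s).continuous).trans (specializes_of_eq hxW.symm)
  have hfz : f zW = f xW := by
    rw [hfxW]
    have : G.hom.fiberι s c ∈ Set.range (G.hom.fiberι s) := ⟨c, rfl⟩
    rwa [Scheme.Hom.range_fiberι] at this
  have hxcl : IsClosed ({f.asFiber xW} : Set ↥(f.fiber (f xW))) := by
    rw [← (f.fiberHomeo (f xW)).isClosed_image, Set.image_singleton]
    simp only [Scheme.Hom.asFiber, Homeomorph.apply_symm_apply]
    let e : ↥(f ⁻¹' {f xW}) → ↥(G.hom ⁻¹' {s}) := fun v => ⟨W.ι v.1, by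
      show G.hom (W.ι v.1) = s
      rw [← Scheme.Hom.comp_apply, show f v.1 = f xW from v.2, hfxW]⟩
    have he : Continuous e := (W.ι.continuous.comp continuous_subtype_val).subtype_mk _
    have h1 := ((G.hom.fiberHomeo s).isClosedMap _ hpGc).preimage he
    rw [Set.image_singleton] at h1
    convert h1 using 1
    ext v
    simp only [Set.mem_singleton_iff, Set.mem_preimage]
    constructor
    · rintro rfl
      exact Subtype.ext hxW
    · intro h
      exact Subtype.ext (W.ι.isOpenEmbedding.injective ((congrArg Subtype.val h).trans hxW.symm))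
  obtain ⟨S', S'', -, w, π, h, hw, hπ, hπs, -, hh, s'', hs'', hhs, hbij⟩ :=
    exists_quasiSection f zW xW (FibDim.rd f zW) hzx hfz rfl hxcl (isUnivOpenAt_of_universallyOpen f zW) ⊤ trivial
      fun v _ hv => by
        rw [FibDim.rd_opens, FibDim.rd_opens]
        refine rd_le_of_isMaxPt G s hc ?_
        rw [← Scheme.Hom.comp_apply]; exact hv.trans hfxW
  rw [hfxW] at hs''
  let T' := Over.mk (π ≫ w)
  let hG : T' ⟶ G := Over.homMk (h ≫ W.ι) (by rw [Category.assoc]; exact hh)
  refine ⟨S', S'', w, π, hG, hw, hπ, hπs, ⟨s'', hs''⟩, fun z hz => ?_⟩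
  obtain ⟨t, ht, hth⟩ := exists_lift_point h s'' hbij gW (hhs.symm ▸ rfl)
  have htj : t ≫ π ≫ w = j := by
    rw [← hh, ← Category.assoc, hth, ← Category.assoc, hgWι, hgG]
  -- lift the point to the geometric fibre
  have hz1 : X.hom ((fst X T').left z) = s := hAs hz
  have hz2 : (snd X T').left z = s'' := by
    have : (snd X T').left z ∈ (π ≫ w) ⁻¹' {s} := by
      have e := congrArg (fun e : (X ⊗ T').left ⟶ S => e z) ((Over.w (snd X T')).trans (Over.w (fst X T')).symm)
      simp only [Scheme.Hom.comp_apply] at e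
      exact e.trans hz1
    rwa [hs''] at this
  let u : (F.obj X).left ⟶ (X ⊗ T').left :=
    pullback.lift (pullback.fst X.hom j) (pullback.snd X.hom j ≫ t)
      (by rw [pullback.condition, Category.assoc]; exact congrArg _ htj.symm)
  have hu1 : u ≫ (fst X T').left = pullback.fst X.hom j := pullback.lift_fst _ _ _
  have hu2 : u ≫ (snd X T').left = pullback.snd X.hom j ≫ t := pullback.lift_snd _ _ _
  have hpb : IsPullback u (pullback.snd X.hom j) (snd X T').left t := by
    refine IsPullback.of_right (t := IsPullback.of_hasPullback X.hom (π ≫ w)) ?_ hu2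
    rw [show u ≫ pullback.fst X.hom (π ≫ w) = pullback.fst X.hom j from pullback.lift_fst _ _ _, htj]
    exact IsPullback.of_hasPullback X.hom j
  obtain ⟨v, hv, -⟩ := Scheme.Pullback.exists_preimage_pullback (f := (snd X T').left) (g := t) z (pt k)
    (hz2.trans ht.symm)
  obtain ⟨v, rfl⟩ : z ∈ Set.range u := ⟨hpb.isoPullback.inv v, by
    rw [← Scheme.Hom.comp_apply, hpb.isoPullback_inv_fst]; exact hv⟩
  have key : u ≫ (lift (snd X T' ≫ hG) (fst X T') ≫ a.act).left =
      (transl (bcAction j a) g).hom.left ≫ pullback.fst X.hom j := by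
    let Z' : Over S := Over.mk (u ≫ (X ⊗ T').hom)
    let uZ : Z' ⟶ X ⊗ T' := Over.homMk u rfl
    refine ((congrArg (fun e : Z' ⟶ X => e.left) (show uZ ≫ lift (snd X T' ≫ hG) (fst X T') ≫ a.act =
      lift (uZ ≫ snd X T' ≫ hG) (uZ ≫ fst X T') ≫ a.act by rw [← Category.assoc, comp_lift])).trans
      (act_proj a j (Z := F.obj X) (toUnit (F.obj X) ≫ g) (𝟙 (F.obj X))
        (uZ ≫ snd X T' ≫ hG) (uZ ≫ fst X T') (𝟙 _) ?_ ?_).symm).trans (Category.id_comp _)
    · rw [Category.id_comp]
      show (pullback.snd X.hom j ≫ g.left) ≫ pullback.fst G.hom j = u ≫ (snd X T').left ≫ h ≫ W.ι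
      rw [← Category.assoc u, hu2, Category.assoc, Category.assoc, ← Category.assoc t, hth, hgWι]
    · rw [Category.id_comp]
      show 𝟙 _ ≫ pullback.fst X.hom j = u ≫ (fst X T').left
      rw [Category.id_comp, hu1]
  rw [← Scheme.Hom.comp_apply, key, Scheme.Hom.comp_apply]
  refine hgood v ?_
  rw [← hu1, Scheme.Hom.comp_apply]; exact hz

end Groth.Agent.GrpFieldLib
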