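import Groth.Agent.GrpQuotLib.Components
import Groth.Agent.S12442
import Groth.Agent.GrpSchLib.AntiAffineHom
import Groth.Prelude.Def_AGF

/-! The quotient by the reduced neutral component is finite. -/

set_option autoImplicit false
set_option backward.isDefEq.respectTransparency false
set_option linter.style.haveILetI false

universe u

open CategoryTheory CategoryTheory.Limits MonoidalCategory CartesianMonoidalCategory AlgebraicGeometry MonObj TopologicalSpace

namespace Groth.Agent.GrpFieldLib.QuotFin

/-- Inversion turns right cosets into left cosets. -/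
theorem isPullback_inv {S : Scheme.{u}} {F G X : Over S} [GrpObj F] [GrpObj G] (r : F ⟶ G) (q : G ⟶ X)
    (h : IsPullback (fst G F) ((G ◁ r) ≫ μ[G]) q q) :
    IsPullback ((r ▷ G) ≫ μ[G]) (snd F G) (GrpObj.inv (X := G) ≫ q) (GrpObj.inv (X := G) ≫ q) := by
  let a : F ⊗ G ⟶ G := (snd F G)⁻¹ * (fst F G ≫ r)⁻¹
  let e : F ⊗ G ⟶ G ⊗ F := lift a (fst F G)
  let e' : G ⊗ F ⟶ F ⊗ G := lift (snd G F) ((snd G F ≫ r)⁻¹ * (fst G F)⁻¹)
  let eI : F ⊗ G ≅ G ⊗ F :=
    { hom := e
      inv := e'
      hom_inv_id := by
        apply CartesianMonoidalCategory.hom_ext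
        · simp [e, e']
        · simp [e, e', a, MonObj.comp_mul, GrpObj.comp_inv, comp_lift]
      inv_hom_id := by
        apply CartesianMonoidalCategory.hom_ext
        · simp [e, e', a, MonObj.comp_mul, GrpObj.comp_inv, comp_lift]
        · simp [e, e'] }
  let iI : G ≅ G :=
    { hom := GrpObj.inv (X := G)
      inv := GrpObj.inv (X := G)
      hom_inv_id := GrpObj.inv_comp_inv G
      inv_hom_id := GrpObj.inv_comp_inv G }
  have hi : ∀ {T : Over S} (x : T ⟶ G), x ≫ GrpObj.inv (X := G) = x⁻¹ := fun x => rfl
  refine IsPullback.of_iso h eI.symm iI iI (Iso.refl X) ?_ ?_ ?_ ?_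
  · show fst G F ≫ GrpObj.inv = e' ≫ (r ▷ G) ≫ μ[G]
    rw [hi, lift_whiskerRight_assoc, ← Hom.mul_def, mul_inv_cancel_left]
  · show ((G ◁ r) ≫ μ[G]) ≫ GrpObj.inv = e' ≫ snd F G
    rw [hi, lift_snd, show (G ◁ r) ≫ μ[G] = fst G F * (snd G F ≫ r) by
      rw [Hom.mul_def]; congr 1, mul_inv_rev]
  · show q ≫ 𝟙 X = GrpObj.inv ≫ GrpObj.inv ≫ q
    rw [Category.comp_id, ← Category.assoc, GrpObj.inv_comp_inv, Category.id_comp]
  · show q ≫ 𝟙 X = GrpObj.inv ≫ GrpObj.inv ≫ q
    rw [Category.comp_id, ← Category.assoc, GrpObj.inv_comp_inv, Category.id_comp]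

variable {k : Type u} [Field k] {G F X : Over (Spec (.of k))} [GrpObj G] [GrpObj F]
  [LocallyOfFiniteType G.hom] [QuasiCompact G.hom] [LocallyOfFiniteType F.hom] [QuasiCompact F.hom]

/-- A quotient by a subgroup whose underlying space is a connected component is finite. -/
theorem isFinite_quot (r : F ⟶ G) (hr : Topology.IsEmbedding r.left) (g₀ : G.left)
    (hrange : Set.range r.left = connectedComponent g₀) (q : G ⟶ X) [LocallyOfFiniteType X.hom] [Flat q.left]
    [Surjective q.left] (h : IsPullback (fst G F) ((G ◁ r) ≫ μ[G]) q q) : IsFinite X.hom := by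
  haveI : LocallyOfFinitePresentation G.hom := LocallyOfFinitePresentation.iff_locallyOfFiniteType.2 inferInstance
  haveI : IsIso (GrpObj.inv (X := G)).left :=
    ⟨(GrpObj.inv (X := G)).left, congrArg CommaMorphism.left (GrpObj.inv_comp_inv G), congrArg CommaMorphism.left (GrpObj.inv_comp_inv G)⟩
  haveI : LocallyOfFinitePresentation q.left := by
    haveI : LocallyOfFinitePresentation (q.left ≫ X.hom) := by rw [Over.w]; infer_instance
    exact S12442.locallyOfFinitePresentation_of_comp q.left X.hom
  let p : G ⟶ X := GrpObj.inv (X := G) ≫ q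
  haveI : Flat p.left := inferInstanceAs (Flat ((GrpObj.inv (X := G)).left ≫ q.left))
  haveI : Surjective p.left := inferInstanceAs (Surjective ((GrpObj.inv (X := G)).left ≫ q.left))
  haveI : LocallyOfFinitePresentation p.left :=
    inferInstanceAs (LocallyOfFinitePresentation ((GrpObj.inv (X := G)).left ≫ q.left))
  have hd : topologicalKrullDim F.left = topologicalKrullDim G.left := by
    rw [← GrpQuotLib.dim_grp_component g₀, ← hrange]
    exact hr.toHomeomorph.isHomeomorph.topologicalKrullDim_eq
  haveI : Nonempty F.left := ⟨η[F].left (IsLocalRing.closedPoint k)⟩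
  obtain ⟨n, hn⟩ := GrpQuotLib.exists_nat_dim (F := F)
  have hdim : ∀ x : X.left, topologicalKrullDim ↥(connectedComponent x) ≤ 0 := fun x => by
    have e := (GrpQuotLib.component_props (u := r) (p := p) ⟨inferInstance, inferInstance, inferInstance⟩
      (isPullback_inv r q h) x).2.2
    rw [← hd, hn] at e
    generalize topologicalKrullDim ↥(connectedComponent x) = d at e
    induction d with
    | bot => exact bot_le
    | coe d =>
      induction d with
      | top =>
        have e' : (⊤ : ℕ∞) + n = n := WithBot.coe_injective (by rw [WithBot.coe_add]; exact e)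
        simp at e'
      | coe d =>
        have e' : d + n = n := by exact_mod_cast e
        obtain rfl : d = 0 := by omega
        rfl
  haveI : CompactSpace G.left := QuasiCompact.compactSpace_of_compactSpace G.hom
  haveI : CompactSpace X.left := q.left.surjective.compactSpace q.left.continuous
  haveI : IsLocallyNoetherian X.left := LocallyOfFiniteType.isLocallyNoetherian X.hom
  haveI : IsNoetherian X.left := {}
  have hclosed : ∀ x : X.left, ∀ y, x ⤳ y → x = y := fun x y hxy => by
    by_contra hne
    let A : IrreducibleCloseds ↥(connectedComponent x) := ⟨closure {⟨x, mem_connectedComponent⟩}, isIrreducible_singleton.closure, isClosed_closure⟩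
    have hyc : y ∈ connectedComponent x :=
      (isClosed_connectedComponent.closure_subset_iff.2 (Set.singleton_subset_iff.2 mem_connectedComponent)) hxy.mem_closure
    let B : IrreducibleCloseds ↥(connectedComponent x) := ⟨closure {⟨y, hyc⟩}, isIrreducible_singleton.closure, isClosed_closure⟩
    have hs : (⟨x, mem_connectedComponent⟩ : ↥(connectedComponent x)) ⤳ ⟨y, hyc⟩ :=
      Topology.IsEmbedding.subtypeVal.isInducing.specializes_iff.1 hxy
    have hlt : B < A := by
      refine lt_of_le_of_ne (closure_minimal (Set.singleton_subset_iff.2 hs.mem_closure) isClosed_closure) fun he => hne ?_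
      have hs' : (⟨y, hyc⟩ : ↥(connectedComponent x)) ⤳ ⟨x, mem_connectedComponent⟩ := by
        rw [specializes_iff_mem_closure]
        show _ ∈ (B : Set ↥(connectedComponent x))
        rw [he]
        exact subset_closure rfl
      exact ((hxy.antisymm (hs'.map continuous_subtype_val))).eq
    have : (1 : WithBot ℕ∞) ≤ topologicalKrullDim ↥(connectedComponent x) :=
      Order.one_le_krullDim_iff.2 ⟨B, A, hlt⟩
    exact absurd (this.trans (hdim x)) (by simp)
  haveI : Finite X.left := by
    have hfin : (irreducibleComponents X.left).Finite := NoetherianSpace.finite_irreducibleComponents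
    have hsing : ∀ Z ∈ irreducibleComponents X.left, Z.Subsingleton := fun Z hZ a ha b hb => by
      obtain ⟨g, hg⟩ := QuasiSober.sober hZ.1 (isClosed_of_mem_irreducibleComponents Z hZ)
      exact (hclosed g a (hg.specializes ha)).symm.trans (hclosed g b (hg.specializes hb))
    refine Set.finite_univ_iff.1 ?_
    rw [← sUnion_irreducibleComponents]
    exact hfin.sUnion fun Z hZ => (hsing Z hZ).finite
  haveI : QuasiCompact X.hom := (quasiCompact_iff_compactSpace X.hom).2 inferInstance
  haveI : LocallyQuasiFinite X.hom := LocallyQuasiFinite.of_finite_preimage_singleton _ fun _ => Set.toFinite _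
  exact IsFinite.of_locallyQuasiFinite X.hom

omit [LocallyOfFiniteType G.hom] [QuasiCompact G.hom] [LocallyOfFiniteType F.hom] [QuasiCompact F.hom] in
/-- A reduced connected subgroup lies in every subgroup with finite quotient. -/
theorem exists_factor {H : Over (Spec (.of k))} [GrpObj H] [IsReduced F.left] [PreconnectedSpace F.left]
    (r : F ⟶ G) [IsMonHom r] (i : H ⟶ G) (q : G ⟶ X) [IsFinite X.hom]
    (h : IsPullback (fst G H) ((G ◁ i) ≫ μ[G]) q q) : ∃ g : F ⟶ H, g ≫ i = r := by
  haveI : IsLocallyArtinian X.left := IsLocallyArtinian.of_locallyQuasiFinite X.hom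
  haveI : CompactSpace X.left := QuasiCompact.compactSpace_of_compactSpace X.hom
  haveI : IsArtinianScheme X.left := {}
  haveI : DiscreteTopology X.left := (IsArtinianScheme.iff_isNoetherian_and_discreteTopology.1 inferInstance).2
  let o : 𝟙_ (Over (Spec (CommRingCat.of k))) ⟶ X := η[G] ≫ q
  haveI : IsClosedImmersion (o.left ≫ X.hom) := by
    rw [Over.w o]; exact inferInstanceAs (IsClosedImmersion (𝟙 (Spec (CommRingCat.of k))))
  haveI : IsClosedImmersion o.left := IsClosedImmersion.of_comp o.left X.hom
  let c := IsLocalRing.closedPoint k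
  have hc : ∀ z, (r ≫ q).left z = o.left c := fun z => by
    have e0 : (r ≫ q).left (η[F].left c) = o.left c := by
      show (r ≫ q).left (η[F].left c) = (η[G] ≫ q).left c
      rw [← Scheme.Hom.comp_apply, ← Over.comp_left, ← Category.assoc, IsMonHom.one_hom r]
    rw [← e0]
    exact PreconnectedSpace.constant inferInstance (r ≫ q).left.continuous
  haveI : Surjective (pullback.fst (r ≫ q).left o.left) := ⟨fun z => by
    obtain ⟨w, hw, -⟩ := Scheme.Pullback.exists_preimage_pullback (f := (r ≫ q).left) (g := o.left) z c (hc z)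
    exact ⟨w, hw⟩⟩
  haveI := isIso_of_isClosedImmersion_of_surjective (pullback.fst (r ≫ q).left o.left)
  have e : r ≫ q = toUnit F ≫ o := by
    have e1 : (r ≫ q).left = (inv (pullback.fst (r ≫ q).left o.left) ≫ pullback.snd _ _) ≫ o.left := by
      rw [Category.assoc, ← pullback.condition, IsIso.inv_hom_id_assoc]
    have e2 : inv (pullback.fst (r ≫ q).left o.left) ≫ pullback.snd _ _ = F.hom := by
      have h' := congrArg (· ≫ X.hom) e1
      simp only [Category.assoc] at h'
      rw [Over.w (r ≫ q), Over.w o] at h'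
      exact ((congrArg (_ ≫ ·) (Category.comp_id _)).symm.trans h'.symm)
    rw [e2] at e1
    exact Over.OverMorphism.ext e1
  have e' : (1 : F ⟶ G) ≫ q = r ≫ q := by rw [e, Hom.one_def, Category.assoc]
  refine ⟨h.lift 1 r e' ≫ snd G H, ?_⟩
  have e3 := h.lift_snd 1 r e'
  have e4 : h.lift 1 r e' ≫ (G ◁ i) ≫ μ[G] = (h.lift 1 r e' ≫ fst G H) * (h.lift 1 r e' ≫ snd G H ≫ i) := by
    rw [Hom.mul_def, ← Category.assoc]
    congr 1
    apply CartesianMonoidalCategory.hom_ext <;> simp
  rw [e4, h.lift_fst, _root_.one_mul] at e3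
  simpa using e3

end Groth.Agent.GrpFieldLib.QuotFin
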