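import Groth.Agent.RegLoc6.GeomRed
import Mathlib.AlgebraicGeometry.AffineScheme
import Mathlib.RingTheory.DiscreteValuationRing.TFAE
import Mathlib.FieldTheory.PrimitiveElement

/-!
# A hypersurface model of a separably generated domain

For a finitely generated domain `A` over `k` with geometrically reduced fraction field, lifting
points of residue fields to discrete valuation rings gives a retraction of an open of affine space
onto an open of `Spec A`.
-/

set_option backward.isDefEq.respectTransparency false

universe u

open MvPolynomial TensorProduct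

namespace Groth.Agent.GrpFieldLib

variable {k : Type u} [Field k]

/-- The field of functions is generated by a transcendence basis and one more element. -/
theorem exists_generators {K : Type u} [Field K] [Algebra k K] [Algebra.EssFiniteType k K]
    [Algebra.IsGeometricallyReduced k K] :
    ∃ (d : ℕ) (x : Fin d → K) (y : K), IsTranscendenceBasis k x ∧
      IntermediateField.adjoin k (insert y (Set.range x)) = ⊤ := by
  classical
  obtain ⟨s, hs, hsep⟩ := RegLoc6.exists_separating_transcendence k K
  let E := IntermediateField.adjoin k (s : Set K)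
  haveI : Algebra.IsSeparable E K := hsep
  haveI : Algebra.EssFiniteType E K := Algebra.EssFiniteType.of_comp k E K
  haveI : Module.Finite E K := Algebra.finite_of_essFiniteType_of_isAlgebraic
  obtain ⟨y, hy⟩ := Field.exists_primitive_element E K
  let x : Fin s.card → K := fun i => (s.equivFin.symm i).1
  have hx : Set.range x = (s : Set K) := by
    ext a
    exact ⟨fun ⟨i, hi⟩ => hi ▸ (s.equivFin.symm i).2, fun ha => ⟨s.equivFin ⟨a, ha⟩, by simp [x]⟩⟩
  refine ⟨s.card, x, y, hs.comp_equiv s.equivFin.symm, ?_⟩
  · rw [hx]
    have := congrArg (IntermediateField.restrictScalars k) hy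
    rw [IntermediateField.adjoin_adjoin_left, IntermediateField.restrictScalars_top] at this
    rw [← this, Set.union_singleton]

/-- A prime ideal of polynomials in `d + 1` variables meeting those in the first `d` variables
trivially and nonzero is principal. -/
theorem exists_span_eq_of_comap_eq_bot {R : Type u} [CommRing R] [IsDomain R] [UniqueFactorizationMonoid R]
    (p : Ideal (Polynomial R)) [p.IsPrime] (hp : p.comap Polynomial.C = ⊥) (h0 : p ≠ ⊥) :
    ∃ f, Prime f ∧ p = Ideal.span {f} := by
  obtain ⟨f, hfp, hf⟩ := Ideal.IsPrime.exists_mem_prime_of_ne_bot ‹p.IsPrime› h0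
  refine ⟨f, hf, (le_antisymm ?_ (Ideal.span_le.mpr (Set.singleton_subset_iff.mpr hfp)))⟩
  intro g hg
  let E := FractionRing R
  let ι : Polynomial R →+* Polynomial E := Polynomial.mapRingHom (algebraMap R E)
  let : Algebra (Polynomial R) (Polynomial E) := ι.toAlgebra
  have : IsLocalization ((nonZeroDivisors R).map (Polynomial.C : R →+* Polynomial R)) (Polynomial E) :=
    Polynomial.isLocalization (nonZeroDivisors R) E
  let M := (nonZeroDivisors R).map (Polynomial.C : R →+* Polynomial R)
  have hd : ∀ q : Ideal (Polynomial R), q ≤ p → Disjoint (M : Set (Polynomial R)) q := fun q hq =>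
    Set.disjoint_left.mpr fun a ⟨r, hr, hra⟩ haq => by
      have : r ∈ p.comap Polynomial.C := by rw [Ideal.mem_comap, hra]; exact hq haq
      rw [hp, Ideal.mem_bot] at this
      exact zero_notMem_nonZeroDivisors (this ▸ hr)
  have hle : Ideal.span {f} ≤ p := Ideal.span_le.mpr (Set.singleton_subset_iff.mpr hfp)
  have hfP : (Ideal.span {f}).IsPrime := (Ideal.span_singleton_prime hf.ne_zero).mpr hf
  have h1 := IsLocalization.comap_map_of_isPrime_disjoint M (Polynomial E) hfP (hd _ hle)
  have h2 := IsLocalization.comap_map_of_isPrime_disjoint M (Polynomial E) ‹p.IsPrime› (hd p le_rfl)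
  have hP1 := IsLocalization.isPrime_of_isPrime_disjoint M (Polynomial E) _ hfP (hd _ hle)
  have hP2 := IsLocalization.isPrime_of_isPrime_disjoint M (Polynomial E) _ ‹p.IsPrime› (hd p le_rfl)
  have hne : Ideal.map ι (Ideal.span {f}) ≠ ⊥ := fun h => hf.ne_zero <| by
    have : ι f = 0 := by
      rw [← Ideal.mem_bot, ← h]; exact Ideal.mem_map_of_mem _ (Ideal.subset_span rfl)
    exact (Polynomial.map_injective _ (IsFractionRing.injective R E)) (by simpa [ι] using this)
  have heq : Ideal.map (algebraMap (Polynomial R) (Polynomial E)) (Ideal.span {f}) =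
      Ideal.map (algebraMap (Polynomial R) (Polynomial E)) p :=
    (hP1.isMaximal hne).eq_of_le hP2.ne_top (Ideal.map_mono hle)
  rw [← h1, heq, h2]
  exact hg

/-- A hypersurface model: a discrete valuation ring of affine space with the given residue field. -/
theorem exists_dvr_residueField {K : Type u} [Field K] [Algebra k K] [Algebra.EssFiniteType k K]
    [Algebra.IsGeometricallyReduced k K] :
    ∃ (n : ℕ) (π : MvPolynomial (Fin n) k →ₐ[k] K) (_ : (RingHom.ker π).IsPrime),
      IsDiscreteValuationRing (Localization.AtPrime (RingHom.ker π)) ∧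
      ∀ z : K, ∃ a b, π b ≠ 0 ∧ z * π b = π a := by
  obtain ⟨d, x, y, hx, hgen⟩ := exists_generators (k := k) (K := K)
  let v : Fin (d + 1) → K := Fin.cons y x
  let π : MvPolynomial (Fin (d + 1)) k →ₐ[k] K := MvPolynomial.aeval v
  haveI : (RingHom.ker π).IsPrime := RingHom.ker_isPrime _
  let e := MvPolynomial.finSuccEquiv k d
  let P' : Ideal (Polynomial (MvPolynomial (Fin d) k)) := (RingHom.ker π).comap e.symm.toRingEquiv.toRingHom
  have hπe : ∀ q, π (e.symm q) = Polynomial.eval₂ (MvPolynomial.aeval x).toRingHom y q := by
    intro q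
    have : π.toRingHom.comp e.symm.toRingEquiv.toRingHom =
        Polynomial.eval₂RingHom (MvPolynomial.aeval x).toRingHom y := by
      apply Polynomial.ringHom_ext
      · intro a
        induction a using MvPolynomial.induction_on with
        | C a =>
            have : e.symm (Polynomial.C (C a)) = C a := by
              rw [AlgEquiv.symm_apply_eq]; simp [e, MvPolynomial.finSuccEquiv_apply]
            simp [π, this]
        | add p q hp hq => simp only [map_add, hp, hq]
        | mul_X p i hp =>
            have : e.symm (Polynomial.C (X i)) = X i.succ := by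
              rw [AlgEquiv.symm_apply_eq]; simp [e, MvPolynomial.finSuccEquiv_X_succ]
            simp only [map_mul, hp]
            congr 1
            simp [π, this, v]
      · have : e.symm Polynomial.X = X 0 := by
          rw [AlgEquiv.symm_apply_eq]; simp [e, MvPolynomial.finSuccEquiv_X_zero]
        simp [π, this, v]
    exact RingHom.congr_fun this q
  have hP' : P'.comap Polynomial.C = ⊥ := by
    rw [eq_bot_iff]
    intro a ha
    have : π (e.symm (Polynomial.C a)) = 0 := ha
    rw [hπe, Polynomial.eval₂_C] at this
    exact Ideal.mem_bot.mpr ((injective_iff_map_eq_zero _).mp hx.1 a this)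
  have hker : RingHom.ker π ≠ ⊥ := fun h => by
    have hv : AlgebraicIndependent k v := (RingHom.injective_iff_ker_eq_bot π).mpr h
    have h1 := hv.lift_cardinalMk_le_trdeg
    rw [← hx.lift_cardinalMk_eq_trdeg] at h1
    simp only [Cardinal.mk_fin, Cardinal.lift_natCast, Nat.cast_le] at h1
    omega
  haveI : P'.IsPrime := Ideal.IsPrime.comap _
  have hP0 : P' ≠ ⊥ := fun h => hker <| by
    refine eq_bot_iff.mpr fun q hq => ?_
    have : e q ∈ P' := by
      show π (e.symm (e q)) = 0
      rw [AlgEquiv.symm_apply_apply]; exact hq
    rw [h, Ideal.mem_bot] at this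
    exact Ideal.mem_bot.mpr ((map_eq_zero_iff _ e.injective).mp this)
  obtain ⟨f, hf, hP⟩ := exists_span_eq_of_comap_eq_bot P' hP' hP0
  have hkerf : RingHom.ker π = Ideal.span {e.symm f} := by
    ext q
    rw [Ideal.mem_span_singleton]
    have : π q = 0 ↔ e q ∈ P' := by
      show _ ↔ π (e.symm (e q)) = 0
      rw [AlgEquiv.symm_apply_apply]
    rw [RingHom.mem_ker, this, hP, Ideal.mem_span_singleton]
    constructor
    · intro h; simpa using map_dvd e.symm h
    · intro h; simpa using map_dvd e h
  refine ⟨d + 1, π, inferInstance, ?_, fun z => ?_⟩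
  · let O := Localization.AtPrime (RingHom.ker π)
    haveI : IsNoetherianRing O := IsLocalization.isNoetherianRing (RingHom.ker π).primeCompl O inferInstance
    haveI : IsDomain O := IsLocalization.isDomain_of_atPrime O (RingHom.ker π)
    have hm : IsLocalRing.maximalIdeal O = Ideal.span {algebraMap _ O (e.symm f)} := by
      rw [← Localization.AtPrime.map_eq_maximalIdeal]
      conv_lhs => arg 2; rw [hkerf]
      rw [Ideal.map_span, Set.image_singleton]
    have hnf : ¬ IsField O := fun hF => hf.ne_zero <| by
      have h0 : algebraMap _ O (e.symm f) = 0 := by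
        rw [← Ideal.mem_bot, ← IsLocalRing.isField_iff_maximalIdeal_eq.mp hF, hm]
        exact Ideal.subset_span rfl
      rw [map_eq_zero_iff _ (IsLocalization.injective O (RingHom.ker π).primeCompl_le_nonZeroDivisors)] at h0
      exact (map_eq_zero_iff _ e.symm.injective).mp h0
    exact ((IsDiscreteValuationRing.TFAE O hnf).out 0 4 rfl rfl).mpr ⟨⟨_, hm⟩⟩
  · have hz : z ∈ IntermediateField.adjoin k (Set.range v) := by
      rw [show Set.range v = insert y (Set.range x) from Fin.range_cons _ _, hgen]
      trivial
    obtain ⟨r, s, rfl⟩ := (IntermediateField.mem_adjoin_range_iff k v z).mp hz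
    by_cases hs : π s = 0
    · exact ⟨0, 1, by simp, by rw [show MvPolynomial.aeval v s = 0 from hs]; simp⟩
    · exact ⟨r, s, hs, div_mul_cancel₀ _ hs⟩

end Groth.Agent.GrpFieldLib
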