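import Groth.Agent.GrpFieldLib.Retract
import Groth.Agent.GrpSchLib.AffineHopf
import Groth.Agent.GrpSchLib.ReducedPoints
import Groth.Agent.EtFound.Descent
import Groth.Prelude.Def_Red
import Groth.Prelude.Def_TwC
import Groth.Agent.GrpSchLib.GeomIrr
import Mathlib.RingTheory.Etale.Basic

/-!
# Retract rationality from lifting points to discrete valuation rings
-/

set_option backward.isDefEq.respectTransparency false
set_option backward.isDefEq.respectTransparency.types false

universe u

open CategoryTheory CategoryTheory.Limits MonoidalCategory CartesianMonoidalCategory AlgebraicGeometry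
open TensorProduct MvPolynomial
open Groth.Agent.GrpSchLib.AffineHopf

namespace Groth.Agent.GrpFieldLib

variable {k : Type u} [Field k]

theorem isGeometricallyReduced_fractionRing {A : Type u} [CommRing A] [IsDomain A] [Algebra k A]
    [IsReduced (AlgebraicClosure k ⊗[k] A)] : Algebra.IsGeometricallyReduced k (FractionRing A) := by
  rw [Algebra.isGeometricallyReduced_field_iff]
  let L := AlgebraicClosure k
  let : Algebra (L ⊗[k] A) (L ⊗[k] FractionRing A) :=
    (Algebra.TensorProduct.map (AlgHom.id k L) (IsScalarTower.toAlgHom k A (FractionRing A))).toRingHom.toAlgebra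
  have : IsScalarTower L (L ⊗[k] A) (L ⊗[k] FractionRing A) := IsScalarTower.of_algebraMap_eq fun x => by
    simp [RingHom.algebraMap_toAlgebra, Algebra.TensorProduct.algebraMap_apply]
  have : IsLocalization ((nonZeroDivisors A).map (Algebra.TensorProduct.includeRight (R := k) (A := L)))
      (L ⊗[k] FractionRing A) :=
    IsLocalization.tensorProduct_tensorProduct_right k L (nonZeroDivisors A) (FractionRing A)
      (by ext a; simp [RingHom.algebraMap_toAlgebra])
  exact isReduced_localizationPreserves ((nonZeroDivisors A).map (Algebra.TensorProduct.includeRight (R := k) (A := L)))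
    (L ⊗[k] FractionRing A) inferInstance

/-- Algebraic form: polynomial localization retracting onto a localization of `A`. -/
theorem exists_retraction {A : Type u} [CommRing A] [IsDomain A] [Algebra k A] [Algebra.FiniteType k A]
    [IsReduced (AlgebraicClosure k ⊗[k] A)]
    (hlift : ∀ (O : Type u) [CommRing O] [IsDomain O] [IsDiscreteValuationRing O] [Algebra k O]
      (v : A →ₐ[k] IsLocalRing.ResidueField O), ∃ σ : A →ₐ[k] O, (IsScalarTower.toAlgHom k O _).comp σ = v) :
    ∃ (n : ℕ) (h : MvPolynomial (Fin n) k) (e : A) (β : A →ₐ[k] Localization.Away h)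
      (α : Localization.Away h →ₐ[k] Localization.Away e),
      e ≠ 0 ∧ α.comp β = IsScalarTower.toAlgHom k A (Localization.Away e) := by
  classical
  let K := FractionRing A
  haveI : Algebra.IsGeometricallyReduced k K := isGeometricallyReduced_fractionRing
  haveI : Algebra.EssFiniteType A K := Algebra.EssFiniteType.of_isLocalization K (nonZeroDivisors A)
  haveI : Algebra.EssFiniteType k K := Algebra.EssFiniteType.comp k A K
  obtain ⟨n, π, hπP, hdvr, hsurj⟩ := exists_dvr_residueField (k := k) (K := K)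
  let p := RingHom.ker π
  let O := Localization.AtPrime p
  haveI : IsDiscreteValuationRing O := hdvr
  let ev : O →ₐ[k] K := IsLocalization.liftAlgHom (M := p.primeCompl) (S := O) (f := π)
    (fun y => isUnit_iff_ne_zero.mpr (show π y.1 ≠ 0 from y.2))
  have hev : ∀ q, ev (algebraMap _ O q) = π q := fun q => IsLocalization.lift_eq _ q
  haveI : IsLocalHom (ev : O →ₐ[k] K) := ⟨fun a ha => by
    obtain ⟨q, s, rfl⟩ := IsLocalization.exists_mk'_eq p.primeCompl a
    rw [IsLocalization.AtPrime.isUnit_mk'_iff O p q s]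
    intro hq
    apply ha.ne_zero
    have := congrArg ev (IsLocalization.mk'_spec O q s)
    rw [map_mul, hev, hev, show π q = 0 from hq] at this
    exact (mul_eq_zero.mp this).resolve_right (show π s.1 ≠ 0 from s.2)⟩
  have hev_res : ∀ a, ev a = 0 ↔ a ∈ IsLocalRing.maximalIdeal O := fun a => by
    rw [IsLocalRing.mem_maximalIdeal, mem_nonunits_iff]
    exact ⟨fun h hu => (hu.map ev).ne_zero h, fun h => by_contra fun h0 => h (IsUnit.of_map ev a (isUnit_iff_ne_zero.mpr h0))⟩
  let ψ : IsLocalRing.ResidueField O →ₐ[k] K :=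
    Ideal.Quotient.liftₐ (IsLocalRing.maximalIdeal O) ev (fun a ha => (hev_res a).mpr ha)
  have hψ : ∀ a, ψ (algebraMap O _ a) = ev a := fun a => rfl
  have hψs : Function.Surjective ψ := fun z => by
    obtain ⟨a, b, hb, hz⟩ := hsurj z
    refine ⟨algebraMap O _ (IsLocalization.mk' O a (⟨b, hb⟩ : p.primeCompl)), ?_⟩
    rw [hψ]
    refine mul_right_cancel₀ hb ?_
    rw [hz, ← hev b, ← map_mul, ← hev a]
    exact congrArg ev (IsLocalization.mk'_spec O a (⟨b, hb⟩ : p.primeCompl))
  let Ψ := AlgEquiv.ofBijective ψ ⟨RingHom.injective _, hψs⟩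
  obtain ⟨σ, hσ⟩ := hlift O (Ψ.symm.toAlgHom.comp (IsScalarTower.toAlgHom k A K))
  have hσev : ev.comp σ = IsScalarTower.toAlgHom k A K := by
    ext a
    have := congrArg ψ (DFunLike.congr_fun hσ a)
    simp only [AlgHom.comp_apply, IsScalarTower.coe_toAlgHom'] at this
    rw [hψ] at this
    exact this.trans (Ψ.apply_symm_apply _)
  -- common denominator of the lift
  obtain ⟨G, hG⟩ := (‹Algebra.FiniteType k A› : Algebra.FiniteType k A).1
  have hden : ∀ g : A, ∃ q s, π s ≠ 0 ∧ σ g * algebraMap _ O s = algebraMap _ O q := fun g => by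
    obtain ⟨q, s, hqs⟩ := IsLocalization.exists_mk'_eq p.primeCompl (σ g)
    exact ⟨q, s.1, s.2, by rw [← hqs]; exact IsLocalization.mk'_spec O q s⟩
  choose num den hden0 hden using hden
  let h := ∏ g ∈ G, den g
  have hh : π h ≠ 0 := by
    rw [map_prod]; exact Finset.prod_ne_zero_iff.mpr fun g _ => hden0 g
  let Ph := Localization.Away h
  let ι : Ph →ₐ[k] O := IsLocalization.liftAlgHom (M := Submonoid.powers h) (S := Ph) (f := IsScalarTower.toAlgHom k (MvPolynomial (Fin n) k) O)
    (fun ⟨y, m, hm⟩ => by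
      subst hm
      simp only [IsScalarTower.coe_toAlgHom', map_pow]
      exact (IsLocalization.map_units O (⟨h, hh⟩ : p.primeCompl)).pow m)
  have hι : ∀ q, ι (algebraMap _ Ph q) = algebraMap _ O q := fun q => IsLocalization.lift_eq _ q
  have hιi : Function.Injective ι := by
    refine (IsLocalization.lift_injective_iff _).mpr fun a b => ?_
    have h0 : h ≠ 0 := fun h0 => hh (by rw [h0, map_zero])
    rw [(IsLocalization.injective Ph (powers_le_nonZeroDivisors_of_noZeroDivisors h0)).eq_iff]
    exact (IsLocalization.injective O p.primeCompl_le_nonZeroDivisors).eq_iff.symm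
  have hrange : ∀ a, σ a ∈ ι.range := by
    have : (Algebra.adjoin k (G : Set A)).map σ ≤ ι.range := by
      rw [AlgHom.map_adjoin, Algebra.adjoin_le_iff]
      rintro _ ⟨g, hg, rfl⟩
      obtain ⟨c, hc⟩ : den g ∣ h := Finset.dvd_prod_of_mem den hg
      refine ⟨IsLocalization.mk' Ph (num g * c) (⟨h, 1, pow_one h⟩ : Submonoid.powers h), ?_⟩
      refine (IsLocalization.map_units O (⟨h, hh⟩ : p.primeCompl)).mul_right_cancel ?_
      show ι.toRingHom _ * algebraMap _ O h = σ g * algebraMap _ O h
      rw [← hι h, AlgHom.toRingHom_eq_coe, RingHom.coe_coe, ← map_mul, IsLocalization.mk'_spec, hι, hι, map_mul, ← hden g,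
        hc, map_mul, mul_assoc]
    intro a
    exact this ⟨a, by rw [hG]; trivial, rfl⟩
  let β : A →ₐ[k] Ph := (AlgEquiv.ofInjective ι hιi).symm.toAlgHom.comp (σ.codRestrict ι.range hrange)
  have hβ : ι.comp β = σ := by
    ext a
    exact congrArg Subtype.val ((AlgEquiv.ofInjective ι hιi).apply_symm_apply ⟨σ a, hrange a⟩)
  -- the embedding
  have hfr : ∀ z : K, ∃ a b : A, b ≠ 0 ∧ z * algebraMap A K b = algebraMap A K a := fun z => by
    obtain ⟨a, b, rfl⟩ := IsLocalization.exists_mk'_eq (nonZeroDivisors A) z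
    exact ⟨a, b.1, nonZeroDivisors.coe_ne_zero b, IsLocalization.mk'_spec _ _ _⟩
  choose xn xd hxd0 hxd using fun i : Fin n => hfr (π (X i))
  obtain ⟨hn, hd, hhd0, hhd⟩ := hfr (π h)
  have hhn0 : hn ≠ 0 := fun h0 => by
    rw [h0, map_zero, mul_eq_zero] at hhd
    exact hhd.elim hh fun h1 => hhd0 (IsFractionRing.injective A K (h1.trans (map_zero _).symm))
  let e := (∏ i, xd i) * (hd * hn)
  have he : e ≠ 0 := mul_ne_zero (Finset.prod_ne_zero_iff.mpr fun i _ => hxd0 i) (mul_ne_zero hhd0 hhn0)
  let Ae := Localization.Away e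
  let j : Ae →ₐ[k] K := IsLocalization.liftAlgHom (M := Submonoid.powers e) (S := Ae) (f := IsScalarTower.toAlgHom k A K)
    (fun ⟨y, m, hm⟩ => by
      subst hm
      simp only [IsScalarTower.coe_toAlgHom', map_pow]
      exact (isUnit_iff_ne_zero.mpr fun h0 => he (IsFractionRing.injective A K (h0.trans (map_zero _).symm))).pow m)
  have hj : ∀ a, j (algebraMap A Ae a) = algebraMap A K a := fun a => IsLocalization.lift_eq _ a
  have hji : Function.Injective j := by
    refine (IsLocalization.lift_injective_iff _).mpr fun a b => ?_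
    rw [(IsLocalization.injective Ae (powers_le_nonZeroDivisors_of_noZeroDivisors he)).eq_iff]
    exact (IsFractionRing.injective A K).eq_iff.symm
  have hjr : ∀ (z : K) (a b : A), b ∣ e → z * algebraMap A K b = algebraMap A K a → z ∈ j.range := by
    intro z a b ⟨c, hc⟩ hz
    refine ⟨IsLocalization.mk' Ae (a * c) (⟨e, 1, pow_one e⟩ : Submonoid.powers e), ?_⟩
    have he' : algebraMap A K e ≠ 0 := fun h0 => he (IsFractionRing.injective A K (h0.trans (map_zero _).symm))
    refine mul_right_cancel₀ he' ?_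
    show j _ * _ = z * _
    rw [← hj e, ← map_mul, IsLocalization.mk'_spec, hj, hj, map_mul, ← hz, hc, map_mul, mul_assoc]
  have hPh : ∀ q, ev (ι q) ∈ j.range := by
    intro q
    obtain ⟨q, ⟨s, m, rfl⟩, rfl⟩ := IsLocalization.exists_mk'_eq (Submonoid.powers h) q
    have hP : ∀ q, π q ∈ j.range := fun q => by
      induction q using MvPolynomial.induction_on with
      | C c => exact ⟨algebraMap k Ae c, by simp⟩
      | add p q hp hq => rw [map_add]; exact add_mem hp hq
      | mul_X p i hp =>
          rw [map_mul]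
          exact mul_mem hp (hjr _ _ _ (Dvd.dvd.mul_right (Finset.dvd_prod_of_mem xd (Finset.mem_univ i)) _) (hxd i))
    have hinv : (π h)⁻¹ ∈ j.range := hjr _ hd hn ((dvd_mul_left hn hd).mul_left _) (by
      rw [← hhd, inv_mul_cancel_left₀ hh])
    have heq : ev (ι (IsLocalization.mk' Ph q (⟨h ^ m, m, rfl⟩ : Submonoid.powers h))) = π q * (π h)⁻¹ ^ m := by
      rw [inv_pow, eq_mul_inv_iff_mul_eq₀ (pow_ne_zero _ hh), ← map_pow, ← hev q, ← hev (h ^ m), ← hι q,
        ← hι (h ^ m), ← map_mul, ← map_mul]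
      exact congrArg ev (congrArg ι (IsLocalization.mk'_spec Ph q (⟨h ^ m, m, rfl⟩ : Submonoid.powers h)))
    rw [heq]
    exact mul_mem (hP q) (pow_mem hinv m)
  let α : Ph →ₐ[k] Ae := (AlgEquiv.ofInjective j hji).symm.toAlgHom.comp ((ev.comp ι).codRestrict j.range hPh)
  refine ⟨n, h, e, β, α, he, ?_⟩
  ext a
  refine hji ?_
  rw [IsScalarTower.coe_toAlgHom', hj]
  show j (α (β a)) = _
  rw [show j (α (β a)) = ev (ι (β a)) from
    congrArg Subtype.val ((AlgEquiv.ofInjective j hji).apply_symm_apply ⟨ev (ι (β a)), hPh _⟩)]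
  exact (congrArg ev (DFunLike.congr_fun hβ a)).trans (DFunLike.congr_fun hσev a)

theorem nonempty_algEquiv_of_sp {R B C : Type u} [CommRing R] [CommRing B] [CommRing C] [Bialgebra R B] [Bialgebra R C]
    (g : sp R B ≅ sp R C) : Nonempty (B ≃ₐ[R] C) := by
  obtain ⟨f, hf⟩ := exists_eq_spMap g.hom
  obtain ⟨f', hf'⟩ := exists_eq_spMap g.inv
  have h1 : f'.comp f = AlgHom.id R C := spMap_injective <| by
    rw [spMap_id, ← spMap_comp, ← hf, ← hf', g.inv_hom_id]
  have h2 : f.comp f' = AlgHom.id R B := spMap_injective <| by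
    rw [spMap_id, ← spMap_comp, ← hf, ← hf', g.hom_inv_id]
  exact ⟨AlgEquiv.ofAlgHom f' f h1 h2⟩

/-- A finite-étale locally split torus over a field has a split base change to the algebraic closure. -/
theorem exists_split_algClosure {T : Over (Spec (CommRingCat.of k))} [GrpObj T]
    (hT : ∃ r : ℕ, TwC.Locally (Spec (CommRingCat.of k)) .finiteEtale
      (fun S' g => Red.IsSplitTorusWith (Fin r → ℤ) (Red.bc g T))) :
    ∃ r : ℕ, Nonempty (Red.bc (Spec.map (CommRingCat.ofHom (algebraMap k (AlgebraicClosure k)))) T ≅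
      sp (AlgebraicClosure k) (MonoidAlgebra (AlgebraicClosure k) (Multiplicative (Fin r → ℤ)))) := by
  obtain ⟨r, S', f, hfin, het, hsurj, hloc⟩ := hT
  let φ := Spec.map (CommRingCat.ofHom (algebraMap k (AlgebraicClosure k)))
  obtain ⟨s₀, -⟩ := hsurj.surj (IsLocalRing.closedPoint k)
  obtain ⟨U, hsU, -, ⟨s⟩⟩ := hloc s₀
  let W : Over (Spec (CommRingCat.of k)) := Over.mk (U.ι ≫ f)
  haveI : Etale f := het
  haveI : LocallyOfFiniteType W.hom := inferInstanceAs (LocallyOfFiniteType (U.ι ≫ f))
  haveI : JacobsonSpace W.left := LocallyOfFiniteType.jacobsonSpace W.hom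
  obtain ⟨w, -, hw⟩ := nonempty_inter_closedPoints (Z := (Set.univ : Set W.left)) ⟨(⟨s₀, hsU⟩ : U.toScheme), trivial⟩
    isOpen_univ.isLocallyClosed
  obtain ⟨q, -⟩ := GrpSchLib.exists_point_of_isClosed (K := AlgebraicClosure k) W hw
  have hq : φ = q.left ≫ U.ι ≫ f := (Over.w q).symm
  obtain ⟨d⟩ := nonempty_DS_iso (AlgebraicClosure k) (Fin r → ℤ)
  refine ⟨r, ⟨eqToIso (congrArg (fun g => (Over.pullback g).obj T) hq) ≪≫
    (Over.pullbackComp q.left (U.ι ≫ f)).app T ≪≫
    (Over.pullback q.left).mapIso ((Grp.forget _).mapIso s) ≪≫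
    ((Over.pullbackComp q.left _).app _).symm ≪≫
    eqToIso (congrArg (fun g => (Over.pullback g).obj (Red.diag (ULift.{u} ℤ) (Fin r → ℤ)))
      (specULiftZIsTerminal.hom_ext _ _)) ≪≫ (Grp.forget _).mapIso d.symm⟩⟩

/-- The affine algebra of such a torus. -/
theorem exists_model {T : Over (Spec (CommRingCat.of k))} [GrpObj T]
    (hT : ∃ r : ℕ, TwC.Locally (Spec (CommRingCat.of k)) .finiteEtale
      (fun S' g => Red.IsSplitTorusWith (Fin r → ℤ) (Red.bc g T))) :
    ∃ (A : Type u) (_ : CommRing A) (_ : IsDomain A) (_ : Algebra k A) (_ : Algebra.FiniteType k A)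
      (_ : IsReduced (AlgebraicClosure k ⊗[k] A)), Nonempty (sp k A ≅ T) := by
  obtain ⟨r, ⟨e⟩⟩ := exists_split_algClosure hT
  let L := AlgebraicClosure k
  let φ := Spec.map (CommRingCat.ofHom (algebraMap k L))
  haveI : IsAffine (pullback T.hom φ) :=
    @IsAffine.of_isIso _ _ ((Over.forget _).mapIso e).hom (Iso.isIso_hom _) (isAffine_Spec _)
  have hA : IsAffineHom (pullback.snd T.hom φ) := isAffineHom_of_isAffine (pullback.snd T.hom φ)
  haveI := EtFound.fpqc_isAffineHom.{u}
  haveI : Surjective φ := GrpSchLib.surjective_spec_map_field _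
  haveI : Flat φ := GrpSchLib.flat_spec_map_field _
  haveI : IsAffineHom T.hom := MorphismProperty.of_pullback_snd_of_descendsAlong
    (Q := (@Surjective ⊓ @Flat ⊓ @QuasiCompact : MorphismProperty Scheme.{u})) ⟨⟨‹_›, ‹_›⟩, inferInstance⟩ hA
  haveI : IsAffine T.left := isAffine_of_isAffineHom T.hom
  obtain ⟨A, _, _, ⟨t⟩⟩ := exists_hopf T
  obtain ⟨b⟩ := nonempty_bc_sp (R := k) L A
  obtain ⟨E⟩ := nonempty_algEquiv_of_sp (((Grp.forget _).mapIso b).symm ≪≫
    (Over.pullback φ).mapIso ((Grp.forget _).mapIso t) ≪≫ e)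
  haveI : IsDomain (L ⊗[k] A) := MulEquiv.isDomain (MonoidAlgebra L (Multiplicative (Fin r → ℤ))) E.toMulEquiv
  have hinj : Function.Injective (Algebra.TensorProduct.includeRight : A →ₐ[k] L ⊗[k] A) :=
    Algebra.TensorProduct.includeRight_injective (RingHom.injective _)
  haveI : IsDomain A := hinj.isDomain Algebra.TensorProduct.includeRight.toRingHom
  haveI hft : Algebra.FiniteType L (L ⊗[k] A) := Algebra.FiniteType.equiv inferInstance E.symm
  have : Algebra.FiniteType k A := by
    classical
    obtain ⟨G, hG⟩ := hft.1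
    have hex : ∀ x : L ⊗[k] A, ∃ S : Finset A, x ∈ Algebra.adjoin L ((fun a : A => (1 : L) ⊗ₜ[k] a) '' (S : Set A)) := by
      intro x
      induction x using TensorProduct.induction_on with
      | zero => exact ⟨∅, zero_mem _⟩
      | tmul l a =>
          refine ⟨{a}, ?_⟩
          have : (l ⊗ₜ[k] a : L ⊗[k] A) = l • ((1 : L) ⊗ₜ[k] a) := by rw [TensorProduct.smul_tmul']; simp
          rw [this]
          exact Subalgebra.smul_mem _ (Algebra.subset_adjoin (Set.mem_image_of_mem _ (Finset.mem_coe.mpr (Finset.mem_singleton_self a)))) _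
      | add x y hx hy =>
          obtain ⟨S, hS⟩ := hx
          obtain ⟨S', hS'⟩ := hy
          exact ⟨S ∪ S', add_mem (Algebra.adjoin_mono (Set.image_mono (by simp)) hS)
            (Algebra.adjoin_mono (Set.image_mono (by simp)) hS')⟩
    choose S hS using hex
    let B := Algebra.adjoin k ((G.biUnion S : Finset A) : Set A)
    have hB : Function.Surjective (LinearMap.lTensor L B.val.toLinearMap) := by
      intro x
      have : (⊤ : Subalgebra L (L ⊗[k] A)) ≤ (Algebra.TensorProduct.map (AlgHom.id L L) B.val).range := by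
        rw [← hG, Algebra.adjoin_le_iff]
        intro g hg
        refine Algebra.adjoin_le_iff.mpr ?_ (hS g)
        rintro _ ⟨a, ha, rfl⟩
        exact ⟨1 ⊗ₜ (⟨a, Algebra.subset_adjoin (Finset.mem_biUnion.mpr ⟨g, hg, ha⟩)⟩ : B), by simp⟩
      obtain ⟨y, hy⟩ := this (show x ∈ ⊤ from trivial)
      exact ⟨y, hy⟩
    have hs := (Module.FaithfullyFlat.lTensor_surjective_iff_surjective k L B.val.toLinearMap).mp hB
    refine ⟨⟨G.biUnion S, eq_top_iff.mpr fun a _ => ?_⟩⟩
    obtain ⟨a, rfl⟩ := hs a
    exact a.2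
  exact ⟨A, inferInstance, inferInstance, inferInstance, this, inferInstance, ⟨(Grp.forget _).mapIso t⟩⟩

end Groth.Agent.GrpFieldLib
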