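import Mathlib

/-! Spreading out absolute irreducibility of a polynomial. -/

namespace Groth.Agent.GrpFieldLib.SecComp

open MvPolynomial PrimeSpectrum Topology

universe u

variable {σ : Type} [Fintype σ]

/-- The polynomial has a nonzero coefficient away from the constant term. -/
def NonConst {k : Type u} [CommRing k] (q : MvPolynomial σ k) : Prop := ∃ m, m ≠ 0 ∧ coeff m q ≠ 0

omit [Fintype σ] in
theorem not_nonConst_iff {k : Type u} [CommRing k] {q : MvPolynomial σ k} :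
    ¬ NonConst q ↔ q = C (coeff 0 q) := by
  classical
  constructor
  · intro h
    ext m
    rw [coeff_C]
    split_ifs with hm
    · rw [← hm]
    · by_contra hne
      exact h ⟨m, Ne.symm hm, hne⟩
  · rintro h ⟨m, hm, hne⟩
    rw [h, coeff_C, if_neg (Ne.symm hm)] at hne
    exact hne rfl

omit [Fintype σ] in
theorem irreducible_iff_nonConst {k : Type u} [Field k] {q : MvPolynomial σ k} :
    Irreducible q ↔ NonConst q ∧ ∀ q₁ q₂, q = q₁ * q₂ → ¬(NonConst q₁ ∧ NonConst q₂) := by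
  have hunit : ∀ p : MvPolynomial σ k, IsUnit p ↔ p ≠ 0 ∧ ¬ NonConst p := by
    intro p
    rw [MvPolynomial.isUnit_iff]
    constructor
    · rintro ⟨h0, h⟩
      refine ⟨fun hp => ?_, fun ⟨m, hm, hne⟩ => hne (isNilpotent_iff_eq_zero.1 (h m hm))⟩
      rw [hp, coeff_zero] at h0
      exact not_isUnit_zero h0
    · rintro ⟨hp, h⟩
      refine ⟨isUnit_iff_ne_zero.2 fun h0 => hp ?_, fun m hm => isNilpotent_iff_eq_zero.2 ?_⟩
      · rw [not_nonConst_iff.1 h, h0, C_0]
      · by_contra hne; exact h ⟨m, hm, hne⟩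
  constructor
  · intro hq
    refine ⟨?_, fun q₁ q₂ h ⟨h₁, h₂⟩ => ?_⟩
    · by_contra h
      exact hq.not_isUnit ((hunit q).2 ⟨hq.ne_zero, h⟩)
    · rcases hq.isUnit_or_isUnit h with h' | h'
      · exact ((hunit _).1 h').2 h₁
      · exact ((hunit _).1 h').2 h₂
  · rintro ⟨hnc, h⟩
    refine ⟨fun hu => ((hunit q).1 hu).2 hnc, fun a b hab => ?_⟩
    have ha : a ≠ 0 := fun ha => by
      obtain ⟨m, -, hm⟩ := hnc
      rw [hab, ha, zero_mul, coeff_zero] at hm; exact hm rfl
    have hb : b ≠ 0 := fun hb => by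
      obtain ⟨m, -, hm⟩ := hnc
      rw [hab, hb, mul_zero, coeff_zero] at hm; exact hm rfl
    rcases not_and_or.1 (h a b hab) with h' | h'
    · exact Or.inl ((hunit a).2 ⟨ha, h'⟩)
    · exact Or.inr ((hunit b).2 ⟨hb, h'⟩)

/-- Exponents bounded by `D`. -/
noncomputable def box (σ : Type) [Fintype σ] (D : ℕ) : Finset (σ →₀ ℕ) := by
  classical
  exact Finset.univ.image fun v : σ → Fin (D + 1) => Finsupp.equivFunOnFinite.symm fun i => (v i : ℕ)

theorem mem_box {D : ℕ} {m : σ →₀ ℕ} : m ∈ box σ D ↔ ∀ i, m i ≤ D := by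
  classical
  unfold box
  simp only [Finset.mem_image, Finset.mem_univ, true_and]
  constructor
  · rintro ⟨v, rfl⟩ i
    simp; omega
  · intro h
    exact ⟨fun i => ⟨m i, Nat.lt_succ_of_le (h i)⟩, by ext i; simp⟩

theorem support_subset_box {k : Type u} [CommSemiring k] {q : MvPolynomial σ k} {D : ℕ}
    (h : q.totalDegree ≤ D) : q.support ⊆ box σ D := fun m hm =>
  mem_box.2 fun i => by
    have h1 : m i ≤ q.degreeOf i := by
      classical
      rw [degreeOf_eq_sup]
      exact Finset.le_sup (f := fun m => m i) hm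
    exact h1.trans ((degreeOf_le_totalDegree q i).trans h)

theorem totalDegree_le_of_mul {k : Type u} [Field k] {q q₁ q₂ : MvPolynomial σ k} (h : q = q₁ * q₂)
    (hq : q ≠ 0) : q₁.totalDegree ≤ q.totalDegree ∧ q₂.totalDegree ≤ q.totalDegree := by
  have h1 : q₁ ≠ 0 := fun e => hq (by rw [h, e, zero_mul])
  have h2 : q₂ ≠ 0 := fun e => hq (by rw [h, e, mul_zero])
  rw [h, totalDegree_mul_of_isDomain h1 h2]
  omega

/-- The polynomial with given coefficients on a finite set of exponents. -/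
noncomputable def genPoly {B : Type u} [CommSemiring B] (s : Finset (σ →₀ ℕ)) (c : s → B) :
    MvPolynomial σ B := ∑ m : s, monomial m.1 (c m)

omit [Fintype σ] in
theorem map_genPoly {B B' : Type u} [CommSemiring B] [CommSemiring B'] (f : B →+* B')
    (s : Finset (σ →₀ ℕ)) (c : s → B) : MvPolynomial.map f (genPoly s c) = genPoly s (f ∘ c) := by
  simp [genPoly, map_monomial]

omit [Fintype σ] in
theorem coeff_genPoly {B : Type u} [CommSemiring B] (s : Finset (σ →₀ ℕ)) (c : s → B) (m : s) :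
    coeff m.1 (genPoly s c) = c m := by
  classical
  simp only [genPoly, coeff_sum, coeff_monomial]
  rw [Finset.sum_eq_single m]
  · simp
  · intro b _ hb; rw [if_neg (fun h => hb (Subtype.ext h))]
  · simp

omit [Fintype σ] in
theorem genPoly_coeff {B : Type u} [CommSemiring B] (s : Finset (σ →₀ ℕ)) {q : MvPolynomial σ B}
    (h : q.support ⊆ s) : genPoly s (fun m => coeff m.1 q) = q := by
  classical
  conv_rhs => rw [as_sum q, Finset.sum_subset h (fun m _ hm => by
    rw [notMem_support_iff.1 hm, monomial_zero])]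
  exact Finset.sum_coe_sort s (fun m => monomial m (coeff m q))

theorem finite_range_coeff {σ : Type*} {B : Type u} [CommSemiring B] (p : MvPolynomial σ B) :
    (Set.range fun m => coeff m p).Finite := by
  classical
  refine ((p.support.image fun m => coeff m p) ∪ {0}).finite_toSet.subset ?_
  rintro _ ⟨m, rfl⟩
  by_cases hm : m ∈ p.support
  · exact Finset.mem_coe.2 (Finset.mem_union_left _ (Finset.mem_image_of_mem _ hm))
  · simp [notMem_support_iff.1 hm]

variable {B : Type u} [CommRing B]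

/-- The factorisations of `Q` into two polynomials with prescribed nonzero coefficients. -/
abbrev FacVar (σ : Type) [Fintype σ] (D : ℕ) : Type := (box σ D ⊕ box σ D) ⊕ Fin 2

/-- The equations of a factorisation. -/
noncomputable def facEqs (Q : MvPolynomial σ B) (D : ℕ) (m₁ m₂ : box σ D) :
    Set (MvPolynomial (FacVar σ D) B) :=
  Set.range (fun m => coeff m (genPoly (box σ D) (fun i => X (Sum.inl (Sum.inl i))) *
      genPoly (box σ D) (fun i => X (Sum.inl (Sum.inr i))) - MvPolynomial.map MvPolynomial.C Q)) ∪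
    {X (Sum.inr 0) * X (Sum.inl (Sum.inl m₁)) - 1, X (Sum.inr 1) * X (Sum.inl (Sum.inr m₂)) - 1}

/-- The algebra of factorisations. -/
abbrev FacRing (Q : MvPolynomial σ B) (D : ℕ) (m₁ m₂ : box σ D) : Type u :=
  MvPolynomial (FacVar σ D) B ⧸ Ideal.span (facEqs Q D m₁ m₂)

theorem fg_facEqs (Q : MvPolynomial σ B) (D : ℕ) (m₁ m₂ : box σ D) :
    (Ideal.span (facEqs Q D m₁ m₂)).FG :=
  Submodule.fg_def.2 ⟨_, (finite_range_coeff _).union (Set.toFinite _), rfl⟩

/-- A factorisation over a ring receiving `B` gives a point of the algebra of factorisations. -/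
theorem exists_facHom {k : Type u} [CommRing k] (ψ : B →+* k) (Q : MvPolynomial σ B) (D : ℕ)
    (m₁ m₂ : box σ D) (q₁ q₂ : MvPolynomial σ k) (h₁ : q₁.support ⊆ box σ D) (h₂ : q₂.support ⊆ box σ D)
    (hmul : MvPolynomial.map ψ Q = q₁ * q₂) (hu₁ : IsUnit (coeff m₁.1 q₁)) (hu₂ : IsUnit (coeff m₂.1 q₂)) :
    ∃ θ : FacRing Q D m₁ m₂ →+* k, θ.comp (algebraMap B _) = ψ := by
  classical
  obtain ⟨w₁, hw₁⟩ := hu₁.exists_left_inv
  obtain ⟨w₂, hw₂⟩ := hu₂.exists_left_inv
  let val : FacVar σ D → k := Sum.elim (Sum.elim (fun i => coeff i.1 q₁) (fun i => coeff i.1 q₂))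
    (fun j => if j = 0 then w₁ else w₂)
  let θ₀ : MvPolynomial (FacVar σ D) B →+* k := eval₂Hom ψ val
  have hθC : θ₀.comp MvPolynomial.C = ψ := by ext b; simp [θ₀]
  refine ⟨Ideal.Quotient.lift _ θ₀ ?_, ?_⟩
  · intro a ha
    refine RingHom.mem_ker.1 ((Ideal.span_le.2 ?_) ha)
    rintro x (⟨m, rfl⟩ | rfl | rfl)
    · show θ₀ (coeff m _) = 0
      rw [← coeff_map, map_sub, map_mul, map_genPoly, map_genPoly, map_map, hθC]
      have e₁ : (θ₀ ∘ fun i : box σ D => (X (Sum.inl (Sum.inl i)) : MvPolynomial (FacVar σ D) B)) =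
          fun i => coeff i.1 q₁ := by funext i; simp [θ₀, val]
      have e₂ : (θ₀ ∘ fun i : box σ D => (X (Sum.inl (Sum.inr i)) : MvPolynomial (FacVar σ D) B)) =
          fun i => coeff i.1 q₂ := by funext i; simp [θ₀, val]
      rw [e₁, e₂, genPoly_coeff _ h₁, genPoly_coeff _ h₂, ← hmul, sub_self, coeff_zero]
    · show θ₀ _ = 0
      simp [θ₀, val, hw₁]
    · show θ₀ _ = 0
      simp [θ₀, val, hw₂]
  · ext b
    show θ₀ (MvPolynomial.C b) = ψ b
    simp [θ₀]

/-- A point of the algebra of factorisations gives a factorisation. -/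
theorem exists_factor_of_facHom {k : Type u} [Field k] (ψ : B →+* k) (Q : MvPolynomial σ B) (D : ℕ)
    (m₁ m₂ : box σ D) (θ : FacRing Q D m₁ m₂ →+* k) (hθ : θ.comp (algebraMap B _) = ψ) :
    ∃ q₁ q₂, MvPolynomial.map ψ Q = q₁ * q₂ ∧ coeff m₁.1 q₁ ≠ 0 ∧ coeff m₂.1 q₂ ≠ 0 := by
  let mk : MvPolynomial (FacVar σ D) B →+* FacRing Q D m₁ m₂ :=
    Ideal.Quotient.mk (Ideal.span (facEqs Q D m₁ m₂))
  have hC : (θ.comp mk).comp MvPolynomial.C = ψ := hθ
  refine ⟨genPoly (box σ D) (fun i => θ (mk (X (Sum.inl (Sum.inl i))))),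
    genPoly (box σ D) (fun i => θ (mk (X (Sum.inl (Sum.inr i))))), ?_, ?_, ?_⟩
  · ext m
    have h : (θ.comp mk) (coeff m (genPoly (box σ D) (fun i => X (Sum.inl (Sum.inl i))) *
        genPoly (box σ D) (fun i => X (Sum.inl (Sum.inr i))) - MvPolynomial.map MvPolynomial.C Q)) = 0 := by
      rw [RingHom.comp_apply, Ideal.Quotient.eq_zero_iff_mem.2 (Ideal.subset_span (s := facEqs Q D m₁ m₂) (Or.inl ⟨m, rfl⟩)),
        map_zero]
    rw [← coeff_map, map_sub, map_mul, map_genPoly, map_genPoly, map_map, hC, coeff_sub, sub_eq_zero] at h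
    exact h.symm
  · rw [coeff_genPoly]
    have h : θ (mk (X (Sum.inr 0) * X (Sum.inl (Sum.inl m₁)) - 1)) = 0 := by
      rw [Ideal.Quotient.eq_zero_iff_mem.2 (Ideal.subset_span (s := facEqs Q D m₁ m₂) (Or.inr (Or.inl rfl))), map_zero]
    intro h0
    simp [map_sub, map_mul, h0] at h
  · rw [coeff_genPoly]
    have h : θ (mk (X (Sum.inr 1) * X (Sum.inl (Sum.inr m₂)) - 1)) = 0 := by
      rw [Ideal.Quotient.eq_zero_iff_mem.2 (Ideal.subset_span (s := facEqs Q D m₁ m₂) (Or.inr (Or.inr rfl))), map_zero]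
    intro h0
    simp [map_sub, map_mul, h0] at h

/-- The primes over which `Q` is absolutely irreducible. -/
def irrSet (Q : MvPolynomial σ B) : Set (PrimeSpectrum B) :=
  (⋃ m ∈ {m | m ∈ Q.support ∧ m ≠ 0}, (basicOpen (coeff m Q) : Set (PrimeSpectrum B))) \
    ⋃ mm ∈ {mm : box σ Q.totalDegree × box σ Q.totalDegree | mm.1.1 ≠ 0 ∧ mm.2.1 ≠ 0},
      Set.range (comap (algebraMap B (FacRing Q Q.totalDegree mm.1 mm.2)))

theorem isConstructible_irrSet (Q : MvPolynomial σ B) : IsConstructible (irrSet Q) := by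
  refine IsConstructible.sdiff
    (IsConstructible.biUnion (Q.support.finite_toSet.subset fun m hm => hm.1) fun m _ => isConstructible_basicOpen)
    (IsConstructible.biUnion (Set.toFinite _) fun mm _ => ?_)
  haveI : Algebra.FinitePresentation B (FacRing Q Q.totalDegree mm.1 mm.2) :=
    Algebra.FinitePresentation.quotient (fg_facEqs _ _ _ _)
  exact isConstructible_range_comap (RingHom.finitePresentation_algebraMap.2 inferInstance)

/-- Over `irrSet Q` the polynomial is irreducible over every field. -/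
theorem irreducible_map_of_mem {Q : MvPolynomial σ B} {k : Type u} [Field k] (ψ : B →+* k)
    (p : PrimeSpectrum B) (hp : RingHom.ker ψ = p.asIdeal) (hmem : p ∈ irrSet Q) :
    Irreducible (MvPolynomial.map ψ Q) := by
  classical
  obtain ⟨hnc, hfac⟩ := hmem
  simp only [Set.mem_iUnion, Set.mem_setOf_eq, exists_prop] at hnc
  obtain ⟨m, ⟨-, hm0⟩, hm⟩ := hnc
  have hnc' : NonConst (MvPolynomial.map ψ Q) := ⟨m, hm0, by
    rw [coeff_map]
    intro h
    exact hm (hp ▸ (RingHom.mem_ker).2 h)⟩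
  refine irreducible_iff_nonConst.2 ⟨hnc', fun q₁ q₂ h ⟨h₁, h₂⟩ => ?_⟩
  have hQ0 : MvPolynomial.map ψ Q ≠ 0 := fun e => by
    obtain ⟨_, _, he⟩ := hnc'; rw [e, coeff_zero] at he; exact he rfl
  have hdeg : (MvPolynomial.map ψ Q).totalDegree ≤ Q.totalDegree :=
    Finset.sup_mono (support_map_subset _ _)
  obtain ⟨d₁, d₂⟩ := totalDegree_le_of_mul h hQ0
  have hs₁ : q₁.support ⊆ box σ Q.totalDegree := support_subset_box (d₁.trans hdeg)
  have hs₂ : q₂.support ⊆ box σ Q.totalDegree := support_subset_box (d₂.trans hdeg)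
  obtain ⟨n₁, hn₁, hc₁⟩ := h₁
  obtain ⟨n₂, hn₂, hc₂⟩ := h₂
  obtain ⟨θ, hθ⟩ := exists_facHom ψ Q Q.totalDegree ⟨n₁, hs₁ (mem_support_iff.2 hc₁)⟩
    ⟨n₂, hs₂ (mem_support_iff.2 hc₂)⟩ q₁ q₂ hs₁ hs₂ h (isUnit_iff_ne_zero.2 hc₁) (isUnit_iff_ne_zero.2 hc₂)
  refine hfac ?_
  simp only [Set.mem_iUnion, Set.mem_setOf_eq, exists_prop]
  refine ⟨(⟨n₁, hs₁ (mem_support_iff.2 hc₁)⟩, ⟨n₂, hs₂ (mem_support_iff.2 hc₂)⟩), ⟨hn₁, hn₂⟩,
    ⟨RingHom.ker θ, RingHom.ker_isPrime θ⟩, PrimeSpectrum.ext ?_⟩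
  rw [← hp, ← hθ]
  rfl

/-- Nullstellensatz: a prime over `ker ψ` gives a point with values in the algebraically closed field. -/
theorem exists_point_over {Z : Type u} [CommRing Z] [Algebra B Z] [Algebra.FiniteType B Z]
    {k : Type u} [Field k] [IsAlgClosed k] (ψ : B →+* k) (p : PrimeSpectrum B)
    (hp : RingHom.ker ψ = p.asIdeal) (z : PrimeSpectrum Z) (hz : comap (algebraMap B Z) z = p) :
    ∃ θ : Z →+* k, θ.comp (algebraMap B Z) = ψ := by
  let L := p.asIdeal.ResidueField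
  let F := z.asIdeal.ResidueField
  have hzk : ∀ x : B, algebraMap Z F (algebraMap B Z x) = 0 ↔ x ∈ p.asIdeal := fun x => by
    rw [Ideal.algebraMap_residueField_eq_zero, ← hz]; rfl
  let ι₂ : L →+* F := Ideal.ResidueField.lift p.asIdeal ((algebraMap Z F).comp (algebraMap B Z))
    (fun x hx => (hzk x).2 hx) (fun x hx => isUnit_iff_ne_zero.2 fun h0 => hx ((hzk x).1 h0))
  let g₁ : L →ₐ[B] F := ⟨ι₂, fun b => (Ideal.ResidueField.lift_algebraMap _ _ _ _ b).trans (IsScalarTower.algebraMap_apply B Z F b).symm⟩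
  let g₂ : Z →ₐ[B] F := IsScalarTower.toAlgHom B Z F
  let T := TensorProduct B L Z
  haveI : Nontrivial T := (Algebra.TensorProduct.lift g₁ g₂ fun _ _ => mul_comm _ _).toRingHom.domain_nontrivial
  obtain ⟨M, hM⟩ := Ideal.exists_maximal T
  haveI := hM
  let Km := T ⧸ M
  let : Field Km := Ideal.Quotient.field M
  haveI : Module.Finite L Km := finite_of_finite_type_of_isJacobsonRing L Km
  let ι₁ : L →+* k := Ideal.ResidueField.lift p.asIdeal ψ
    (fun x hx => RingHom.mem_ker.1 (hp ▸ hx))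
    (fun x hx => isUnit_iff_ne_zero.2 fun h0 => hx (hp ▸ RingHom.mem_ker.2 h0))
  let := ι₁.toAlgebra
  let e : Km →ₐ[L] k := IsAlgClosed.lift
  refine ⟨e.toRingHom.comp ((Ideal.Quotient.mk M).comp
    (Algebra.TensorProduct.includeRight (R := B) (A := L) (B := Z)).toRingHom), ?_⟩
  ext b
  have h1 : (Algebra.TensorProduct.includeRight (R := B) (A := L) (B := Z)) (algebraMap B Z b) =
      algebraMap L T (algebraMap B L b) :=
    ((Algebra.TensorProduct.includeRight (R := B) (A := L) (B := Z)).commutes b).trans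
      (IsScalarTower.algebraMap_apply B L T b)
  show e (Ideal.Quotient.mk M ((Algebra.TensorProduct.includeRight (R := B) (A := L) (B := Z)) (algebraMap B Z b))) = ψ b
  rw [h1]
  exact (e.commutes (algebraMap B L b)).trans (Ideal.ResidueField.lift_algebraMap _ _ _ _ _)

/-- Irreducibility over an algebraically closed field puts the prime in `irrSet Q`. -/
theorem mem_irrSet {Q : MvPolynomial σ B} {k : Type u} [Field k] [IsAlgClosed k] (ψ : B →+* k)
    (p : PrimeSpectrum B) (hp : RingHom.ker ψ = p.asIdeal) (hirr : Irreducible (MvPolynomial.map ψ Q)) :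
    p ∈ irrSet Q := by
  classical
  obtain ⟨⟨m, hm0, hm⟩, hfac⟩ := irreducible_iff_nonConst.1 hirr
  rw [coeff_map] at hm
  refine ⟨?_, ?_⟩
  · simp only [Set.mem_iUnion, Set.mem_setOf_eq, exists_prop]
    refine ⟨m, ⟨mem_support_iff.2 fun h => hm (by rw [h, map_zero]), hm0⟩, fun h => hm ?_⟩
    rw [← hp] at h
    exact h
  · simp only [Set.mem_iUnion, Set.mem_setOf_eq, exists_prop, not_exists, not_and]
    rintro ⟨n₁, n₂⟩ ⟨hn₁, hn₂⟩ ⟨z, hz⟩
    obtain ⟨θ, hθ⟩ := exists_point_over (Z := FacRing Q Q.totalDegree n₁ n₂) ψ p hp z hz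
    obtain ⟨q₁, q₂, hq, hc₁, hc₂⟩ := exists_factor_of_facHom ψ Q _ n₁ n₂ θ hθ
    exact hfac q₁ q₂ hq ⟨⟨_, hn₁, hc₁⟩, ⟨_, hn₂, hc₂⟩⟩

/-- Irreducibility is stable under extensions of algebraically closed fields. -/
theorem irreducible_map_field {k k' : Type u} [Field k] [IsAlgClosed k] [Field k'] (f : k →+* k')
    {Q : MvPolynomial σ k} (h : Irreducible Q) : Irreducible (MvPolynomial.map f Q) :=
  irreducible_map_of_mem f ⊥ ((RingHom.injective_iff_ker_eq_bot f).1 f.injective)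
    (mem_irrSet (RingHom.id k) ⊥ ((RingHom.injective_iff_ker_eq_bot _).1 Function.injective_id)
      (by rwa [map_id]))

end Groth.Agent.GrpFieldLib.SecComp
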