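import Groth.Agent.GrpFieldLib.SCAction

/-! Coincidence of two sections with values in the neutral components. -/

universe u

open CategoryTheory Limits AlgebraicGeometry MonoidalCategory CartesianMonoidalCategory MonObj GrpObj
open scoped CategoryTheory.Obj

namespace Groth.Agent.GrpFieldLib.SecComp

open Groth.Agent.GrpSchLib Groth.Agent.GrpSchLib.Neutral

variable {S : Scheme.{u}} (G : Over S) [GrpObj G] [LocallyOfFiniteType G.hom]

/-- The action of a group on itself by left translations. -/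
noncomputable def selfAction : AlgGrp.Action G G where
  act := μ[G]
  one_act := MonObj.one_mul G
  mul_act := MonObj.mul_assoc G

/-- Near every point of the base the neutral components lie in a separated open subscheme. -/
theorem exists_separated_nbhd
    (hdim : IsLocallyConstant (fun s : S => topologicalKrullDim ↥(G.hom.base ⁻¹' {s}))) (s : S) :
    ∃ (O : S.Opens) (V : G.left.Opens), s ∈ O ∧ IsSeparated (V.ι ≫ G.hom) ∧
      ∀ x ∈ SGA3x.neutralSet G, G.hom x ∈ O → x ∈ V := by
  obtain ⟨S₁, hS₁, hs₁, -⟩ := exists_isAffineOpen_mem_and_subset (show s ∈ (⊤ : S.Opens) from trivial)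
  obtain ⟨U, hU, heU, hUS⟩ := exists_isAffineOpen_mem_and_subset
    (show unit G s ∈ G.hom ⁻¹ᵁ S₁ by show G.hom (unit G s) ∈ S₁; rwa [hom_unit])
  have hsep : IsSeparated (U.ι ≫ G.hom) := by
    haveI : IsAffine (U : Scheme.{u}) := hU
    haveI : IsAffine (S₁ : Scheme.{u}) := hS₁
    rw [← Scheme.Hom.resLE_comp_ι G.hom hUS]
    infer_instance
  let V : G.left.Opens :=
    ⟨_, isOpen_omega G hdim G (U.isOpen.preimage (backAct (selfAction G)).left.continuous)⟩
  refine ⟨unit G ⁻¹ᵁ U, V, heU, isSeparated_omega (selfAction G) hdim U hsep V rfl, fun x hx hxO => ?_⟩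
  show x ∈ omega G G _
  rw [← act_image_eq]
  -- `x = x * e`
  let l : G ⟶ G ⊗ G := lift (𝟙 G) (toUnit G ≫ η[G])
  refine ⟨l.left x, ⟨?_, ?_⟩, ?_⟩
  · rw [← left_comp_apply, lift_fst]
    exact hx
  · rw [← left_comp_apply, lift_snd, left_comp_apply]
    exact hxO
  · rw [← left_comp_apply]
    have : l ≫ (selfAction G).act = 𝟙 G := by
      show lift (𝟙 G) (toUnit G ≫ η[G]) ≫ μ[G] = 𝟙 G
      rw [← Hom.mul_def]
      simp [MonObj.one_eq_one, MonObj.comp_one]
    rw [this]
    rfl

theorem isClosed_coincidence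
    (hdim : IsLocallyConstant (fun s : S => topologicalKrullDim ↥(G.hom.base ⁻¹' {s})))
    (σ τ : 𝟙_ (Over S) ⟶ G) (hσ : Set.range σ.left ⊆ SGA3x.neutralSet G)
    (hτ : Set.range τ.left ⊆ SGA3x.neutralSet G) :
    IsClosedImmersion (pullback.fst (lift σ τ) (lift (𝟙 G) (𝟙 G))).left := by
  choose O V hsO hsep hV using exists_separated_nbhd G hdim
  let E := pullback (lift σ τ) (lift (𝟙 G) (𝟙 G))
  refine IsZariskiLocalAtTarget.of_iSup_eq_top (P := @IsClosedImmersion) O
    (eq_top_iff.2 fun s _ => TopologicalSpace.Opens.mem_iSup.2 ⟨s, hsO s⟩) fun s => ?_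
  let T : Over S := Over.mk (O s).ι
  let Vo : Over S := Over.mk ((V s).ι ≫ G.hom)
  let iV : Vo ⟶ G := Over.homMk (V s).ι rfl
  let iT : T ⟶ 𝟙_ (Over S) := Over.homMk (O s).ι (Category.comp_id _)
  haveI : Mono iV := (Over.forget S).mono_of_mono_map (inferInstanceAs (Mono (V s).ι))
  have hlift : ∀ ρ : 𝟙_ (Over S) ⟶ G, Set.range ρ.left ⊆ SGA3x.neutralSet G →
      ∃ c : T ⟶ Vo, c ≫ iV = iT ≫ ρ := by
    intro ρ hρ
    have hr : Set.range (iT ≫ ρ).left ⊆ Set.range (V s).ι := by
      rintro _ ⟨z, rfl⟩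
      rw [Scheme.Opens.range_ι, left_comp_apply]
      refine hV s _ (hρ ⟨_, rfl⟩) ?_
      show G.hom (ρ.left (iT.left z)) ∈ O s
      rw [show G.hom (ρ.left (iT.left z)) = iT.left z from
        congrArg (fun m : S ⟶ S => m (iT.left z)) (Over.w ρ)]
      exact z.2
    refine ⟨Over.homMk (IsOpenImmersion.lift (V s).ι (iT ≫ ρ).left hr) ?_,
      Over.OverMorphism.ext (IsOpenImmersion.lift_fac _ _ _)⟩
    show _ ≫ (V s).ι ≫ G.hom = _
    rw [← Category.assoc, IsOpenImmersion.lift_fac, Over.w]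
  obtain ⟨c₁, hc₁⟩ := hlift σ hσ
  obtain ⟨c₂, hc₂⟩ := hlift τ hτ
  have hpb : IsPullback (pullback.snd iT (pullback.fst (lift σ τ) (lift (𝟙 G) (𝟙 G))) ≫
      pullback.snd (lift σ τ) (lift (𝟙 G) (𝟙 G))) (pullback.fst _ _) (lift (𝟙 G) (𝟙 G)) (iT ≫ lift σ τ) :=
    (IsPullback.of_hasPullback iT _).flip.paste_horiz (IsPullback.of_hasPullback (lift σ τ) _).flip
  let P := pullback iT (pullback.fst (lift σ τ) (lift (𝟙 G) (𝟙 G)))
  let k : P ⟶ T := pullback.fst _ _
  have hk : k ≫ c₁ = k ≫ c₂ := by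
    rw [← cancel_mono iV, Category.assoc, Category.assoc, hc₁, hc₂]
    have h := hpb.w
    have e1 := congrArg (· ≫ fst G G) h
    have e2 := congrArg (· ≫ snd G G) h
    simp only [Category.assoc, lift_fst, lift_snd, Category.comp_id] at e1 e2
    exact e1.symm.trans e2
  have hpb' : IsPullback (k ≫ c₁) k (lift (𝟙 Vo) (𝟙 Vo)) (lift c₁ c₂) := by
    refine IsPullback.of_isLimit' ⟨by apply CartesianMonoidalCategory.hom_ext <;> simp [hk]⟩
      (PullbackCone.IsLimit.mk _ (fun c => hpb.lift (c.fst ≫ iV) c.snd ?_) ?_ ?_ ?_)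
    · have e1 := congrArg (· ≫ fst Vo Vo ≫ iV) c.condition
      have e2 := congrArg (· ≫ snd Vo Vo ≫ iV) c.condition
      simp only [Category.assoc, lift_fst_assoc, lift_snd_assoc, Category.id_comp, hc₁, hc₂] at e1 e2
      apply CartesianMonoidalCategory.hom_ext
      · simpa using e1
      · simpa using e2
    · intro c
      have e1 := congrArg (· ≫ fst Vo Vo) c.condition
      simp only [Category.assoc, lift_fst, Category.comp_id] at e1
      refine Eq.trans ?_ e1.symm
      rw [← Category.assoc]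
      congr 1
      exact hpb.lift_snd _ _ _
    · exact fun c => hpb.lift_snd _ _ _
    · intro c m h1 h2
      apply hpb.hom_ext
      · rw [hpb.lift_fst, ← h1]
        have h := congrArg (· ≫ fst G G) hpb.w
        simp only [Category.assoc, lift_fst, Category.comp_id] at h
        rw [h]
        simp [k, hc₁]
      · rw [hpb.lift_snd]
        exact h2
  have hcl : IsClosedImmersion k.left := by
    haveI : IsSeparated Vo.hom := hsep s
    haveI : IsClosedImmersion (lift (𝟙 Vo) (𝟙 Vo)).left :=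
      IsSeparated.isClosedImmersion_diagonal (f := Vo.hom)
    exact MorphismProperty.of_isPullback (P := @IsClosedImmersion) (hpb'.map (Over.forget S)) ‹_›
  have hres := (IsPullback.of_hasPullback iT (pullback.fst (lift σ τ) (lift (𝟙 G) (𝟙 G)))).map (Over.forget S)
  have hres' := isPullback_morphismRestrict (pullback.fst (lift σ τ) (lift (𝟙 G) (𝟙 G))).left (O s)
  let e := hres'.flip.isoIsPullback _ _ hres.flip
  have he : e.hom ≫ k.left = (pullback.fst (lift σ τ) (lift (𝟙 G) (𝟙 G))).left ∣_ O s :=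
    hres'.flip.isoIsPullback_hom_snd _ _ hres.flip
  rw [← he]
  haveI := hcl
  exact MorphismProperty.comp_mem @IsClosedImmersion e.hom k.left inferInstance hcl

end Groth.Agent.GrpFieldLib.SecComp
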