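import Groth.Agent.GrpFieldLib.Pruefer

/-! Factorisations over the fraction field of a valuation ring. -/

namespace Groth.Agent.GrpFieldLib.SecComp

open MvPolynomial

universe u

variable {σ : Type} {O : Type u} [CommRing O] [IsDomain O] [ValuationRing O]
  {K : Type u} [Field K] [Algebra O K] [IsFractionRing O K]

theorem exists_primitive {q : MvPolynomial σ K} (hq : q ≠ 0) :
    ∃ (c : K) (q₀ : MvPolynomial σ O), c ≠ 0 ∧ MvPolynomial.map (algebraMap O K) q₀ = C c * q ∧
      ∃ m, IsUnit (coeff m q₀) := by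
  classical
  obtain ⟨b, hb⟩ := IsLocalization.exist_integer_multiples (nonZeroDivisors O) q.support (fun m => coeff m q)
  choose! a ha using hb
  obtain ⟨m₀, hm₀, hdvd⟩ := Pruefer.exists_dvd_all q.support (support_nonempty.2 hq) a
  choose! d hd using hdvd
  have hb0 : algebraMap O K b ≠ 0 :=
    (map_ne_zero_iff _ (IsFractionRing.injective O K)).2 (nonZeroDivisors.ne_zero b.2)
  have ha0 : algebraMap O K (a m₀) ≠ 0 := by
    rw [ha m₀ hm₀, Algebra.smul_def]
    exact mul_ne_zero hb0 (mem_support_iff.1 hm₀)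
  refine ⟨algebraMap O K b / algebraMap O K (a m₀), ∑ m ∈ q.support, monomial m (d m),
    div_ne_zero hb0 ha0, ?_, m₀, ?_⟩
  · conv_rhs => rw [as_sum q]
    rw [map_sum, Finset.mul_sum]
    refine Finset.sum_congr rfl fun m hm => ?_
    rw [map_monomial, C_mul_monomial]
    congr 1
    have h1 := ha m hm
    rw [hd m hm, map_mul, Algebra.smul_def] at h1
    field_simp
    linear_combination h1
  · have : d m₀ = 1 := by
      have h1 := hd m₀ hm₀
      have h2 : a m₀ ≠ 0 := fun h => ha0 (by rw [h, map_zero])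
      exact (mul_left_cancel₀ h2 (h1.symm.trans (mul_one _).symm))
    rw [coeff_sum, Finset.sum_eq_single m₀]
    · simp [this]
    · intro b _ hb; simp [coeff_monomial, hb]
    · intro h; exact absurd hm₀ h

/-- A factorisation over `K` of a polynomial with nonzero reduction comes from one over `O`. -/
theorem exists_integral_factor {k : Type u} [Field k] (r : O →+* k)
    (hr : RingHom.ker r = IsLocalRing.maximalIdeal O) (P : MvPolynomial σ O) (Q R : MvPolynomial σ K)
    (hP : MvPolynomial.map (algebraMap O K) P = Q * R) (hP0 : MvPolynomial.map r P ≠ 0) :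
    ∃ (c : K) (Q₀ R₀ : MvPolynomial σ O), c ≠ 0 ∧ MvPolynomial.map (algebraMap O K) Q₀ = C c * Q ∧
      MvPolynomial.map (algebraMap O K) R₀ = C c⁻¹ * R ∧ P = Q₀ * R₀ := by
  classical
  have hinj := MvPolynomial.map_injective (σ := σ) (algebraMap O K) (IsFractionRing.injective O K)
  have hP' : MvPolynomial.map (algebraMap O K) P ≠ 0 := fun h =>
    hP0 (by rw [(map_eq_zero_iff _ hinj).1 h, map_zero])
  obtain ⟨c, q₀, hc, hq₀, m₁, hm₁⟩ := exists_primitive (O := O) (q := Q) (fun h => hP' (by rw [hP, h, zero_mul]))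
  obtain ⟨d, r₀, hd, hr₀, m₂, hm₂⟩ := exists_primitive (O := O) (q := R) (fun h => hP' (by rw [hP, h, mul_zero]))
  have hunit : ∀ x : O, r x ≠ 0 ↔ IsUnit x := fun x => by
    rw [Ne, ← RingHom.mem_ker, hr, IsLocalRing.mem_maximalIdeal, mem_nonunits_iff, not_not]
  have hne : ∀ (p : MvPolynomial σ O) m, IsUnit (coeff m p) → MvPolynomial.map r p ≠ 0 := fun p m hm h =>
    (hunit _).2 hm (by rw [← coeff_map, h, coeff_zero])
  obtain ⟨m, hm⟩ : ∃ m, coeff m (MvPolynomial.map r P) ≠ 0 := MvPolynomial.ne_zero_iff.1 hP0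
  rw [coeff_map, hunit] at hm
  obtain ⟨v, hv⟩ := hm.exists_left_inv
  let e : O := v * coeff m (q₀ * r₀)
  have hkey : MvPolynomial.map (algebraMap O K) (q₀ * r₀) = C (c * d) * MvPolynomial.map (algebraMap O K) P := by
    rw [map_mul, hq₀, hr₀, hP, C_mul]; ring
  have he : algebraMap O K e = c * d := by
    have h1 := congrArg (coeff m) hkey
    rw [coeff_map, coeff_C_mul, coeff_map] at h1
    simp only [e, map_mul, h1]
    have h2 : algebraMap O K v * algebraMap O K (coeff m P) = 1 := by rw [← map_mul, hv, map_one]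
    linear_combination (c * d) * h2
  have hqr : q₀ * r₀ = C e * P := hinj (by rw [hkey, map_mul (MvPolynomial.map (algebraMap O K)) (C e), map_C, he])
  have heu : IsUnit e := by
    rw [← hunit]
    intro h
    have := congrArg (MvPolynomial.map r) hqr
    rw [map_mul, map_mul, map_C, h, C_0, zero_mul] at this
    rcases mul_eq_zero.1 this with h' | h'
    · exact hne _ _ hm₁ h'
    · exact hne _ _ hm₂ h'
  obtain ⟨e', he'⟩ := heu.exists_left_inv
  refine ⟨c, q₀, C e' * r₀, hc, hq₀, ?_, ?_⟩
  · rw [map_mul, map_C, hr₀, ← mul_assoc, ← C_mul]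
    congr 2
    have h2 : algebraMap O K e' * (c * d) = 1 := by rw [← he, ← map_mul, he', map_one]
    field_simp
    linear_combination h2
  · rw [mul_left_comm, hqr, ← mul_assoc, ← C_mul, he', C_1, one_mul]

end Groth.Agent.GrpFieldLib.SecComp
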