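import Groth.Agent.GrpSchLib.FibreDimGrp
import Groth.Agent.FibDim.Basic

/-! Images in the base of open sets met with the neutral components, when the fibre dimension is
locally constant. -/

universe u

open CategoryTheory Limits AlgebraicGeometry MonoidalCategory CartesianMonoidalCategory MonObj GrpObj
open scoped CategoryTheory.Obj

namespace Groth.Agent.GrpFieldLib.SecComp

open Groth.Agent.GrpSchLib Groth.Agent.GrpSchLib.Neutral

variable {S : Scheme.{u}} (G : Over S) [GrpObj G]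

/-- The neutral component of a fibre has a generic point. -/
theorem exists_neutral_generic (s : S) : ∃ ζ : G.left, G.hom ζ = s ∧ ζ ∈ SGA3x.neutralSet G ∧
    FibDim.FibMax G.hom ζ ∧
      ∀ x : G.left, G.hom x = s → (x ∈ SGA3x.neutralSet G ↔ ζ ⤳ x) := by
  let π := pullback.fst G.hom (S.fromSpecResidueField s)
  have hπ : Topology.IsEmbedding π := (G.hom.fiberι s).isEmbedding
  have hr : Set.range π = G.hom ⁻¹' {s} := Scheme.Hom.range_fiberι G.hom s
  obtain ⟨c, hc, hce⟩ := exists_isMaxPt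
    (η[fib G s].left (IsLocalRing.closedPoint (S.residueField s)))
  have hfib : ∀ w, G.hom (π w) = s := fun w => hr.le ⟨w, rfl⟩
  have key : ∀ w, π w ∈ SGA3x.neutralSet G ↔ c ⤳ w := fun w => by
    rw [mem_neutralSet_iff, hfib, connectedComponentIn_eq, hπ.injective.mem_set_image,
      connectedComponent_one (G := fib G s) hc hce, specializes_iff_mem_closure]
  refine ⟨π c, hfib c, (key c).2 specializes_rfl, ?_, fun x hx => ?_⟩
  · intro z hz hzs
    obtain ⟨w, rfl⟩ : z ∈ Set.range π := hr.ge (hzs.trans (hfib c))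
    exact congrArg π (hc w (hπ.isInducing.specializes_iff.1 hz))
  · obtain ⟨w, rfl⟩ : x ∈ Set.range π := hr.ge hx
    rw [key, hπ.isInducing.specializes_iff]

/-- A set of the base is open: the image of an open set met with the neutral components. -/
theorem isOpen_image_inter_neutralSet [LocallyOfFiniteType G.hom]
    (hdim : IsLocallyConstant (fun s : S => topologicalKrullDim ↥(G.hom.base ⁻¹' {s})))
    {W : Set G.left} (hW : IsOpen W) : IsOpen (G.hom '' (W ∩ SGA3x.neutralSet G)) := by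
  choose ζ hζs hζN hζmax hζiff using exists_neutral_generic G
  have hmem : ∀ t, t ∈ G.hom '' (W ∩ SGA3x.neutralSet G) ↔ ζ t ∈ W := fun t => by
    refine ⟨?_, fun h => ⟨ζ t, ⟨h, hζN t⟩, hζs t⟩⟩
    rintro ⟨x, ⟨hxW, hxN⟩, rfl⟩
    exact ((hζiff _ x rfl).1 hxN).mem_open hW hxW
  have hrd : ∀ t, ((FibDim.rd G.hom (ζ t) : ℕ∞) : WithBot ℕ∞) =
      topologicalKrullDim ↥(G.hom.base ⁻¹' {t}) := fun t => by
    rw [← FibDim.fibreDimAt_eq_rd G.hom (hζmax t), FibreDimGrp.fibreDimAt_eq, hζs]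
  refine isOpen_iff_forall_mem_open.2 fun s hs => ?_
  rw [hmem] at hs
  by_cases he : unit G s ∈ W
  · refine ⟨unit G ⁻¹' W, fun t ht => ⟨unit G t, ⟨ht, unit_mem_neutralSet G t⟩, hom_unit G t⟩,
      hW.preimage (unit G).continuous, he⟩
  -- the complement has smaller fibre dimension at the unit
  have hζe : ζ s ⤳ unit G s := (hζiff s _ (hom_unit G s)).1 (unit_mem_neutralSet G s)
  have hne : ζ s ≠ unit G s := fun h => he (h ▸ hs)
  have hpos : FibDim.rd G.hom (unit G s) < FibDim.rd G.hom (ζ s) :=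
    FibDim.rd_lt G.hom hζe hne ((hζs s).trans (hom_unit G s).symm)
  obtain ⟨m, hm⟩ : ∃ m, FibDim.rd G.hom (ζ s) = m + 1 := ⟨_, (Nat.succ_pred_eq_of_pos (by omega)).symm⟩
  haveI : IsLocallyNoetherian (G.hom.fiber s) :=
    LocallyOfFiniteType.isLocallyNoetherian (G.hom.fiberToSpecResidueField s)
  obtain ⟨w₀, hw₀⟩ : unit G s ∈ Set.range (G.hom.fiberι s) := by
    rw [Scheme.Hom.range_fiberι]; exact hom_unit G s
  obtain ⟨Wf, hwf, hWf⟩ := FibDim.exists_nhd_generizing (X := G.hom.fiber s) isClosed_univ w₀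
  obtain ⟨W₀, hW₀, hWW₀⟩ := (G.hom.fiberι s).isEmbedding.isInducing.isOpen_iff.mp Wf.isOpen
  have heW₀ : unit G s ∈ W₀ := by
    rw [← hw₀]
    exact hWW₀.ge hwf
  have hbound : topologicalKrullDim ↥(W₀ ∩ Wᶜ ∩ G.hom ⁻¹' {G.hom (unit G s)}) ≤ (m : WithBot ℕ∞) := by
    rw [hom_unit]
    refine (FibDim.dim_inter_le_iff G.hom _ hW₀ hW.isClosed_compl m).2 fun z h1 h2 h3 => ?_
    obtain ⟨w, rfl⟩ : z ∈ Set.range (G.hom.fiberι s) := by rw [Scheme.Hom.range_fiberι]; exact h3
    obtain ⟨η', -, hη0, hηw⟩ := hWf w (hWW₀.le h1) trivial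
    have h4 : G.hom.fiberι s η' ⤳ unit G s := hw₀ ▸ hη0.map (G.hom.fiberι s).continuous
    have h5 : G.hom.fiberι s η' ∈ SGA3x.neutralSet G := by
      rw [mem_neutralSet_iff, FibDim.fiber_apply_fiberι]
      have hpre : _root_.IsPreconnected ({G.hom.fiberι s η', unit G s} : Set G.left) := by
        refine isPreconnected_singleton.subset_closure (Set.singleton_subset_iff.2 (Or.inl rfl)) ?_
        rintro x (rfl | rfl)
        · exact subset_closure rfl
        · exact h4.mem_closure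
      refine hpre.subset_connectedComponentIn (Or.inr rfl) ?_ (Or.inl rfl)
      rintro x (rfl | rfl)
      · exact FibDim.fiber_apply_fiberι _ _
      · exact hom_unit G s
    have h6 : ζ s ⤳ G.hom.fiberι s w :=
      ((hζiff s _ (FibDim.fiber_apply_fiberι _ _)).1 h5).trans (hηw.map (G.hom.fiberι s).continuous)
    have h7 := FibDim.rd_lt G.hom h6 (fun h => h2 (h ▸ hs)) ((hζs s).trans h3.symm)
    omega
  obtain ⟨U, hU, heU, -, hUb⟩ :=
    FibDim.exists_open_dim_le G.hom hW₀ hW.isClosed_compl heW₀ he m hbound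
  obtain ⟨O, hO, hsO, hOc⟩ := hdim.exists_open s
  refine ⟨unit G ⁻¹' U ∩ O, fun t ⟨htU, htO⟩ => ?_, (hU.preimage (unit G).continuous).inter hO, heU, hsO⟩
  rw [hmem]
  by_contra hζt
  have h8 := (FibDim.dim_inter_le_iff G.hom t hU hW.isClosed_compl m).1 (hUb t) (ζ t)
    (((hζiff t _ (hom_unit G t)).1 (unit_mem_neutralSet G t)).mem_open hU htU) hζt (hζs t)
  have h9 : FibDim.rd G.hom (ζ t) = FibDim.rd G.hom (ζ s) := by
    have := (hrd t).trans ((hOc t htO).trans (hrd s).symm)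
    exact_mod_cast this
  omega

theorem mem_image_inter_iff {W : Set G.left} (hW : IsOpen W) {W' : Set G.left} (hW' : IsOpen W') (s : S) :
    s ∈ G.hom '' (W ∩ W' ∩ SGA3x.neutralSet G) ↔
      s ∈ G.hom '' (W ∩ SGA3x.neutralSet G) ∧ s ∈ G.hom '' (W' ∩ SGA3x.neutralSet G) := by
  obtain ⟨ζ, hζs, hζN, -, hζiff⟩ := exists_neutral_generic G s
  constructor
  · rintro ⟨x, ⟨⟨h1, h2⟩, h3⟩, rfl⟩
    exact ⟨⟨x, ⟨h1, h3⟩, rfl⟩, ⟨x, ⟨h2, h3⟩, rfl⟩⟩
  · rintro ⟨⟨x, ⟨h1, h2⟩, hx⟩, ⟨y, ⟨h3, h4⟩, hy⟩⟩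
    exact ⟨ζ, ⟨⟨((hζiff x hx).1 h2).mem_open hW h1, ((hζiff y hy).1 h4).mem_open hW' h3⟩, hζN⟩, hζs⟩

/-- The dimension of the fibres of a base change. -/
theorem isLocallyConstant_dim_bc {S' : Scheme.{u}} (f : S' ⟶ S) [LocallyOfFiniteType G.hom]
    (hdim : IsLocallyConstant (fun s : S => topologicalKrullDim ↥(G.hom.base ⁻¹' {s}))) :
    IsLocallyConstant (fun s : S' => topologicalKrullDim ↥((Red.bc f G).hom.base ⁻¹' {s})) := by
  haveI : LocallyOfFiniteType (Red.bc f G).hom :=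
    inferInstanceAs (LocallyOfFiniteType (pullback.snd G.hom f))
  have h : (fun s : S' => topologicalKrullDim ↥((Red.bc f G).hom.base ⁻¹' {s})) =
      (fun s : S => topologicalKrullDim ↥(G.hom.base ⁻¹' {s})) ∘ f := by
    funext s
    show topologicalKrullDim ↥((Red.bc f G).hom ⁻¹' {s}) = topologicalKrullDim ↥(G.hom ⁻¹' {f s})
    rw [FibreDimGrp.dim_eq, FibreDimGrp.dim_eq, ← bc_unit G f s]
    exact FibDim.fibreDimAt_baseChange (IsPullback.of_hasPullback G.hom f) _
  rw [h]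
  exact hdim.comp_continuous f.continuous

end Groth.Agent.GrpFieldLib.SecComp
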