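import Groth.Agent.GrpFieldLib.SCAbsIrred
import Groth.Agent.GrpFieldLib.SCGauss

/-! The component of a marked point in the geometric fibres of a localised relative hypersurface. -/

namespace Groth.Agent.GrpFieldLib.SecComp

open MvPolynomial PrimeSpectrum Topology

universe u

variable {σ : Type} [Fintype σ]

/-- A relative hypersurface, smooth where `g` does not vanish, with a marked point. -/
structure Datum (A : Type u) [CommRing A] (σ : Type) [Fintype σ] where
  /-- the equation -/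
  P : MvPolynomial σ A
  /-- the function to invert -/
  g : MvPolynomial σ A
  /-- the marked point -/
  pt : σ → A
  /-- the variable of the invertible partial derivative -/
  i₀ : σ
  hsm : ∃ a b, g = a * P + b * pderiv i₀ P
  hP : eval pt P = 0
  hg : IsUnit (eval pt g)

variable {A : Type u} [CommRing A] (D : Datum A σ)

section field

variable {k : Type u} [Field k] (φ : A →+* k)

/-- The equation over `k`. -/
noncomputable def Datum.Pk : MvPolynomial σ k := MvPolynomial.map φ D.P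

theorem Datum.eval_g_pt : eval (φ ∘ D.pt) (MvPolynomial.map φ D.g) ≠ 0 := by
  have h : φ (eval D.pt D.g) = eval (φ ∘ D.pt) (MvPolynomial.map φ D.g) := by
    rw [eval_map]; exact eval₂_comp φ _ _
  rw [← h]
  exact (D.hg.map φ).ne_zero

theorem Datum.eval_P_pt : eval (φ ∘ D.pt) (D.Pk φ) = 0 := by
  have h : φ (eval D.pt D.P) = eval (φ ∘ D.pt) (MvPolynomial.map φ D.P) := by
    rw [eval_map]; exact eval₂_comp φ _ _
  rw [Datum.Pk, ← h, D.hP, map_zero]

/-- Where `g` does not vanish, two complementary factors do not vanish together. -/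
theorem Datum.disj {Q R : MvPolynomial σ k} (h : D.Pk φ = Q * R) {w : σ → k}
    (hw : eval w (MvPolynomial.map φ D.g) ≠ 0) (hQ : eval w Q = 0) : eval w R ≠ 0 := by
  intro hR
  obtain ⟨a, b, hab⟩ := D.hsm
  refine hw ?_
  rw [hab, map_add, map_mul, map_mul, ← pderiv_map, ← Datum.Pk, h, map_add, map_mul, map_mul, map_mul,
    pderiv_mul, map_add, map_mul, map_mul, hQ, hR]
  ring

theorem Datum.Pk_ne_zero : D.Pk φ ≠ 0 := by
  intro h
  refine D.disj φ (Q := 0) (R := 0) (by rw [h, zero_mul]) (D.eval_g_pt φ) (map_zero _) (map_zero _)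

/-- The irreducible factor through the marked point. -/
theorem Datum.exists_factor : ∃ Q R, D.Pk φ = Q * R ∧ Irreducible Q ∧ eval (φ ∘ D.pt) Q = 0 := by
  obtain ⟨f, hf, hassoc⟩ := WfDvdMonoid.exists_factors (D.Pk φ) (D.Pk_ne_zero φ)
  obtain ⟨v, hv⟩ := hassoc
  have h0 : eval (φ ∘ D.pt) f.prod = 0 := by
    have h1 := D.eval_P_pt φ
    rw [← hv, map_mul] at h1
    exact (mul_eq_zero.1 h1).resolve_right (IsUnit.ne_zero (v.isUnit.map _))
  rw [map_multiset_prod, Multiset.prod_eq_zero_iff, Multiset.mem_map] at h0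
  obtain ⟨Q, hQ, hQ0⟩ := h0
  obtain ⟨R', hR'⟩ := Multiset.dvd_prod hQ
  exact ⟨Q, R' * v, by rw [← hv, hR', mul_assoc], hf Q hQ, hQ0⟩

theorem Datum.factor_assoc {Q R Q' R' : MvPolynomial σ k} (h : D.Pk φ = Q * R) (h' : D.Pk φ = Q' * R')
    (hQ : Irreducible Q) (hQ' : Irreducible Q') (h0 : eval (φ ∘ D.pt) Q = 0)
    (h0' : eval (φ ∘ D.pt) Q' = 0) : Associated Q Q' := by
  refine (hQ'.associated_of_dvd hQ ?_).symm
  have : Q' ∣ Q * R := ⟨R', by rw [← h, h']⟩
  refine (hQ'.prime.dvd_or_dvd this).resolve_right ?_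
  rintro ⟨t, rfl⟩
  exact D.disj φ h (D.eval_g_pt φ) h0 (by rw [map_mul, h0', zero_mul])

/-- The point `v` lies in the component of the marked point. -/
def Datum.InC (v : σ → k) : Prop :=
  eval v (MvPolynomial.map φ D.g) ≠ 0 ∧
    ∃ Q R, D.Pk φ = Q * R ∧ Irreducible Q ∧ eval (φ ∘ D.pt) Q = 0 ∧ eval v Q = 0

theorem Datum.inC_iff_of_factor {Q R : MvPolynomial σ k} (h : D.Pk φ = Q * R) (hQ : Irreducible Q)
    (h0 : eval (φ ∘ D.pt) Q = 0) (v : σ → k) :
    D.InC φ v ↔ eval v (MvPolynomial.map φ D.g) ≠ 0 ∧ eval v Q = 0 := by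
  refine ⟨fun ⟨hg, Q', R', h', hQ', h0', hv⟩ => ⟨hg, ?_⟩, fun ⟨hg, hv⟩ => ⟨hg, Q, R, h, hQ, h0, hv⟩⟩
  obtain ⟨u, hu⟩ := (D.factor_assoc φ h' h hQ' hQ h0' h0)
  rw [← hu, map_mul, hv, zero_mul]

end field

omit [Fintype σ] in
theorem eval_map_comp {k k' : Type u} [CommRing k] [CommRing k'] (f : k →+* k') (v : σ → k)
    (p : MvPolynomial σ k) : eval (f ∘ v) (MvPolynomial.map f p) = f (eval v p) := by
  rw [eval_map]; exact (eval₂_comp f _ _).symm

theorem Datum.inC_map {k k' : Type u} [Field k] [IsAlgClosed k] [Field k'] (f : k →+* k') (φ : A →+* k)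
    (v : σ → k) : D.InC (f.comp φ) (f ∘ v) ↔ D.InC φ v := by
  obtain ⟨Q, R, h, hQ, h0⟩ := D.exists_factor φ
  have h' : D.Pk (f.comp φ) = MvPolynomial.map f Q * MvPolynomial.map f R := by
    rw [← map_mul, ← h, Datum.Pk, Datum.Pk, map_map]
  have h0' : eval ((f.comp φ) ∘ D.pt) (MvPolynomial.map f Q) = 0 := by
    rw [show ((f.comp φ) ∘ D.pt) = f ∘ (φ ∘ D.pt) from rfl, eval_map_comp, h0, map_zero]
  rw [D.inC_iff_of_factor φ h hQ h0, D.inC_iff_of_factor (f.comp φ) h' (irreducible_map_field f hQ) h0',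
    show MvPolynomial.map (f.comp φ) D.g = MvPolynomial.map f (MvPolynomial.map φ D.g) from (map_map φ f D.g).symm,
    eval_map_comp, eval_map_comp, map_eq_zero, Ne, map_eq_zero]

/-- The base of a point. -/
noncomputable def phiOf {k : Type u} [CommRing k] (χ : MvPolynomial σ A →+* k) : A →+* k :=
  χ.comp MvPolynomial.C

/-- The coordinates of a point. -/
noncomputable def valOf {k : Type u} [CommRing k] (χ : MvPolynomial σ A →+* k) : σ → k := fun i => χ (X i)

omit [Fintype σ] in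
theorem eval_valOf {k : Type u} [CommRing k] (χ : MvPolynomial σ A →+* k) (p : MvPolynomial σ A) :
    eval (valOf χ) (MvPolynomial.map (phiOf χ) p) = χ p := by
  rw [eval_map]
  exact (RingHom.congr_fun (ringHom_ext (f := χ) (g := eval₂Hom (phiOf χ) (valOf χ))
    (fun r => by simp [phiOf]) (fun i => by simp [valOf])) p).symm

/-- The canonical geometric point over a prime. -/
noncomputable def geomPt (q : PrimeSpectrum (MvPolynomial σ A)) :
    MvPolynomial σ A →+* AlgebraicClosure q.asIdeal.ResidueField :=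
  (algebraMap q.asIdeal.ResidueField (AlgebraicClosure q.asIdeal.ResidueField)).comp
    (algebraMap (MvPolynomial σ A) q.asIdeal.ResidueField)

omit [Fintype σ] in
theorem ker_geomPt (q : PrimeSpectrum (MvPolynomial σ A)) : RingHom.ker (geomPt q) = q.asIdeal := by
  rw [geomPt, RingHom.ker_comp_of_injective _ (RingHom.injective _), Ideal.ker_algebraMap_residueField]

/-- The union of the components of the marked point in the geometric fibres. -/
def Datum.comp : Set (PrimeSpectrum (MvPolynomial σ A)) :=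
  {q | D.InC (phiOf (geomPt q)) (valOf (geomPt q))}

theorem Datum.mem_comp_iff {k : Type u} [Field k] [IsAlgClosed k] (χ : MvPolynomial σ A →+* k)
    (q : PrimeSpectrum (MvPolynomial σ A)) (hχ : RingHom.ker χ = q.asIdeal) :
    q ∈ D.comp ↔ D.InC (phiOf χ) (valOf χ) := by
  let L := q.asIdeal.ResidueField
  let k₀ := AlgebraicClosure L
  let ι : L →+* k := Ideal.ResidueField.lift q.asIdeal χ (fun x hx => RingHom.mem_ker.1 (hχ.ge hx))
    (fun x hx => isUnit_iff_ne_zero.2 fun h0 => hx (hχ.le (RingHom.mem_ker.2 h0)))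
  let := ι.toAlgebra
  let j : k₀ →ₐ[L] k := IsAlgClosed.lift
  have hj : j.toRingHom.comp (geomPt q) = χ := RingHom.ext fun x =>
    (j.commutes _).trans (Ideal.ResidueField.lift_algebraMap _ _ _ _ _)
  show D.InC (phiOf (geomPt q)) (valOf (geomPt q)) ↔ _
  rw [← D.inC_map j.toRingHom]
  have h1 : j.toRingHom.comp (phiOf (geomPt q)) = phiOf χ := by
    rw [phiOf, ← RingHom.comp_assoc, hj, phiOf]
  have h2 : (j.toRingHom ∘ valOf (geomPt q)) = valOf χ := by
    funext i; exact RingHom.congr_fun hj (X i)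
  rw [h1, h2]

theorem Datum.subset_compl_g {q : PrimeSpectrum (MvPolynomial σ A)} (h : q ∈ D.comp) :
    D.g ∉ q.asIdeal ∧ D.P ∈ q.asIdeal := by
  obtain ⟨hg, Q, R, hQR, -, -, hv⟩ := h
  rw [eval_valOf] at hg
  refine ⟨fun hmem => hg ?_, ?_⟩
  · rw [← ker_geomPt q] at hmem
    exact hmem
  · rw [← ker_geomPt q, RingHom.mem_ker, ← eval_valOf, ← Datum.Pk, hQR, map_mul, hv, zero_mul]

/-- The marked point over a prime of the base. -/
noncomputable def Datum.sec (p : PrimeSpectrum A) : PrimeSpectrum (MvPolynomial σ A) :=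
  comap (eval D.pt) p

theorem Datum.sec_mem (p : PrimeSpectrum A) : D.sec p ∈ D.comp := by
  let χ : MvPolynomial σ A →+* AlgebraicClosure p.asIdeal.ResidueField :=
    ((algebraMap p.asIdeal.ResidueField _).comp (algebraMap A p.asIdeal.ResidueField)).comp (eval D.pt)
  rw [D.mem_comp_iff χ (D.sec p) (by
    rw [show χ = ((algebraMap p.asIdeal.ResidueField _).comp (algebraMap A p.asIdeal.ResidueField)).comp (eval D.pt)
      from rfl, ← RingHom.comap_ker, RingHom.ker_comp_of_injective _ (RingHom.injective _),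
      Ideal.ker_algebraMap_residueField]
    rfl)]
  have hv : valOf χ = phiOf χ ∘ D.pt := by
    funext i; simp [valOf, phiOf, χ]
  obtain ⟨Q, R, h, hQ, h0⟩ := D.exists_factor (phiOf χ)
  rw [D.inC_iff_of_factor _ h hQ h0, hv]
  exact ⟨D.eval_g_pt _, h0⟩

/-- Stability under generisation. -/
theorem Datum.mem_comp_of_le {q q' : PrimeSpectrum (MvPolynomial σ A)} (hsp : q.asIdeal ≤ q'.asIdeal)
    (hPq : D.P ∈ q.asIdeal) (hmem : q' ∈ D.comp) : q ∈ D.comp := by
  let L := q.asIdeal.ResidueField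
  let K := AlgebraicClosure L
  let χ := geomPt q
  have hχ : RingHom.ker χ = q.asIdeal := ker_geomPt q
  -- a valuation ring centred at `q'`
  let Bt := (MvPolynomial σ A ⧸ q.asIdeal)
  let χ' : Bt →+* K := Ideal.Quotient.lift q.asIdeal χ (fun a ha => RingHom.mem_ker.1 (hχ.ge ha))
  have hle : RingHom.ker (Ideal.Quotient.mk q.asIdeal) ≤ q'.asIdeal := by
    rw [Ideal.mk_ker]; exact hsp
  let M : Ideal Bt := q'.asIdeal.map (Ideal.Quotient.mk q.asIdeal)
  haveI : M.IsPrime := Ideal.map_isPrime_of_surjective Ideal.Quotient.mk_surjective hle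
  let R₀ := χ'.range
  let M₀ : Ideal R₀ := M.map χ'.rangeRestrict
  haveI : M₀.IsPrime := Ideal.map_isPrime_of_surjective χ'.rangeRestrict_surjective (by
    intro x hx
    have : χ' x = 0 := congrArg Subtype.val (RingHom.mem_ker.1 hx)
    obtain ⟨a, rfl⟩ := Ideal.Quotient.mk_surjective x
    have ha : a ∈ q.asIdeal := hχ.le (RingHom.mem_ker.2 this)
    rw [Ideal.Quotient.eq_zero_iff_mem.2 ha]
    exact M.zero_mem)
  obtain ⟨V, hV⟩ := (LocalSubring.ofPrime R₀ M₀).exists_le_valuationSubring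
  have hmemV : ∀ a, χ a ∈ V := fun a =>
    hV.1 ((LocalSubring.le_ofPrime R₀ M₀) ⟨Ideal.Quotient.mk q.asIdeal a, rfl⟩)
  let χV : MvPolynomial σ A →+* V := χ.codRestrict V.toSubring hmemV
  have hres : ∀ a, IsLocalRing.residue V (χV a) = 0 ↔ a ∈ q'.asIdeal := by
    intro a
    let b : R₀ := χ'.rangeRestrict (Ideal.Quotient.mk q.asIdeal a)
    have hb : b ∈ M₀ ↔ a ∈ q'.asIdeal := by
      have hk : RingHom.ker χ'.rangeRestrict ≤ M := by
        intro x hx
        have : χ' x = 0 := congrArg Subtype.val (RingHom.mem_ker.1 hx)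
        obtain ⟨a, rfl⟩ := Ideal.Quotient.mk_surjective x
        have ha : a ∈ q.asIdeal := hχ.le (RingHom.mem_ker.2 this)
        rw [Ideal.Quotient.eq_zero_iff_mem.2 ha]
        exact M.zero_mem
      rw [← Ideal.mem_comap, Ideal.comap_map_of_surjective _ χ'.rangeRestrict_surjective,
        ← RingHom.ker_eq_comap_bot, sup_eq_left.2 hk, ← Ideal.mem_comap,
        Ideal.comap_map_of_surjective _ Ideal.Quotient.mk_surjective, ← RingHom.ker_eq_comap_bot,
        sup_eq_left.2 hle]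
    rw [← RingHom.mem_ker, IsLocalRing.ker_residue, IsLocalRing.mem_maximalIdeal, mem_nonunits_iff, ← hb]
    obtain ⟨hle', hloc⟩ := hV
    let l : (LocalSubring.ofPrime R₀ M₀).toSubring := ⟨χ a, LocalSubring.le_ofPrime R₀ M₀ b.2⟩
    have h1 : IsUnit (χV a) ↔ IsUnit l :=
      ⟨fun h => hloc.1 l (by exact h), fun h => h.map (Subring.inclusion hle')⟩
    rw [h1]
    have h2 := IsLocalization.AtPrime.isUnit_to_map_iff (LocalSubring.ofPrime R₀ M₀).toSubring M₀ b
    have h3 : algebraMap R₀ (LocalSubring.ofPrime R₀ M₀).toSubring b = l := rfl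
    rw [h3] at h2
    rw [h2, Ideal.mem_primeCompl_iff, not_not]
  let kr := IsLocalRing.ResidueField V
  let k := AlgebraicClosure kr
  let r : V →+* k := (algebraMap kr k).comp (IsLocalRing.residue V)
  have hr : RingHom.ker r = IsLocalRing.maximalIdeal V := by
    rw [RingHom.ker_comp_of_injective _ (RingHom.injective _), IsLocalRing.ker_residue]
  let χk : MvPolynomial σ A →+* k := r.comp χV
  have hχk : RingHom.ker χk = q'.asIdeal := by
    ext a
    rw [RingHom.mem_ker]
    show algebraMap kr k (IsLocalRing.residue V (χV a)) = 0 ↔ _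
    rw [map_eq_zero, hres]
  obtain ⟨hgq', Qs, Rs, hQRs, -, -, hvs⟩ := (D.mem_comp_iff χk q' hχk).1 hmem
  -- the factor over the algebraically closed fraction field
  have hφK : (algebraMap V K).comp (phiOf χV) = phiOf χ := rfl
  have hvK : (algebraMap V K) ∘ valOf χV = valOf χ := rfl
  obtain ⟨Q, R, hQR, hQ, hQ0⟩ := D.exists_factor (phiOf χ)
  have hPV : MvPolynomial.map (algebraMap V K) (MvPolynomial.map (phiOf χV) D.P) = Q * R := by
    rw [map_map, hφK]; exact hQR
  have hP0 : MvPolynomial.map r (MvPolynomial.map (phiOf χV) D.P) ≠ 0 := by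
    rw [map_map]; exact D.Pk_ne_zero (r.comp (phiOf χV))
  obtain ⟨c, Q₀, R₀', hc, hQ₀, hR₀, hfac⟩ := exists_integral_factor r hr _ Q R hPV hP0
  have hfk : D.Pk (phiOf χk) = MvPolynomial.map r Q₀ * MvPolynomial.map r R₀' := by
    rw [← map_mul, ← hfac, map_map]; rfl
  have hQpt : eval (phiOf χV ∘ D.pt) Q₀ = 0 := by
    have h1 := eval_map_comp (algebraMap V K) (phiOf χV ∘ D.pt) Q₀
    rw [hQ₀, map_mul, eval_C] at h1
    rw [show (algebraMap V K) ∘ (phiOf χV ∘ D.pt) = phiOf χ ∘ D.pt from rfl, hQ0, mul_zero] at h1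
    exact (map_eq_zero_iff (algebraMap V K) Subtype.val_injective).1 h1.symm
  have hQk0 : eval (phiOf χk ∘ D.pt) (MvPolynomial.map r Q₀) = 0 := by
    rw [show phiOf χk ∘ D.pt = r ∘ (phiOf χV ∘ D.pt) from rfl, eval_map_comp, hQpt, map_zero]
  obtain ⟨Q1, R1, h1, hQ1, hQ10⟩ := D.exists_factor (phiOf χk)
  have hQ1dvd : Q1 ∣ MvPolynomial.map r Q₀ := by
    refine (hQ1.prime.dvd_or_dvd ⟨R1, by rw [← hfk, h1]⟩).resolve_right ?_
    rintro ⟨t, ht⟩
    exact D.disj _ hfk (D.eval_g_pt _) hQk0 (by rw [ht, map_mul, hQ10, zero_mul])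
  have hgv := hgq'
  have hQv : eval (valOf χk) (MvPolynomial.map r Q₀) = 0 := by
    obtain ⟨t, ht⟩ := hQ1dvd
    rw [ht, map_mul, ((D.inC_iff_of_factor _ h1 hQ1 hQ10 _).1 ((D.mem_comp_iff χk q' hχk).1 hmem)).2, zero_mul]
  have hRne : eval (valOf χk) (MvPolynomial.map r R₀') ≠ 0 := D.disj _ hfk hgv hQv
  have hRV : eval (valOf χV) R₀' ≠ 0 := fun h => hRne (by
    rw [show valOf χk = r ∘ valOf χV from rfl, eval_map_comp, h, map_zero])
  have hRK : eval (valOf χ) R ≠ 0 := fun h => hRV (by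
    have h1 := eval_map_comp (algebraMap V K) (valOf χV) R₀'
    rw [hR₀, map_mul, eval_C, hvK, h, mul_zero] at h1
    exact (map_eq_zero_iff (algebraMap V K) Subtype.val_injective).1 h1.symm)
  rw [D.mem_comp_iff χ q hχ, D.inC_iff_of_factor _ hQR hQ hQ0]
  have hgnot : D.g ∉ q.asIdeal := fun h => (D.subset_compl_g hmem).1 (hsp h)
  refine ⟨?_, ?_⟩
  · rw [eval_valOf]; exact fun h => hgnot (hχ.le (RingHom.mem_ker.2 h))
  · have hPzero : eval (valOf χ) (D.Pk (phiOf χ)) = 0 := by
      rw [Datum.Pk, eval_valOf]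
      exact RingHom.mem_ker.1 (hχ.ge hPq)
    rw [hQR, map_mul] at hPzero
    exact (mul_eq_zero.1 hPzero).resolve_right hRK

end Groth.Agent.GrpFieldLib.SecComp
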