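import Groth.Agent.GrpFieldLib.SCSmooth
import Groth.Agent.GrpFieldLib.SCGroup
import Groth.Agent.GrpFieldLib.SCOm
import Groth.Agent.GrpSchLib.FibreDimGrp
import Groth.Agent.BMLib.Piece
import Groth.Agent.NisCov7.Basic

/-! The neutral set of a group scheme of finite presentation with smooth fibres is constructible. -/

universe u

open CategoryTheory CategoryTheory.Limits AlgebraicGeometry MonoidalCategory CartesianMonoidalCategory MonObj GrpObj Topology
open scoped CategoryTheory.Obj

namespace Groth.Agent.GrpFieldLib.SecComp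

open Groth.Agent.GrpSchLib Groth.Agent.GrpSchLib.Neutral

variable {S : Scheme.{u}} (G : Over S) [GrpObj G]

/-- Smoothness of all fibres passes to a base change. -/
theorem smooth_fibres_bc (hfib : ∀ s : S, Smooth (pullback.snd G.hom (S.fromSpecResidueField s)))
    {T : Scheme.{u}} (j : T ⟶ S) (t : T) :
    Smooth (pullback.snd (Red.bc j G).hom (T.fromSpecResidueField t)) := by
  let ρ : Spec (T.residueField t) ⟶ Spec (S.residueField (j t)) := Spec.map (j.residueFieldMap t)
  have hρ : ρ ≫ S.fromSpecResidueField (j t) = T.fromSpecResidueField t ≫ j :=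
    j.SpecMap_residueFieldMap_fromSpecResidueField t
  have h₁ : IsPullback (pullback.fst (Red.bc j G).hom (T.fromSpecResidueField t) ≫ pullback.fst G.hom j)
      (pullback.snd (Red.bc j G).hom (T.fromSpecResidueField t)) G.hom (T.fromSpecResidueField t ≫ j) :=
    (IsPullback.of_hasPullback (Red.bc j G).hom (T.fromSpecResidueField t)).paste_horiz
      (IsPullback.of_hasPullback G.hom j)
  rw [← hρ] at h₁
  have h₂ := IsPullback.of_hasPullback G.hom (S.fromSpecResidueField (j t))
  have hw : (pullback.fst (Red.bc j G).hom (T.fromSpecResidueField t) ≫ pullback.fst G.hom j) ≫ G.hom =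
      (pullback.snd (Red.bc j G).hom (T.fromSpecResidueField t) ≫ ρ) ≫ S.fromSpecResidueField (j t) := by
    rw [h₁.w, Category.assoc]
  have h₃ : IsPullback (h₂.lift _ _ hw) (pullback.snd (Red.bc j G).hom (T.fromSpecResidueField t))
      (pullback.snd G.hom (S.fromSpecResidueField (j t))) ρ :=
    IsPullback.of_right (by rw [h₂.lift_fst]; exact h₁) (h₂.lift_snd _ _ _) h₂
  exact MorphismProperty.of_isPullback (P := @Smooth) h₃ (hfib _)

/-- Fibres of a base change along a topological embedding have the same dimension. -/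
theorem dim_bc_of_isEmbedding {T : Scheme.{u}} (j : T ⟶ S) [IsPreimmersion j] (t : T) :
    topologicalKrullDim ↥((Red.bc j G).hom ⁻¹' {t}) = topologicalKrullDim ↥(G.hom ⁻¹' {j t}) := by
  let q := pullback.fst G.hom j
  haveI : IsPreimmersion q := MorphismProperty.pullback_fst _ _ ‹IsPreimmersion j›
  have hqw : ∀ x, G.hom (q x) = j ((Red.bc j G).hom x) := fun x => by
    show (q ≫ G.hom) x = (pullback.snd G.hom j ≫ j) x
    rw [pullback.condition]
  have himg : q '' ((Red.bc j G).hom ⁻¹' {t}) = G.hom ⁻¹' {j t} := by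
    ext x
    constructor
    · rintro ⟨y, hy, rfl⟩
      show G.hom (q y) = j t
      rw [hqw]
      exact congrArg j hy
    · intro hx
      obtain ⟨y, hy, hy'⟩ := Scheme.Pullback.exists_preimage_pullback (f := G.hom) (g := j) x t hx
      exact ⟨y, hy', hy⟩
  have h := (q.isEmbedding.homeomorphImage ((Red.bc j G).hom ⁻¹' {t})).isHomeomorph.topologicalKrullDim_eq
  rw [h, himg]

/-- On a reduced base with constant fibre dimension the neutral set is open and quasi-compact. -/
theorem neutral_open_compact {T : Scheme.{u}} [IsReduced T] [CompactSpace T] (H : Over T) [GrpObj H]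
    [LocallyOfFinitePresentation H.hom]
    (hfib : ∀ t : T, Smooth (pullback.snd H.hom (T.fromSpecResidueField t)))
    (hdim : IsLocallyConstant (fun t : T => topologicalKrullDim ↥(H.hom.base ⁻¹' {t}))) :
    IsOpen (SGA3x.neutralSet H) ∧ IsCompact (SGA3x.neutralSet H) := by
  obtain ⟨U, hU, he⟩ := exists_smooth_opens H hfib hdim
  obtain ⟨ho, G0, _, i, -, -, hr, -, hq⟩ := exists_neutralComponent H U hU he
  refine ⟨ho, ?_⟩
  rw [← hr]
  haveI := hq
  haveI : CompactSpace ↥G0.left := QuasiCompact.compactSpace_of_compactSpace G0.hom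
  exact isCompact_range i.left.continuous

theorem isConstructible_neutralSet [IsAffine S] [LocallyOfFinitePresentation G.hom] [QuasiCompact G.hom]
    [QuasiSeparated G.hom] (hfib : ∀ s : S, Smooth (pullback.snd G.hom (S.fromSpecResidueField s))) :
    IsConstructible (SGA3x.neutralSet G) := by
  haveI : CompactSpace ↥G.left := QuasiCompact.compactSpace_of_compactSpace G.hom
  haveI : QuasiSeparatedSpace ↥G.left := quasiSeparatedSpace_of_quasiSeparated G.hom
  let D : ℕ → Set S := fun n => {s | topologicalKrullDim ↥(G.hom ⁻¹' {s}) < (n : WithBot ℕ∞)}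
  have hDn : ∀ s n, s ∈ D n ↔ ∃ m : ℕ, m < n ∧ topologicalKrullDim ↥(G.hom ⁻¹' {s}) = ((m : ℕ∞) : WithBot ℕ∞) := by
    intro s n
    obtain ⟨m, hm⟩ := FibreDimGrp.exists_nat G s
    refine ⟨fun h => ⟨m, ?_, hm⟩, fun ⟨m', h', hm'⟩ => ?_⟩
    · have : topologicalKrullDim ↥(G.hom ⁻¹' {s}) < (n : WithBot ℕ∞) := h
      rw [hm] at this
      exact_mod_cast this
    · show topologicalKrullDim ↥(G.hom ⁻¹' {s}) < (n : WithBot ℕ∞)
      rw [hm']
      exact_mod_cast h'
  have hD : ∀ n, IsOpen (D n) ∧ IsCompact (D n) := by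
    intro n
    rcases n with _ | n
    · have : D 0 = ∅ := Set.eq_empty_of_forall_notMem fun s hs => by
        obtain ⟨m, hm, -⟩ := (hDn s 0).1 hs
        exact Nat.not_lt_zero m hm
      rw [this]
      exact ⟨isOpen_empty, isCompact_empty⟩
    have e : D (n + 1) = {s | topologicalKrullDim ↥(G.hom ⁻¹' {s}) ≤ (n : WithBot ℕ∞)} := by
      ext s
      obtain ⟨m, hm⟩ := FibreDimGrp.exists_nat G s
      show topologicalKrullDim ↥(G.hom ⁻¹' {s}) < _ ↔ topologicalKrullDim ↥(G.hom ⁻¹' {s}) ≤ _
      rw [hm]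
      norm_cast
      omega
    have e' : D (n + 1) = unit G ⁻¹' {x : G.left | FlatMor.fibreDimAt G.hom x ≤ (n : WithBot ℕ∞)} := by
      rw [e]
      ext s
      show _ ↔ FlatMor.fibreDimAt G.hom (unit G s) ≤ _
      rw [← FibreDimGrp.dim_eq]
      rfl
    refine ⟨e ▸ FibreDimGrp.isOpen_le G n, ?_⟩
    rw [e']
    refine QuasiCompact.isCompact_preimage (f := (unit G : S ⟶ G.left)) _ (FibDim.isOpen_fibreDimAt_le G.hom n) ?_
    have := FibDim.isRetrocompact_setOf_fibreDimAt_le G.hom n isCompact_univ isOpen_univ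
    simpa using this
  obtain ⟨d, hd⟩ := (isCompact_univ (X := S)).elim_directed_cover D (fun n => (hD n).1) (fun s _ => by
      obtain ⟨m, hm⟩ := FibreDimGrp.exists_nat G s
      exact Set.mem_iUnion.2 ⟨m + 1, (hDn s _).2 ⟨m, Nat.lt_succ_self m, hm⟩⟩)
    (Monotone.directed_le fun a b hab s hs => by
      obtain ⟨m, hm, e⟩ := (hDn s a).1 hs
      exact (hDn s b).2 ⟨m, hm.trans_le hab, e⟩)
  have hN : SGA3x.neutralSet G =
      ⋃ n : Fin d, SGA3x.neutralSet G ∩ G.hom ⁻¹' (D (n + 1) \ D n) := by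
    refine Set.Subset.antisymm (fun x hx => ?_) (Set.iUnion_subset fun n => Set.inter_subset_left)
    obtain ⟨m, hm, e⟩ := (hDn (G.hom x) d).1 (hd (Set.mem_univ _))
    refine Set.mem_iUnion.2 ⟨⟨m, hm⟩, hx, (hDn _ _).2 ⟨m, Nat.lt_succ_self m, e⟩, fun h => ?_⟩
    obtain ⟨m', hm', e'⟩ := (hDn _ _).1 h
    rw [e] at e'
    have : m = m' := by exact_mod_cast e'
    simp only at hm'
    omega
  rw [hN]
  refine IsConstructible.iUnion fun n => ?_
  let U : S.Opens := ⟨D (n + 1), (hD _).1⟩
  haveI : CompactSpace ↥(U : Scheme.{u}) := isCompact_iff_compactSpace.mp (hD (n + 1)).2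
  let Z : TopologicalSpace.Closeds ↥(U : Scheme.{u}) := ⟨U.ι ⁻¹' (D n)ᶜ, ((hD n).1.isClosed_compl).preimage U.ι.continuous⟩
  let I := Scheme.IdealSheafData.vanishingIdeal Z
  haveI : IsReduced I.subscheme := Groth.Agent.BMLib.isReduced_vanishingIdeal_subscheme Z
  haveI : CompactSpace ↥I.subscheme := QuasiCompact.compactSpace_of_compactSpace I.subschemeι
  let j : I.subscheme ⟶ S := I.subschemeι ≫ U.ι
  haveI : IsPreimmersion j := inferInstance
  have hj : Set.range j = D (n + 1) \ D n := by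
    have h1 : Set.range I.subschemeι = (Z : Set ↥(U : Scheme.{u})) := by
      rw [Scheme.IdealSheafData.range_subschemeι]
      exact Scheme.IdealSheafData.coe_support_vanishingIdeal Z
    ext s
    constructor
    · rintro ⟨t, rfl⟩
      exact ⟨(I.subschemeι t).2, (h1.subset ⟨t, rfl⟩ : I.subschemeι t ∈ (Z : Set ↥(U : Scheme.{u})))⟩
    · rintro ⟨hs, hs'⟩
      obtain ⟨t, ht⟩ := h1.superset (show (⟨s, hs⟩ : ↥(U : Scheme.{u})) ∈ (Z : Set ↥(U : Scheme.{u})) from hs')
      exact ⟨t, by rw [Scheme.Hom.comp_apply, ht]; rfl⟩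
  let q := pullback.fst G.hom j
  haveI : IsPreimmersion q := MorphismProperty.pullback_fst _ _ ‹IsPreimmersion j›
  haveI : LocallyOfFinitePresentation (Red.bc j G).hom :=
    MorphismProperty.pullback_snd (P := @LocallyOfFinitePresentation) _ _ ‹_›
  have hdim : IsLocallyConstant (fun t : I.subscheme => topologicalKrullDim ↥((Red.bc j G).hom.base ⁻¹' {t})) := by
    refine IsLocallyConstant.of_constant _ fun t t' => ?_
    have key : ∀ t, topologicalKrullDim ↥((Red.bc j G).hom ⁻¹' {t}) = (((n : ℕ) : ℕ∞) : WithBot ℕ∞) := fun t => by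
      rw [dim_bc_of_isEmbedding]
      have h := hj.subset ⟨t, rfl⟩
      obtain ⟨m, hm, e⟩ := (hDn _ _).1 h.1
      have : (n : ℕ) ≤ m := le_of_not_gt fun hlt => h.2 ((hDn _ _).2 ⟨m, hlt, e⟩)
      rw [e, show m = (n : ℕ) by omega]
    exact (key t).trans (key t').symm
  obtain ⟨ho, hc⟩ := neutral_open_compact (Red.bc j G) (smooth_fibres_bc G hfib j) hdim
  have hA : q '' SGA3x.neutralSet (Red.bc j G) = SGA3x.neutralSet G ∩ G.hom ⁻¹' (D (n + 1) \ D n) := by
    rw [neutralSet_bc G j, Set.image_preimage_eq_inter_range, Scheme.Pullback.range_fst, hj]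
  rw [← hA]
  obtain ⟨W, hW, hWN⟩ := q.isEmbedding.isInducing.isOpen_iff.1 ho
  -- replace `W` by a quasi-compact open
  have hcov : q '' SGA3x.neutralSet (Red.bc j G) ⊆
      ⋃ A : {A : G.left.affineOpens // ((A.1 : G.left.Opens) : Set G.left) ⊆ W}, ((A.1.1 : G.left.Opens) : Set G.left) := by
    rintro _ ⟨y, hy, rfl⟩
    have hyW : q y ∈ W := hWN.ge hy
    obtain ⟨A, hA, hxA, hAW⟩ := exists_isAffineOpen_mem_and_subset (show q y ∈ (⟨W, hW⟩ : G.left.Opens) from hyW)
    exact Set.mem_iUnion.2 ⟨⟨⟨A, hA⟩, hAW⟩, hxA⟩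
  obtain ⟨F, hF⟩ := (hc.image q.continuous).elim_finite_subcover _ (fun A => A.1.1.isOpen) hcov
  have e : q '' SGA3x.neutralSet (Red.bc j G) =
      G.hom ⁻¹' (D (n + 1) \ D n) ∩ ⋃ A ∈ F, ((A.1.1 : G.left.Opens) : Set G.left) := by
    refine Set.Subset.antisymm (fun x hx => ⟨?_, hF hx⟩) fun x hx => ?_
    · rw [hA] at hx
      exact hx.2
    · obtain ⟨hxD, hx⟩ := hx
      simp only [Set.mem_iUnion] at hx
      obtain ⟨A, -, hxA⟩ := hx
      obtain ⟨y, rfl⟩ : x ∈ Set.range q := by
        rw [Scheme.Pullback.range_fst, hj]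
        exact hxD
      exact ⟨y, hWN.le (A.2 hxA), rfl⟩
  rw [e]
  refine IsConstructible.inter ?_ (IsConstructible.biUnion F.finite_toSet fun A _ =>
    A.1.2.isCompact.isConstructible A.1.1.isOpen)
  rw [Set.preimage_sdiff]
  exact ((QuasiCompact.isCompact_preimage (f := G.hom) _ (hD _).1 (hD _).2).isConstructible
      ((hD _).1.preimage G.hom.continuous)).sdiff
    ((QuasiCompact.isCompact_preimage (f := G.hom) _ (hD _).1 (hD _).2).isConstructible
      ((hD _).1.preimage G.hom.continuous))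

/-- Version over an affine open of the base. -/
theorem isConstructible_neutralSet_open [LocallyOfFinitePresentation G.hom] [QuasiCompact G.hom]
    [QuasiSeparated G.hom] (hfib : ∀ s : S, Smooth (pullback.snd G.hom (S.fromSpecResidueField s)))
    (O : S.Opens) (hO : IsAffineOpen O) :
    IsConstructible ((G.hom ⁻¹ᵁ O).ι ⁻¹' SGA3x.neutralSet G) := by
  haveI : IsAffine (O : Scheme.{u}) := hO
  haveI : LocallyOfFinitePresentation (Red.bc O.ι G).hom :=
    MorphismProperty.pullback_snd (P := @LocallyOfFinitePresentation) _ _ ‹_›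
  haveI : QuasiCompact (Red.bc O.ι G).hom := MorphismProperty.pullback_snd (P := @QuasiCompact) _ _ ‹_›
  haveI : QuasiSeparated (Red.bc O.ι G).hom := MorphismProperty.pullback_snd (P := @QuasiSeparated) _ _ ‹_›
  have h := isConstructible_neutralSet (Red.bc O.ι G) (smooth_fibres_bc G hfib O.ι)
  rw [neutralSet_bc G O.ι] at h
  let e := (pullbackRestrictIsoRestrict G.hom O).inv
  have h' := h.preimage_of_isOpenEmbedding e.isOpenEmbedding
  rw [← Set.preimage_comp] at h'
  have : (pullback.fst G.hom O.ι ∘ e) = (G.hom ⁻¹ᵁ O).ι := by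
    funext x
    show pullback.fst G.hom O.ι (e x) = _
    rw [← Scheme.Hom.comp_apply, pullbackRestrictIsoRestrict_inv_fst]
  rwa [this] at h'

end Groth.Agent.GrpFieldLib.SecComp
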