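import Groth.Agent.GrpFieldLib.SVBound
import Groth.Agent.GrpFieldLib.SVConstr
import Groth.Agent.AlgSpPts.Sep

/-! The solvable and nilpotent loci of a group scheme of finite presentation with smooth fibres are
locally constructible. -/

universe u

open CategoryTheory CategoryTheory.Limits AlgebraicGeometry MonoidalCategory CartesianMonoidalCategory MonObj GrpObj Topology
open scoped CategoryTheory.Obj

namespace Groth.Agent.GrpFieldLib.SolvBound

open Groth.Agent.GrpSchLib Groth.Agent.GrpSchLib.Neutral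

variable {S : Scheme.{u}} (G : Over S) [GrpObj G] [LocallyOfFinitePresentation G.hom] [QuasiCompact G.hom]
  [QuasiSeparated G.hom]

theorem isConstructible_cosetSet' (O : S.Opens) (hO : IsAffineOpen O)
    (hN : IsConstructible ((G.hom ⁻¹ᵁ O).ι ⁻¹' SGA3x.neutralSet G)) (m : ℕ) :
    IsConstructible (O.ι ⁻¹' cosetSet G m : Set (O : Scheme.{u})) := by
  let R := (tuples G m).1
  haveI : LocallyOfFinitePresentation R.hom :=
    tuples_property G (P := @LocallyOfFinitePresentation) (by infer_instance) ‹_› m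
  haveI : QuasiCompact R.hom := tuples_property G (P := @QuasiCompact) (by infer_instance) ‹_› m
  haveI : QuasiSeparated R.hom := tuples_property G (P := @QuasiSeparated) (by infer_instance) ‹_› m
  haveI : IsAffine (O : Scheme.{u}) := hO
  let f := R.hom ∣_ O
  haveI : CompactSpace ↥(R.hom ⁻¹ᵁ O : Scheme.{u}) := QuasiCompact.compactSpace_of_compactSpace f
  haveI : QuasiSeparatedSpace ↥(R.hom ⁻¹ᵁ O : Scheme.{u}) := quasiSeparatedSpace_of_quasiSeparated f
  haveI : QuasiSeparatedSpace ↥(G.hom ⁻¹ᵁ O : Scheme.{u}) := quasiSeparatedSpace_of_quasiSeparated (G.hom ∣_ O)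
  let GO := (G.hom ⁻¹ᵁ O).ι
  have key : ∀ φ : R ⟶ G, IsConstructible ((R.hom ⁻¹ᵁ O).ι ⁻¹' (φ.left ⁻¹' SGA3x.neutralSet G)ᶜ) := by
    intro φ
    have hle : R.hom ⁻¹ᵁ O ≤ φ.left ⁻¹ᵁ (G.hom ⁻¹ᵁ O) := by
      intro x hx
      show G.hom (φ.left x) ∈ O
      rw [← Scheme.Hom.comp_apply, Over.w φ]
      exact hx
    let φ' := φ.left.resLE (G.hom ⁻¹ᵁ O) (R.hom ⁻¹ᵁ O) hle
    have e : (R.hom ⁻¹ᵁ O).ι ⁻¹' (φ.left ⁻¹' SGA3x.neutralSet G) = φ' ⁻¹' (GO ⁻¹' SGA3x.neutralSet G) := by
      ext x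
      show φ.left ((R.hom ⁻¹ᵁ O).ι x) ∈ SGA3x.neutralSet G ↔ GO (φ' x) ∈ SGA3x.neutralSet G
      rw [← Scheme.Hom.comp_apply, ← Scheme.Hom.comp_apply, Scheme.Hom.resLE_comp_ι]
    rw [Set.preimage_compl, e]
    exact (φ'.isConstructible_preimage hN).compl
  have hsep : IsConstructible ((R.hom ⁻¹ᵁ O).ι ⁻¹' sepSet G m) := by
    have : (R.hom ⁻¹ᵁ O).ι ⁻¹' sepSet G m = ⋂ p : {p : Fin m × Fin m // p.1 ≠ p.2},
        (R.hom ⁻¹ᵁ O).ι ⁻¹' ((((tuples G m).2 p.1.1)⁻¹ * (tuples G m).2 p.1.2).left ⁻¹' SGA3x.neutralSet G)ᶜ := by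
      ext x
      simp only [sepSet, Set.mem_preimage, Set.mem_iInter, Set.mem_compl_iff, Set.mem_setOf_eq]
      exact ⟨fun h p => h p.1.1 p.1.1.isLt p.1.2 p.1.2.isLt (Fin.val_ne_iff.2 p.2),
        fun h i hi j hj hij => h ⟨(⟨i, hi⟩, ⟨j, hj⟩), fun e => hij (congrArg Fin.val e)⟩⟩
    rw [this]
    exact IsConstructible.iInter fun p => key _
  have e : O.ι ⁻¹' cosetSet G m = f '' ((R.hom ⁻¹ᵁ O).ι ⁻¹' sepSet G m) := by
    have hf : ∀ x, O.ι (f x) = R.hom ((R.hom ⁻¹ᵁ O).ι x) := fun x => by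
      rw [← Scheme.Hom.comp_apply, morphismRestrict_ι, Scheme.Hom.comp_apply]
    ext t
    constructor
    · rintro ⟨q, hq, hqt⟩
      have hqO : q ∈ R.hom ⁻¹ᵁ O := by
        show R.hom q ∈ O
        rw [hqt]; exact t.2
      exact ⟨⟨q, hqO⟩, hq, O.ι.isOpenEmbedding.injective ((hf _).trans hqt)⟩
    · rintro ⟨x, hx, rfl⟩
      exact ⟨_, hx, (hf x).symm⟩
  rw [e]
  exact f.isConstructible_image hsep

theorem isConstructible_vanishSet (O : S.Opens) (hO : IsAffineOpen O) {P : Over S} (ψ : P ⟶ G)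
    [LocallyOfFinitePresentation P.hom] [QuasiCompact P.hom] [QuasiSeparated P.hom] :
    IsConstructible (O.ι ⁻¹' vanishSet ψ : Set (O : Scheme.{u})) := by
  haveI : IsAffine (O : Scheme.{u}) := hO
  let f := P.hom ∣_ O
  haveI : CompactSpace ↥(P.hom ⁻¹ᵁ O : Scheme.{u}) := QuasiCompact.compactSpace_of_compactSpace f
  haveI : QuasiSeparatedSpace ↥(P.hom ⁻¹ᵁ O : Scheme.{u}) := quasiSeparatedSpace_of_quasiSeparated f
  haveI : QuasiSeparatedSpace ↥(G.hom ⁻¹ᵁ O : Scheme.{u}) := quasiSeparatedSpace_of_quasiSeparated (G.hom ∣_ O)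
  haveI : CompactSpace ↥(G.hom ⁻¹ᵁ O : Scheme.{u}) := QuasiCompact.compactSpace_of_compactSpace (G.hom ∣_ O)
  have hw : ∀ s, G.hom (unit G s) = s := fun s => hom_unit G s
  have hle : O ≤ (unit G) ⁻¹ᵁ (G.hom ⁻¹ᵁ O) := fun s hs => by
    show G.hom (unit G s) ∈ O
    rw [hw]; exact hs
  let eO : (O : Scheme.{u}) ⟶ (G.hom ⁻¹ᵁ O : Scheme.{u}) := (unit G).resLE (G.hom ⁻¹ᵁ O) O hle
  haveI : LocallyOfFinitePresentation eO := by
    have : eO ≫ (G.hom ∣_ O) = 𝟙 _ := by
      rw [← cancel_mono O.ι, Category.assoc, morphismRestrict_ι, Scheme.Hom.resLE_comp_ι_assoc,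
        show unit G ≫ G.hom = 𝟙 S from Over.w η[G], Category.comp_id, Category.id_comp]
    haveI : LocallyOfFinitePresentation (eO ≫ (G.hom ∣_ O)) := by rw [this]; infer_instance
    exact Groth.Agent.AlgSpPts.locallyOfFinitePresentation_of_comp eO (G.hom ∣_ O)
  have hE : IsConstructible (Set.range eO) := by
    rw [← Set.image_univ]
    exact eO.isConstructible_image IsConstructible.univ
  have hmaps : P.hom ⁻¹ᵁ O ≤ ψ.left ⁻¹ᵁ (G.hom ⁻¹ᵁ O) := by
    intro x hx
    show G.hom (ψ.left x) ∈ O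
    rw [← Scheme.Hom.comp_apply, Over.w ψ]
    exact hx
  let ψ' := ψ.left.resLE (G.hom ⁻¹ᵁ O) (P.hom ⁻¹ᵁ O) hmaps
  have hψ : ∀ x, (G.hom ⁻¹ᵁ O).ι (ψ' x) = ψ.left ((P.hom ⁻¹ᵁ O).ι x) := fun x => by
    rw [← Scheme.Hom.comp_apply, Scheme.Hom.resLE_comp_ι, Scheme.Hom.comp_apply]
  have heO : ∀ x, (G.hom ⁻¹ᵁ O).ι (eO x) = unit G (O.ι x) := fun x => by
    rw [← Scheme.Hom.comp_apply, Scheme.Hom.resLE_comp_ι, Scheme.Hom.comp_apply]
  have hf : ∀ x, O.ι (f x) = P.hom ((P.hom ⁻¹ᵁ O).ι x) := fun x => by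
    rw [← Scheme.Hom.comp_apply, morphismRestrict_ι, Scheme.Hom.comp_apply]
  have e : O.ι ⁻¹' vanishSet ψ = (f '' (ψ' ⁻¹' Set.range eO)ᶜ)ᶜ := by
    ext t
    constructor
    · rintro h ⟨x, hx, rfl⟩
      obtain ⟨s, hs⟩ := h _ (hf x).symm
      refine hx ?_
      have hsO : s ∈ O := by
        have := congrArg G.hom hs
        rw [hw, ← hψ] at this
        rw [this]
        exact (ψ' x).2
      exact ⟨⟨s, hsO⟩, (G.hom ⁻¹ᵁ O).ι.isOpenEmbedding.injective (by rw [hψ, heO]; exact hs)⟩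
    · intro h p hp
      by_contra hne
      have hpO : p ∈ P.hom ⁻¹ᵁ O := by
        show P.hom p ∈ O
        rw [hp]; exact t.2
      refine h ⟨⟨p, hpO⟩, ?_, O.ι.isOpenEmbedding.injective ((hf _).trans hp)⟩
      rintro ⟨z, hz⟩
      exact hne ⟨O.ι z, by rw [← heO, hz, hψ]; rfl⟩
  rw [e]
  exact (f.isConstructible_image (ψ'.isConstructible_preimage hE).compl).compl

variable (hfib : ∀ s : S, Smooth (pullback.snd G.hom (S.fromSpecResidueField s)))

include hfib

omit [LocallyOfFinitePresentation G.hom] [QuasiCompact G.hom] [QuasiSeparated G.hom] in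
theorem smooth_geom (s : S) : Smooth (Red.bc (Red.geomPt s) G).hom := by
  let h₂ := IsPullback.of_hasPullback G.hom (S.fromSpecResidueField s)
  let ρ : Spec (CommRingCat.of (AlgebraicClosure (S.residueField s))) ⟶ Spec (S.residueField s) :=
    Spec.map (CommRingCat.ofHom (algebraMap (S.residueField s) (AlgebraicClosure (S.residueField s))))
  have hw : pullback.fst G.hom (Red.geomPt s) ≫ G.hom =
      (pullback.snd G.hom (Red.geomPt s) ≫ ρ) ≫ S.fromSpecResidueField s := by
    rw [Category.assoc]; exact pullback.condition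
  have h₃ : IsPullback (h₂.lift _ _ hw) (pullback.snd G.hom (Red.geomPt s))
      (pullback.snd G.hom (S.fromSpecResidueField s)) ρ :=
    IsPullback.of_right (by rw [h₂.lift_fst]; exact IsPullback.of_hasPullback G.hom (Red.geomPt s))
      (h₂.lift_snd _ _ _) h₂
  exact MorphismProperty.of_isPullback (P := @Smooth) h₃ (hfib s)

theorem exists_card_bound' (O : S.Opens) (hO : IsAffineOpen O) :
    ∃ B : ℕ, ∀ s : S, s ∈ O → s ∉ cosetSet G (B + 1) := by
  have hN := Groth.Agent.GrpFieldLib.SecComp.isConstructible_neutralSet_open G hfib O hO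
  haveI : IsAffine (O : Scheme.{u}) := hO
  haveI : CompactSpace ↥(O : Scheme.{u}) := isCompact_iff_compactSpace.mp hO.isCompact
  have hempty : ∀ s : S, ∃ m, s ∉ cosetSet G m := by
    intro s
    let g := Red.geomPt s
    have hg : g (IsLocalRing.closedPoint _) = s := by
      rw [Scheme.Hom.comp_apply, Scheme.fromSpecResidueField_apply]
    let H := Red.bc g G
    haveI : Smooth H.hom := smooth_geom G hfib s
    haveI : QuasiCompact H.hom := MorphismProperty.pullback_snd (P := @QuasiCompact) _ _ inferInstance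
    haveI : IsSeparated H.hom := CharZeroPts.isSeparated_grp _
    have hNH : IsOpen (pullback.fst G.hom g ⁻¹' SGA3x.neutralSet G) := by
      rw [← neutralSet_bc G g]
      exact (neutral_facts H).1
    haveI := neutralSub_normal (H := H)
    haveI := finite_quotient (H := H)
    refine ⟨Nat.card ((𝟙_ (Over (Spec (CommRingCat.of (AlgebraicClosure (S.residueField s))))) ⟶ H) ⧸
      neutralSub (H := H)) + 1, ?_⟩
    generalize hc : Nat.card ((𝟙_ (Over (Spec (CommRingCat.of (AlgebraicClosure (S.residueField s))))) ⟶ H) ⧸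
      neutralSub (H := H)) = c
    rintro ⟨p, hp, hps⟩
    let R := (tuples G (c + 1)).1
    haveI : LocallyOfFiniteType R.hom := tuples_property G (P := @LocallyOfFiniteType) (by infer_instance) inferInstance _
    haveI : LocallyOfFiniteType (Red.bc g R).hom :=
      MorphismProperty.pullback_snd (P := @LocallyOfFiniteType) _ _ inferInstance
    haveI : JacobsonSpace ↥(Red.bc g R).left := LocallyOfFiniteType.jacobsonSpace (Red.bc g R).hom
    obtain ⟨q₀, hq₀, -⟩ := Scheme.Pullback.exists_preimage_pullback (f := R.hom) (g := g) p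
      (IsLocalRing.closedPoint _) (hps.trans hg.symm)
    let W : Set ↥(Red.bc g R).left := pullback.fst R.hom g ⁻¹' sepSet G (c + 1)
    have hW : IsClosed W := by
      have : W = ⋂ i : Fin (c + 1), ⋂ j : Fin (c + 1), ⋂ _ : i ≠ j, pullback.fst R.hom g ⁻¹'
          ((((tuples G (c + 1)).2 i)⁻¹ * (tuples G (c + 1)).2 j).left ⁻¹' (SGA3x.neutralSet G)ᶜ) := by
        ext x
        simp only [W, sepSet, Set.mem_preimage, Set.mem_iInter, Set.mem_compl_iff, Set.mem_setOf_eq]
        exact ⟨fun h i j hij => h i i.isLt j j.isLt (Fin.val_ne_iff.2 hij),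
          fun h i hi j hj hij => h ⟨i, hi⟩ ⟨j, hj⟩ fun e => hij (congrArg Fin.val e)⟩
      rw [this]
      refine isClosed_iInter fun i => isClosed_iInter fun j => isClosed_iInter fun _ => ?_
      let φ := ((tuples G (c + 1)).2 i)⁻¹ * (tuples G (c + 1)).2 j
      let m : (Red.bc g R).left ⟶ (Red.bc g G).left := ((Over.pullback g).map φ).left
      have hm : ∀ q, pullback.fst G.hom g (m q) = φ.left (pullback.fst R.hom g q) := fun q => by
        have : (m ≫ pullback.fst G.hom g) q = (pullback.fst R.hom g ≫ φ.left) q :=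
          congrArg (fun m : pullback R.hom g ⟶ G.left => m q) (pullback.lift_fst _ _ _)
        rwa [Scheme.Hom.comp_apply, Scheme.Hom.comp_apply] at this
      convert hNH.isClosed_compl.preimage m.continuous using 1
      ext q
      show φ.left (pullback.fst R.hom g q) ∈ (SGA3x.neutralSet G)ᶜ ↔
        pullback.fst G.hom g (m q) ∈ (SGA3x.neutralSet G)ᶜ
      rw [hm]
    obtain ⟨q, hqW, hqc⟩ := nonempty_inter_closedPoints (Z := W)
      ⟨q₀, show pullback.fst R.hom g q₀ ∈ sepSet G (c + 1) by rw [hq₀]; exact hp⟩ hW.isLocallyClosed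
    obtain ⟨r, rfl⟩ := exists_pt_eq (H := Red.bc g R) hqc
    let x : Fin (c + 1) → (𝟙_ (Over (Spec (CommRingCat.of (AlgebraicClosure (S.residueField s))))) ⟶ H) := fun i =>
      (thetaEquiv G g _).symm (Groth.Agent.DSPtsLib.theta g r ≫ (tuples G (c + 1)).2 i)
    have hinj : Function.Injective fun i => (QuotientGroup.mk (x i) :
        (𝟙_ (Over (Spec (CommRingCat.of (AlgebraicClosure (S.residueField s))))) ⟶ H) ⧸ neutralSub (H := H)) := by
      intro i j h
      by_contra hij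
      rw [QuotientGroup.eq, mem_neutralSub] at h
      rw [show SGA3x.neutralSet H = pullback.fst G.hom g ⁻¹' SGA3x.neutralSet G from neutralSet_bc G g,
        Set.mem_preimage] at h
      refine hqW i i.isLt j j.isLt (Fin.val_ne_iff.2 hij) ?_
      have e : Groth.Agent.DSPtsLib.theta g r ≫ (((tuples G (c + 1)).2 i)⁻¹ * (tuples G (c + 1)).2 j) =
          thetaEquiv G g _ ((x i)⁻¹ * x j) := by
        simp only [x, map_mul, map_inv, MulEquiv.apply_symm_apply, MonObj.comp_mul, GrpObj.comp_inv]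
      have e' := congrArg (fun m : (Over.map g).obj (𝟙_ (Over (Spec (CommRingCat.of (AlgebraicClosure (S.residueField s)))))) ⟶ G => (Over.Hom.left m) (IsLocalRing.closedPoint _)) e
      simp only [Over.comp_left, Scheme.Hom.comp_apply] at e'
      rw [show (thetaEquiv G g _ ((x i)⁻¹ * x j)) = Groth.Agent.DSPtsLib.theta g ((x i)⁻¹ * x j) from rfl,
        Groth.Agent.DSPtsLib.theta_left, Groth.Agent.DSPtsLib.theta_left, Scheme.Hom.comp_apply,
        Scheme.Hom.comp_apply] at e'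
      rw [show pullback.fst R.hom g (pt r) = pullback.fst R.hom g (r.left (IsLocalRing.closedPoint _)) from rfl, e']
      exact h
    have := Nat.card_le_card_of_injective _ hinj
    rw [hc, Nat.card_eq_fintype_card, Fintype.card_fin] at this
    omega
  let T := WithConstructibleTopology ↥(O : Scheme.{u})
  let U : ℕ → Set T := fun m => WithTopology.ofTopology ⁻¹' (O.ι ⁻¹' cosetSet G m)ᶜ
  have hU : ∀ m, IsOpen (U m) := fun m => by
    rw [WithConstructibleTopology.isOpen_iff]
    exact (Groth.Agent.GrpFieldLib.SecComp.isOpen_constructibleTopology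
      (isConstructible_cosetSet' G O hO hN m)).2
  have hmono : Monotone U := monotone_nat_of_le_succ fun m x hx => fun h => hx (cosetSet_succ_subset G m h)
  obtain ⟨B, hB⟩ := (isCompact_univ (X := T)).elim_directed_cover U hU (fun x _ => by
    obtain ⟨m, hm⟩ := hempty (O.ι (WithTopology.ofTopology x))
    exact Set.mem_iUnion.2 ⟨m, hm⟩) (Monotone.directed_le hmono)
  refine ⟨B, fun s hs h => ?_⟩
  exact hB (Set.mem_univ (WithTopology.toTopology _ (⟨s, hs⟩ : ↥(O : Scheme.{u})))) (cosetSet_succ_subset G B h)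

theorem isLocallyConstructible_loci :
    IsLocallyConstructible {s : S | Red.IsSolvableGrp (Red.geomFibre s G)} ∧
    IsLocallyConstructible {s : S | AGF.IsNilpotentGrp (Red.geomFibre s G)} := by
  have key : ∀ (O : S.Opens), IsAffineOpen O → ∃ n, ∀ s ∈ O,
      (Red.IsSolvableGrp (Red.geomFibre s G) ↔ s ∈ vanishSet (wordD G n).2) ∧
        (AGF.IsNilpotentGrp (Red.geomFibre s G) ↔ s ∈ vanishSet (wordN G n).2) := by
    intro O hO
    obtain ⟨B, hB⟩ := exists_card_bound' G hfib O hO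
    obtain ⟨d, hd⟩ := hO.isCompact.elim_directed_cover
      (fun n : ℕ => {s : S | topologicalKrullDim ↥(G.hom ⁻¹' {s}) ≤ (n : WithBot ℕ∞)})
      (fun n => FibreDimGrp.isOpen_le G n) (fun s _ => by
        obtain ⟨n, hn⟩ := FibreDimGrp.exists_nat G s
        exact Set.mem_iUnion.2 ⟨n, hn.le⟩)
      (Monotone.directed_le fun a b hab s (hs : _ ≤ ((a : ℕ) : WithBot ℕ∞)) =>
        show _ ≤ ((b : ℕ) : WithBot ℕ∞) from le_trans hs (Nat.cast_le.2 hab))
    refine ⟨B + d, fun s hs => ?_⟩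
    have hg : Red.geomPt s (IsLocalRing.closedPoint _) = s := by
      rw [Scheme.Hom.comp_apply, Scheme.fromSpecResidueField_apply]
    refine mem_vanishSet_iff G (Red.geomPt s) hg (smooth_geom G hfib s) (hd hs) fun f => ?_
    by_contra hne
    push Not at hne
    obtain ⟨t, ht⟩ := exists_tuple (G := G) (B + 1) fun i => if h : i < B + 1 then
      Groth.Agent.DSPtsLib.theta (Red.geomPt s) (f ⟨i, h⟩) else 1
    refine hB s hs ⟨t.left (IsLocalRing.closedPoint _), fun i hi j hj hij hmem => ?_, ?_⟩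
    · refine hne ⟨i, hi⟩ ⟨j, hj⟩ (fun e => hij (congrArg Fin.val e)) ?_
      rw [mem_neutralSub, show SGA3x.neutralSet (Red.bc (Red.geomPt s) G) =
        pullback.fst G.hom (Red.geomPt s) ⁻¹' SGA3x.neutralSet G from neutralSet_bc G _, Set.mem_preimage]
      have e : t ≫ (((tuples G (B + 1)).2 i)⁻¹ * (tuples G (B + 1)).2 j) =
          thetaEquiv G (Red.geomPt s) _ ((f ⟨i, hi⟩)⁻¹ * f ⟨j, hj⟩) := by
        rw [MonObj.comp_mul, GrpObj.comp_inv, ht i hi, ht j hj, dif_pos hi, dif_pos hj, map_mul, map_inv]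
        rfl
      rw [← Scheme.Hom.comp_apply, ← Over.comp_left, e,
        show (thetaEquiv G (Red.geomPt s) _ ((f ⟨i, hi⟩)⁻¹ * f ⟨j, hj⟩)) =
          Groth.Agent.DSPtsLib.theta (Red.geomPt s) ((f ⟨i, hi⟩)⁻¹ * f ⟨j, hj⟩) from rfl,
        Groth.Agent.DSPtsLib.theta_left, Scheme.Hom.comp_apply] at hmem
      exact hmem
    · rw [← Scheme.Hom.comp_apply, Over.w t]
      show (𝟙 _ ≫ Red.geomPt s) (IsLocalRing.closedPoint _) = s
      rw [Category.id_comp]
      exact hg
  have hcov : TopologicalSpace.IsOpenCover fun O : S.affineOpens => (O.1 : S.Opens) := by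
    rw [TopologicalSpace.IsOpenCover, eq_top_iff]
    intro s _
    obtain ⟨O, hO, hsO, -⟩ := exists_isAffineOpen_mem_and_subset (show s ∈ (⊤ : S.Opens) from trivial)
    exact TopologicalSpace.Opens.mem_iSup.2 ⟨⟨O, hO⟩, hsO⟩
  have hD := fun n => (word_property G (P := @LocallyOfFinitePresentation) ‹_› n)
  have hQ := fun n => (word_property G (P := @QuasiCompact) ‹_› n)
  have hS := fun n => (word_property G (P := @QuasiSeparated) ‹_› n)
  constructor
  · refine IsLocallyConstructible.of_isOpenCover hcov fun O => ?_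
    obtain ⟨n, hn⟩ := key O.1 O.2
    haveI := (hD n).1; haveI := (hQ n).1; haveI := (hS n).1
    refine IsConstructible.isLocallyConstructible ?_
    have h := isConstructible_vanishSet G O.1 O.2 (wordD G n).2
    rwa [show O.1.ι ⁻¹' vanishSet (wordD G n).2 = O.1.ι ⁻¹' {s : S | Red.IsSolvableGrp (Red.geomFibre s G)} from
      Set.ext fun x => ((hn x.1 x.2).1).symm] at h
  · refine IsLocallyConstructible.of_isOpenCover hcov fun O => ?_
    obtain ⟨n, hn⟩ := key O.1 O.2
    haveI := (hD n).2; haveI := (hQ n).2; haveI := (hS n).2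
    refine IsConstructible.isLocallyConstructible ?_
    have h := isConstructible_vanishSet G O.1 O.2 (wordN G n).2
    rwa [show O.1.ι ⁻¹' vanishSet (wordN G n).2 = O.1.ι ⁻¹' {s : S | AGF.IsNilpotentGrp (Red.geomFibre s G)} from
      Set.ext fun x => ((hn x.1 x.2).2).symm] at h

end Groth.Agent.GrpFieldLib.SolvBound
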