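import Mathlib.GroupTheory.Solvable
import Mathlib.GroupTheory.Nilpotent
import Mathlib.GroupTheory.Index
import Mathlib.Topology.Irreducible
import Mathlib.Topology.Separation.Basic

/-! Uniform bounds for the derived length and the nilpotency class of a group with a topology in
which translations, inversion and commutators in each variable are continuous. -/

universe u

open Set
open scoped commutatorElement

namespace Groth.Agent.GrpFieldLib.SolvBound

/-- A group with a topology in which the basic one-variable maps are continuous. -/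
structure SemiTop (Γ : Type u) [Group Γ] [TopologicalSpace Γ] : Prop where
  t1 : T1Space Γ
  mul_left : ∀ a : Γ, Continuous (a * ·)
  mul_right : ∀ a : Γ, Continuous (· * a)
  inv : Continuous (fun a : Γ => a⁻¹)
  comm_left : ∀ a : Γ, Continuous (fun b : Γ => ⁅a, b⁆)
  comm_right : ∀ b : Γ, Continuous (fun a : Γ => ⁅a, b⁆)

/-- Irreducible closed subsets form no strictly decreasing sequence with more than `d + 1` terms. -/
def ChainBound (Γ : Type u) [TopologicalSpace Γ] (d : ℕ) : Prop :=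
  ∀ F : ℕ → Set Γ, (∀ i, i ≤ d + 1 → IsIrreducible (F i) ∧ IsClosed (F i)) →
    ¬ ∀ i, i ≤ d → F (i + 1) ⊂ F i

variable {Γ : Type u} [Group Γ] [TopologicalSpace Γ] (h : SemiTop Γ)

include h

theorem isIrreducible_mul {A B : Set Γ} (hA : IsIrreducible A) (hB : IsIrreducible B) :
    IsIrreducible (image2 (· * ·) A B) := by
  refine ⟨hA.1.image2 hB.1, fun U U' hU hU' => ?_⟩
  rintro ⟨_, ⟨a₀, ha₀, b₀, hb₀, rfl⟩, hz⟩ ⟨_, ⟨a₁, ha₁, b₁, hb₁, rfl⟩, hz'⟩
  obtain ⟨a, ha, h1, h2⟩ := hA.2 ((· * b₀) ⁻¹' U) ((· * b₁) ⁻¹' U') (hU.preimage (h.mul_right b₀))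
    (hU'.preimage (h.mul_right b₁)) ⟨a₀, ha₀, hz⟩ ⟨a₁, ha₁, hz'⟩
  obtain ⟨b, hb, h3, h4⟩ := hB.2 ((a * ·) ⁻¹' U) ((a * ·) ⁻¹' U') (hU.preimage (h.mul_left a)) (hU'.preimage (h.mul_left a))
    ⟨b₀, hb₀, h1⟩ ⟨b₁, hb₁, h2⟩
  exact ⟨a * b, ⟨a, ha, b, hb, rfl⟩, h3, h4⟩

/-- A subgroup generated by irreducible sets through the unit is irreducible. -/
theorem isIrreducible_closure_sUnion (𝒱 : Set (Set Γ)) (h𝒱 : ∀ A ∈ 𝒱, IsIrreducible A ∧ (1 : Γ) ∈ A) :
    IsIrreducible ((Subgroup.closure (⋃₀ 𝒱) : Subgroup Γ) : Set Γ) := by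
  let K := Subgroup.closure (⋃₀ 𝒱)
  let P : Γ → Prop := fun x => ∃ A : Set Γ, IsIrreducible A ∧ (1 : Γ) ∈ A ∧ A ⊆ K ∧ x ∈ A
  have hK : ∀ x ∈ K, P x := by
    intro x hx
    induction hx using Subgroup.closure_induction with
    | mem x hx =>
      obtain ⟨A, hA, hxA⟩ := hx
      exact ⟨A, (h𝒱 A hA).1, (h𝒱 A hA).2, fun y hy => Subgroup.subset_closure ⟨A, hA, hy⟩, hxA⟩
    | one => exact ⟨{1}, isIrreducible_singleton, rfl, by simpa using K.one_mem, rfl⟩
    | mul x y _ _ hx hy =>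
      obtain ⟨A, hA, h1A, hAK, hxA⟩ := hx
      obtain ⟨B, hB, h1B, hBK, hyB⟩ := hy
      refine ⟨image2 (· * ·) A B, isIrreducible_mul h hA hB, ⟨1, h1A, 1, h1B, mul_one 1⟩, ?_,
        ⟨x, hxA, y, hyB, rfl⟩⟩
      rintro _ ⟨a, ha, b, hb, rfl⟩
      exact K.mul_mem (hAK ha) (hBK hb)
    | inv x _ hx =>
      obtain ⟨A, hA, h1A, hAK, hxA⟩ := hx
      refine ⟨(fun a => a⁻¹) '' A, hA.image _ h.inv.continuousOn, ⟨1, h1A, inv_one⟩, ?_, ⟨x, hxA, rfl⟩⟩
      rintro _ ⟨a, ha, rfl⟩
      exact K.inv_mem (hAK ha)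
  refine ⟨⟨1, K.one_mem⟩, fun U U' hU hU' => ?_⟩
  rintro ⟨x, hxK, hxU⟩ ⟨y, hyK, hyU⟩
  obtain ⟨A, hA, h1A, hAK, hxA⟩ := hK x hxK
  obtain ⟨B, hB, h1B, hBK, hyB⟩ := hK y hyK
  obtain ⟨_, ⟨a, ha, b, hb, rfl⟩, hz⟩ := (isIrreducible_mul h hA hB).2 U U' hU hU'
    ⟨x, ⟨x, hxA, 1, h1B, mul_one x⟩, hxU⟩ ⟨y, ⟨1, h1A, y, hyB, one_mul y⟩, hyU⟩
  exact ⟨a * b, K.mul_mem (hAK ha) (hBK hb), hz⟩

/-- The closure of a subgroup. -/
def clSub (H : Subgroup Γ) : Subgroup Γ where
  carrier := closure (H : Set Γ)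
  one_mem' := subset_closure H.one_mem
  inv_mem' hx := map_mem_closure h.inv hx fun a ha => H.inv_mem ha
  mul_mem' := by
    intro x y hx hy
    have h2 : ∀ a ∈ H, a * y ∈ closure (H : Set Γ) := fun a ha =>
      map_mem_closure (h.mul_left a) hy fun b hb => H.mul_mem ha hb
    have := map_mem_closure (h.mul_right y) hx h2
    rwa [closure_closure] at this

theorem coe_clSub (H : Subgroup Γ) : (clSub h H : Set Γ) = closure (H : Set Γ) := rfl

theorem le_clSub (H : Subgroup Γ) : H ≤ clSub h H := subset_closure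

theorem clSub_le {H K : Subgroup Γ} (hK : IsClosed (K : Set Γ)) (hHK : H ≤ K) : clSub h H ≤ K :=
  closure_minimal hHK hK

theorem clSub_mono {H K : Subgroup Γ} (hHK : H ≤ K) : clSub h H ≤ clSub h K := closure_mono hHK

theorem clSub_normal {H : Subgroup Γ} [H.Normal] : (clSub h H).Normal := by
  refine ⟨fun x hx g => ?_⟩
  have hc : Continuous fun z : Γ => g * z * g⁻¹ := (h.mul_right g⁻¹).comp (h.mul_left g)
  exact map_mem_closure (f := fun z : Γ => g * z * g⁻¹) hc hx fun a ha => ‹H.Normal›.conj_mem a ha g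

theorem clSub_bot : clSub h (⊥ : Subgroup Γ) = ⊥ := by
  haveI := h.t1
  exact eq_bot_iff.2 (clSub_le h (by rw [Subgroup.coe_bot]; exact isClosed_singleton) le_rfl)

theorem commutator_clSub_le (H K : Subgroup Γ) : ⁅clSub h H, K⁆ ≤ clSub h ⁅H, K⁆ := by
  rw [Subgroup.commutator_le]
  intro a ha b hb
  exact map_mem_closure (f := fun a : Γ => ⁅a, b⁆) (h.comm_right b) ha fun x hx => Subgroup.commutator_mem_commutator hx hb

theorem commutator_clSub_clSub_le (H K : Subgroup Γ) : ⁅clSub h H, clSub h K⁆ ≤ clSub h ⁅H, K⁆ := by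
  rw [Subgroup.commutator_le]
  intro a ha b hb
  have h1 : ∀ x ∈ H, ⁅x, b⁆ ∈ closure ((⁅H, K⁆ : Subgroup Γ) : Set Γ) := fun x hx =>
    map_mem_closure (h.comm_left x) hb fun y hy => Subgroup.commutator_mem_commutator hx hy
  have := map_mem_closure (h.comm_right b) ha h1
  rwa [closure_closure] at this

theorem isIrreducible_commutator_top {L : Subgroup Γ} (hL : IsIrreducible (L : Set Γ)) :
    IsIrreducible ((⁅L, (⊤ : Subgroup Γ)⁆ : Subgroup Γ) : Set Γ) := by
  have : ⁅L, (⊤ : Subgroup Γ)⁆ =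
      Subgroup.closure (⋃₀ Set.range fun g : Γ => (fun a => ⁅a, g⁆) '' (L : Set Γ)) := by
    refine le_antisymm (Subgroup.commutator_le.2 fun a ha g _ =>
      Subgroup.subset_closure ⟨_, ⟨g, rfl⟩, a, ha, rfl⟩) ((Subgroup.closure_le _).2 ?_)
    rintro _ ⟨_, ⟨g, rfl⟩, a, ha, rfl⟩
    exact Subgroup.commutator_mem_commutator ha trivial
  rw [this]
  refine isIrreducible_closure_sUnion h _ ?_
  rintro _ ⟨g, rfl⟩
  exact ⟨hL.image _ (h.comm_right g).continuousOn, 1, L.one_mem, commutatorElement_one_left g⟩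

theorem isIrreducible_commutator_self {L : Subgroup Γ} (hL : IsIrreducible (L : Set Γ)) :
    IsIrreducible ((⁅L, L⁆ : Subgroup Γ) : Set Γ) := by
  have : ⁅L, L⁆ =
      Subgroup.closure (⋃₀ ((fun a : Γ => (fun b => ⁅a, b⁆) '' (L : Set Γ)) '' (L : Set Γ))) := by
    refine le_antisymm (Subgroup.commutator_le.2 fun a ha b hb =>
      Subgroup.subset_closure ⟨_, ⟨a, ha, rfl⟩, b, hb, rfl⟩) ((Subgroup.closure_le _).2 ?_)
    rintro _ ⟨_, ⟨a, ha, rfl⟩, b, hb, rfl⟩
    exact Subgroup.commutator_mem_commutator ha hb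
  rw [this]
  refine isIrreducible_closure_sUnion h _ ?_
  rintro _ ⟨a, -, rfl⟩
  exact ⟨hL.image _ (h.comm_left a).continuousOn, 1, L.one_mem, commutatorElement_one_right a⟩

omit h in
/-- An iteration is constant from the first repetition on. -/
theorem eq_of_succ_eq {α : Type*} (L : ℕ → α) (F : α → α) (hL : ∀ i, L (i + 1) = F (L i)) {k : ℕ}
    (hk : L (k + 1) = L k) : ∀ m, k ≤ m → L m = L k := by
  intro m hm
  induction m, hm using Nat.le_induction with
  | base => rfl
  | succ m _ ih => rw [hL, ih, ← hL, hk]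

omit h in
theorem exists_succ_eq {d : ℕ} (hd : ChainBound Γ d) (L : ℕ → Subgroup Γ)
    (hirr : ∀ i, IsIrreducible (L i : Set Γ)) (hcl : ∀ i, IsClosed (L i : Set Γ))
    (hle : ∀ i, L (i + 1) ≤ L i) : ∃ k, k ≤ d ∧ L (k + 1) = L k := by
  by_contra hne
  push Not at hne
  exact hd (fun i => (L i : Set Γ)) (fun i _ => ⟨hirr i, hcl i⟩) fun i hi =>
    (Set.ssubset_iff_subset_ne).2 ⟨hle i, fun e => hne i hi (SetLike.coe_injective e)⟩

omit h [TopologicalSpace Γ] in
/-- In a finite group a decreasing iteration reaching the trivial subgroup does it within the order. -/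
theorem eq_bot_card_steps [Finite Γ] (S : ℕ → Subgroup Γ) (F : Subgroup Γ → Subgroup Γ)
    (hS : ∀ i, S (i + 1) = F (S i)) (hle : ∀ i, S (i + 1) ≤ S i) {m : ℕ} (hm : S m = ⊥) {B : ℕ}
    (hB : Nat.card Γ ≤ B) : S B = ⊥ := by
  have key : ∀ j, S j = ⊥ ∨ Nat.card (S j) + j ≤ Nat.card Γ := by
    intro j
    induction j with
    | zero => exact Or.inr (by simpa using Subgroup.card_le_card_group (S 0))
    | succ j ih =>
      rcases eq_or_ne (S (j + 1)) (S j) with e | e
      · left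
        have h1 := eq_of_succ_eq S F hS e
        rcases le_or_gt j m with hjm | hjm
        · rw [e, ← h1 m hjm, hm]
        · have hanti : ∀ a b, a ≤ b → S b ≤ S a := fun a b hab => antitone_nat_of_succ_le hle hab
          exact eq_bot_iff.2 (hm ▸ hanti m (j + 1) (by omega))
      · rcases ih with ih | ih
        · exact Or.inl (eq_bot_iff.2 (ih ▸ hle j))
        · right
          have hlt : S (j + 1) < S j := lt_of_le_of_ne (hle j) e
          have hlt' := Set.ncard_lt_ncard (SetLike.coe_ssubset_coe.2 hlt) (Set.toFinite _)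
          rw [← Nat.card_coe_set_eq, ← Nat.card_coe_set_eq] at hlt'
          simp only [SetLike.coe_sort_coe] at hlt'
          omega
  rcases key B with e | e
  · exact e
  · have := Nat.card_pos (α := S B)
    omega

/-- A uniform bound for the nilpotency class. -/
theorem lowerCentralSeries_eq_bot (hN : Group.IsNilpotent Γ) (N : Subgroup Γ) [N.Normal] [Finite (Γ ⧸ N)]
    (hirr : IsIrreducible (N : Set Γ)) (hcl : IsClosed (N : Set Γ)) {B : ℕ} (hB : N.index ≤ B) {d : ℕ}
    (hd : ChainBound Γ d) : (⊤ : Subgroup Γ).lowerCentralSeries (B + d) = ⊥ := by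
  obtain ⟨m, hm⟩ := Subgroup.nilpotent_iff_lowerCentralSeries.1 hN
  let γ := (⊤ : Subgroup Γ).lowerCentralSeries
  let π := QuotientGroup.mk' N
  have hγN : γ B ≤ N := by
    have e : ∀ i, (γ i).map π = (⊤ : Subgroup (Γ ⧸ N)).lowerCentralSeries i := fun i => by
      rw [Subgroup.map_lowerCentralSeries, ← MonoidHom.range_eq_map, MonoidHom.range_eq_top.2
        (QuotientGroup.mk'_surjective N)]
    have := eq_bot_card_steps ((⊤ : Subgroup (Γ ⧸ N)).lowerCentralSeries) (fun H => ⁅H, ⊤⁆) (fun i => rfl)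
      (fun i => Subgroup.lowerCentralSeries_antitone _ (Nat.le_succ i)) (m := m)
      (by rw [← e]; show ((⊤ : Subgroup Γ).lowerCentralSeries m).map π = ⊥; rw [hm, Subgroup.map_bot]) hB
    rw [← e, Subgroup.map_eq_bot_iff, QuotientGroup.ker_mk'] at this
    exact this
  let L : ℕ → Subgroup Γ := Nat.rec N (fun _ L => clSub h ⁅L, ⊤⁆)
  have hL : ∀ i, L (i + 1) = clSub h ⁅L i, ⊤⁆ := fun i => rfl
  have hLi : ∀ i, (L i).Normal ∧ IsIrreducible (SetLike.coe (L i)) ∧ IsClosed (SetLike.coe (L i)) := by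
    intro i
    induction i with
    | zero => exact ⟨‹_›, hirr, hcl⟩
    | succ i ih =>
      obtain ⟨h1, h2, h3⟩ := ih
      refine ⟨clSub_normal h, ?_, isClosed_closure⟩
      rw [hL, coe_clSub]
      exact (isIrreducible_commutator_top h h2).closure
  have hle : ∀ i, L (i + 1) ≤ L i := fun i => by
    haveI := (hLi i).1
    exact clSub_le h (hLi i).2.2 (Subgroup.commutator_le_left _ _)
  have hγL : ∀ j, γ (B + j) ≤ L j := fun j => by
    induction j with
    | zero => exact hγN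
    | succ j ih => exact (Subgroup.commutator_mono ih le_rfl).trans (le_clSub h _)
  obtain ⟨k, hk, he⟩ := exists_succ_eq hd L (fun i => (hLi i).2.1) (fun i => (hLi i).2.2) hle
  have hLk : ∀ j, L k ≤ clSub h (γ j) := fun j => by
    induction j with
    | zero => exact fun x _ => le_clSub h _ (Subgroup.mem_top x)
    | succ j ih =>
      rw [← he, hL]
      refine clSub_le h isClosed_closure ?_
      exact (Subgroup.commutator_mono ih le_rfl).trans (commutator_clSub_le h _ _)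
  have hk0 : L k = ⊥ := eq_bot_iff.2 ((hLk m).trans (by
    show clSub h ((⊤ : Subgroup Γ).lowerCentralSeries m) ≤ ⊥
    rw [hm, clSub_bot h]))
  exact eq_bot_iff.2 ((hγL d).trans (by rw [eq_of_succ_eq L (fun L => clSub h ⁅L, ⊤⁆) hL he d hk, hk0]))

/-- A uniform bound for the derived length. -/
theorem derivedSeries_eq_bot {m : ℕ} (hm : derivedSeries Γ m = ⊥) (N : Subgroup Γ) [N.Normal] [Finite (Γ ⧸ N)]
    (hirr : IsIrreducible (N : Set Γ)) (hcl : IsClosed (N : Set Γ)) {B : ℕ} (hB : N.index ≤ B) {d : ℕ}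
    (hd : ChainBound Γ d) : derivedSeries Γ (B + d) = ⊥ := by
  let γ := derivedSeries Γ
  let π := QuotientGroup.mk' N
  have hγN : γ B ≤ N := by
    have e : ∀ i, (γ i).map π = derivedSeries (Γ ⧸ N) i := fun i =>
      map_derivedSeries_eq (QuotientGroup.mk'_surjective N) i
    have := eq_bot_card_steps (derivedSeries (Γ ⧸ N)) (fun H => ⁅H, H⁆) (fun i => rfl)
      (fun i => derivedSeries_antitone _ (Nat.le_succ i)) (m := m)
      (by rw [← e]; show (derivedSeries Γ m).map π = ⊥; rw [hm, Subgroup.map_bot]) hB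
    rw [← e, Subgroup.map_eq_bot_iff, QuotientGroup.ker_mk'] at this
    exact this
  let L : ℕ → Subgroup Γ := Nat.rec N (fun _ L => clSub h ⁅L, L⁆)
  have hL : ∀ i, L (i + 1) = clSub h ⁅L i, L i⁆ := fun i => rfl
  have hLi : ∀ i, (L i).Normal ∧ IsIrreducible (SetLike.coe (L i)) ∧ IsClosed (SetLike.coe (L i)) := by
    intro i
    induction i with
    | zero => exact ⟨‹_›, hirr, hcl⟩
    | succ i ih =>
      obtain ⟨h1, h2, h3⟩ := ih
      refine ⟨clSub_normal h, ?_, isClosed_closure⟩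
      rw [hL, coe_clSub]
      exact (isIrreducible_commutator_self h h2).closure
  have hle : ∀ i, L (i + 1) ≤ L i := fun i =>
    clSub_le h (hLi i).2.2 (Subgroup.commutator_le_self _)
  have hγL : ∀ j, γ (B + j) ≤ L j := fun j => by
    induction j with
    | zero => exact hγN
    | succ j ih => exact (Subgroup.commutator_mono ih ih).trans (le_clSub h _)
  obtain ⟨k, hk, he⟩ := exists_succ_eq hd L (fun i => (hLi i).2.1) (fun i => (hLi i).2.2) hle
  have hLk : ∀ j, L k ≤ clSub h (γ j) := fun j => by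
    induction j with
    | zero => exact fun x _ => le_clSub h _ (Subgroup.mem_top x)
    | succ j ih =>
      rw [← he, hL]
      refine clSub_le h isClosed_closure ?_
      exact (Subgroup.commutator_mono ih ih).trans (commutator_clSub_clSub_le h _ _)
  have hk0 : L k = ⊥ := eq_bot_iff.2 ((hLk m).trans (by
    show clSub h (derivedSeries Γ m) ≤ ⊥
    rw [hm, clSub_bot h]))
  exact eq_bot_iff.2 ((hγL d).trans (by rw [eq_of_succ_eq L (fun L => clSub h ⁅L, L⁆) hL he d hk, hk0]))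

end Groth.Agent.GrpFieldLib.SolvBound
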