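import Groth.Agent.GrpFieldLib.SVGroup
import Groth.Agent.GrpFieldLib.SCGroup
import Groth.Agent.GrpFieldLib.SCOm
import Mathlib.AlgebraicGeometry.AlgClosed.Basic

/-! Derived length and nilpotency class of the group of rational points over an algebraically
closed field. -/

universe u

open CategoryTheory AlgebraicGeometry MonoidalCategory CartesianMonoidalCategory MonObj GrpObj
open scoped CategoryTheory.Obj commutatorElement

namespace Groth.Agent.GrpFieldLib.SolvBound

open Groth.Agent.GrpSchLib Groth.Agent.GrpSchLib.Neutral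

variable {k : Type u} [Field k] {H : Over (Spec (CommRingCat.of k))}

/-- The point of a rational point. -/
noncomputable def pt (w : 𝟙_ (Over (Spec (CommRingCat.of k))) ⟶ H) : H.left :=
  w.left (IsLocalRing.closedPoint k)

theorem pt_comp {H' : Over (Spec (CommRingCat.of k))} (w : 𝟙_ (Over (Spec (CommRingCat.of k))) ⟶ H)
    (φ : H ⟶ H') : pt (w ≫ φ) = φ.left (pt w) := left_comp_apply _ _ _

variable [GrpObj H]

/-- Rational points carry the topology induced from the scheme. -/
noncomputable abbrev ratTop : TopologicalSpace (𝟙_ (Over (Spec (CommRingCat.of k))) ⟶ H) :=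
  TopologicalSpace.induced pt inferInstance

attribute [local instance] ratTop

omit [GrpObj H] in
theorem continuous_postcomp (φ : H ⟶ H) :
    Continuous fun w : 𝟙_ (Over (Spec (CommRingCat.of k))) ⟶ H => w ≫ φ := by
  refine continuous_induced_rng.2 ?_
  have : (pt ∘ fun w : 𝟙_ (Over (Spec (CommRingCat.of k))) ⟶ H => w ≫ φ) = φ.left ∘ pt :=
    funext fun w => pt_comp w φ
  rw [this]
  exact φ.left.continuous.comp continuous_induced_dom

theorem comp_const (w a : 𝟙_ (Over (Spec (CommRingCat.of k))) ⟶ H) : w ≫ toUnit H ≫ a = a := by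
  rw [← Category.assoc, show w ≫ toUnit H = 𝟙 _ from toUnit_unique _ _, Category.id_comp]

variable [IsAlgClosed k] [LocallyOfFiniteType H.hom]

omit [GrpObj H] in
theorem pt_injective : Function.Injective (pt (H := H)) := fun a b h =>
  Over.OverMorphism.ext (ext_of_apply_closedPoint_eq H.hom (Over.w a) (Over.w b) h)

omit [GrpObj H] in
theorem isClosed_pt (w : 𝟙_ (Over (Spec (CommRingCat.of k))) ⟶ H) : IsClosed {pt w} :=
  (pointEquivClosedPoint H.hom ⟨w.left, Over.w w⟩).2

omit [GrpObj H] in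
theorem exists_pt_eq {x : H.left} (hx : IsClosed {x}) :
    ∃ w : 𝟙_ (Over (Spec (CommRingCat.of k))) ⟶ H, pt w = x :=
  ⟨Over.homMk _ ((pointEquivClosedPoint H.hom).symm ⟨x, hx⟩).2,
    congrArg Subtype.val ((pointEquivClosedPoint H.hom).apply_symm_apply ⟨x, hx⟩)⟩

theorem semiTop : SemiTop (𝟙_ (Over (Spec (CommRingCat.of k))) ⟶ H) := by
  refine ⟨⟨fun w => ?_⟩, fun a => ?_, fun a => ?_, ?_, fun a => ?_, fun b => ?_⟩
  · have h : pt ⁻¹' {pt w} = ({w} : Set (𝟙_ (Over (Spec (CommRingCat.of k))) ⟶ H)) :=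
      Set.ext fun x => ⟨fun hx => pt_injective hx, congrArg pt⟩
    rw [← h]
    exact (isClosed_pt w).preimage continuous_induced_dom
  · convert continuous_postcomp ((toUnit H ≫ a) * 𝟙 H) using 2 with w
    rw [MonObj.comp_mul, Category.comp_id, comp_const]
  · convert continuous_postcomp (𝟙 H * (toUnit H ≫ a)) using 2 with w
    rw [MonObj.comp_mul, Category.comp_id, comp_const]
  · convert continuous_postcomp (𝟙 H)⁻¹ using 2 with w
    rw [GrpObj.comp_inv, Category.comp_id]
  · convert continuous_postcomp ((toUnit H ≫ a) * 𝟙 H * (toUnit H ≫ a)⁻¹ * (𝟙 H)⁻¹) using 2 with w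
    simp only [commutatorElement_def, MonObj.comp_mul, GrpObj.comp_inv, Category.comp_id, comp_const]
  · convert continuous_postcomp (𝟙 H * (toUnit H ≫ b) * (𝟙 H)⁻¹ * (toUnit H ≫ b)⁻¹) using 2 with w
    simp only [commutatorElement_def, MonObj.comp_mul, GrpObj.comp_inv, Category.comp_id, comp_const]

omit [IsAlgClosed k] [LocallyOfFiniteType H.hom] in
theorem pt_one : pt (1 : 𝟙_ (Over (Spec (CommRingCat.of k))) ⟶ H) = unit H (IsLocalRing.closedPoint k) := by
  rw [← MonObj.one_eq_one]
  rfl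

omit [IsAlgClosed k] [LocallyOfFiniteType H.hom] in
theorem base_eq (x : H.left) : H.hom x = IsLocalRing.closedPoint k := Subsingleton.elim _ _

omit [IsAlgClosed k] [LocallyOfFiniteType H.hom] in
/-- Over a field the neutral set is the component of the unit. -/
theorem neutralSet_eq : SGA3x.neutralSet H = connectedComponent (pt (1 : 𝟙_ (Over (Spec (CommRingCat.of k))) ⟶ H)) := by
  ext x
  rw [mem_neutralSet_iff, pt_one]
  have h : H.hom ⁻¹' {H.hom x} = Set.univ :=
    Set.eq_univ_of_forall fun y => (base_eq y).trans (base_eq x).symm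
  rw [h, connectedComponentIn_univ, base_eq x]

omit [IsAlgClosed k] [LocallyOfFiniteType H.hom] in
theorem exists_closure_eq : ∃ ζ : H.left, SGA3x.neutralSet H = closure {ζ} := by
  obtain ⟨ζ, -, -, -, h⟩ := Groth.Agent.GrpFieldLib.SecComp.exists_neutral_generic H (IsLocalRing.closedPoint k)
  exact ⟨ζ, Set.ext fun x => (h x (base_eq x)).trans specializes_iff_mem_closure⟩

/-- The rational points of the neutral component. -/
noncomputable def neutralSub : Subgroup (𝟙_ (Over (Spec (CommRingCat.of k))) ⟶ H) where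
  carrier := {w | pt w ∈ SGA3x.neutralSet H}
  one_mem' := by
    show pt (1 : 𝟙_ (Over (Spec (CommRingCat.of k))) ⟶ H) ∈ SGA3x.neutralSet H
    rw [pt_one]
    exact unit_mem_neutralSet H _
  inv_mem' {w} hw := by
    show pt w⁻¹ ∈ SGA3x.neutralSet H
    have := Groth.Agent.GrpFieldLib.SecComp.inv_mem_neutralSet H hw
    rwa [← pt_comp, GrpObj.inv_eq_inv, GrpObj.comp_inv, Category.comp_id] at this
  mul_mem' {a b} ha hb := by
    show pt (a * b) ∈ SGA3x.neutralSet H
    rw [Hom.mul_def, pt_comp]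
    exact Groth.Agent.GrpFieldLib.SecComp.mul_mem_neutralSet H
      (by rw [← pt_comp, lift_fst]; exact ha) (by rw [← pt_comp, lift_snd]; exact hb)

omit [IsAlgClosed k] [LocallyOfFiniteType H.hom] in
theorem mem_neutralSub {w : 𝟙_ (Over (Spec (CommRingCat.of k))) ⟶ H} :
    w ∈ neutralSub ↔ pt w ∈ SGA3x.neutralSet H := Iff.rfl

omit [IsAlgClosed k] [LocallyOfFiniteType H.hom] in
theorem neutralSub_normal : (neutralSub (H := H)).Normal := by
  refine ⟨fun w hw g => ?_⟩
  rw [mem_neutralSub, neutralSet_eq] at hw ⊢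
  let φ : H ⟶ H := (toUnit H ≫ g) * 𝟙 H * (toUnit H ≫ g)⁻¹
  have hφ : ∀ x : 𝟙_ (Over (Spec (CommRingCat.of k))) ⟶ H, x ≫ φ = g * x * g⁻¹ := fun x => by
    simp only [φ, MonObj.comp_mul, GrpObj.comp_inv, Category.comp_id, comp_const]
  rw [← hφ, pt_comp]
  have h1 : φ.left (pt (1 : 𝟙_ (Over (Spec (CommRingCat.of k))) ⟶ H)) = pt (1 : 𝟙_ (Over (Spec (CommRingCat.of k))) ⟶ H) := by
    rw [← pt_comp, hφ, _root_.mul_one, _root_.mul_inv_cancel]
  have h2 := φ.left.continuous.image_connectedComponent_subset (pt (1 : 𝟙_ (Over (Spec (CommRingCat.of k))) ⟶ H)) ⟨_, hw, rfl⟩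
  rwa [h1] at h2

omit [IsAlgClosed k] [LocallyOfFiniteType H.hom] in
theorem isClosed_neutralSub : IsClosed (neutralSub (H := H) : Set (𝟙_ (Over (Spec (CommRingCat.of k))) ⟶ H)) := by
  obtain ⟨ζ, hζ⟩ := exists_closure_eq (H := H)
  have : (neutralSub (H := H) : Set (𝟙_ (Over (Spec (CommRingCat.of k))) ⟶ H)) = pt ⁻¹' closure {ζ} := by
    ext w; rw [← hζ]; rfl
  rw [this]
  exact isClosed_closure.preimage continuous_induced_dom

theorem isIrreducible_neutralSub :
    IsIrreducible (neutralSub (H := H) : Set (𝟙_ (Over (Spec (CommRingCat.of k))) ⟶ H)) := by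
  obtain ⟨ζ, hζ⟩ := exists_closure_eq (H := H)
  haveI : JacobsonSpace ↥H.left := LocallyOfFiniteType.jacobsonSpace H.hom
  refine ⟨⟨1, one_mem _⟩, fun U V hU hV => ?_⟩
  obtain ⟨U, hUo, rfl⟩ := isOpen_induced_iff.1 hU
  obtain ⟨V, hVo, rfl⟩ := isOpen_induced_iff.1 hV
  rintro ⟨a, ha, haU⟩ ⟨b, hb, hbV⟩
  have hζU : ζ ∈ U := by
    have : pt a ∈ closure ({ζ} : Set H.left) := hζ ▸ ha
    exact (specializes_iff_mem_closure.2 this).mem_open hUo haU
  have hζV : ζ ∈ V := by
    have : pt b ∈ closure ({ζ} : Set H.left) := hζ ▸ hb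
    exact (specializes_iff_mem_closure.2 this).mem_open hVo hbV
  obtain ⟨x, ⟨⟨hxU, hxV⟩, hxC⟩, hx⟩ := nonempty_inter_closedPoints (Z := U ∩ V ∩ closure {ζ})
    ⟨ζ, ⟨hζU, hζV⟩, subset_closure rfl⟩ ((hUo.inter hVo).isLocallyClosed.inter isClosed_closure.isLocallyClosed)
  obtain ⟨c, rfl⟩ := exists_pt_eq hx
  exact ⟨c, by show pt c ∈ SGA3x.neutralSet H; rw [hζ]; exact hxC, hxU, hxV⟩

variable [QuasiCompact H.hom]

omit [IsAlgClosed k] in
theorem finite_quotient : Finite ((𝟙_ (Over (Spec (CommRingCat.of k))) ⟶ H) ⧸ neutralSub (H := H)) := by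
  haveI : IsLocallyNoetherian H.left := LocallyOfFiniteType.isLocallyNoetherian H.hom
  haveI : CompactSpace ↥H.left := QuasiCompact.compactSpace_of_compactSpace H.hom
  haveI : TopologicalSpace.NoetherianSpace ↥H.left := by
    haveI : IsNoetherian H.left := {}
    infer_instance
  haveI : Finite (_root_.ConnectedComponents ↥H.left) := by
    haveI : Finite (irreducibleComponents ↥H.left) :=
      TopologicalSpace.NoetherianSpace.finite_irreducibleComponents.to_subtype
    refine Finite.of_surjective (fun Z : irreducibleComponents ↥H.left =>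
      _root_.ConnectedComponents.mk Z.2.1.nonempty.some) fun c => ?_
    obtain ⟨x, rfl⟩ := _root_.ConnectedComponents.surjective_coe c
    refine ⟨⟨irreducibleComponent x, irreducibleComponent_mem_irreducibleComponents x⟩,
      _root_.ConnectedComponents.coe_eq_coe'.2 ?_⟩
    exact isIrreducible_irreducibleComponent.isPreirreducible.isPreconnected.subset_connectedComponent
      mem_irreducibleComponent (Set.Nonempty.some_mem _)
  refine Finite.of_injective (fun q => _root_.ConnectedComponents.mk (pt q.out)) fun q q' h => ?_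
  rw [← QuotientGroup.out_eq' q, ← QuotientGroup.out_eq' q', QuotientGroup.eq, mem_neutralSub, neutralSet_eq]
  let φ : H ⟶ H := (toUnit H ≫ q.out⁻¹) * 𝟙 H
  have hφ : ∀ x : 𝟙_ (Over (Spec (CommRingCat.of k))) ⟶ H, x ≫ φ = q.out⁻¹ * x := fun x => by
    simp only [φ, MonObj.comp_mul, Category.comp_id, comp_const]
  rw [← hφ, pt_comp]
  have h1 : φ.left (pt q.out) = pt (1 : 𝟙_ (Over (Spec (CommRingCat.of k))) ⟶ H) := by
    rw [← pt_comp, hφ, _root_.inv_mul_cancel]
  have h2 := φ.left.continuous.image_connectedComponent_subset (pt q.out)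
    ⟨_, _root_.ConnectedComponents.coe_eq_coe'.1 h.symm, rfl⟩
  rwa [h1] at h2

omit [QuasiCompact H.hom] in
theorem chainBound {d : ℕ} (hd : topologicalKrullDim ↥H.left ≤ (d : WithBot ℕ∞)) :
    ChainBound (𝟙_ (Over (Spec (CommRingCat.of k))) ⟶ H) d := by
  intro F hF hlt
  have hcl : ∀ i, i ≤ d + 1 → pt ⁻¹' closure (pt '' F i) = F i := fun i hi => by
    refine Set.Subset.antisymm ?_ fun x hx => subset_closure ⟨x, hx, rfl⟩
    exact fun x hx => (hF i hi).2.closure_eq ▸ closure_induced.2 hx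
  let Z : Fin (d + 2) → TopologicalSpace.IrreducibleCloseds ↥H.left := fun i =>
    { carrier := closure (pt '' F (d + 1 - (i : ℕ)))
      isIrreducible' := ((hF _ (Nat.sub_le _ _)).1.image _ continuous_induced_dom.continuousOn).closure
      isClosed' := isClosed_closure }
  have hZ : StrictMono Z := by
    refine Fin.strictMono_iff_lt_succ.2 fun i => ?_
    have hi := i.isLt
    have e : d + 1 - (i : ℕ) = d - (i : ℕ) + 1 := by omega
    have h := hlt (d - (i : ℕ)) (by omega)
    refine lt_of_le_of_ne ?_ fun heq => ?_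
    · show closure (pt '' F (d + 1 - (i.castSucc : ℕ))) ⊆ closure (pt '' F (d + 1 - (i.succ : ℕ)))
      rw [Fin.val_castSucc, Fin.val_succ, e, Nat.add_sub_add_right]
      exact closure_mono (Set.image_mono h.subset)
    · refine h.ne ?_
      have h' := congrArg (fun W : TopologicalSpace.IrreducibleCloseds ↥H.left => pt ⁻¹' (W : Set ↥H.left)) heq
      change pt ⁻¹' closure (pt '' F (d + 1 - (i.castSucc : ℕ))) = pt ⁻¹' closure (pt '' F (d + 1 - (i.succ : ℕ))) at h'
      rw [Fin.val_castSucc, Fin.val_succ, e, Nat.add_sub_add_right, hcl _ (by omega), hcl _ (by omega)] at h'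
      exact h'
  have := (Order.LTSeries.length_le_krullDim (LTSeries.mk (d + 1) Z hZ)).trans hd
  rw [LTSeries.mk_length] at this
  norm_cast at this
  omega

/-- The bounds for the rational points. -/
theorem bounds {B d : ℕ} (hd : topologicalKrullDim ↥H.left ≤ (d : WithBot ℕ∞))
    (hB : ∀ f : Fin (B + 1) → (𝟙_ (Over (Spec (CommRingCat.of k))) ⟶ H),
      ∃ i j, i ≠ j ∧ (f i)⁻¹ * f j ∈ neutralSub (H := H)) :
    (∀ m, derivedSeries (𝟙_ (Over (Spec (CommRingCat.of k))) ⟶ H) m = ⊥ →
      derivedSeries (𝟙_ (Over (Spec (CommRingCat.of k))) ⟶ H) (B + d) = ⊥) ∧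
    (Group.IsNilpotent (𝟙_ (Over (Spec (CommRingCat.of k))) ⟶ H) →
      (⊤ : Subgroup (𝟙_ (Over (Spec (CommRingCat.of k))) ⟶ H)).lowerCentralSeries (B + d) = ⊥) := by
  haveI := neutralSub_normal (H := H)
  haveI := finite_quotient (H := H)
  have hidx : (neutralSub (H := H)).index ≤ B := by
    by_contra hlt
    push Not at hlt
    rw [Subgroup.index_eq_card] at hlt
    haveI := Fintype.ofFinite ((𝟙_ (Over (Spec (CommRingCat.of k))) ⟶ H) ⧸ neutralSub (H := H))
    rw [Nat.card_eq_fintype_card] at hlt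
    let em := (Fin.castLEEmb hlt).trans (Fintype.equivFin _).symm.toEmbedding
    obtain ⟨i, j, hij, h⟩ := hB fun i => (em i).out
    refine hij (em.injective ?_)
    rw [← QuotientGroup.out_eq' (em i), ← QuotientGroup.out_eq' (em j), QuotientGroup.eq]
    exact h
  exact ⟨fun m hm => derivedSeries_eq_bot semiTop hm _ isIrreducible_neutralSub isClosed_neutralSub hidx
      (chainBound hd),
    fun hN => lowerCentralSeries_eq_bot semiTop hN _ isIrreducible_neutralSub isClosed_neutralSub hidx
      (chainBound hd)⟩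

end Groth.Agent.GrpFieldLib.SolvBound
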