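import Groth.Agent.GrpFieldLib.JetLocus
import Groth.Agent.GrpFieldLib.SmoothDense
import Groth.Agent.SchDenseLib.FlatLFP
import Groth.Agent.SmoothSecLib.Basic
import Groth.Agent.TransLib.EssFree

/-! Weil restriction of closed subschemes along smooth morphisms with geometrically irreducible fibres. -/

universe u

open CategoryTheory Limits AlgebraicGeometry TopologicalSpace
open TensorProduct MvPolynomial

namespace Groth.Agent.GrpFieldLib.SmoothWeil

open Groth.Agent.GrpSchLib (Good HasIdeal HasIdeals)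
open Groth.Agent.GrpFieldLib.Jet

variable {S X Y : Scheme.{u}} (f : X ⟶ S) (y : Y ⟶ X) [IsClosedImmersion y]

/-- A closed subscheme containing a schematically dense open subscheme is everything. -/
theorem isIso_of_schDense {P E V : Scheme.{u}} (c : E ⟶ P) [IsClosedImmersion c] (q : V ⟶ P) [IsOpenImmersion q]
    (hq : CInt.IsSchematicallyDense q.opensRange) (l : V ⟶ E) (hl : l ≫ c = q) : IsIso c := by
  rw [IsClosedImmersion.isIso_iff_ker_eq_bot]
  refine Scheme.IdealSheafData.ext (funext fun W => eq_bot_iff.mpr fun x hx => ?_)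
  rw [Scheme.Hom.ker_apply, RingHom.mem_ker] at hx
  have h0 : q.app W.1 x = 0 := by
    subst hl
    exact (congrArg (fun z => l.app (c ⁻¹ᵁ W.1) z) hx).trans (map_zero _)
  have hle : (W.1 ⊓ q.opensRange : P.Opens) = q ''ᵁ q ⁻¹ᵁ W.1 := by
    rw [Scheme.Hom.image_preimage_eq_opensRange_inf, inf_comm]
  have h1 : (q.app W.1 ≫ (q.appIso (q ⁻¹ᵁ W.1)).inv) x = 0 := by
    rw [CommRingCat.comp_apply, h0, map_zero]
  rw [Scheme.Hom.app_appIso_inv] at h1
  exact Submodule.mem_bot _ |>.mpr ((SchDenseLib.iff_eq_zero _).mp hq W.1 x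
    (SchDenseLib.map_eq_zero_of_le x _ hle.le h1))

/-- An element killed by a schematically dense principal open is zero. -/
theorem eq_zero_of_schDense {D : Type u} [CommRing D] (h x : D)
    (hd : CInt.IsSchematicallyDense (X := Spec (CommRingCat.of D)) (PrimeSpectrum.basicOpen h)) (hx : h * x = 0) :
    x = 0 := by
  let e := Scheme.ΓSpecIso (CommRingCat.of D)
  have hb : (Spec (CommRingCat.of D)).basicOpen (e.inv h) = PrimeSpectrum.basicOpen h := basicOpen_eq_of_affine _
  have h1 : e.inv h * e.inv x = 0 := by rw [← map_mul, hx, map_zero]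
  have h2 : (Spec (CommRingCat.of D)).presheaf.map
      (homOfLE ((Spec (CommRingCat.of D)).basicOpen_le (e.inv h))).op (e.inv x) = 0 :=
    (SchDenseLib.basicOpen_map_eq_zero_iff (isAffineOpen_top _) _ _).mpr ⟨1, by rw [pow_one, h1]⟩
  have h3 := (SchDenseLib.iff_eq_zero _).mp hd ⊤ (e.inv x)
    (SchDenseLib.map_eq_zero_of_le (e.inv x) _ (hb ▸ inf_le_right) h2)
  have := congrArg e.hom h3
  rwa [Iso.inv_hom_id_apply, map_zero] at this

set_option backward.isDefEq.respectTransparency false in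
set_option backward.defeqAttrib.useBackward true in
/-- The affine piece of a fibre product over an affine open neighbourhood of a section. -/
theorem exists_piece {R A C : Type u} [CommRing R] [CommRing A] [CommRing C] [Algebra R A] [Algebra R C]
    (b : Spec (CommRingCat.of R) ⟶ S) (a₀ : Spec (CommRingCat.of A) ⟶ X)
    (ha₀ : sp (algebraMap R A) ≫ b = a₀ ≫ f) (hopen : IsOpenImmersion (pullback.lift _ _ ha₀)) :
    ∃ q : Spec (CommRingCat.of (C ⊗[R] A)) ⟶ pullback (sp (algebraMap R C) ≫ b) f, IsOpenImmersion q ∧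
      q ≫ pullback.fst _ _ = sp (algebraMap C (C ⊗[R] A)) ∧
      q ≫ pullback.snd _ _ =
        sp (Algebra.TensorProduct.includeRight : A →ₐ[R] C ⊗[R] A).toRingHom ≫ a₀ := by
  let inl : C →+* C ⊗[R] A := algebraMap C (C ⊗[R] A)
  let inr : A →+* C ⊗[R] A := (Algebra.TensorProduct.includeRight : A →ₐ[R] C ⊗[R] A).toRingHom
  let g := sp (algebraMap R C) ≫ b
  let p : pullback g f ⟶ pullback b f :=
    pullback.map g f b f (sp (algebraMap R C)) (𝟙 X) (𝟙 S) (by simp [g]) (by simp)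
  let v := pullback.lift _ _ ha₀
  have hsq : IsPullback (sp inl) (sp inr) (sp (algebraMap R C)) (sp (algebraMap R A)) :=
    isPullback_SpecMap_of_isPushout _ _ _ _ (CommRingCat.isPushout_tensorProduct R C A)
  have hw : sp inl ≫ g = (sp inr ≫ a₀) ≫ f := by
    simp only [g, Category.assoc]
    rw [← ha₀, hsq.w_assoc]
  let q := pullback.lift _ _ hw
  have hr : IsPullback (pullback.fst g f) p (sp (algebraMap R C)) (pullback.fst b f) := by
    refine IsPullback.of_bot ?_ ?_ (IsPullback.of_hasPullback b f)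
    · simpa [p, g, pullback.map] using IsPullback.of_hasPullback g f
    · simp [p, pullback.map]
  have hq : IsPullback q (sp inr) p v := by
    refine IsPullback.of_right ?_ ?_ hr
    · rw [pullback.lift_fst, pullback.lift_fst]; exact hsq
    · apply pullback.hom_ext
      · simp [q, p, v, pullback.map, hsq.w]
      · simp [q, p, v, pullback.map]
  exact ⟨q, MorphismProperty.of_isPullback (P := @IsOpenImmersion) hq.flip hopen, pullback.lift_fst _ _ _,
    pullback.lift_snd _ _ _⟩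

variable [Smooth f] [GeometricallyIrreducible f]

/-- Density spreads a neighbourhood of a section over everything. -/
theorem good_of_annihilators {R A : Type u} [CommRing R] [CommRing A] [Algebra R A]
    (b : Spec (CommRingCat.of R) ⟶ S) (a₀ : Spec (CommRingCat.of A) ⟶ X)
    (ha₀ : sp (algebraMap R A) ≫ b = a₀ ≫ f) (hopen : IsOpenImmersion (pullback.lift _ _ ha₀))
    (eA : A →+* R) (heA : ∀ r, eA (algebraMap R A r) = r) (I : Ideal A)
    (hI : ∀ (D : CommRingCat.{u}) (ψ : CommRingCat.of A ⟶ D),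
      (∃ l : Spec D ⟶ Y, l ≫ y = Spec.map ψ ≫ a₀) ↔ I ≤ RingHom.ker ψ.hom)
    (J : Ideal R) (hyp : ∀ x ∈ I, ∃ h : A, eA h - 1 ∈ J ∧ h * x ∈ J.map (algebraMap R A)) :
    Good f y (sp (Ideal.Quotient.mk J) ≫ b) := by
  obtain ⟨q, hq, hq₁, hq₂⟩ := exists_piece (C := R ⧸ J) f b a₀ ha₀ hopen
  let g := sp (Ideal.Quotient.mk J) ≫ b
  let D := (R ⧸ J) ⊗[R] A
  let inl : R ⧸ J →+* D := algebraMap (R ⧸ J) D
  let inr : A →+* D := (Algebra.TensorProduct.includeRight : A →ₐ[R] D).toRingHom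
  let π := pullback.fst g f
  obtain ⟨ε, hε₁, hε₂⟩ := exists_tensor_hom (P := R) (P' := R ⧸ J) (A := A) (RingHom.id (R ⧸ J))
    ((Ideal.Quotient.mk J).comp eA) (RingHom.ext fun r => (congrArg (Ideal.Quotient.mk J) (heA r)).symm)
  have hsec : ∀ t, π (q (sp ε t)) = t := fun t => by
    have h1 : sp ε ≫ q ≫ π = 𝟙 _ := by
      rw [hq₁, ← sp_comp, hε₁]
      exact Spec.map_id _
    exact congrArg (fun m : Spec (CommRingCat.of (R ⧸ J)) ⟶ Spec (CommRingCat.of (R ⧸ J)) => m t) h1
  haveI : Smooth π := MorphismProperty.pullback_fst _ _ ‹Smooth f›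
  haveI : GeometricallyIrreducible π := MorphismProperty.pullback_fst _ _ ‹GeometricallyIrreducible f›
  have hinr : ∀ x ∈ I, inr x = 0 := by
    intro x hx
    obtain ⟨h, hh1, hh⟩ := hyp x hx
    have h1 : inr (h * x) = 0 := by
      refine (Ideal.map_le_iff_le_comap.mpr (fun r hr => ?_) : J.map (algebraMap R A) ≤ RingHom.ker inr) hh
      show inr (algebraMap R A r) = 0
      rw [show inr (algebraMap R A r) = algebraMap R D r from
        (Algebra.TensorProduct.includeRight : A →ₐ[R] D).commutes r, IsScalarTower.algebraMap_apply R (R ⧸ J) D,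
        Ideal.Quotient.algebraMap_eq, Ideal.Quotient.eq_zero_iff_mem.mpr hr, map_zero]
    rw [map_mul] at h1
    refine eq_zero_of_schDense (inr h) (inr x) ?_ h1
    let V : (pullback g f).Opens := q ''ᵁ PrimeSpectrum.basicOpen (inr h)
    have hV : CInt.IsSchematicallyDense V := SmoothDense.isSchematicallyDense π V fun t => by
      refine ⟨q (sp ε t), ⟨sp ε t, ?_, rfl⟩, hsec t⟩
      show ε (inr h) ∉ t.asIdeal
      rw [show ε (inr h) = Ideal.Quotient.mk J (eA h) from RingHom.congr_fun hε₂ h,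
        show Ideal.Quotient.mk J (eA h) = 1 by rw [← map_one (Ideal.Quotient.mk J), Ideal.Quotient.eq]; exact hh1]
      exact t.isPrime.one_notMem
    have := SchDenseLib.preimage_of_flat_lfp q V hV
    rwa [Scheme.Hom.preimage_image_eq] at this
  obtain ⟨l0, hl0⟩ := (hI (CommRingCat.of D) (CommRingCat.ofHom inr)).mpr fun x hx => hinr x hx
  rw [TransLib.good_iff_isIso]
  refine isIso_of_schDense _ q (SmoothDense.isSchematicallyDense π _ fun t => ⟨_, ⟨sp ε t, rfl⟩, hsec t⟩)
    (pullback.lift l0 q (hl0.trans hq₂.symm)) (pullback.lift_snd _ _ _)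

set_option maxHeartbeats 1000000 in
/-- The universal ideal over a base with an étale chart along a section. -/
theorem exists_hasIdeal_chart {R : Type u} [CommRing R] {d : ℕ} {A : Type u} [CommRing A]
    [Algebra (MvPolynomial (Fin d) R) A] [Algebra.Etale (MvPolynomial (Fin d) R) A]
    (eA : A →+* R) (heA : eA.comp (algebraMap (MvPolynomial (Fin d) R) A) = ev₀ (Fin d) R)
    (b : Spec (CommRingCat.of R) ⟶ S) (a₀ : Spec (CommRingCat.of A) ⟶ X)
    (ha₀ : sp ((algebraMap (MvPolynomial (Fin d) R) A).comp C) ≫ b = a₀ ≫ f)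
    (hopen : IsOpenImmersion (pullback.lift _ _ ha₀)) :
    ∃ J : Ideal R, HasIdeal f y b J ∧ (LocallyOfFinitePresentation y → J.FG) := by
  classical
  let P := MvPolynomial (Fin d) R
  let algR : R →+* A := (algebraMap P A).comp C
  letI : Algebra R A := algR.toAlgebra
  have heA' : ∀ r, eA (algR r) = r := fun r => by
    show eA (algebraMap P A (C r)) = r
    rw [← RingHom.comp_apply eA, heA]
    exact MvPolynomial.eval₂Hom_C _ _ _
  obtain ⟨σ, hσ⟩ := exists_jets eA heA
  obtain ⟨I, hI⟩ := GrpSchLib.factors_closed_iff y (B := CommRingCat.of A) a₀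
  have hJex : ∀ n, ∃ Jn : Ideal R,
      (∀ (C : Type u) [CommRing C] (φ : R →+* C), Good f y (sp φ ≫ b) → Jn ≤ RingHom.ker φ) ∧
      ∀ J : Ideal R, Jn ≤ J → ∀ x ∈ I, redHom J n (σ n x) = 0 := fun n => by
    haveI := projective_truncation (R := R) (d := d) (n + 1)
    obtain ⟨Jn, hJn⟩ := GrpSchLib.exists_contentIdeal_of_projective (A := R) (σ n '' (I : Set A))
    refine ⟨Jn, fun C _ φ ⟨l, hl⟩ => ?_, fun J hJ x hx => ?_⟩
    · letI : Algebra R C := φ.toAlgebra
      refine (hJn C).mp ?_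
      rintro _ ⟨x, hx, rfl⟩
      obtain ⟨q, -, -, hq⟩ := exists_piece (C := C) f b a₀ ha₀ hopen
      have h1 : (1 : C) ⊗ₜ[R] x = 0 := by
        refine (hI (CommRingCat.of (C ⊗[R] A)) (CommRingCat.ofHom
          (Algebra.TensorProduct.includeRight : A →ₐ[R] C ⊗[R] A).toRingHom)).mp ⟨q ≫ l, ?_⟩ hx
        exact (Category.assoc _ _ _).trans ((congrArg (q ≫ ·) hl).trans hq)
      let σR : A →ₐ[R] MvPolynomial (Fin d) R ⧸ idealOfVars (Fin d) R ^ (n + 1) :=
        { (σ n).toRingHom with commutes' := fun r => (σ n).commutes (MvPolynomial.C r) }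
      have := congrArg (LinearMap.lTensor C σR.toLinearMap) h1
      rw [LinearMap.lTensor_tmul, map_zero] at this
      exact this
    · obtain ⟨u, -, hu⟩ := exists_tensor_hom (P := R) (P' := R ⧸ J) (T := MvPolynomial (Fin d) (R ⧸ J) ⧸ idealOfVars (Fin d) (R ⧸ J) ^ (n + 1))
        (A := MvPolynomial (Fin d) R ⧸ idealOfVars (Fin d) R ^ (n + 1))
        ((Ideal.Quotient.mk (idealOfVars (Fin d) (R ⧸ J) ^ (n + 1))).comp MvPolynomial.C) (redHom J n)
        (RingHom.ext fun r => by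
          show Ideal.Quotient.mk _ (C (Ideal.Quotient.mk J r)) = redHom J n (Ideal.Quotient.mk _ (C r))
          rw [redHom_mk, MvPolynomial.map_C])
      rw [← hu]
      show u ((1 : R ⧸ J) ⊗ₜ[R] σ n x) = 0
      rw [(hJn (R ⧸ J)).mpr (hJ.trans Ideal.mk_ker.ge) _ (Set.mem_image_of_mem _ hx), map_zero]
  choose Jn hJn₁ hJn₂ using hJex
  let J : Ideal R := ⨆ n, Jn n
  have hnec : ∀ (C : Type u) [CommRing C] (φ : R →+* C), Good f y (sp φ ≫ b) → J ≤ RingHom.ker φ :=
    fun C _ φ hg => iSup_le fun n => hJn₁ n C φ hg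
  have hker : ∀ n, ∀ x ∈ I, redHom J n (σ n x) = 0 := fun n => hJn₂ n J (le_iSup Jn n)
  have heI : ∀ x ∈ I, eA x ∈ J := fun x hx => by
    obtain ⟨χ, hχ⟩ := exists_retraction (R ⧸ J) d
    have h := factor_redHom J 0 (σ 0 x) (eA x) (AlgHom.congr_fun (hσ 0) x)
    rw [hker 0 x hx, map_zero] at h
    rw [← Ideal.Quotient.eq_zero_iff_mem, ← hχ (Ideal.Quotient.mk J (eA x))]
    exact (congrArg χ h).symm.trans (map_zero χ)
  have key : ∀ s : Finset A, (∀ x ∈ s, x ∈ I) →
      ∃ h : A, eA h - 1 ∈ J ∧ ∀ x ∈ s, h * x ∈ J.map algR := by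
    intro s hs
    let Q : Ideal A := Ideal.span ((fun x => x - algR (eA x)) '' (s : Set A))
    have hQe : ∀ z ∈ Q, eA z = 0 := fun z hz => by
      refine (Ideal.span_le.mpr ?_ : Q ≤ RingHom.ker eA) hz
      rintro _ ⟨x, -, rfl⟩
      rw [SetLike.mem_coe, RingHom.mem_ker, map_sub, heA', sub_self]
    have hτ : ∀ n, ∃ τ : A ⧸ Q →+* MvPolynomial (Fin d) (R ⧸ J) ⧸ idealOfVars (Fin d) (R ⧸ J) ^ (n + 1),
        τ.comp (algebraMap A (A ⧸ Q)) = (redHom J n).comp (σ n).toRingHom := fun n => by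
      refine ⟨Ideal.Quotient.lift Q ((redHom J n).comp (σ n).toRingHom) fun z hz => ?_, rfl⟩
      refine (Ideal.span_le.mpr ?_ : Q ≤ RingHom.ker ((redHom J n).comp (σ n).toRingHom)) hz
      rintro _ ⟨x, hx, rfl⟩
      show redHom J n (σ n (x - algebraMap P A (C (eA x)))) = 0
      rw [map_sub, map_sub, hker n x (hs x hx), zero_sub, neg_eq_zero, AlgHom.commutes,
        Ideal.Quotient.algebraMap_eq, redHom_mk, MvPolynomial.map_C,
        Ideal.Quotient.eq_zero_iff_mem.mpr (heI x (hs x hx)), map_zero, map_zero]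
    obtain ⟨h, hh1, hh⟩ := exists_annihilator (U := A) (B := A ⧸ Q) J (Ideal.Quotient.mkₐ A Q) eA heA
      (Ideal.Quotient.lift Q eA hQe) rfl
      (fun T _ τ τ' e => Ideal.Quotient.ringHom_ext e)
      (by
        show (RingHom.ker (Ideal.Quotient.mkₐ A Q)).FG
        have : RingHom.ker (Ideal.Quotient.mkₐ A Q) = Q := Ideal.mk_ker
        rw [this]
        exact Submodule.fg_span ((s.finite_toSet).image _))
      σ hσ hτ
    refine ⟨h, hh1, fun x hx => ?_⟩
    have h1 : h * (x - algR (eA x)) ∈ J.map algR :=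
      hh _ (Ideal.Quotient.eq_zero_iff_mem.mpr (Ideal.subset_span ⟨x, hx, rfl⟩))
    have h2 : h * algR (eA x) ∈ J.map algR := Ideal.mul_mem_left _ _ (Ideal.mem_map_of_mem _ (heI x (hs x hx)))
    have h3 := add_mem h1 h2
    rwa [← mul_add, sub_add_cancel] at h3
  have hgood : ∀ {J' : Ideal R}, Good f y (sp (Ideal.Quotient.mk J') ≫ b) →
      ∀ (C : Type u) [CommRing C] (φ : R →+* C), J' ≤ RingHom.ker φ → Good f y (sp φ ≫ b) := fun {J'} hg C _ φ hle => by
    have := hg.comp f y (sp (Ideal.Quotient.lift J' φ hle))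
    rwa [← Category.assoc, ← sp_comp,
      show (Ideal.Quotient.lift J' φ hle).comp (Ideal.Quotient.mk J') = φ from RingHom.ext fun _ => rfl] at this
  have hJgood : Good f y (sp (Ideal.Quotient.mk J) ≫ b) :=
    good_of_annihilators f y b a₀ ha₀ hopen eA heA' I hI J fun x hx => by
      obtain ⟨h, h1, h2⟩ := key {x} fun z hz => (Finset.mem_singleton.mp hz).symm ▸ hx
      exact ⟨h, h1, h2 x (Finset.mem_singleton_self x)⟩
  refine ⟨J, fun C _ φ => ⟨hnec C φ, hgood hJgood C φ⟩, fun hfp => ?_⟩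
  haveI := hfp
  obtain ⟨s, hs⟩ := GrpSchLib.fg_of_factors y a₀ I hI
  obtain ⟨h, hh1, hh⟩ := key s fun x hx => hs ▸ Submodule.subset_span hx
  obtain ⟨J₁, hJ₁, hJ₁f, hgJ₁⟩ := exists_fg_le_map_finset algR J (s.image (h * ·)) fun x hx => by
    obtain ⟨z, hz, rfl⟩ := Finset.mem_image.mp hx
    exact hh z hz
  let J₀ : Ideal R := J₁ ⊔ Ideal.span {eA h - 1}
  have hJ₀ : J₀ ≤ J := sup_le hJ₁ ((Ideal.span_singleton_le_iff_mem _).mpr hh1)
  have hJ₀g : Good f y (sp (Ideal.Quotient.mk J₀) ≫ b) :=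
    good_of_annihilators f y b a₀ ha₀ hopen eA heA' I hI J₀ fun x hx => by
      refine ⟨h, le_sup_right (a := J₁) (Ideal.mem_span_singleton_self _), ?_⟩
      rw [← hs] at hx
      induction hx using Submodule.span_induction with
      | mem z hz => exact Ideal.map_mono le_sup_left (hgJ₁ _ (Finset.mem_image_of_mem _ hz))
      | zero => rw [mul_zero]; exact zero_mem _
      | add a a' _ _ ha ha' => rw [mul_add]; exact add_mem ha ha'
      | smul c a _ ha => rw [smul_eq_mul, mul_left_comm]; exact Ideal.mul_mem_left _ _ ha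
  rw [le_antisymm ((hnec _ _ hJ₀g).trans Ideal.mk_ker.le) hJ₀]
  exact Submodule.FG.sup hJ₁f (Submodule.fg_span_singleton _)

set_option backward.isDefEq.respectTransparency false in
set_option backward.defeqAttrib.useBackward true in
/-- The universal ideal near a point of the base. -/
theorem exists_hasIdeal_nhd (s : S) :
    ∃ (A : Type u) (_ : CommRing A) (a : Spec (CommRingCat.of A) ⟶ S),
      IsOpenImmersion a ∧ s ∈ Set.range a ∧ ∃ I : Ideal A, HasIdeal f y a I ∧ (LocallyOfFinitePresentation y → I.FG) := by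
  obtain ⟨x, rfl⟩ := f.surjective s
  obtain ⟨S', g, s', hS', hg, hs', h, hh⟩ := SmoothSecLib.exists_etale_section_scheme f x
  let b₀ : Spec (CommRingCat.of Γ(S', ⊤)) ⟶ S := S'.isoSpec.inv ≫ g
  haveI : Etale b₀ := inferInstanceAs (Etale (_ ≫ _))
  let e : Spec (CommRingCat.of Γ(S', ⊤)) ⟶ pullback b₀ f :=
    pullback.lift (𝟙 _) (S'.isoSpec.inv ≫ h) (by rw [Category.id_comp, Category.assoc, hh])
  haveI : Smooth (pullback.fst b₀ f) := MorphismProperty.pullback_fst _ _ ‹Smooth f›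
  obtain ⟨R, _, β, hβ, ⟨p, hp⟩, K, hK⟩ :=
    exists_schart (pullback.fst b₀ f) e (pullback.lift_fst _ _ _) (S'.isoSpec.hom s')
  let b : Spec (CommRingCat.of R) ⟶ S := β ≫ b₀
  have ha₀ : sp ((algebraMap (MvPolynomial (Fin K.d) R) K.A).comp C) ≫ b = (K.a ≫ pullback.snd b₀ f) ≫ f := by
    rw [Category.assoc, ← pullback.condition, ← Category.assoc K.a, K.ha, Category.assoc]
  have hopen : IsOpenImmersion (pullback.lift _ _ ha₀) := by
    let m : pullback b f ⟶ pullback b₀ f := pullback.map b f b₀ f β (𝟙 X) (𝟙 S) (by simp [b]) (by simp)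
    haveI : IsOpenImmersion m := inferInstance
    haveI : IsOpenImmersion (pullback.lift _ _ ha₀ ≫ m) := by
      have : pullback.lift _ _ ha₀ ≫ m = K.a := pullback.hom_ext (by simp [m, pullback.map, K.ha]) (by simp [m, pullback.map])
      rwa [this]
    exact IsOpenImmersion.of_comp _ m
  obtain ⟨J, hJ, hJfg⟩ := exists_hasIdeal_chart f y K.eA K.heA b _ ha₀ hopen
  haveI : Etale b := inferInstanceAs (Etale (_ ≫ _))
  have hbp : b p = f x := by
    rw [Scheme.Hom.comp_apply, hp]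
    show (S'.isoSpec.hom ≫ S'.isoSpec.inv ≫ g) s' = f x
    rw [Iso.hom_inv_id_assoc, hs']
  -- shrink to affine opens
  obtain ⟨U, hU, hxU, -⟩ := exists_isAffineOpen_mem_and_subset (show f x ∈ (⊤ : S.Opens) from trivial)
  obtain ⟨_, ⟨_, ⟨r, rfl⟩, rfl⟩, hpr, hrU⟩ :=
    PrimeSpectrum.isBasis_basic_opens.exists_subset_of_mem_open
      (show p ∈ (b ⁻¹ᵁ U : Set _) from show b p ∈ U from hbp ▸ hxU) (b ⁻¹ᵁ U).isOpen
  let R₃ := Localization.Away r
  let ρ : R →+* R₃ := algebraMap R R₃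
  haveI : IsOpenImmersion (sp ρ) := IsOpenImmersion.of_isLocalization (R := R) (S := R₃) r
  obtain ⟨p₃, hp₃⟩ : p ∈ Set.range (sp ρ) := by
    show p ∈ Set.range (PrimeSpectrum.comap ρ)
    rw [PrimeSpectrum.localization_away_comap_range R₃ r]
    exact hpr
  have hrange : Set.range (sp ρ ≫ b) ⊆ Set.range hU.fromSpec := by
    rintro _ ⟨z, rfl⟩
    rw [hU.range_fromSpec]
    exact hrU ((PrimeSpectrum.localization_away_comap_range R₃ r).le ⟨z, rfl⟩)
  obtain ⟨ψ, hψ⟩ := exists_ringHom (A := Γ(S, U)) (IsOpenImmersion.lift hU.fromSpec (sp ρ ≫ b) hrange)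
  have hψU : sp ψ ≫ hU.fromSpec = sp ρ ≫ b := by rw [hψ, IsOpenImmersion.lift_fac]
  haveI : Etale (sp ψ ≫ hU.fromSpec) := by rw [hψU]; exact inferInstanceAs (Etale (_ ≫ _))
  haveI : Etale (sp ψ) := Etale.of_comp (sp ψ) hU.fromSpec
  obtain ⟨_, ⟨_, ⟨t, rfl⟩, rfl⟩, hst, htψ⟩ :=
    PrimeSpectrum.isBasis_basic_opens.exists_subset_of_mem_open
      (show sp ψ p₃ ∈ Set.range (sp ψ) from ⟨p₃, rfl⟩) (sp ψ).isOpenMap.isOpen_range
  letI : Algebra Γ(S, U) R₃ := ψ.toAlgebra
  let A := Localization.Away t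
  let A' := A ⊗[Γ(S, U)] R₃
  haveI : Module.Flat Γ(S, U) R₃ :=
    RingHom.flat_algebraMap_iff.mp ((HasRingHomProperty.Spec_iff (P := @Flat) (φ := CommRingCat.ofHom ψ)).1 inferInstance)
  have hsq : IsPullback (sp (algebraMap A A'))
      (sp (Algebra.TensorProduct.includeRight : R₃ →ₐ[Γ(S, U)] A').toRingHom) (sp (algebraMap Γ(S, U) A))
      (sp (algebraMap Γ(S, U) R₃)) :=
    isPullback_SpecMap_of_isPushout _ _ _ _ (CommRingCat.isPushout_tensorProduct Γ(S, U) A R₃)
  haveI : Module.FaithfullyFlat A A' := by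
    rw [← RingHom.faithfullyFlat_algebraMap_iff, RingHom.FaithfullyFlat.iff_flat_and_comap_surjective]
    refine ⟨RingHom.flat_algebraMap_iff.mpr inferInstance, fun z => ?_⟩
    obtain ⟨w, hw⟩ := htψ ((PrimeSpectrum.localization_away_comap_range A t).le ⟨z, rfl⟩)
    obtain ⟨v, hv, -⟩ := Scheme.Pullback.exists_preimage_pullback (f := sp (algebraMap Γ(S, U) A))
      (g := sp ψ) z w hw.symm
    refine ⟨hsq.isoPullback.inv v, ?_⟩
    show sp (algebraMap A A') (hsq.isoPullback.inv v) = z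
    rw [← Scheme.Hom.comp_apply, IsPullback.isoPullback_inv_fst]
    exact hv
  haveI : IsOpenImmersion (sp (algebraMap Γ(S, U) A)) := IsOpenImmersion.of_isLocalization (R := Γ(S, U)) (S := A) t
  let a : Spec (CommRingCat.of A) ⟶ S := sp (algebraMap Γ(S, U) A) ≫ hU.fromSpec
  let θ : R →+* A' := (Algebra.TensorProduct.includeRight : R₃ →ₐ[Γ(S, U)] A').toRingHom.comp ρ
  have hJ' : HasIdeal f y (sp (algebraMap A A') ≫ a) (J.map θ) := by
    have h1 := hJ.map θ
    have e : sp (algebraMap A A') ≫ a = sp θ ≫ b := by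
      show sp (algebraMap A A') ≫ sp (algebraMap Γ(S, U) A) ≫ hU.fromSpec = sp (_) ≫ b
      rw [hsq.w_assoc, sp_comp, Category.assoc, ← hψU]
      rfl
    rw [e]
    exact h1
  obtain ⟨I, hI, hIfg⟩ := TransLib.hasIdeal_of_faithfullyFlat a (J.map θ) hJ'
  refine ⟨A, inferInstance, a, inferInstance, ?_, I, hI, fun hfp => hIfg ((hJfg hfp).map θ)⟩
  obtain ⟨z, hz⟩ : sp ψ p₃ ∈ Set.range (sp (algebraMap Γ(S, U) A)) := by
    show _ ∈ Set.range (PrimeSpectrum.comap (algebraMap Γ(S, U) A))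
    rw [PrimeSpectrum.localization_away_comap_range A t]
    exact hst
  refine ⟨z, ?_⟩
  rw [Scheme.Hom.comp_apply, hz, ← Scheme.Hom.comp_apply, hψU, Scheme.Hom.comp_apply, hp₃, hbp]

omit [Smooth f] [GeometricallyIrreducible f] in
/-- Universal ideals on a covering of the base give one on every affine open. -/
theorem hasIdeals_of_cover
    (h : ∀ x : S, ∃ (A : Type u) (_ : CommRing A) (a : Spec (CommRingCat.of A) ⟶ S),
      IsOpenImmersion a ∧ x ∈ Set.range a ∧ ∃ I : Ideal A, HasIdeal f y a I) : HasIdeals f y := by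
  choose A _ a ha hra I hI using h
  intro U
  let good : Set Γ(S, U) := {r | ∃ s : S, (S.basicOpen r : Set S) ⊆ Set.range (a s)}
  have hspan : Ideal.span good = ⊤ := by
    rw [← U.2.self_le_iSup_basicOpen_iff]
    intro x hx
    obtain ⟨r, hr, hxr⟩ := U.2.exists_basicOpen_le (V := (a x).opensRange) ⟨x, hra x⟩ hx
    exact TopologicalSpace.Opens.mem_iSup.mpr ⟨⟨r, x, hr⟩, hxr⟩
  refine GrpSchLib.hasIdeal_of_span U.2.fromSpec good hspan fun ⟨r, s, hrs⟩ => ?_
  haveI := ha s
  let ar : Spec (CommRingCat.of (Localization.Away r)) ⟶ S :=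
    Spec.map (CommRingCat.ofHom (algebraMap Γ(S, U) (Localization.Away r))) ≫ U.2.fromSpec
  have hr : Set.range ar ⊆ Set.range (a s) := by
    rintro _ ⟨p, rfl⟩
    refine hrs ?_
    rw [← U.2.fromSpec_image_basicOpen r]
    exact ⟨Spec.map (CommRingCat.ofHom (algebraMap Γ(S, U) (Localization.Away r))) p,
      (PrimeSpectrum.localization_away_comap_range (Localization.Away r) r).le ⟨p, rfl⟩, rfl⟩
  obtain ⟨ψ, hψ⟩ := Spec.map_surjective (IsOpenImmersion.lift (a s) ar hr)
  refine ⟨(I s).map ψ.hom, ?_⟩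
  have := (hI s).map ψ.hom
  rwa [CommRingCat.ofHom_hom, hψ, IsOpenImmersion.lift_fac] at this

/-- The Weil restriction of a closed subscheme along a smooth morphism with geometrically irreducible fibres. -/
theorem exists_weilRestriction_smooth :
    ∃ (T : Scheme.{u}) (t : T ⟶ S), IsClosedImmersion t ∧
      (∀ (S' : Scheme.{u}) (g : S' ⟶ S), (∃ g' : S' ⟶ T, g' ≫ t = g) ↔ Good f y g) ∧
      (LocallyOfFinitePresentation y → LocallyOfFinitePresentation t) := by
  have hchart := exists_hasIdeal_nhd f y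
  obtain ⟨T, t, ht, htf⟩ := GrpSchLib.exists_weilRestriction (hasIdeals_of_cover f y fun s => by
    obtain ⟨A, _, a, ha, hs, I, hI, -⟩ := hchart s
    exact ⟨A, inferInstance, a, ha, hs, I, hI⟩)
  refine ⟨T, t, ht, htf, fun hfp => GrpSchLib.locallyOfFinitePresentation_of_hasIdeal htf fun s => ?_⟩
  obtain ⟨A, _, a, ha, hs, I, hI, hfg⟩ := hchart s
  exact ⟨A, inferInstance, a, ha, hs, I, hI, hfg hfp⟩

end Groth.Agent.GrpFieldLib.SmoothWeil
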