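import Groth.Agent.GrpFieldLib.Pruefer

/-! Points of proper schemes over domains with valuation local rings extend from the fraction field. -/

universe u

open CategoryTheory CategoryTheory.Limits AlgebraicGeometry

namespace Groth.Agent.GrpFieldLib.TDExtend

variable (C : Type u) [CommRing C] [IsDomain C] (L : Type u) [Field L] [Algebra C L] [IsFractionRing C L]

/-- The generic point. -/
noncomputable abbrev gen : Spec (CommRingCat.of L) ⟶ Spec (CommRingCat.of C) :=
  Spec.map (CommRingCat.ofHom (algebraMap C L))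

theorem exists_local (hval : ∀ (q : Ideal C) [q.IsPrime], ValuationRing (Localization.AtPrime q))
    {Z : Scheme.{u}} (g : Z ⟶ Spec (CommRingCat.of C)) [IsProper g]
    (σ : Spec (CommRingCat.of L) ⟶ Z) (hσ : σ ≫ g = gen C L) (x : Spec (CommRingCat.of C)) :
    ∃ (U : (Spec (CommRingCat.of C)).Opens) (f : U.toScheme ⟶ Z) (l : Spec (CommRingCat.of L) ⟶ U.toScheme),
      x ∈ U ∧ f ≫ g = U.ι ∧ l ≫ U.ι = gen C L ∧ l ≫ f = σ := by
  let St := (Spec (CommRingCat.of C)).presheaf.stalk x
  let algC : Algebra C St := StructureSheaf.stalkAlgebra C x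
  haveI hloc : IsLocalization.AtPrime St x.asIdeal := StructureSheaf.IsLocalization.to_stalk C x
  haveI : IsDomain St := IsLocalization.isDomain_of_atPrime St x.asIdeal
  haveI := hval x.asIdeal
  haveI : ValuationRing St :=
    (IsLocalization.algEquiv x.asIdeal.primeCompl (Localization.AtPrime x.asIdeal) St).surjective.valuationRing
      (IsLocalization.algEquiv x.asIdeal.primeCompl (Localization.AtPrime x.asIdeal) St).toRingEquiv.toRingHom
  have hu : ∀ s : x.asIdeal.primeCompl, IsUnit (algebraMap C L s) := fun s =>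
    isUnit_iff_ne_zero.2 (by
      rw [Ne, map_eq_zero_iff _ (IsFractionRing.injective C L)]
      exact fun h => s.2 (h ▸ x.asIdeal.zero_mem))
  let algL : Algebra St L := (IsLocalization.lift hu : St →+* L).toAlgebra
  haveI : IsScalarTower C St L := IsScalarTower.of_algebraMap_eq fun c => (IsLocalization.lift_eq hu c).symm
  haveI : IsFractionRing St L :=
    IsFractionRing.isFractionRing_of_isDomain_of_isLocalization x.asIdeal.primeCompl St L
  have hfrom : (Spec (CommRingCat.of C)).fromSpecStalk x =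
      Spec.map (CommRingCat.ofHom (algebraMap C St)) := Spec.fromSpecStalk_eq' _ x
  have hgen : Spec.map (CommRingCat.ofHom (algebraMap St L)) ≫ (Spec (CommRingCat.of C)).fromSpecStalk x =
      gen C L := by
    rw [hfrom, ← Spec.map_comp, gen, ← CommRingCat.ofHom_comp, ← IsScalarTower.algebraMap_eq]
  have hw : CommSq σ (Spec.map (CommRingCat.ofHom (algebraMap St L))) g
      ((Spec (CommRingCat.of C)).fromSpecStalk x) := ⟨by rw [hσ, hgen]⟩
  let S : ValuativeCommSq g := { R := St, K := L, i₁ := σ, i₂ := _, commSq := hw }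
  have he : ValuativeCriterion g :=
    ((congrFun (congrFun (congrFun IsProper.eq_valuativeCriterion _) _) g).mp ‹IsProper g›).1.1.1
  obtain ⟨⟨v, hv1, hv2⟩⟩ := (ValuativeCriterion.existence he S).exists_lift
  obtain ⟨U, hxU, f, hf, hf2⟩ := spread_out_of_isGermInjective' (𝟙 (Spec (CommRingCat.of C))) g v
    (by rw [Category.comp_id]; exact hv2)
  rw [Category.comp_id] at hf2
  refine ⟨U, f, Spec.map (CommRingCat.ofHom (algebraMap St L)) ≫ U.fromSpecStalkOfMem x hxU, hxU, hf2, ?_, ?_⟩
  · rw [Category.assoc, Scheme.Opens.fromSpecStalkOfMem_ι, hgen]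
  · rw [Category.assoc, ← hf]
    exact hv1

/-- Extension of a point of a proper scheme from the fraction field. -/
theorem exists_extension (hval : ∀ (q : Ideal C) [q.IsPrime], ValuationRing (Localization.AtPrime q))
    {Z : Scheme.{u}} (g : Z ⟶ Spec (CommRingCat.of C)) [IsProper g]
    (σ : Spec (CommRingCat.of L) ⟶ Z) (hσ : σ ≫ g = gen C L) :
    ∃ τ : Spec (CommRingCat.of C) ⟶ Z, τ ≫ g = 𝟙 _ ∧ gen C L ≫ τ = σ := by
  choose U f l hU hfg hlι hlf using exists_local C L hval g σ hσ
  let 𝒰 := (Spec (CommRingCat.of C)).openCoverOfIsOpenCover U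
    (by ext y; simp only [TopologicalSpace.Opens.mem_iSup, TopologicalSpace.Opens.coe_top, Set.mem_univ,
      iff_true, SetLike.mem_coe]; exact ⟨y, hU y⟩)
  haveI : IsDominant (gen C L) := by
    rw [gen, isDominant_iff]
    exact (PrimeSpectrum.denseRange_comap_iff_ker_le_nilRadical _).2
      (by rw [(RingHom.injective_iff_ker_eq_bot _).1 (show Function.Injective (CommRingCat.ofHom (algebraMap C L)).hom
        from IsFractionRing.injective C L)]; exact bot_le)
  have hcompat : ∀ a b, pullback.fst (𝒰.f a) (𝒰.f b) ≫ f a = pullback.snd (𝒰.f a) (𝒰.f b) ≫ f b := by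
    intro a b
    let m : pullback (U a).ι (U b).ι ⟶ Spec (CommRingCat.of C) := pullback.fst _ _ ≫ (U a).ι
    let lab : Spec (CommRingCat.of L) ⟶ pullback (U a).ι (U b).ι :=
      pullback.lift (l a) (l b) ((hlι a).trans (hlι b).symm)
    have hlab : lab ≫ m = gen C L := by rw [pullback.lift_fst_assoc, hlι]
    haveI : IsReduced (pullback (U a).ι (U b).ι) := isReduced_of_isOpenImmersion m
    haveI : IsDominant lab := by
      refine ⟨fun y => ?_⟩
      refine mem_closure_iff.2 fun o ho hy => ?_
      obtain ⟨_, ⟨z, hz, hz'⟩, pt, rfl⟩ := mem_closure_iff.1 ((gen C L).denseRange (m y)) (m '' o)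
        (m.isOpenEmbedding.isOpenMap o ho) ⟨y, hy, rfl⟩
      refine ⟨lab pt, ?_, pt, rfl⟩
      have h2 : m z = m (lab pt) := by rw [hz', ← hlab]; rfl
      exact m.isOpenEmbedding.injective h2 ▸ hz
    show pullback.fst (U a).ι (U b).ι ≫ f a = pullback.snd (U a).ι (U b).ι ≫ f b
    refine ext_of_isDominant_of_isSeparated g ?_ lab ?_
    · rw [Category.assoc, Category.assoc, hfg, hfg, pullback.condition]
    · rw [pullback.lift_fst_assoc, pullback.lift_snd_assoc, hlf, hlf]
  let τ : Spec (CommRingCat.of C) ⟶ Z := Scheme.Cover.glueMorphisms 𝒰 f hcompat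
  have hτ : ∀ a, (U a).ι ≫ τ = f a := Scheme.Cover.ι_glueMorphisms 𝒰 f hcompat
  refine ⟨τ, ?_, ?_⟩
  · refine Scheme.Cover.hom_ext 𝒰 _ _ fun a => ?_
    show (U a).ι ≫ _ = (U a).ι ≫ _
    rw [reassoc_of% hτ a, hfg, Category.comp_id]
  · let pt : Spec (CommRingCat.of C) := ⟨⊥, Ideal.isPrime_bot⟩
    rw [← hlι pt, Category.assoc, hτ, hlf]

end Groth.Agent.GrpFieldLib.TDExtend
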