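import Groth.Agent.GrpFieldLib.TDExtend
import Groth.Agent.SchTorsor.Props
import Groth.Agent.NeronBasic.Basic
import Groth.Prelude.Def_ActBC

/-! Torsors under proper flat groups over a Dedekind domain are determined by their generic fibres. -/

universe u

open CategoryTheory MonoidalCategory CartesianMonoidalCategory MonObj GrpObj AlgebraicGeometry
open CategoryTheory.Limits
open Groth.Agent.GrpFieldLib

namespace Groth.Agent.GrpFieldLib.TDTorsor

variable (R : Type u) [CommRing R] [IsDedekindDomain R]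

/-- The algebraic closure of the fraction field. -/
abbrev Lc : Type u := AlgebraicClosure (FractionRing R)

/-- The integral closure in the algebraic closure. -/
abbrev Cc : Type u := integralClosure R (Lc R)

/-- The test object. -/
noncomputable abbrev T₀ : Over (Spec (CommRingCat.of R)) :=
  Over.mk (Spec.map (CommRingCat.ofHom (algebraMap R (Cc R))))

instance : FaithfulSMul R (Lc R) :=
  (faithfulSMul_iff_algebraMap_injective R (Lc R)).2 (by
    rw [IsScalarTower.algebraMap_eq R (FractionRing R) (Lc R)]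
    exact (algebraMap (FractionRing R) (Lc R)).injective.comp (IsFractionRing.injective R (FractionRing R)))

theorem injective_C : Function.Injective (algebraMap R (Cc R)) := fun a b h =>
  FaithfulSMul.algebraMap_injective R (Lc R) (congrArg Subtype.val h)

instance : Algebra.IsAlgebraic R (Lc R) :=
  IsFractionRing.comap_isAlgebraic_iff.mpr (inferInstance : Algebra.IsAlgebraic (FractionRing R) (Lc R))

instance : IsFractionRing (Cc R) (Lc R) :=
  integralClosure.isFractionRing_of_algebraic fun _ h =>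
    (map_eq_zero_iff _ (FaithfulSMul.algebraMap_injective R (Lc R))).1 h

instance : IsIntegrallyClosed (Cc R) :=
  (isIntegrallyClosed_iff (Lc R)).2 fun {x} hx => ⟨⟨x, isIntegral_trans (R := R) x hx⟩, rfl⟩

theorem hval (q : Ideal (Cc R)) [q.IsPrime] : ValuationRing (Localization.AtPrime q) :=
  Pruefer.valuationRing_localization (injective_C R) q

instance : Flat (T₀ R).hom := by
  have : Module.Flat R (Cc R) := by
    haveI : Module.IsTorsionFree R (Cc R) := Module.isTorsionFree_iff_faithfulSMul.2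
      ((faithfulSMul_iff_algebraMap_injective R (Cc R)).2 (injective_C R))
    rw [Module.Flat.flat_iff_torsion_eq_bot_of_valuationRing_localization_isMaximal]
    · exact Submodule.isTorsionFree_iff_torsion_eq_bot.1 inferInstance
    · intro P hP
      haveI := hP
      by_cases h0 : P = ⊥
      · have : IsField R := by
          rw [Ring.isField_iff_maximal_bot]
          exact h0 ▸ hP
        let := this.toField
        exact Pruefer.valuationRing_localization (R := R) (C := R) (fun _ _ h => h) P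
      · haveI := IsLocalization.AtPrime.isDiscreteValuationRing_of_dedekind_domain R h0 (Localization.AtPrime P)
        infer_instance
  show Flat (Spec.map (CommRingCat.ofHom (algebraMap R (Cc R))))
  rw [HasRingHomProperty.Spec_iff (P := @Flat)]
  exact RingHom.flat_algebraMap_iff.2 this

instance : Surjective (T₀ R).hom := by
  show Surjective (Spec.map (CommRingCat.ofHom (algebraMap R (Cc R))))
  refine ⟨fun p => ?_⟩
  obtain ⟨Q, hQ1, hQ2⟩ := Ideal.exists_ideal_over_prime_of_isIntegral_of_isDomain (S := Cc R) p.asIdeal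
    (by rw [(RingHom.injective_iff_ker_eq_bot _).1 (injective_C R)]; exact bot_le)
  exact ⟨⟨Q, hQ1⟩, PrimeSpectrum.ext hQ2⟩

instance : QuasiCompact (T₀ R).hom := inferInstanceAs (QuasiCompact (Spec.map _))

/-- The generic point of the test object. -/
noncomputable abbrev genT : Spec (CommRingCat.of (Lc R)) ⟶ (T₀ R).left := TDExtend.gen (Cc R) (Lc R)

theorem genT_comp : genT R ≫ (T₀ R).hom =
    Spec.map (CommRingCat.ofHom (algebraMap (FractionRing R) (Lc R))) ≫ (Neron.genPt R) := by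
  show Spec.map _ ≫ Spec.map _ = _ ≫ Spec.map _
  rw [← Spec.map_comp, ← Spec.map_comp, ← CommRingCat.ofHom_comp, ← CommRingCat.ofHom_comp,
    ← IsScalarTower.algebraMap_eq, ← IsScalarTower.algebraMap_eq]

/-- `Spec L` is the generic fibre of the test object. -/
theorem isPullback_gen : IsPullback (genT R) (Spec.map (CommRingCat.ofHom (algebraMap (FractionRing R) (Lc R))))
    (T₀ R).hom (Neron.genPt R) := by
  haveI : IsLocalization (Algebra.algebraMapSubmonoid (Cc R) (nonZeroDivisors R)) (Lc R) := by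
    refine (isLocalization_iff _ _).2 ⟨?_, fun z => ?_, fun {x y} h => ⟨1, ?_⟩⟩
    · rintro ⟨_, r, hr, rfl⟩
      refine isUnit_iff_ne_zero.2 ?_
      rw [Ne, ← IsScalarTower.algebraMap_apply,
        map_eq_zero_iff _ (FaithfulSMul.algebraMap_injective R (Lc R))]
      exact nonZeroDivisors.ne_zero hr
    · obtain ⟨a, b, hb, rfl⟩ := IsFractionRing.div_surjective (Cc R) z
      obtain ⟨r, hr0, c, hc⟩ :=
        IsAlgebraic.exists_nonzero_dvd (Algebra.IsIntegral.isIntegral (R := R) b).isAlgebraic hb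
      refine ⟨(a * c, ⟨algebraMap R (Cc R) r, r, mem_nonZeroDivisors_of_ne_zero hr0, rfl⟩), ?_⟩
      have hb0 : algebraMap (Cc R) (Lc R) b ≠ 0 :=
        (map_ne_zero_iff _ (IsFractionRing.injective (Cc R) (Lc R))).2 (nonZeroDivisors.ne_zero hb)
      simp only [hc, map_mul]
      field_simp
    · rw [IsFractionRing.injective (Cc R) (Lc R) h]
  refine isPullback_SpecMap_of_isPushout _ _ _ _ (CommRingCat.isPushout_iff_isPushout.2 ?_)
  exact (Algebra.isPushout_of_isLocalization (nonZeroDivisors R) _ _ _ :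
    Algebra.IsPushout R (Cc R) (FractionRing R) (Lc R))

variable {R}

/-- The base-change adjunction counit. -/
noncomputable abbrev cc (W : Over (Spec (CommRingCat.of R))) :
    (Over.map (Neron.genPt R)).obj ((Over.pullback (Neron.genPt R)).obj W) ⟶ W :=
  (Over.mapPullbackAdj (Neron.genPt R)).counit.app W

theorem cc_nat {W W' : Over (Spec (CommRingCat.of R))} (h : W ⟶ W') :
    (Over.map (Neron.genPt R)).map ((Over.pullback (Neron.genPt R)).map h) ≫ cc W' = cc W ≫ h :=
  (Over.mapPullbackAdj (Neron.genPt R)).counit.naturality h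

theorem he_cc {W W' : Over (Spec (CommRingCat.of R))} (h : W ⟶ W') :
    (Over.mapPullbackAdj (Neron.genPt R)).homEquiv _ _ (cc W ≫ h) = (Over.pullback (Neron.genPt R)).map h := by
  rw [← cc_nat]
  exact ((Over.mapPullbackAdj (Neron.genPt R)).homEquiv_naturality_left _ _).trans (by
    rw [Adjunction.homEquiv_unit, Adjunction.right_triangle_components]; exact Category.comp_id _)

theorem eq_of_cc {W Q : Over (Spec (CommRingCat.of R))} [Flat W.hom] [IsSeparated Q.hom] {a b : W ⟶ Q}
    (h : cc W ≫ a = cc W ≫ b) : a = b :=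
  NeronBasic.eq_of_map_genericFibre R W Q a b (by
    show (Over.pullback (Neron.genPt R)).map a = (Over.pullback (Neron.genPt R)).map b
    rw [← he_cc, ← he_cc, h])

variable {G : Over (Spec (CommRingCat.of R))} [GrpObj G] [IsProper G.hom] [Flat G.hom]

theorem proper_flat (P : NonAbH1.TorsorSch G Scheme.fppfPrecoverage) :
    IsProper P.X.hom ∧ Flat P.X.hom ∧ Surjective P.X.hom := by
  have h : NonAbH1.IsTorsorFor Scheme.fpqcPrecoverage P.act := by
    obtain ⟨h1, C, hC, hC'⟩ := P.isTorsor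
    exact ⟨h1, C, Scheme.fppfPrecoverage_le_fpqcPrecoverage _ hC, hC'⟩
  haveI := EtFound.fpqc_isProper.{u}
  exact ⟨SchTorsor.torsor_property @IsProper h inferInstance, SchTorsor.torsor_property @Flat h inferInstance,
    SchTorsor.surjective_hom h⟩

theorem exists_T_point (P : NonAbH1.TorsorSch G Scheme.fppfPrecoverage) : Nonempty (T₀ R ⟶ P.X) := by
  obtain ⟨_, _, _⟩ := proper_flat P
  let ℓ : Spec (CommRingCat.of (Lc R)) ⟶ (Spec (CommRingCat.of R)) := genT R ≫ (T₀ R).hom
  let Z : Scheme.{u} := pullback P.X.hom ℓ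
  haveI : Nonempty Z := by
    obtain ⟨z, -⟩ := (pullback.snd P.X.hom ℓ).surjective (IsLocalRing.closedPoint (Lc R))
    exact ⟨z⟩
  haveI : JacobsonSpace Z := LocallyOfFiniteType.jacobsonSpace (pullback.snd P.X.hom ℓ)
  obtain ⟨c, -, hc⟩ := nonempty_inter_closedPoints (Set.univ_nonempty (α := Z)) isOpen_univ.isLocallyClosed
  obtain ⟨z, hz⟩ := (pointEquivClosedPoint (pullback.snd P.X.hom ℓ)).symm ⟨c, hc⟩
  have hpL : (z ≫ pullback.fst P.X.hom ℓ) ≫ P.X.hom = ℓ := by
    rw [Category.assoc, pullback.condition, reassoc_of% hz]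
  obtain ⟨τ, hτ, -⟩ := TDExtend.exists_extension (Cc R) (Lc R) (hval R) (pullback.snd P.X.hom (T₀ R).hom)
    (pullback.lift (z ≫ pullback.fst P.X.hom ℓ) (genT R) hpL) (pullback.lift_snd _ _ _)
  exact ⟨Over.homMk (τ ≫ pullback.fst _ _) (by
    rw [Category.assoc, pullback.condition, reassoc_of% hτ])⟩

theorem exists_G_extension (g : (Over.map (Neron.genPt R)).obj ((Over.pullback (Neron.genPt R)).obj (T₀ R)) ⟶ G) :
    ∃ g' : T₀ R ⟶ G, cc (T₀ R) ≫ g' = g := by
  let j : Spec (CommRingCat.of (Lc R)) ⟶ pullback (T₀ R).hom (Neron.genPt R) := (isPullback_gen R).isoPullback.hom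
  have hj : j ≫ pullback.fst (T₀ R).hom (Neron.genPt R) = genT R := (isPullback_gen R).isoPullback_hom_fst
  haveI : IsIso j := inferInstanceAs (IsIso (isPullback_gen R).isoPullback.hom)
  let gl : pullback (T₀ R).hom (Neron.genPt R) ⟶ G.left := g.left
  have hgl : gl ≫ G.hom = pullback.snd (T₀ R).hom (Neron.genPt R) ≫ (Neron.genPt R) := Over.w g
  obtain ⟨τ, hτ, hτ2⟩ := TDExtend.exists_extension (Cc R) (Lc R) (hval R) (pullback.snd G.hom (T₀ R).hom)
    (pullback.lift (j ≫ gl) (genT R) (by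
      rw [Category.assoc, hgl, ← pullback.condition, ← Category.assoc, hj]))
    (pullback.lift_snd _ _ _)
  refine ⟨Over.homMk (τ ≫ pullback.fst _ _) (by rw [Category.assoc, pullback.condition, reassoc_of% hτ]), ?_⟩
  ext1
  show (cc (T₀ R)).left ≫ τ ≫ pullback.fst _ _ = gl
  have hcc : (cc (T₀ R)).left = pullback.fst (T₀ R).hom (Neron.genPt R) := by simp [cc]
  rw [hcc, ← cancel_epi j, reassoc_of% hj, ← Category.assoc (genT R), hτ2, pullback.lift_fst]

section main

variable {P Q : NonAbH1.TorsorSch G Scheme.fppfPrecoverage}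
  (e : NonAbH1.EquivIso (P.act.bc (Neron.genPt R)) (Q.act.bc (Neron.genPt R)))

/-- The generic isomorphism on points. -/
noncomputable def phi {U : Over (Spec (CommRingCat.of (FractionRing R)))}
    (x : (Over.map (Neron.genPt R)).obj U ⟶ P.X) : (Over.map (Neron.genPt R)).obj U ⟶ Q.X :=
  ((Over.mapPullbackAdj (Neron.genPt R)).homEquiv U Q.X).symm ((Over.mapPullbackAdj (Neron.genPt R)).homEquiv U P.X x ≫ e.iso.hom)

theorem phi_nat {U V : Over (Spec (CommRingCat.of (FractionRing R)))} (k : V ⟶ U)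
    (x : (Over.map (Neron.genPt R)).obj U ⟶ P.X) : (Over.map (Neron.genPt R)).map k ≫ phi e x = phi e ((Over.map (Neron.genPt R)).map k ≫ x) := by
  rw [phi, phi, ← Adjunction.homEquiv_naturality_left_symm, Adjunction.homEquiv_naturality_left,
    Category.assoc]

theorem phi_act {U : Over (Spec (CommRingCat.of (FractionRing R)))} (g : (Over.map (Neron.genPt R)).obj U ⟶ G)
    (x : (Over.map (Neron.genPt R)).obj U ⟶ P.X) : phi e (lift g x ≫ P.act.act) = lift g (phi e x) ≫ Q.act.act := by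
  apply ((Over.mapPullbackAdj (Neron.genPt R)).homEquiv U Q.X).injective
  rw [phi, Equiv.apply_symm_apply, ← AlgGrp.Action.lift_homEquiv_bc_act, ← AlgGrp.Action.lift_homEquiv_bc_act,
    phi, Equiv.apply_symm_apply, Category.assoc, e.comm, lift_whiskerLeft_assoc]

theorem exists_descended : ∃ f : P.X ⟶ Q.X, (Over.pullback (Neron.genPt R)).map f = e.iso.hom := by
  obtain ⟨hPp, hPf, hPs⟩ := proper_flat P
  obtain ⟨hQp, hQf, hQs⟩ := proper_flat Q
  obtain ⟨p⟩ := exists_T_point P
  obtain ⟨q⟩ := exists_T_point Q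
  obtain ⟨g, hg⟩ := SchTorsor.exists_div Q.isTorsor.1 (phi e (cc (T₀ R) ≫ p)) (cc (T₀ R) ≫ q)
  obtain ⟨g', hg'⟩ := exists_G_extension g
  let q' : T₀ R ⟶ Q.X := lift g' q ≫ Q.act.act
  have hq' : cc (T₀ R) ≫ q' = phi e (cc (T₀ R) ≫ p) := by
    rw [← hg, ← hg']
    simp only [q', comp_lift_assoc]
  obtain ⟨d, hd⟩ := SchTorsor.exists_div P.isTorsor.1 (snd (T₀ R) P.X) (fst (T₀ R) P.X ≫ p)
  let W := T₀ R ⊗ P.X
  let Φ : W ⟶ Q.X := lift d (fst (T₀ R) P.X ≫ q') ≫ Q.act.act
  have hΦ : cc W ≫ Φ = phi e (cc W ≫ snd (T₀ R) P.X) := by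
    have h1 : cc W ≫ fst (T₀ R) P.X ≫ q' = phi e (cc W ≫ fst (T₀ R) P.X ≫ p) := by
      rw [← Category.assoc, ← cc_nat, Category.assoc, hq', phi_nat, ← Category.assoc, cc_nat, Category.assoc]
    simp only [Φ, comp_lift_assoc]
    rw [h1, ← phi_act, ← comp_lift_assoc, hd]
  have hWflat : Flat W.hom := inferInstanceAs (Flat (pullback.fst (T₀ R).hom P.X.hom ≫ (T₀ R).hom))
  -- the cocycle condition
  have hcoc : ∀ {U : Over (Spec (CommRingCat.of R))} (a b : U ⟶ W),
      a ≫ snd (T₀ R) P.X = b ≫ snd (T₀ R) P.X → a ≫ Φ = b ≫ Φ := by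
    intro U a b hab
    let W₂ := (T₀ R ⊗ T₀ R) ⊗ P.X
    haveI : Flat (T₀ R ⊗ T₀ R).hom :=
      inferInstanceAs (Flat (pullback.fst (T₀ R).hom (T₀ R).hom ≫ (T₀ R).hom))
    haveI : Flat W₂.hom := inferInstanceAs (Flat (pullback.fst (T₀ R ⊗ T₀ R).hom P.X.hom ≫ (T₀ R ⊗ T₀ R).hom))
    let a₁ : W₂ ⟶ W := lift (fst _ _ ≫ fst _ _) (snd _ _)
    let a₂ : W₂ ⟶ W := lift (fst _ _ ≫ snd _ _) (snd _ _)
    have h12 : a₁ ≫ Φ = a₂ ≫ Φ := by
      apply eq_of_cc
      have h3 : ∀ h : W₂ ⟶ W, cc W₂ ≫ h ≫ Φ = phi e (cc W₂ ≫ h ≫ snd (T₀ R) P.X) := fun h => by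
        rw [← Category.assoc, ← cc_nat, Category.assoc, hΦ, phi_nat, ← Category.assoc, cc_nat, Category.assoc]
      rw [h3, h3]
      simp [a₁, a₂]
    let h : U ⟶ W₂ := lift (lift (a ≫ fst _ _) (b ≫ fst _ _)) (a ≫ snd _ _)
    have ha : h ≫ a₁ = a := by
      apply CartesianMonoidalCategory.hom_ext <;> simp [h, a₁]
    have hb : h ≫ a₂ = b := by
      apply CartesianMonoidalCategory.hom_ext <;> simp [h, a₂, hab]
    rw [← ha, ← hb, Category.assoc, Category.assoc, h12]
  -- descent
  let π : W.left ⟶ P.X.left := (snd (T₀ R) P.X).left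
  haveI : Surjective π := inferInstanceAs (Surjective (pullback.snd (T₀ R).hom P.X.hom))
  haveI : Flat π := inferInstanceAs (Flat (pullback.snd (T₀ R).hom P.X.hom))
  haveI : QuasiCompact π := inferInstanceAs (QuasiCompact (pullback.snd (T₀ R).hom P.X.hom))
  have hπ : π ≫ P.X.hom = W.hom := Over.w (snd (T₀ R) P.X)
  have hdesc : ∀ {Z : Scheme.{u}} (g₁ g₂ : Z ⟶ W.left), g₁ ≫ π = g₂ ≫ π → g₁ ≫ Φ.left = g₂ ≫ Φ.left := by
    intro Z g₁ g₂ h
    have hw : g₂ ≫ W.hom = g₁ ≫ W.hom := by rw [← hπ, reassoc_of% h]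
    exact congrArg CommaMorphism.left
      (hcoc (U := Over.mk (g₁ ≫ W.hom)) (Over.homMk g₁ rfl) (Over.homMk g₂ hw) (Over.OverMorphism.ext h))
  let f₀ : P.X.left ⟶ Q.X.left := EffectiveEpi.desc π Φ.left (fun g₁ g₂ h => hdesc g₁ g₂ h)
  have hf₀ : π ≫ f₀ = Φ.left := EffectiveEpi.fac π Φ.left _
  have hf₀w : f₀ ≫ Q.X.hom = P.X.hom := by
    rw [← cancel_epi π, reassoc_of% hf₀, hπ]
    exact Over.w Φ
  let f : P.X ⟶ Q.X := Over.homMk f₀ hf₀w
  have hf : snd (T₀ R) P.X ≫ f = Φ := Over.OverMorphism.ext hf₀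
  refine ⟨f, ?_⟩
  let k := (Over.pullback (Neron.genPt R)).map (snd (T₀ R) P.X)
  haveI : Epi k.left := by
    have h3 : (@Surjective ⊓ @Flat ⊓ @QuasiCompact : MorphismProperty Scheme.{u}) k.left :=
      MorphismProperty.overPullbackMap (P := (@Surjective ⊓ @Flat ⊓ @QuasiCompact : MorphismProperty Scheme.{u}))
        (Neron.genPt R) (snd (T₀ R) P.X) ⟨⟨‹Surjective π›, ‹Flat π›⟩, ‹QuasiCompact π›⟩
    obtain ⟨⟨h31, h32⟩, h33⟩ := h3
    infer_instance
  haveI : Epi k := Over.epi_of_epi_left k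
  rw [← cancel_epi k]
  show (Over.pullback (Neron.genPt R)).map _ ≫ (Over.pullback (Neron.genPt R)).map f = _
  rw [← Functor.map_comp, hf, ← he_cc, hΦ, phi, Equiv.apply_symm_apply, he_cc]

include e in
/-- Torsors with isomorphic generic fibres are isomorphic. -/
theorem exists_equivIso : Nonempty (NonAbH1.EquivIso P.act Q.act) := by
  obtain ⟨hPp, hPf, hPs⟩ := proper_flat P
  obtain ⟨hQp, hQf, hQs⟩ := proper_flat Q
  let e' : NonAbH1.EquivIso (Q.act.bc (Neron.genPt R)) (P.act.bc (Neron.genPt R)) :=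
    ⟨e.iso.symm, by
      have h := e.comm
      rw [Iso.symm_hom, ← cancel_mono e.iso.hom]
      simp only [Category.assoc, Iso.inv_hom_id, Category.comp_id]
      rw [h, ← MonoidalCategory.whiskerLeft_comp_assoc, Iso.inv_hom_id, MonoidalCategory.whiskerLeft_id,
        Category.id_comp]⟩
  obtain ⟨f, hf⟩ := exists_descended e
  obtain ⟨h, hh⟩ := exists_descended e'
  have hfh : f ≫ h = 𝟙 _ := NeronBasic.eq_of_map_genericFibre R _ _ _ _ (by
    show (Over.pullback (Neron.genPt R)).map (f ≫ h) = _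
    rw [Functor.map_comp, hf, hh, CategoryTheory.Functor.map_id]
    exact e.iso.hom_inv_id)
  have hhf : h ≫ f = 𝟙 _ := NeronBasic.eq_of_map_genericFibre R _ _ _ _ (by
    show (Over.pullback (Neron.genPt R)).map (h ≫ f) = _
    rw [Functor.map_comp, hf, hh, CategoryTheory.Functor.map_id]
    exact e.iso.inv_hom_id)
  refine ⟨⟨⟨f, h, hfh, hhf⟩, ?_⟩⟩
  haveI : Flat (G ⊗ P.X).hom := inferInstanceAs (Flat (pullback.fst G.hom P.X.hom ≫ G.hom))
  refine NeronBasic.eq_of_map_genericFibre R _ _ _ _ ?_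
  show (Over.pullback (Neron.genPt R)).map (P.act.act ≫ f) = (Over.pullback (Neron.genPt R)).map ((G ◁ f) ≫ Q.act.act)
  rw [← cancel_epi (Functor.LaxMonoidal.μ (Over.pullback (Neron.genPt R)) G P.X), Functor.map_comp, hf,
    Functor.map_comp]
  rw [← Functor.LaxMonoidal.μ_natural_right_assoc, hf]
  have h0 := e.comm
  rw [AlgGrp.Action.bc_act, AlgGrp.Action.bc_act, Category.assoc] at h0
  exact h0

end main

end Groth.Agent.GrpFieldLib.TDTorsor
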