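import Groth.Agent.GrpFieldLib.TorsionDenseAlg
import Groth.Agent.GrpFieldLib.JetChart
import Groth.Agent.GrpFieldLib.SmoothWeil
import Groth.Agent.HilbDLib.Separated
import Groth.Prelude.Def_MoreMor

/-! Weil restriction of closed subschemes along a morphism with a fibrewise schematically dense family of finite
flat subschemes, over locally noetherian bases. -/

universe u

open CategoryTheory Limits AlgebraicGeometry TopologicalSpace
open TensorProduct

namespace Groth.Agent.GrpFieldLib.TorsionDense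

open Groth.Agent.GrpSchLib (Good HasIdeal HasIdeals)
open Groth.Agent.GrpFieldLib.Jet (sp sp_comp sp_injective exists_ringHom)

set_option backward.isDefEq.respectTransparency false

variable {S X P Y : Scheme.{u}} {ι : Type*} {Q : ι → Scheme.{u}} (f : P ⟶ S) (q : ∀ i, Q i ⟶ P)

section Fibre

/-- An affine piece of a fibre. -/
theorem exists_fibre_piece {R₀ B₀ : Type u} [CommRing R₀] [CommRing B₀] [Algebra R₀ B₀]
    (u : Spec (CommRingCat.of R₀) ⟶ S) [IsOpenImmersion u] (w : Spec (CommRingCat.of B₀) ⟶ P) [IsOpenImmersion w]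
    (hw : sp (algebraMap R₀ B₀) ≫ u = w ≫ f) (s : S) [Algebra R₀ (S.residueField s)]
    (hs : sp (algebraMap R₀ (S.residueField s)) ≫ u = S.fromSpecResidueField s) :
    ∃ j : Spec (CommRingCat.of ((S.residueField s : Type u) ⊗[R₀] B₀)) ⟶ f.fiber s, IsOpenImmersion j ∧
      j ≫ f.fiberι s = sp (Algebra.TensorProduct.includeRight : B₀ →ₐ[R₀] (S.residueField s : Type u) ⊗[R₀] B₀).toRingHom ≫ w ∧
      j ≫ f.fiberToSpecResidueField s = sp (algebraMap (S.residueField s) ((S.residueField s : Type u) ⊗[R₀] B₀)) ∧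
      (f.fiberι s) ⁻¹' Set.range w ⊆ Set.range j := by
  let κ : Type u := S.residueField s
  let hsq : IsPullback (sp (algebraMap κ (κ ⊗[R₀] B₀)))
      (sp (Algebra.TensorProduct.includeRight : B₀ →ₐ[R₀] κ ⊗[R₀] B₀).toRingHom) (sp (algebraMap R₀ κ))
      (sp (algebraMap R₀ B₀)) :=
    isPullback_SpecMap_of_isPushout _ _ _ _ (CommRingCat.isPushout_tensorProduct R₀ κ B₀)
  let m : pullback (sp (algebraMap R₀ B₀)) (sp (algebraMap R₀ κ)) ⟶ pullback f (S.fromSpecResidueField s) :=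
    pullback.map _ _ _ _ w (𝟙 _) u hw (by rw [Category.id_comp]; exact hs)
  refine ⟨hsq.flip.isoPullback.hom ≫ m, inferInstance, ?_, ?_, ?_⟩
  · show (hsq.flip.isoPullback.hom ≫ m) ≫ pullback.fst f (S.fromSpecResidueField s) = _
    simp [m, pullback.map]
  · show (hsq.flip.isoPullback.hom ≫ m) ≫ pullback.snd f (S.fromSpecResidueField s) = _
    simp [m, pullback.map]
    rfl
  · intro z hz
    obtain ⟨v, hv⟩ : z ∈ Set.range m := by
      rw [Scheme.Pullback.range_map]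
      exact ⟨hz, ⟨_, rfl⟩⟩
    refine ⟨hsq.flip.isoPullback.inv v, ?_⟩
    rw [← Scheme.Hom.comp_apply, Iso.inv_hom_id_assoc]
    exact hv

/-- Pulling back a section of an affine piece. -/
theorem appLE_piece_eq_zero {F G : Scheme.{u}} {A C : Type u} [CommRing A] [CommRing C]
    (jA : Spec (CommRingCat.of A) ⟶ F) [IsOpenImmersion jA] (jC : Spec (CommRingCat.of C) ⟶ G) [IsOpenImmersion jC]
    (h : G ⟶ F) (θ : A →+* C) (hcomm : jC ≫ h = sp θ ≫ jA) (z : A) (hz : θ z = 0)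
    (hle : jC ''ᵁ ⊤ ≤ h ⁻¹ᵁ (jA ''ᵁ ⊤)) :
    G.presheaf.map (homOfLE hle).op
      (h.app (jA ''ᵁ ⊤) ((jA.appIso ⊤).inv ((Scheme.ΓSpecIso (CommRingCat.of A)).inv z))) = 0 := by
  set τ := (jA.appIso ⊤).inv ((Scheme.ΓSpecIso (CommRingCat.of A)).inv z)
  apply (jC.appIso ⊤).commRingCatIsoToRingEquiv.injective
  rw [map_zero]
  show (G.presheaf.map (homOfLE hle).op ≫ (jC.appIso ⊤).hom) (h.app (jA ''ᵁ ⊤) τ) = 0
  rw [Scheme.Hom.appIso_hom', Scheme.Hom.map_appLE, ← CommRingCat.comp_apply, Scheme.Hom.app_eq_appLE,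
    Scheme.Hom.appLE_comp_appLE]
  simp only [hcomm]
  rw [← Scheme.Hom.appLE_comp_appLE (sp θ) jA (jA ''ᵁ ⊤) ⊤ ⊤ (by rw [Scheme.Hom.preimage_image_eq]) le_top,
    CommRingCat.comp_apply]
  have h1 : jA.appLE (jA ''ᵁ ⊤) ⊤ (by rw [Scheme.Hom.preimage_image_eq]) τ =
      (Scheme.ΓSpecIso (CommRingCat.of A)).inv z := by
    rw [← CommRingCat.comp_apply, Scheme.Hom.appIso_inv_appLE]
    simp
  rw [h1, ← CommRingCat.comp_apply]
  have h2 : (sp θ).appLE ⊤ ⊤ le_top = (sp θ).appTop := by simp [Scheme.Hom.appLE]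
  rw [h2]
  show (Spec.map (CommRingCat.ofHom θ)).appTop ((Scheme.ΓSpecIso (CommRingCat.of A)).inv z) = 0
  rw [← CommRingCat.comp_apply, ← Scheme.ΓSpecIso_inv_naturality (CommRingCat.ofHom θ), CommRingCat.comp_apply,
    CommRingCat.ofHom_apply, hz, map_zero]

/-- Pieces of fibres and maps between them. -/
theorem piece_comm {R₀ B₀ C₀ κ : Type u} [CommRing R₀] [CommRing B₀] [CommRing C₀] [CommRing κ] [Algebra R₀ B₀]
    [Algebra R₀ C₀] [Algebra R₀ κ] {Q₁ F F₁ Z : Scheme.{u}} (qm : Q₁ ⟶ P) (w : Spec (CommRingCat.of B₀) ⟶ P)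
    (w₁ : Spec (CommRingCat.of C₀) ⟶ Q₁) (α : B₀ →ₐ[R₀] C₀) (hα : sp α.toRingHom ≫ w = w₁ ≫ qm)
    (fι : F ⟶ P) (fZ : F ⟶ Z) (gι : F₁ ⟶ Q₁) (gZ : F₁ ⟶ Z) (b : F₁ ⟶ F) (hb₁ : b ≫ fι = gι ≫ qm) (hb₂ : b ≫ fZ = gZ)
    (hext : ∀ {T : Scheme.{u}} (m m' : T ⟶ F), m ≫ fι = m' ≫ fι → m ≫ fZ = m' ≫ fZ → m = m')
    (c : Spec (CommRingCat.of κ) ⟶ Z) (jW : Spec (CommRingCat.of (κ ⊗[R₀] B₀)) ⟶ F)
    (jC : Spec (CommRingCat.of (κ ⊗[R₀] C₀)) ⟶ F₁)
    (hW₁ : jW ≫ fι = sp (Algebra.TensorProduct.includeRight : B₀ →ₐ[R₀] κ ⊗[R₀] B₀).toRingHom ≫ w)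
    (hW₂ : jW ≫ fZ = sp (algebraMap κ (κ ⊗[R₀] B₀)) ≫ c)
    (hC₁ : jC ≫ gι = sp (Algebra.TensorProduct.includeRight : C₀ →ₐ[R₀] κ ⊗[R₀] C₀).toRingHom ≫ w₁)
    (hC₂ : jC ≫ gZ = sp (algebraMap κ (κ ⊗[R₀] C₀)) ≫ c) :
    jC ≫ b = sp (Algebra.TensorProduct.map (AlgHom.id R₀ κ) α).toRingHom ≫ jW := by
  refine hext _ _ ?_ ?_
  · rw [Category.assoc, Category.assoc, hb₁, hW₁, reassoc_of% hC₁, ← hα, ← Category.assoc, ← sp_comp,
      ← Category.assoc (sp _) (sp _), ← sp_comp]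
    refine congrArg (fun m => sp m ≫ w) (RingHom.ext fun x => ?_)
    simp
  · rw [Category.assoc, Category.assoc, hb₂, hW₂, hC₂, ← Category.assoc, ← sp_comp]
    refine congrArg (fun m => sp m ≫ c) (RingHom.ext fun x => ?_)
    simp

end Fibre

/-- Coordinates of a field extension. -/
theorem eq_zero_of_extension {R₀ κ K B₀ : Type u} [CommRing R₀] [Field κ] [Field K] [CommRing B₀] [Algebra R₀ κ]
    [Algebra κ K] [Algebra R₀ K] [IsScalarTower R₀ κ K] [Algebra R₀ B₀] {J : Type*} (C : J → Type u)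
    [∀ j, CommRing (C j)] [∀ j, Algebra R₀ (C j)] (α : ∀ j, B₀ →ₐ[R₀] C j)
    (hκ : ∀ g : κ ⊗[R₀] B₀, (∀ j, Algebra.TensorProduct.map (AlgHom.id R₀ κ) (α j) g = 0) → g = 0)
    (g : K ⊗[R₀] B₀) (hg : ∀ j, Algebra.TensorProduct.map (AlgHom.id R₀ K) (α j) g = 0) : g = 0 := by
  classical
  let b := Module.Free.chooseBasis κ K
  let ℓ : ∀ i, K →ₗ[R₀] κ := fun i => (b.coord i).restrictScalars R₀
  let ε : ∀ i, κ →ₗ[R₀] K := fun i => (LinearMap.toSpanSingleton κ K (b i)).restrictScalars R₀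
  have hdec : ∀ g : K ⊗[R₀] B₀, ∃ s : Finset _, ∀ s', s ⊆ s' →
      g = ∑ i ∈ s', (ε i).rTensor B₀ ((ℓ i).rTensor B₀ g) := by
    intro g
    induction g using TensorProduct.induction_on with
    | zero => exact ⟨∅, fun s' _ => by simp⟩
    | tmul k x =>
      refine ⟨(b.repr k).support, fun s' hs' => ?_⟩
      simp only [LinearMap.rTensor_tmul, ← TensorProduct.sum_tmul]
      congr 1
      conv_lhs => rw [← b.linearCombination_repr k, Finsupp.linearCombination_apply,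
        Finsupp.sum_of_support_subset _ hs' (fun i a => a • b i) (fun i _ => zero_smul κ _)]
      rfl
    | add x y hx hy =>
      obtain ⟨s, hs⟩ := hx; obtain ⟨t, ht⟩ := hy
      refine ⟨s ∪ t, fun s' hs' => ?_⟩
      simp only [map_add, Finset.sum_add_distrib]
      rw [← hs s' (Finset.union_subset_left hs'), ← ht s' (Finset.union_subset_right hs')]
  have hzero : ∀ i, (ℓ i).rTensor B₀ g = 0 := fun i => hκ _ fun j => by
    have e : (Algebra.TensorProduct.map (AlgHom.id R₀ κ) (α j)).toLinearMap ∘ₗ (ℓ i).rTensor B₀ =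
        (ℓ i).rTensor (C j) ∘ₗ (Algebra.TensorProduct.map (AlgHom.id R₀ K) (α j)).toLinearMap :=
      TensorProduct.ext' fun k x => by simp
    refine (LinearMap.congr_fun e g).trans ?_
    show (ℓ i).rTensor (C j) (Algebra.TensorProduct.map (AlgHom.id R₀ K) (α j) g) = 0
    rw [hg, map_zero]
  obtain ⟨s, hs⟩ := hdec g
  rw [hs s subset_rfl]
  exact Finset.sum_eq_zero fun i _ => by rw [hzero, map_zero]

/-- Fibrewise schematic density in terms of affine pieces. -/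
def FibDense : Prop :=
  ∀ (U : S.affineOpens) (W : P.affineOpens) (e : W.1 ≤ f ⁻¹ᵁ U.1) (K : Type u) [Field K] (φ : Γ(S, U) →+* K),
    letI : Algebra Γ(S, U) K := φ.toAlgebra
    letI : Algebra Γ(S, U) Γ(P, W) := (f.appLE U W e).hom.toAlgebra
    ∀ g : K ⊗[Γ(S, U)] Γ(P, W),
      (∀ (i : ι) (V : (Q i).affineOpens) (e' : V.1 ≤ q i ⁻¹ᵁ W.1),
        letI : Algebra Γ(S, U) Γ(Q i, V) := ((f.appLE U W e) ≫ (q i).appLE W V e').hom.toAlgebra
        Algebra.TensorProduct.map (AlgHom.id Γ(S, U) K)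
          ({ ((q i).appLE W V e').hom with commutes' := fun _ => rfl } : Γ(P, W) →ₐ[Γ(S, U)] Γ(Q i, V)) g = 0) →
      g = 0

set_option maxHeartbeats 1000000 in
/-- Density of the fibres gives the affine form. -/
theorem fibDense_of_fibres
    (hb : ∀ (s : S) (V : (f.fiber s).Opens) (t : Γ(f.fiber s, V)),
      (∀ i, (MoreMor.fiberMap (q i) f s).app V t = 0) → t = 0) : FibDense f q := by
  intro U W e K _ φ
  letI : Algebra Γ(S, U) K := φ.toAlgebra
  letI : Algebra Γ(S, U) Γ(P, W) := (f.appLE U W e).hom.toAlgebra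
  intro g hg
  let tK : Spec (CommRingCat.of K) ⟶ S := sp φ ≫ U.2.fromSpec
  let s : S := tK (IsLocalRing.closedPoint K)
  let ψ : S.residueField s ⟶ CommRingCat.of K := S.descResidueField (Scheme.stalkClosedPointTo tK)
  have hψ : Spec.map ψ ≫ S.fromSpecResidueField s = tK :=
    Scheme.descResidueField_stalkClosedPointTo_fromSpecResidueField K S tK
  have hr : Set.range (S.fromSpecResidueField s) ⊆ Set.range U.2.fromSpec := by
    rw [Scheme.range_fromSpecResidueField]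
    rintro _ rfl
    exact ⟨sp φ (IsLocalRing.closedPoint K), rfl⟩
  obtain ⟨ρ, hρ⟩ := exists_ringHom (A := Γ(S, U)) (B := (S.residueField s : Type u))
    (IsOpenImmersion.lift U.2.fromSpec (S.fromSpecResidueField s) hr)
  letI : Algebra Γ(S, U) (S.residueField s) := ρ.toAlgebra
  have hρU : sp (algebraMap Γ(S, U) (S.residueField s)) ≫ U.2.fromSpec = S.fromSpecResidueField s := by
    show sp ρ ≫ _ = _
    rw [hρ, IsOpenImmersion.lift_fac]
  have hφ : φ = ψ.hom.comp ρ := sp_injective (by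
    rw [← cancel_mono U.2.fromSpec, sp_comp, Category.assoc]
    exact hψ.symm.trans (congrArg (Spec.map ψ ≫ ·) hρU.symm))
  letI : Algebra (S.residueField s) K := ψ.hom.toAlgebra
  haveI : IsScalarTower Γ(S, U) (S.residueField s) K := IsScalarTower.of_algebraMap_eq fun r => RingHom.congr_fun hφ r
  let κind := Σ i : ι, { V : (Q i).affineOpens // V.1 ≤ q i ⁻¹ᵁ W.1 }
  letI : ∀ j : κind, Algebra Γ(S, U) Γ(Q j.1, j.2.1) := fun j =>
    ((f.appLE U W e) ≫ (q j.1).appLE W j.2.1 j.2.2).hom.toAlgebra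
  let α : ∀ j : κind, Γ(P, W) →ₐ[Γ(S, U)] Γ(Q j.1, j.2.1) := fun j =>
    { ((q j.1).appLE W j.2.1 j.2.2).hom with commutes' := fun _ => rfl }
  refine eq_zero_of_extension (κ := (S.residueField s : Type u)) (fun j : κind => Γ(Q j.1, j.2.1)) α (fun z hz => ?_) g
    (fun j => hg j.1 j.2.1 j.2.2)
  obtain ⟨jW, _, hjW₁, hjW₂, hjW₃⟩ := exists_fibre_piece f U.2.fromSpec W.2.fromSpec
    (IsAffineOpen.SpecMap_appLE_fromSpec f U.2 W.2 e) s hρU
  let τ : Γ(f.fiber s, jW ''ᵁ ⊤) :=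
    (jW.appIso ⊤).inv ((Scheme.ΓSpecIso (CommRingCat.of ((S.residueField s : Type u) ⊗[Γ(S, U)] Γ(P, W)))).inv z)
  have hτ : τ = 0 := hb s _ τ fun i => by
    refine ((q i ≫ f).fiber s).IsSheaf.section_ext fun w hw => ?_
    have hwW : ((q i ≫ f).fiberι s) w ∈ q i ⁻¹ᵁ W.1 := by
      obtain ⟨v, -, hv⟩ := (hw : MoreMor.fiberMap (q i) f s w ∈ jW ''ᵁ ⊤)
      show (((q i ≫ f).fiberι s) ≫ q i) w ∈ W.1
      rw [show (q i ≫ f).fiberι s ≫ q i = MoreMor.fiberMap (q i) f s ≫ f.fiberι s from (pullback.lift_fst _ _ _).symm,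
        Scheme.Hom.comp_apply, ← hv]
      show (jW ≫ f.fiberι s) v ∈ W.1
      rw [hjW₁, Scheme.Hom.comp_apply]
      exact W.2.range_fromSpec.le ⟨_, rfl⟩
    obtain ⟨V, hV, hwV, hVle⟩ : ∃ V : (Q i).Opens, IsAffineOpen V ∧ ((q i ≫ f).fiberι s) w ∈ V ∧ V ≤ q i ⁻¹ᵁ W.1 :=
      exists_isAffineOpen_mem_and_subset hwW
    let j : κind := ⟨i, ⟨V, hV⟩, hVle⟩
    letI : Algebra Γ(S, U) Γ(Q i, V) := ((f.appLE U W e) ≫ (q i).appLE W V hVle).hom.toAlgebra
    let α₁ : Γ(P, W) →ₐ[Γ(S, U)] Γ(Q i, V) := { ((q i).appLE W V hVle).hom with commutes' := fun _ => rfl }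
    have hα : sp α₁.toRingHom ≫ W.2.fromSpec = hV.fromSpec ≫ q i :=
      IsAffineOpen.SpecMap_appLE_fromSpec (q i) W.2 hV hVle
    have hw' : sp (algebraMap Γ(S, U) Γ(Q i, V)) ≫ U.2.fromSpec = hV.fromSpec ≫ q i ≫ f := by
      show sp (((f.appLE U W e) ≫ (q i).appLE W V hVle).hom) ≫ _ = _
      rw [CommRingCat.hom_comp, sp_comp, Category.assoc]
      refine (congrArg (sp α₁.toRingHom ≫ ·) (IsAffineOpen.SpecMap_appLE_fromSpec f U.2 W.2 e)).trans ?_
      rw [← Category.assoc, hα, Category.assoc]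
    obtain ⟨jC, _, hjC₁, hjC₂, hjC₃⟩ := exists_fibre_piece (R₀ := Γ(S, U)) (B₀ := Γ(Q i, V)) (q i ≫ f) U.2.fromSpec hV.fromSpec hw' s hρU
    have hcomm := piece_comm (P := P) (κ := (S.residueField s : Type u)) (R₀ := Γ(S, U)) (B₀ := Γ(P, W)) (C₀ := Γ(Q i, V)) (q i) W.2.fromSpec hV.fromSpec α₁ hα (f.fiberι s) (f.fiberToSpecResidueField s)
      ((q i ≫ f).fiberι s) ((q i ≫ f).fiberToSpecResidueField s) (MoreMor.fiberMap (q i) f s) (pullback.lift_fst _ _ _)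
      (pullback.lift_snd _ _ _) (fun m m' h₁ h₂ => pullback.hom_ext h₁ h₂) (𝟙 _) jW jC hjW₁
      (hjW₂.trans (Category.comp_id _).symm) hjC₁ (hjC₂.trans (Category.comp_id _).symm)
    obtain ⟨v, hv⟩ : w ∈ Set.range jC := hjC₃ (hV.range_fromSpec.ge hwV)
    have hle : jC ''ᵁ ⊤ ≤ MoreMor.fiberMap (q i) f s ⁻¹ᵁ (jW ''ᵁ ⊤) := by
      rintro _ ⟨v, -, rfl⟩
      show (jC ≫ MoreMor.fiberMap (q i) f s) v ∈ jW ''ᵁ ⊤
      rw [hcomm, Scheme.Hom.comp_apply]
      exact ⟨_, trivial, rfl⟩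
    refine ⟨jC ''ᵁ ⊤, hle, ⟨v, trivial, hv⟩, ?_⟩
    rw [map_zero]
    exact appLE_piece_eq_zero jW jC _ _ hcomm z (hz j) hle
  have h1 := congrArg (fun x => (Scheme.ΓSpecIso _).hom ((jW.appIso ⊤).hom x)) hτ
  simpa [τ] using h1

variable (a : X ⟶ S) (y : Y ⟶ pullback f a)

/-- The subschemes after base change. -/
noncomputable abbrev qa (i : ι) : pullback (q i ≫ f) a ⟶ pullback f a :=
  pullback.map (q i ≫ f) a f a (q i) (𝟙 X) (𝟙 S) (Category.comp_id _) (by simp)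

/-- The restriction to the `i`-th subscheme factors through `Y`. -/
def GoodAt (i : ι) {T : Scheme.{u}} (g : T ⟶ X) : Prop :=
  ∃ l : pullback g (pullback.snd (q i ≫ f) a) ⟶ Y,
    l ≫ y = pullback.snd g (pullback.snd (q i ≫ f) a) ≫ qa f q a i

theorem goodAt_iff (i : ι) {T : Scheme.{u}} (g : T ⟶ X) :
    GoodAt f q a y i g ↔ Good (pullback.snd (q i ≫ f) a) (pullback.fst (qa f q a i) y) g :=
  ⟨fun ⟨l, hl⟩ => ⟨pullback.lift _ l hl.symm, pullback.lift_fst _ _ _⟩, fun ⟨l, hl⟩ =>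
    ⟨l ≫ pullback.snd _ _, by rw [Category.assoc, ← pullback.condition, reassoc_of% hl]⟩⟩

theorem GoodAt.of_good {T : Scheme.{u}} {g : T ⟶ X} (h : Good (pullback.snd f a) y g) (i : ι) :
    GoodAt f q a y i g := by
  obtain ⟨l, hl⟩ := h
  refine ⟨pullback.lift (pullback.fst _ _) (pullback.snd g (pullback.snd (q i ≫ f) a) ≫ qa f q a i)
    (by rw [Category.assoc, pullback.condition]; simp [qa, pullback.map]) ≫ l, ?_⟩
  rw [Category.assoc, hl, pullback.lift_snd]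

theorem GoodAt.mono {i k : ι} (h : Q i ⟶ Q k) (hh : h ≫ q k = q i) {T : Scheme.{u}} {g : T ⟶ X}
    (hg : GoodAt f q a y k g) : GoodAt f q a y i g := by
  obtain ⟨l, hl⟩ := hg
  let h' : pullback (q i ≫ f) a ⟶ pullback (q k ≫ f) a :=
    pullback.map _ _ _ _ h (𝟙 X) (𝟙 S) (by simp [reassoc_of% hh]) (by simp)
  have h1 : h' ≫ qa f q a k = qa f q a i := pullback.hom_ext (by simp [h', qa, pullback.map, hh]) (by simp [h', qa, pullback.map])
  refine ⟨pullback.lift (pullback.fst _ _) (pullback.snd g (pullback.snd (q i ≫ f) a) ≫ h')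
    (by rw [Category.assoc, pullback.condition]; simp [h', pullback.map]) ≫ l, ?_⟩
  rw [Category.assoc, hl, pullback.lift_snd_assoc, Category.assoc, h1]

variable [IsLocallyNoetherian X] [LocallyOfFiniteType f] [IsClosedImmersion y] [∀ i, IsFinite (q i ≫ f)]
  [∀ i, Flat (q i ≫ f)]

theorem exists_ideal (i : ι) {R : Type u} [CommRing R] (af : Spec (CommRingCat.of R) ⟶ X) [IsOpenImmersion af] :
    ∃ I : Ideal R, ∀ (C : Type u) [CommRing C] (φ : R →+* C), GoodAt f q a y i (sp φ ≫ af) ↔ I ≤ RingHom.ker φ := by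
  haveI : IsFinite (pullback.snd (q i ≫ f) a) := MorphismProperty.pullback_snd _ _ inferInstance
  haveI : Flat (pullback.snd (q i ≫ f) a) := MorphismProperty.pullback_snd _ _ inferInstance
  haveI : LocallyOfFinitePresentation (pullback.snd (q i ≫ f) a) :=
    LocallyOfFinitePresentation.iff_locallyOfFiniteType.mpr inferInstance
  haveI : IsClosedImmersion (pullback.fst (qa f q a i) y) := MorphismProperty.pullback_fst _ _ ‹_›
  obtain ⟨Z, z, hz, hzf⟩ := GrpSchLib.exists_weilRestriction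
    (HilbDLib.hasIdeals_of_finLocFree (pullback.snd (q i ≫ f) a) (pullback.fst (qa f q a i) y))
  obtain ⟨I, hI⟩ := GrpSchLib.factors_closed_iff z (B := CommRingCat.of R) af
  exact ⟨I, fun C _ φ => (goodAt_iff f q a y i _).trans ((hzf _ _).symm.trans (hI (CommRingCat.of C) (CommRingCat.ofHom φ)))⟩

set_option maxHeartbeats 1000000 in
/-- Over an affine base the universal ideal is generated by those of the subschemes. -/
theorem hasIdeal_iSup (hd : FibDense f q) (U' : X.affineOpens) (U : S.affineOpens) (hUU : U'.1 ≤ a ⁻¹ᵁ U.1)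
    (I : ι → Ideal Γ(X, U'))
    (hI : ∀ i (C : Type u) [CommRing C] (φ : Γ(X, U') →+* C), GoodAt f q a y i (sp φ ≫ U'.2.fromSpec) ↔ I i ≤ RingHom.ker φ) :
    HasIdeal (pullback.snd f a) y U'.2.fromSpec (⨆ i, I i) := by
  classical
  intro C _ φ
  refine ⟨fun hg => iSup_le fun i => (hI i C φ).mp (GoodAt.of_good f q a y hg i), fun hle => ?_⟩
  suffices hmain : Good (pullback.snd f a) y (sp (Ideal.Quotient.mk (⨆ i, I i)) ≫ U'.2.fromSpec) by
    have := hmain.comp (pullback.snd f a) y (sp (Ideal.Quotient.lift _ φ hle))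
    rwa [← Category.assoc, ← sp_comp,
      show (Ideal.Quotient.lift _ φ hle).comp (Ideal.Quotient.mk (⨆ i, I i)) = φ from RingHom.ext fun _ => rfl] at this
  letI : Algebra Γ(S, U) Γ(X, U') := (a.appLE U U' hUU).hom.toAlgebra
  haveI : IsNoetherianRing Γ(X, U') := IsLocallyNoetherian.component_noetherian U'
  let κ := { W : P.affineOpens // W.1 ≤ f ⁻¹ᵁ U.1 }
  letI : ∀ W : κ, Algebra Γ(S, U) Γ(P, W.1) := fun W => (f.appLE U W.1 W.2).hom.toAlgebra
  haveI : ∀ W : κ, Algebra.FiniteType Γ(S, U) Γ(P, W.1) := fun W =>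
    HasRingHomProperty.appLE @LocallyOfFiniteType f inferInstance U W.1 W.2
  let B : κ → Type u := fun W => Γ(X, U') ⊗[Γ(S, U)] Γ(P, W.1)
  let π := pullback.snd f a
  let af := U'.2.fromSpec
  have haf : sp (algebraMap Γ(S, U) Γ(X, U')) ≫ U.2.fromSpec = af ≫ a :=
    IsAffineOpen.SpecMap_appLE_fromSpec a U.2 U'.2 hUU
  let e : pullback (af ≫ a) f ≅ pullback af π :=
    pullbackSymmetry (af ≫ a) f ≪≫ (pullbackLeftPullbackSndIso f a af).symm ≪≫ pullbackSymmetry π af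
  have he₁ : e.hom ≫ pullback.fst af π = pullback.fst (af ≫ a) f := by
    rw [← cancel_epi e.inv, Iso.inv_hom_id_assoc]
    simp [e, π]
  have he₂ : e.hom ≫ pullback.snd af π ≫ pullback.fst f a = pullback.snd (af ≫ a) f := by
    rw [← cancel_epi e.inv, Iso.inv_hom_id_assoc]
    simp [e, π]
  have hsq : ∀ W : κ, IsPullback (sp (algebraMap Γ(X, U') (B W)))
      (sp (Algebra.TensorProduct.includeRight : Γ(P, W.1) →ₐ[Γ(S, U)] B W).toRingHom)
      (sp (algebraMap Γ(S, U) Γ(X, U'))) (sp (algebraMap Γ(S, U) Γ(P, W.1))) := fun W =>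
    isPullback_SpecMap_of_isPushout _ _ _ _ (CommRingCat.isPushout_tensorProduct Γ(S, U) Γ(X, U') Γ(P, W.1))
  let m : ∀ W : κ, pullback (sp (algebraMap Γ(S, U) Γ(X, U'))) (sp (algebraMap Γ(S, U) Γ(P, W.1))) ⟶
      pullback (af ≫ a) f := fun W =>
    pullback.map _ _ _ _ (𝟙 _) W.1.2.fromSpec U.2.fromSpec (by rw [Category.id_comp]; exact haf)
      (IsAffineOpen.SpecMap_appLE_fromSpec f U.2 W.1.2 W.2)
  let v : ∀ W : κ, Spec (CommRingCat.of (B W)) ⟶ pullback af π := fun W => (hsq W).isoPullback.hom ≫ m W ≫ e.hom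
  have hv₁ : ∀ W, v W ≫ pullback.fst af π = sp (algebraMap Γ(X, U') (B W)) := fun W => by
    simp only [v, Category.assoc, he₁]
    simp [m, pullback.map]
  have hv₂ : ∀ W, v W ≫ pullback.snd af π ≫ pullback.fst f a =
      sp (Algebra.TensorProduct.includeRight : Γ(P, W.1) →ₐ[Γ(S, U)] B W).toRingHom ≫ W.1.2.fromSpec := fun W => by
    simp only [v, Category.assoc, he₂]
    simp [m, pullback.map]
  haveI : ∀ W, IsOpenImmersion (v W) := fun W => inferInstance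
  have hcov : ∀ x, ∃ W z, v W z = x := fun x => by
    let x' := e.inv x
    have hU : f (pullback.snd (af ≫ a) f x') ∈ U.1 := by
      have h1 := congrArg (fun m => m (pullback.fst (af ≫ a) f x')) haf
      rw [← Scheme.Hom.comp_apply, ← pullback.condition, Scheme.Hom.comp_apply]
      refine h1 ▸ ?_
      rw [Scheme.Hom.comp_apply]
      exact U.2.range_fromSpec.le ⟨_, rfl⟩
    obtain ⟨W, hW, hxW, hWle⟩ := exists_isAffineOpen_mem_and_subset (U := f ⁻¹ᵁ U.1) hU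
    let W' : κ := ⟨⟨W, hW⟩, hWle⟩
    obtain ⟨z, hz⟩ : x' ∈ Set.range (m W') := by
      rw [Scheme.Pullback.range_map]
      exact ⟨⟨_, rfl⟩, hW.range_fromSpec.ge hxW⟩
    refine ⟨W', (hsq W').isoPullback.inv z, ?_⟩
    rw [← Scheme.Hom.comp_apply, Iso.inv_hom_id_assoc, Scheme.Hom.comp_apply, hz, ← Scheme.Hom.comp_apply, e.inv_hom_id]
    rfl
  choose J hJ using fun W => GrpSchLib.factors_closed_iff y (B := CommRingCat.of (B W)) (v W ≫ pullback.snd af π)
  let R' := Γ(X, U') ⧸ ⨆ i, I i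
  refine (GrpSchLib.good_iff_charts (π := π) (i := y) af B v hv₁ hcov J hJ R').mpr fun W x hx => ?_
  let ρ : Γ(X, U') →ₐ[Γ(S, U)] R' := IsScalarTower.toAlgHom Γ(S, U) Γ(X, U') R'
  let κind := Σ i : ι, { V : (Q i).affineOpens // V.1 ≤ q i ⁻¹ᵁ W.1.1 }
  letI : ∀ j : κind, Algebra Γ(S, U) Γ(Q j.1, j.2.1) := fun j =>
    ((f.appLE U W.1 W.2) ≫ (q j.1).appLE W.1 j.2.1 j.2.2).hom.toAlgebra
  have hj : ∀ j : κind, sp (algebraMap Γ(S, U) Γ(Q j.1, j.2.1)) ≫ U.2.fromSpec = j.2.1.2.fromSpec ≫ q j.1 ≫ f := by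
    intro j
    show sp (((f.appLE U W.1 W.2) ≫ (q j.1).appLE W.1 j.2.1 j.2.2).hom) ≫ _ = _
    rw [CommRingCat.hom_comp, sp_comp, Category.assoc]
    show Spec.map ((q j.1).appLE W.1 j.2.1 j.2.2) ≫ Spec.map (f.appLE U W.1 W.2) ≫ U.2.fromSpec = _
    rw [IsAffineOpen.SpecMap_appLE_fromSpec f U.2 W.1.2 W.2,
      IsAffineOpen.SpecMap_appLE_fromSpec_assoc (q j.1) W.1.2 j.2.1.2 j.2.2]
  haveI : ∀ j : κind, Module.Flat Γ(S, U) Γ(Q j.1, j.2.1) := fun j => by
    rw [← RingHom.flat_algebraMap_iff]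
    show RingHom.Flat ((f.appLE U W.1 W.2) ≫ (q j.1).appLE W.1 j.2.1 j.2.2).hom
    rw [Scheme.Hom.appLE_comp_appLE]
    exact HasRingHomProperty.appLE @Flat (q j.1 ≫ f) inferInstance U j.2.1 _
  let α : ∀ j : κind, Γ(P, W.1) →ₐ[Γ(S, U)] Γ(Q j.1, j.2.1) := fun j =>
    { ((q j.1).appLE W.1 j.2.1 j.2.2).hom with commutes' := fun _ => rfl }
  have hz : Algebra.TensorProduct.map ρ (AlgHom.id Γ(S, U) Γ(P, W.1)) x = 0 := by
    refine eq_zero_of_fibrewise (fun j : κind => Γ(Q j.1, j.2.1)) α (fun K _ alg g hg => ?_) _ fun j => ?_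
    · obtain ⟨φ, rfl⟩ : ∃ φ : Γ(S, U) →+* K, φ.toAlgebra = alg :=
        ⟨algebraMap Γ(S, U) K, Algebra.algebra_ext _ _ fun _ => rfl⟩
      exact hd U W.1 W.2 K φ g fun i V e' => hg ⟨i, V, e'⟩
    let D := R' ⊗[Γ(S, U)] Γ(Q j.1, j.2.1)
    let ψ : B W →ₐ[Γ(S, U)] D := Algebra.TensorProduct.map ρ (α j)
    have e : (Algebra.TensorProduct.map (AlgHom.id Γ(S, U) R') (α j)).comp
        (Algebra.TensorProduct.map ρ (AlgHom.id Γ(S, U) Γ(P, W.1))) = ψ := by
      ext <;> simp [ψ]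
    rw [← AlgHom.comp_apply, e]
    obtain ⟨l, hl⟩ := (hI j.1 R' (Ideal.Quotient.mk _)).mpr (le_trans (le_iSup I j.1) Ideal.mk_ker.ge)
    let inl : R' →+* D := algebraMap R' D
    let inr : Γ(Q j.1, j.2.1) →+* D :=
      (Algebra.TensorProduct.includeRight : Γ(Q j.1, j.2.1) →ₐ[Γ(S, U)] D).toRingHom
    have hinl : inl.comp (algebraMap Γ(S, U) R') = inr.comp (algebraMap Γ(S, U) Γ(Q j.1, j.2.1)) :=
      Algebra.TensorProduct.includeLeftRingHom_comp_algebraMap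
    have hc₁ : (sp inr ≫ j.2.1.2.fromSpec) ≫ q j.1 ≫ f = (sp inl ≫ sp (Ideal.Quotient.mk _) ≫ af) ≫ a := by
      simp only [Category.assoc]
      rw [← haf, ← hj j, ← Category.assoc (sp (Ideal.Quotient.mk _)), ← sp_comp, ← Category.assoc, ← sp_comp,
        ← Category.assoc (sp inl), ← sp_comp, ← hinl]
      rfl
    let c : Spec (CommRingCat.of D) ⟶
        pullback (sp (Ideal.Quotient.mk (⨆ i, I i)) ≫ af) (pullback.snd (q j.1 ≫ f) a) :=
      pullback.lift (sp inl) (pullback.lift _ _ hc₁) (pullback.lift_snd _ _ _).symm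
    refine (hJ W (CommRingCat.of D) (CommRingCat.ofHom ψ.toRingHom)).mp ⟨c ≫ l, ?_⟩ hx
    rw [Category.assoc, hl]
    have hc : c ≫ pullback.snd _ _ = pullback.lift _ _ hc₁ := pullback.lift_snd _ _ _
    rw [reassoc_of% hc]
    apply pullback.hom_ext
    · show _ = (sp ψ.toRingHom ≫ v W ≫ pullback.snd af π) ≫ pullback.fst f a
      simp only [Category.assoc, hv₂, qa, pullback.map, pullback.lift_fst, pullback.lift_fst_assoc]
      rw [← IsAffineOpen.SpecMap_appLE_fromSpec (q j.1) W.1.2 j.2.1.2 j.2.2,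
        show Spec.map ((q j.1).appLE W.1 j.2.1 j.2.2) = sp (α j).toRingHom from rfl, ← Category.assoc, ← sp_comp,
        ← Category.assoc, ← sp_comp]
      refine congrArg (fun m => sp m ≫ W.1.2.fromSpec) (RingHom.ext fun b => ?_)
      show ((1 : R') ⊗ₜ[Γ(S, U)] α j b : D) =
        Algebra.TensorProduct.map ρ (α j) ((1 : Γ(X, U')) ⊗ₜ[Γ(S, U)] b)
      rw [Algebra.TensorProduct.map_tmul, map_one]
    · show _ = (sp ψ.toRingHom ≫ v W ≫ pullback.snd af π) ≫ pullback.snd f a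
      simp only [Category.assoc, qa, pullback.map, pullback.lift_snd, pullback.lift_snd_assoc, Category.comp_id]
      rw [show pullback.snd af π ≫ pullback.snd f a = pullback.fst af π ≫ af from pullback.condition.symm,
        reassoc_of% (hv₁ W), ← Category.assoc (sp ψ.toRingHom), ← sp_comp, ← Category.assoc (sp inl), ← sp_comp]
      refine congrArg (fun m => sp m ≫ af) (RingHom.ext fun r => ?_)
      show (Ideal.Quotient.mk _ r ⊗ₜ[Γ(S, U)] (1 : Γ(Q j.1, j.2.1)) : D) =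
        Algebra.TensorProduct.map ρ (α j) (r ⊗ₜ[Γ(S, U)] (1 : Γ(P, W.1)))
      rw [Algebra.TensorProduct.map_tmul, map_one]
      rfl
  have hker : x ∈ (⨆ i, I i).map (algebraMap Γ(X, U') (B W)) := by
    have h1 : x ∈ RingHom.ker (Algebra.TensorProduct.map ρ (AlgHom.id Γ(S, U) Γ(P, W.1))) := hz
    rw [Algebra.TensorProduct.rTensor_ker _ (show Function.Surjective ρ from Ideal.Quotient.mk_surjective)] at h1
    rwa [show RingHom.ker ρ = ⨆ i, I i from Ideal.mk_ker] at h1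
  refine (Ideal.map_le_iff_le_comap.mpr (fun r hr => ?_) : _ ≤
    RingHom.ker (Algebra.TensorProduct.includeRight : B W →ₐ[Γ(X, U')] R' ⊗[Γ(X, U')] B W).toRingHom) hker
  show (Algebra.TensorProduct.includeRight : B W →ₐ[Γ(X, U')] R' ⊗[Γ(X, U')] B W) (algebraMap _ (B W) r) = 0
  rw [AlgHom.commutes, Algebra.TensorProduct.algebraMap_apply, Ideal.Quotient.algebraMap_eq,
    Ideal.Quotient.eq_zero_iff_mem.mpr hr, TensorProduct.zero_tmul]

/-- An affine open neighbourhood with a universal ideal. -/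
theorem exists_nhd (hd : FibDense f q) (x : X) :
    ∃ U' : X.affineOpens, x ∈ U'.1 ∧ ∃ I : ι → Ideal Γ(X, U'),
      (∀ i (C : Type u) [CommRing C] (φ : Γ(X, U') →+* C),
        GoodAt f q a y i (sp φ ≫ U'.2.fromSpec) ↔ I i ≤ RingHom.ker φ) ∧
      HasIdeal (pullback.snd f a) y U'.2.fromSpec (⨆ i, I i) := by
  obtain ⟨U, hU, hxU, -⟩ := exists_isAffineOpen_mem_and_subset (show a x ∈ (⊤ : S.Opens) from trivial)
  obtain ⟨U', hU', hxU', hle⟩ := exists_isAffineOpen_mem_and_subset (U := a ⁻¹ᵁ U) (x := x) hxU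
  choose I hI using fun i => exists_ideal f q a y i (R := Γ(X, U')) hU'.fromSpec
  exact ⟨⟨U', hU'⟩, hxU', I, hI, hasIdeal_iSup f q a y hd ⟨U', hU'⟩ ⟨U, hU⟩ hle I hI⟩

/-- The closed subscheme over which everything factors through `Y`. -/
theorem exists_closed (hd : FibDense f q) :
    ∃ (T : Scheme.{u}) (t : T ⟶ X), IsClosedImmersion t ∧
      ∀ (X' : Scheme.{u}) (g : X' ⟶ X), (∃ g' : X' ⟶ T, g' ≫ t = g) ↔ Good (pullback.snd f a) y g := by
  refine GrpSchLib.exists_weilRestriction (SmoothWeil.hasIdeals_of_cover _ _ fun x => ?_)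
  obtain ⟨U', hxU', I, -, h⟩ := exists_nhd f q a y hd x
  exact ⟨Γ(X, U'), inferInstance, U'.2.fromSpec, inferInstance, U'.2.range_fromSpec.ge hxU', _, h⟩

/-- Over a noetherian base one subscheme suffices. -/
theorem exists_goodAt_suffices [CompactSpace X] [Nonempty ι] (hd : FibDense f q)
    (hdir : ∀ i j, ∃ k, (∃ h : Q i ⟶ Q k, h ≫ q k = q i) ∧ ∃ h : Q j ⟶ Q k, h ≫ q k = q j) :
    ∃ k, ∀ (T : Scheme.{u}) (g : T ⟶ X), Good (pullback.snd f a) y g ↔ GoodAt f q a y k g := by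
  classical
  choose U' hxU' I hI hgood using exists_nhd f q a y hd
  obtain ⟨t, ht⟩ := isCompact_univ.elim_finite_subcover (fun x => ((U' x).1 : Set X)) (fun x => (U' x).1.2)
    fun x _ => Set.mem_iUnion.mpr ⟨x, hxU' x⟩
  have hmono : ∀ x i k, (∃ h : Q i ⟶ Q k, h ≫ q k = q i) → I x i ≤ I x k := fun x i k ⟨h, hh⟩ =>
    ((hI x i _ (Ideal.Quotient.mk (I x k))).mp
      (GoodAt.mono f q a y h hh ((hI x k _ (Ideal.Quotient.mk (I x k))).mpr Ideal.mk_ker.ge))).trans Ideal.mk_ker.le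
  have hmax : ∀ x, ∃ m, ∀ i, I x i ≤ I x m := fun x => by
    haveI : IsNoetherianRing Γ(X, U' x) := IsLocallyNoetherian.component_noetherian (U' x)
    obtain ⟨_, ⟨m, rfl⟩, hm⟩ :=
      (wellFounded_gt (α := Ideal Γ(X, U' x))).has_min (Set.range (I x)) (Set.range_nonempty _)
    refine ⟨m, fun i => ?_⟩
    obtain ⟨k, hik, hmk⟩ := hdir i m
    have : I x m = I x k := by
      by_contra hne
      exact hm _ ⟨k, rfl⟩ (lt_of_le_of_ne (hmono x m k hmk) hne)
    exact this ▸ hmono x i k hik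
  choose mx hmx using hmax
  have hub : ∀ s : Finset X, ∃ k, ∀ x ∈ s, I x (mx x) ≤ I x k := by
    have key : ∀ s : Finset X, ∃ k, ∀ x ∈ s, ∀ j, (∃ h : Q k ⟶ Q j, h ≫ q j = q k) → I x (mx x) ≤ I x j := by
      intro s
      induction s using Finset.induction_on with
      | empty => exact ⟨Classical.arbitrary ι, by simp⟩
      | insert x s _ ih =>
        obtain ⟨k, hk⟩ := ih
        obtain ⟨k', ⟨h₁, hh₁⟩, ⟨h₂, hh₂⟩⟩ := hdir k (mx x)
        refine ⟨k', fun z hz j ⟨h, hh⟩ => ?_⟩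
        rcases Finset.mem_insert.mp hz with rfl | hz
        · exact hmono _ _ j ⟨h₂ ≫ h, by rw [Category.assoc, hh, hh₂]⟩
        · exact hk z hz j ⟨h₁ ≫ h, by rw [Category.assoc, hh, hh₁]⟩
    intro s
    obtain ⟨k, hk⟩ := key s
    exact ⟨k, fun x hx => hk x hx k ⟨𝟙 _, Category.id_comp _⟩⟩
  obtain ⟨k, hk⟩ := hub t
  refine ⟨k, fun T g => ⟨fun h => GoodAt.of_good f q a y h k, fun h => ?_⟩⟩
  have hloc : ∀ w : T, ∃ (A : Type u) (_ : CommRing A) (b : Spec (CommRingCat.of A) ⟶ T),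
      IsOpenImmersion b ∧ w ∈ Set.range b ∧ Good (pullback.snd f a) y (b ≫ g) := by
    intro w
    obtain ⟨x, hx, hxw⟩ := Set.mem_iUnion₂.mp (ht (Set.mem_univ (g w)))
    obtain ⟨O, hO, hwO, hOle⟩ := exists_isAffineOpen_mem_and_subset (U := g ⁻¹ᵁ (U' x).1) (x := w) hxw
    refine ⟨Γ(T, O), inferInstance, hO.fromSpec, inferInstance, hO.range_fromSpec.ge hwO, ?_⟩
    have e : hO.fromSpec ≫ g = sp (g.appLE (U' x).1 O hOle).hom ≫ (U' x).2.fromSpec :=
      (IsAffineOpen.SpecMap_appLE_fromSpec g (U' x).2 hO hOle).symm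
    rw [e]
    refine (hgood x _ _).mpr (iSup_le fun i => (hmx x i).trans ((hk x hx).trans ((hI x k _ _).mp ?_)))
    rw [← e]
    obtain ⟨l, hl⟩ := (goodAt_iff f q a y k g).mp h |>.comp _ _ hO.fromSpec
    exact (goodAt_iff f q a y k _).mpr ⟨l, hl⟩
  choose A _ b hb hwb hg using hloc
  exact Good.of_cover _ _ g (Scheme.Cover.mkOfCovers T _ b (fun w => ⟨w, hwb w⟩) hb) hg

end Groth.Agent.GrpFieldLib.TorsionDense
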