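import Mathlib

/-! Families of flat algebras which are dense on every fibre are dense after every noetherian base change. -/

open TensorProduct

universe u

namespace Groth.Agent.GrpFieldLib.TorsionDense

section Local

variable {A : Type u} [CommRing A] [IsLocalRing A] [IsNoetherianRing A]

local notation "𝔪" => IsLocalRing.maximalIdeal A

/-- Generators of a power of the maximal ideal which are independent modulo the next power. -/
theorem exists_indep_gens (k : ℕ) : ∃ (r : ℕ) (a : Fin r → A), (∀ i, a i ∈ 𝔪 ^ k) ∧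
    𝔪 ^ k ≤ Ideal.span (Set.range a) ⊔ 𝔪 ^ (k + 1) ∧
    ∀ c : Fin r → A, ∑ i, a i * c i ∈ 𝔪 ^ (k + 1) → ∀ i, c i ∈ 𝔪 := by
  classical
  let P : ℕ → Prop := fun r => ∃ a : Fin r → A, (∀ i, a i ∈ 𝔪 ^ k) ∧
    𝔪 ^ k ≤ Ideal.span (Set.range a) ⊔ 𝔪 ^ (k + 1)
  have hex : ∃ r, P r := by
    obtain ⟨s, hs⟩ := (isNoetherianRing_iff_ideal_fg A).mp inferInstance (𝔪 ^ k)
    refine ⟨s.card, fun i => (s.equivFin.symm i : A),
      fun i => hs ▸ Ideal.subset_span (s.equivFin.symm i).2, ?_⟩
    refine le_sup_of_le_left (hs.ge.trans (Ideal.span_mono fun x hx => ⟨s.equivFin ⟨x, hx⟩, ?_⟩))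
    simp
  obtain ⟨a, ha, hspan⟩ := Nat.find_spec hex
  refine ⟨_, a, ha, hspan, fun c hc i => ?_⟩
  by_contra hci
  obtain ⟨u, hu⟩ := (IsLocalRing.notMem_maximalIdeal.mp hci : IsUnit (c i))
  let L : Ideal A := Ideal.span (a '' {j | j ≠ i}) ⊔ 𝔪 ^ (k + 1)
  have hai : a i ∈ L := by
    rw [Fintype.sum_eq_add_sum_compl i] at hc
    have h1 : ∑ j ∈ {i}ᶜ, a j * c j ∈ Ideal.span (a '' {j | j ≠ i}) :=
      Ideal.sum_mem _ fun j hj => Ideal.mul_mem_right _ _ (Ideal.subset_span ⟨j, by simpa using hj, rfl⟩)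
    have h2 : a i * c i ∈ L := by
      have := sub_mem (Ideal.mem_sup_right (S := Ideal.span (a '' {j | j ≠ i})) hc)
        (Ideal.mem_sup_left (T := 𝔪 ^ (k + 1)) h1)
      rwa [add_sub_cancel_right] at this
    rwa [← hu, Ideal.mul_unit_mem_iff_mem _ u.isUnit] at h2
  let s : Finset (Fin (Nat.find hex)) := {i}ᶜ
  refine Nat.find_min hex (m := s.card) ?_ ⟨fun j => a (s.equivFin.symm j).1, fun j => ha _, ?_⟩
  · rw [Finset.card_compl, Fintype.card_fin, Finset.card_singleton]
    have := i.isLt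
    omega
  · refine hspan.trans (sup_le (Ideal.span_le.mpr ?_) le_sup_right)
    have hle : L ≤ Ideal.span (Set.range fun j => a (s.equivFin.symm j).1) ⊔ 𝔪 ^ (k + 1) :=
      sup_le_sup_right (Ideal.span_mono (by
        rintro _ ⟨j, hj, rfl⟩
        exact ⟨s.equivFin ⟨j, by simpa [s] using hj⟩, by simp⟩)) _
    rintro _ ⟨j, rfl⟩
    rcases eq_or_ne j i with rfl | hj
    · exact hle hai
    · exact hle (Ideal.mem_sup_left (Ideal.subset_span ⟨j, hj, rfl⟩))

/-- Independent elements modulo a power stay independent in flat algebras. -/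
theorem mem_map_of_sum_mem {C : Type u} [CommRing C] [Algebra A C] [Module.Flat A C] (k : ℕ) {r : ℕ} (a : Fin r → A)
    (hind : ∀ c : Fin r → A, ∑ i, a i * c i ∈ 𝔪 ^ (k + 1) → ∀ i, c i ∈ 𝔪) (c : Fin r → C)
    (hc : ∑ i, algebraMap A C (a i) * c i ∈ (𝔪 ^ (k + 1)).map (algebraMap A C)) (i : Fin r) :
    c i ∈ (IsLocalRing.maximalIdeal A).map (algebraMap A C) := by
  classical
  obtain ⟨n, e, he⟩ := Submodule.fg_iff_exists_fin_generating_family.mp
    ((isNoetherianRing_iff_ideal_fg A).mp inferInstance (𝔪 ^ (k + 1)))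
  have he' : Ideal.span (Set.range e) = 𝔪 ^ (k + 1) := he
  rw [← he', Ideal.map_span, ← Set.range_comp, Ideal.span, Submodule.mem_span_range_iff_exists_fun] at hc
  obtain ⟨d, hd⟩ := hc
  have hrel : ∑ j, Fin.append a e j • Fin.append c (-d) j = 0 := by
    rw [Fin.sum_univ_add]
    simp only [Fin.append_left, Fin.append_right, Algebra.smul_def, Pi.neg_apply, mul_neg,
      Finset.sum_neg_distrib, ← sub_eq_add_neg, sub_eq_zero]
    rw [← hd]
    exact Finset.sum_congr rfl fun l _ => by rw [smul_eq_mul, Function.comp_apply, mul_comm]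
  obtain ⟨n', B, z, hz, hB⟩ := Module.Flat.isTrivialRelation_of_sum_smul_eq_zero (R := A) (M := C) hrel
  have hci := hz (Fin.castAdd n i)
  rw [Fin.append_left] at hci
  rw [hci]
  refine Ideal.sum_mem _ fun j _ => ?_
  rw [Algebra.smul_def]
  refine Ideal.mul_mem_right _ _ (Ideal.mem_map_of_mem _ (hind (fun i => B (Fin.castAdd n i) j) ?_ i))
  have h := hB j
  rw [Fin.sum_univ_add] at h
  simp only [Fin.append_left, Fin.append_right] at h
  rw [eq_neg_of_add_eq_zero_left h, neg_mem_iff]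
  exact Ideal.sum_mem _ fun l _ => Ideal.mul_mem_right _ _ (he' ▸ Ideal.subset_span ⟨l, rfl⟩)

/-- A family dense on the closed fibre is dense near it. -/
theorem eq_zero_of_dense {B : Type u} [CommRing B] [Algebra A B] [IsNoetherianRing B] {ι : Type*} (C : ι → Type u)
    [∀ j, CommRing (C j)] [∀ j, Algebra A (C j)] [∀ j, Module.Flat A (C j)] (α : ∀ j, B →ₐ[A] C j)
    (hdense : ∀ g : B, (∀ j, α j g ∈ (IsLocalRing.maximalIdeal A).map (algebraMap A (C j))) →
      g ∈ (IsLocalRing.maximalIdeal A).map (algebraMap A B))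
    (b : B) (hb : ∀ j, α j b = 0) (Q : Ideal B) [Q.IsPrime]
    (hQ : (IsLocalRing.maximalIdeal A).map (algebraMap A B) ≤ Q) : ∃ s ∉ Q, s * b = 0 := by
  classical
  have hk : ∀ k : ℕ, b ∈ (𝔪 ^ k).map (algebraMap A B) := by
    intro k
    induction k with
    | zero => simp [Ideal.map_top]
    | succ k ih =>
      obtain ⟨r, a, ha, hspan, hind⟩ := exists_indep_gens (A := A) k
      have h1 := Ideal.map_mono (f := algebraMap A B) hspan ih
      rw [Ideal.map_sup, Ideal.map_span, ← Set.range_comp] at h1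
      obtain ⟨x, hx, d, hd, rfl⟩ := Submodule.mem_sup.mp h1
      obtain ⟨g, rfl⟩ := (Submodule.mem_span_range_iff_exists_fun B).mp hx
      refine add_mem (Ideal.sum_mem _ fun i _ => ?_) hd
      have hg : g i ∈ (IsLocalRing.maximalIdeal A).map (algebraMap A B) := hdense _ fun j => by
        refine mem_map_of_sum_mem k a hind (fun i => α j (g i)) ?_ i
        have h2 := hb j
        rw [map_add, map_sum] at h2
        have h3 : ∑ i, algebraMap A (C j) (a i) * α j (g i) = -α j d := by
          rw [← eq_neg_of_add_eq_zero_left h2]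
          exact Finset.sum_congr rfl fun l _ => by
            rw [smul_eq_mul, Function.comp_apply, map_mul, AlgHom.commutes, mul_comm]
        rw [h3, neg_mem_iff]
        have h4 := Ideal.mem_map_of_mem (α j).toRingHom hd
        rwa [Ideal.map_map, show (α j).toRingHom.comp (algebraMap A B) = algebraMap A (C j) from (α j).comp_algebraMap] at h4
      have := Ideal.mul_mem_mul hg (Ideal.mem_map_of_mem (algebraMap A B) (ha i))
      rwa [← Ideal.map_mul, ← pow_succ'] at this
  have h0 : algebraMap B (Localization.AtPrime Q) b ∈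
      ⨅ k, IsLocalRing.maximalIdeal (Localization.AtPrime Q) ^ k := by
    refine Ideal.mem_iInf.mpr fun k => ?_
    have hle : ((𝔪 ^ k).map (algebraMap A B)).map (algebraMap B (Localization.AtPrime Q)) ≤
        IsLocalRing.maximalIdeal (Localization.AtPrime Q) ^ k := by
      rw [Ideal.map_pow, Ideal.map_pow]
      refine Ideal.pow_right_mono ?_ k
      rw [← Localization.AtPrime.map_eq_maximalIdeal]
      exact Ideal.map_mono hQ
    exact hle (Ideal.mem_map_of_mem _ (hk k))
  rw [Ideal.iInf_pow_eq_bot_of_isLocalRing _ (IsLocalRing.maximalIdeal.isMaximal _).ne_top, Ideal.mem_bot,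
    IsLocalization.map_eq_zero_iff Q.primeCompl] at h0
  obtain ⟨⟨s, hs⟩, hsb⟩ := h0
  exact ⟨s, hs, hsb⟩

end Local

/-- Points of a tensor product. -/
theorem exists_hom {P M N T : Type u} [CommRing P] [CommRing M] [CommRing N] [CommRing T] [Algebra P M] [Algebra P N]
    (f : M →+* T) (g : N →+* T) (h : f.comp (algebraMap P M) = g.comp (algebraMap P N)) :
    ∃ u : M ⊗[P] N →+* T, u.comp (algebraMap M (M ⊗[P] N)) = f ∧
      u.comp (Algebra.TensorProduct.includeRight : N →ₐ[P] M ⊗[P] N).toRingHom = g := by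
  letI : Algebra P T := (f.comp (algebraMap P M)).toAlgebra
  let fA : M →ₐ[P] T := { f with commutes' := fun _ => rfl }
  let gA : N →ₐ[P] T := { g with commutes' := fun z => (RingHom.congr_fun h z).symm }
  exact ⟨(Algebra.TensorProduct.lift fA gA fun _ _ => mul_comm (G := T) _ _).toRingHom,
    RingHom.ext fun z => by simp [fA], RingHom.ext fun z => by simp [gA]⟩

/-- Ring maps out of a tensor product agreeing on both factors are equal. -/
theorem hom_ext {P M M' N T : Type u} [CommRing P] [CommRing M] [CommRing M'] [CommRing N] [CommRing T] [Algebra P M]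
    [Algebra P M'] [Algebra P N] (φ : M →ₐ[P] M') (u : M' ⊗[P] N →+* T) (v : M ⊗[P] N →+* T)
    (h₁ : (u.comp (algebraMap M' (M' ⊗[P] N))).comp φ.toRingHom = v.comp (algebraMap M (M ⊗[P] N)))
    (h₂ : u.comp (Algebra.TensorProduct.includeRight : N →ₐ[P] M' ⊗[P] N).toRingHom =
      v.comp (Algebra.TensorProduct.includeRight : N →ₐ[P] M ⊗[P] N).toRingHom) :
    u.comp (Algebra.TensorProduct.map φ (AlgHom.id P N)).toRingHom = v := by
  refine RingHom.ext fun x => ?_
  induction x using TensorProduct.induction_on with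
  | zero => simp
  | tmul r b =>
    have hsplit : r ⊗ₜ[P] b = algebraMap M (M ⊗[P] N) r *
        (Algebra.TensorProduct.includeRight : N →ₐ[P] M ⊗[P] N) b := by simp
    rw [hsplit, map_mul, map_mul]
    refine congrArg₂ (· * ·) ?_ ?_
    · show u (Algebra.TensorProduct.map φ (AlgHom.id P N) (r ⊗ₜ[P] (1 : N))) = _
      rw [Algebra.TensorProduct.map_tmul, map_one]
      exact RingHom.congr_fun h₁ r
    · show u (Algebra.TensorProduct.map φ (AlgHom.id P N) ((1 : M) ⊗ₜ[P] b)) = _
      rw [Algebra.TensorProduct.map_tmul, map_one]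
      exact RingHom.congr_fun h₂ b
  | add x y hx hy => rw [map_add, map_add, hx, hy]

set_option maxHeartbeats 1000000 in
/-- A family of flat algebras injective on all fibres is injective after noetherian base change. -/
theorem eq_zero_of_fibrewise {R₀ R B₀ : Type u} [CommRing R₀] [CommRing R] [Algebra R₀ R] [IsNoetherianRing R]
    [CommRing B₀] [Algebra R₀ B₀] [Algebra.FiniteType R₀ B₀] {ι : Type*} (C : ι → Type u) [∀ j, CommRing (C j)]
    [∀ j, Algebra R₀ (C j)] [∀ j, Module.Flat R₀ (C j)] (α : ∀ j, B₀ →ₐ[R₀] C j)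
    (hdense : ∀ (K : Type u) [Field K] [Algebra R₀ K] (g : K ⊗[R₀] B₀),
      (∀ j, Algebra.TensorProduct.map (AlgHom.id R₀ K) (α j) g = 0) → g = 0)
    (z : R ⊗[R₀] B₀) (hz : ∀ j, Algebra.TensorProduct.map (AlgHom.id R₀ R) (α j) z = 0) : z = 0 := by
  classical
  refine eq_zero_of_localization z fun q hq => ?_
  let p : Ideal R := q.comap (algebraMap R (R ⊗[R₀] B₀))
  haveI : p.IsPrime := Ideal.IsPrime.comap _
  let A := Localization.AtPrime p
  let L := Localization.AtPrime q
  let η : R ⊗[R₀] B₀ →ₐ[R₀] A ⊗[R₀] B₀ :=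
    Algebra.TensorProduct.map (IsScalarTower.toAlgHom R₀ R A) (AlgHom.id R₀ B₀)
  let f : A →+* L := IsLocalization.lift (M := p.primeCompl)
    (g := (algebraMap (R ⊗[R₀] B₀) L).comp (algebraMap R (R ⊗[R₀] B₀))) fun y =>
      IsLocalization.map_units L (⟨algebraMap R (R ⊗[R₀] B₀) y.1, y.2⟩ : q.primeCompl)
  obtain ⟨lam, hlam₁, hlam₂⟩ := exists_hom (P := R₀) (M := A) (N := B₀) (T := L) f
    ((algebraMap (R ⊗[R₀] B₀) L).comp (Algebra.TensorProduct.includeRight : B₀ →ₐ[R₀] R ⊗[R₀] B₀).toRingHom)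
    (RingHom.ext fun r => by
      show f (algebraMap R₀ A r) =
        algebraMap (R ⊗[R₀] B₀) L (Algebra.TensorProduct.includeRight (algebraMap R₀ B₀ r))
      rw [AlgHom.commutes, IsScalarTower.algebraMap_apply R₀ R A]
      exact IsLocalization.lift_eq _ _)
  have hlamη : lam.comp η.toRingHom = algebraMap (R ⊗[R₀] B₀) L :=
    hom_ext (IsScalarTower.toAlgHom R₀ R A) lam (algebraMap (R ⊗[R₀] B₀) L)
      (RingHom.ext fun r => (RingHom.congr_fun hlam₁ (algebraMap R A r)).trans (IsLocalization.lift_eq _ r)) hlam₂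
  let Q : Ideal (A ⊗[R₀] B₀) := (IsLocalRing.maximalIdeal L).comap lam
  haveI : Q.IsPrime := Ideal.IsPrime.comap _
  have hQ : (IsLocalRing.maximalIdeal A).map (algebraMap A (A ⊗[R₀] B₀)) ≤ Q := by
    rw [Ideal.map_le_iff_le_comap, ← Localization.AtPrime.map_eq_maximalIdeal, Ideal.map_le_iff_le_comap]
    intro x hx
    show lam (algebraMap A _ (algebraMap R A x)) ∈ IsLocalRing.maximalIdeal L
    rw [show lam (algebraMap A _ (algebraMap R A x)) = f (algebraMap R A x) from RingHom.congr_fun hlam₁ _,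
      IsLocalization.lift_eq, ← Localization.AtPrime.map_eq_maximalIdeal]
    exact Ideal.mem_map_of_mem _ hx
  haveI : IsNoetherianRing (A ⊗[R₀] B₀) := Algebra.FiniteType.isNoetherianRing A _
  let K := IsLocalRing.ResidueField A
  let ρ : A →ₐ[R₀] K := IsScalarTower.toAlgHom R₀ A K
  have hρ : Function.Surjective ρ := IsLocalRing.residue_surjective
  have hkρ : RingHom.ker ρ = IsLocalRing.maximalIdeal A := by
    ext x
    exact IsLocalRing.residue_eq_zero_iff x
  let α' : ∀ j, A ⊗[R₀] B₀ →ₐ[A] A ⊗[R₀] C j := fun j => Algebra.TensorProduct.map (AlgHom.id A A) (α j)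
  have hd : ∀ g : A ⊗[R₀] B₀,
      (∀ j, α' j g ∈ (IsLocalRing.maximalIdeal A).map (algebraMap A (A ⊗[R₀] C j))) →
        g ∈ (IsLocalRing.maximalIdeal A).map (algebraMap A (A ⊗[R₀] B₀)) := by
    intro g hg
    have hk : RingHom.ker (Algebra.TensorProduct.map ρ (AlgHom.id R₀ B₀)) =
        (IsLocalRing.maximalIdeal A).map (algebraMap A (A ⊗[R₀] B₀)) := by
      rw [Algebra.TensorProduct.rTensor_ker _ hρ, hkρ]
      rfl
    rw [← hk, RingHom.mem_ker]
    refine hdense K _ fun j => ?_
    have hkC : RingHom.ker (Algebra.TensorProduct.map ρ (AlgHom.id R₀ (C j))) =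
        (IsLocalRing.maximalIdeal A).map (algebraMap A (A ⊗[R₀] C j)) := by
      rw [Algebra.TensorProduct.rTensor_ker _ hρ, hkρ]
      rfl
    have h1 := hg j
    rw [← hkC, RingHom.mem_ker] at h1
    rw [← h1]
    refine AlgHom.congr_fun (φ₁ := (Algebra.TensorProduct.map (AlgHom.id R₀ K) (α j)).comp
        (Algebra.TensorProduct.map ρ (AlgHom.id R₀ B₀)))
      (φ₂ := (Algebra.TensorProduct.map ρ (AlgHom.id R₀ (C j))).comp ((α' j).restrictScalars R₀)) ?_ g
    ext <;> simp [α']
  have hb : ∀ j, α' j (η z) = 0 := fun j => by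
    have e : ((α' j).restrictScalars R₀).comp η =
        (Algebra.TensorProduct.map (IsScalarTower.toAlgHom R₀ R A) (AlgHom.id R₀ (C j))).comp
          (Algebra.TensorProduct.map (AlgHom.id R₀ R) (α j)) := by
      ext <;> simp [α', η]
    refine (AlgHom.congr_fun e z).trans ?_
    rw [AlgHom.comp_apply, hz j, map_zero]
  obtain ⟨s, hs, hsz⟩ := eq_zero_of_dense (fun j => A ⊗[R₀] C j) α' hd (η z) hb Q hQ
  have h2 := congrArg lam hsz
  have hu : IsUnit (lam s) := IsLocalRing.notMem_maximalIdeal.mp hs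
  rw [map_mul, map_zero, hu.mul_right_eq_zero,
    show lam (η z) = algebraMap (R ⊗[R₀] B₀) L z from RingHom.congr_fun hlamη z] at h2
  exact h2

end Groth.Agent.GrpFieldLib.TorsionDense
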