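import Groth.Agent.GrpFieldLib.TorsionDense
import Groth.Agent.GrpFieldLib.JetTransporter

/-! The kernels of the power maps of a commutative group as the dense family. -/

universe u

open CategoryTheory Limits AlgebraicGeometry MonoidalCategory CartesianMonoidalCategory MonObj GrpObj

namespace Groth.Agent.GrpFieldLib.TorsionDense

open Groth.Agent.GrpSchLib (Good)

variable {S : Scheme.{u}} (H : Over S) [GrpObj H]

/-- The kernel of the `n`-th power map inside `H`. -/
noncomputable abbrev kerPow (n : ℕ) : pullback η[H].left (𝟙 H ^ n : H ⟶ H).left ⟶ H.left :=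
  pullback.snd η[H].left (𝟙 H ^ n : H ⟶ H).left

theorem pow_eq_one_iff {X : Over S} (z : X ⟶ H) (n : ℕ) :
    z ^ n = 1 ↔ ∃ w : X.left ⟶ pullback η[H].left (𝟙 H ^ n : H ⟶ H).left, w ≫ kerPow H n = z.left := by
  have hz : (z ^ n).left = z.left ≫ (𝟙 H ^ n : H ⟶ H).left := by
    rw [← Over.comp_left, MonObj.comp_pow, Category.comp_id]
  have h1 : (1 : X ⟶ H).left = X.hom ≫ η[H].left := rfl
  have hfst : pullback.fst η[H].left (𝟙 H ^ n : H ⟶ H).left = kerPow H n ≫ H.hom := by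
    have hη : η[H].left ≫ H.hom = 𝟙 S := Over.w η[H]
    calc pullback.fst η[H].left (𝟙 H ^ n : H ⟶ H).left
        = (pullback.fst η[H].left (𝟙 H ^ n : H ⟶ H).left ≫ η[H].left) ≫ H.hom := by
          rw [Category.assoc, hη]; exact (Category.comp_id _).symm
      _ = _ := by rw [pullback.condition, Category.assoc, Over.w]
  constructor
  · intro h
    exact ⟨pullback.lift X.hom z.left (by rw [← h1, ← hz, h]), pullback.lift_snd _ _ _⟩
  · rintro ⟨w, hw⟩
    refine Over.OverMorphism.ext ?_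
    rw [hz, h1, ← hw, Category.assoc, ← pullback.condition, hfst, Category.assoc, reassoc_of% hw,
      ← Category.assoc, Over.w z]

theorem kerPow_le {n m : ℕ} (h : n ∣ m) :
    ∃ e : pullback η[H].left (𝟙 H ^ n : H ⟶ H).left ⟶ pullback η[H].left (𝟙 H ^ m : H ⟶ H).left,
      e ≫ kerPow H m = kerPow H n := by
  obtain ⟨d, rfl⟩ := h
  let z : Over.mk (kerPow H n ≫ H.hom) ⟶ H := Over.homMk (kerPow H n) rfl
  have hz : z ^ n = 1 := (pow_eq_one_iff H z n).mpr ⟨𝟙 _, Category.id_comp _⟩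
  exact (pow_eq_one_iff H z (n * d)).mp (by rw [pow_mul, hz, one_pow])

theorem kerPow_directed {E : Set ℕ} (hEmul : ∀ m ∈ E, ∀ n ∈ E, m * n ∈ E) (i j : E) :
    ∃ k : E, (∃ h, h ≫ kerPow H k.1 = kerPow H i.1) ∧ ∃ h, h ≫ kerPow H k.1 = kerPow H j.1 :=
  ⟨⟨i.1 * j.1, hEmul _ i.2 _ j.2⟩, kerPow_le H (dvd_mul_right _ _), kerPow_le H (dvd_mul_left _ _)⟩

end Groth.Agent.GrpFieldLib.TorsionDense
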