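import Groth.Agent.GrpFieldLib.TwSplit

/-!
# fppf twisted constant schemes are etale twisted constant
-/

set_option autoImplicit false
set_option backward.isDefEq.respectTransparency false
set_option backward.isDefEq.respectTransparency.types false

universe u

open CategoryTheory CategoryTheory.Limits AlgebraicGeometry TopologicalSpace

namespace Groth.Agent.GrpFieldLib.TwSplit

/-- Pure inseparability of the residue extension passes to an open subscheme. -/
theorem isPurelyInseparable_opens {A U : Scheme.{u}} (π : A ⟶ U) (V : A.Opens) (w : (V : Scheme.{u}))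
    (h : letI := (π.residueFieldMap (V.ι w)).hom.toAlgebra
      IsPurelyInseparable ↑(U.residueField (π (V.ι w))) ↑(A.residueField (V.ι w))) :
    letI := ((V.ι ≫ π).residueFieldMap w).hom.toAlgebra
    IsPurelyInseparable ↑(U.residueField ((V.ι ≫ π) w)) ↑((V : Scheme.{u}).residueField w) := by
  letI := ((V.ι ≫ π).residueFieldMap w).hom.toAlgebra
  letI := (π.residueFieldMap (V.ι w)).hom.toAlgebra
  haveI := h
  have hbij : Function.Bijective (V.ι.residueFieldMap w).hom :=
    (ConcreteCategory.isIso_iff_bijective (V.ι.residueFieldMap w)).1 inferInstance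
  rw [isPurelyInseparable_iff_pow_mem (U.residueField ((V.ι ≫ π) w))
    (ringExpChar (U.residueField ((V.ι ≫ π) w)))]
  intro x
  obtain ⟨y, rfl⟩ := hbij.2 x
  obtain ⟨n, c, hc⟩ := IsPurelyInseparable.pow_mem (U.residueField (π (V.ι w)))
    (ringExpChar (U.residueField (π (V.ι w)))) y
  refine ⟨n, c, ?_⟩
  show ((V.ι ≫ π).residueFieldMap w).hom c = _
  rw [Scheme.residueFieldMap_comp]
  exact (congrArg (V.ι.residueFieldMap w).hom hc).trans (map_pow _ _ _)

/-- A flat cover is refined near a point by a finite flat piece with purely inseparable residue extension over an etale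
neighbourhood. -/
theorem exists_finite_flat_nbhd {S S' : Scheme.{u}} (f : S' ⟶ S) [Flat f] [LocallyOfFinitePresentation f] (s : S)
    (hs : s ∈ Set.range f) :
    ∃ (U : Scheme.{u}) (g : U ⟶ S) (u : U) (Z : Scheme.{u}) (p : Z ⟶ U) (v : Z) (r : Z ⟶ S'),
      Etale g ∧ g u = s ∧ IsFinite p ∧ Flat p ∧ LocallyOfFinitePresentation p ∧ p v = u ∧ (∀ w, p w = u → w = v) ∧
      (letI := (p.residueFieldMap v).hom.toAlgebra
       IsPurelyInseparable ↑(U.residueField (p v)) ↑(Z.residueField v)) ∧ r ≫ f = p ≫ g := by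
  let O : S.Opens := ⟨Set.range f, f.isOpenMap.isOpen_range⟩
  let f₀ : S' ⟶ O := IsOpenImmersion.lift O.ι f (by rw [Scheme.Opens.range_ι]; rfl)
  have hf₀ : f₀ ≫ O.ι = f := IsOpenImmersion.lift_fac _ _ _
  haveI : Flat (f₀ ≫ O.ι) := by rw [hf₀]; infer_instance
  haveI : Flat f₀ := MorphismProperty.of_postcomp (W := @Flat) (W' := @IsOpenImmersion) f₀ O.ι inferInstance ‹_›
  haveI : LocallyOfFinitePresentation (f₀ ≫ O.ι) := by rw [hf₀]; infer_instance
  haveI : LocallyOfFinitePresentation f₀ :=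
    MorphismProperty.of_postcomp (W := @LocallyOfFinitePresentation) (W' := @IsOpenImmersion) f₀ O.ι inferInstance ‹_›
  haveI : Surjective f₀ := ⟨fun x => by
    obtain ⟨a, ha⟩ := x.2
    refine ⟨a, O.ι.isOpenEmbedding.injective ?_⟩
    rw [← Scheme.Hom.comp_apply, hf₀]
    exact ha⟩
  obtain ⟨T, h, r₀, hr₀, hfl, hfp, hqf, hsu, -⟩ := FlatMisc.QfSlice.exists_cover f₀
  obtain ⟨t, ht⟩ := h.surjective (⟨s, hs⟩ : O)
  obtain ⟨W, hW, hsW, -⟩ := exists_isAffineOpen_mem_and_subset (x := h t) (U := ⊤) trivial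
  obtain ⟨T₁, hT₁, htT₁, hT₁W⟩ := exists_isAffineOpen_mem_and_subset (x := t) (U := h ⁻¹ᵁ W) hsW
  haveI : IsAffine (T₁ : Scheme.{u}) := hT₁
  haveI : IsAffine (W : Scheme.{u}) := hW
  let k := h.resLE W T₁ hT₁W
  have hk : k ≫ W.ι = T₁.ι ≫ h := Scheme.Hom.resLE_comp_ι _ _
  haveI : Flat k := by
    haveI : Flat (k ≫ W.ι) := by rw [hk]; infer_instance
    exact MorphismProperty.of_postcomp (W := @Flat) (W' := @IsOpenImmersion) k W.ι inferInstance ‹_›
  haveI : LocallyOfFinitePresentation k := by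
    haveI : LocallyOfFinitePresentation (k ≫ W.ι) := by rw [hk]; infer_instance
    exact MorphismProperty.of_postcomp (W := @LocallyOfFinitePresentation) (W' := @IsOpenImmersion) k W.ι inferInstance ‹_›
  haveI : LocallyQuasiFinite k := by
    haveI : LocallyQuasiFinite (k ≫ W.ι) := by rw [hk]; infer_instance
    exact LocallyQuasiFinite.of_comp k W.ι
  let t₁ : (T₁ : Scheme.{u}) := ⟨t, htT₁⟩
  obtain ⟨U, g₀, u, hg₀, hu, J, -, V, v, -, -, hV, hex⟩ :=
    MorLib.WT.exists_split k (k t₁) (ι := Unit) (fun _ => t₁) (fun _ _ _ => rfl) (fun _ => rfl)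
      fun _ => k.quasiFiniteAt t₁
  haveI := hg₀
  obtain ⟨w, hw1, hw2⟩ := Scheme.Pullback.exists_preimage_pullback (f := k) (g := g₀) t₁ u hu.symm
  obtain ⟨j, -⟩ := hex w () hw2 hw1
  obtain ⟨hv, hfin, hvu, huniq, hpi, -⟩ := hV () j
  let p := (V () j).ι ≫ pullback.snd k g₀
  let v₀ : (V () j : Scheme.{u}) := ⟨v () j, hv⟩
  refine ⟨U, g₀ ≫ W.ι ≫ O.ι, u, V () j, p, v₀, (V () j).ι ≫ pullback.fst k g₀ ≫ T₁.ι ≫ r₀, ?_, ?_, hfin,
    inferInstance, inferInstance, ?_, ?_, ?_, ?_⟩
  · infer_instance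
  · rw [Scheme.Hom.comp_apply, Scheme.Hom.comp_apply, hu]
    rw [← Scheme.Hom.comp_apply k W.ι, hk]
    exact congrArg O.ι ht
  · rw [Scheme.Hom.comp_apply]; exact hvu
  · intro a ha
    rw [Scheme.Hom.comp_apply] at ha
    exact Subtype.ext (huniq _ a.2 ha)
  · exact isPurelyInseparable_opens (pullback.snd k g₀) (V () j) v₀ hpi
  · rw [← hf₀]
    simp only [Category.assoc, p]
    rw [reassoc_of% hr₀, ← Category.assoc T₁.ι h, ← hk]
    simp only [Category.assoc]
    rw [pullback.condition_assoc]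

/-- fppf twisted constant schemes over locally Noetherian bases are etale twisted constant. -/
theorem isTwConst_etale_of_fppf {S : Scheme.{u}} [IsLocallyNoetherian S] (X : Over S)
    (hX : TwC.IsTwConst TwC.Topology.fppf X) : TwC.IsTwConst TwC.Topology.etale X := by
  intro s
  obtain ⟨S', f, hf, hf', hs, I, ⟨e⟩⟩ := hX s
  obtain ⟨U, g, u, Z, p, v, r, hg, hgu, hfin, hfl, hfp, hpv, huniq, hpi, hr⟩ := exists_finite_flat_nbhd f s hs
  haveI : IsLocallyNoetherian U := LocallyOfFiniteType.isLocallyNoetherian g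
  obtain ⟨U', hu, ⟨P⟩⟩ := exists_descend (X := X) g p u v hpv huniq hpi
    (((Splitting.ofIso e).pullback r).congr hr _ rfl (fun i => by
      rw [((Splitting.ofIso e).pullback r).comm i, hr]))
  exact ⟨U', U'.ι ≫ g, inferInstance, ⟨⟨u, hu⟩, by rw [Scheme.Hom.comp_apply]; exact hgu⟩, I, P.nonempty_iso⟩

end Groth.Agent.GrpFieldLib.TwSplit
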