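import Groth.Agent.GrpFieldLib.TwIrred
import Groth.Agent.Hensel.QuasiFiniteSplit

/-!
# Twisted constant schemes over henselian local rings
-/

set_option autoImplicit false
set_option backward.isDefEq.respectTransparency false
set_option backward.isDefEq.respectTransparency.types false

universe u

open CategoryTheory CategoryTheory.Limits AlgebraicGeometry TopologicalSpace IsLocalRing

namespace Groth.Agent.GrpFieldLib.TwSplit

variable {R : Type u} [CommRing R] [HenselianLocalRing R]

theorem preconnectedSpace_spec : PreconnectedSpace ↥(Spec (CommRingCat.of R)) := by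
  refine preconnectedSpace_iff_clopen.2 fun s hs => ?_
  have h : ∀ o : Set ↥(Spec (CommRingCat.of R)), IsOpen o → closedPoint R ∈ o → o = Set.univ := fun o ho hc =>
    Set.eq_univ_of_forall fun a => (specializes_closedPoint a).mem_open ho hc
  by_cases hc : closedPoint R ∈ s
  · exact Or.inr (h s hs.2 hc)
  · exact Or.inl (Set.compl_univ_iff.1 (h sᶜ hs.1.isOpen_compl hc))

/-- An etale scheme over a henselian local ring contains a finite etale piece through each closed-fibre point. -/
theorem exists_finite_etale_piece {U : Scheme.{u}} (f : U ⟶ Spec (CommRingCat.of R)) [Etale f] (a : U)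
    (ha : f a = closedPoint R) :
    ∃ (W : Scheme.{u}) (g : W ⟶ U), IsFinite (g ≫ f) ∧ Etale (g ≫ f) ∧ a ∈ Set.range g := by
  haveI := UnibEtale.locallyQuasiFinite_of_formallyUnramified f
  obtain ⟨V, hV, haV, -⟩ := exists_isAffineOpen_mem_and_subset (x := a) (U := (⊤ : U.Opens)) trivial
  obtain ⟨φ, hφ⟩ := Spec.map_surjective (hV.fromSpec ≫ f)
  letI := φ.hom.toAlgebra
  haveI : LocallyQuasiFinite (Spec.map φ) := by rw [hφ]; infer_instance
  haveI : LocallyOfFiniteType (Spec.map φ) := by rw [hφ]; infer_instance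
  haveI : Algebra.QuasiFinite R Γ(U, V) :=
    (HasRingHomProperty.Spec_iff (P := @LocallyQuasiFinite)).1 ‹LocallyQuasiFinite (Spec.map φ)›
  haveI : Algebra.FiniteType R Γ(U, V) :=
    (HasRingHomProperty.Spec_iff (P := @LocallyOfFiniteType)).1 ‹LocallyOfFiniteType (Spec.map φ)›
  obtain ⟨e, he, hfin, htop⟩ := Hensel.exists_quasiFinite_split R (S := Γ(U, V))
  let q : CommRingCat.of Γ(U, V) ⟶ CommRingCat.of (Γ(U, V) ⧸ Ideal.span ({1 - e} : Set Γ(U, V))) :=
    CommRingCat.ofHom (Ideal.Quotient.mk _)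
  haveI : IsLocalization.Away e (Γ(U, V) ⧸ Ideal.span ({1 - e} : Set Γ(U, V))) :=
    IsLocalization.away_of_isIdempotentElem he Ideal.mk_ker Ideal.Quotient.mk_surjective
  haveI : IsOpenImmersion (Spec.map q) :=
    IsOpenImmersion.of_isLocalization (S := Γ(U, V) ⧸ Ideal.span ({1 - e} : Set Γ(U, V))) e
  refine ⟨_, Spec.map q ≫ hV.fromSpec, ?_, inferInstance, ?_⟩
  · rw [Category.assoc, ← hφ, ← Spec.map_comp, IsFinite.SpecMap_iff]
    show ((Ideal.Quotient.mk _).comp φ.hom).Finite
    have : (algebraMap R (Γ(U, V) ⧸ Ideal.span ({1 - e} : Set Γ(U, V)))).Finite :=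
      RingHom.finite_algebraMap.2 hfin
    exact this
  · obtain ⟨y, hy⟩ : a ∈ Set.range hV.fromSpec := by rw [hV.range_fromSpec]; exact haV
    have hy' : y.asIdeal.comap φ.hom = maximalIdeal R := by
      have : Spec.map φ y = closedPoint R := by
        rw [hφ, Scheme.Hom.comp_apply, hy, ha]
      exact congrArg PrimeSpectrum.asIdeal this
    have hey : e ∉ y.asIdeal := fun hmem => by
      have hle : Ideal.span ({e} : Set Γ(U, V)) ≤ y.asIdeal :=
        (Ideal.span_singleton_le_iff_mem _).2 hmem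
      have h1 : Ideal.map (Ideal.Quotient.mk (Ideal.span ({e} : Set Γ(U, V))))
          (Ideal.map φ.hom (maximalIdeal R)) = ⊤ := by
        rw [Ideal.map_map]; exact htop
      have h2 := congrArg (Ideal.comap (Ideal.Quotient.mk (Ideal.span ({e} : Set Γ(U, V))))) h1
      rw [Ideal.comap_map_of_surjective _ Ideal.Quotient.mk_surjective, Ideal.comap_top, ← RingHom.ker_eq_comap_bot,
        Ideal.mk_ker] at h2
      exact y.isPrime.ne_top (top_unique (h2 ▸ sup_le (Ideal.map_le_iff_le_comap.2 hy'.ge) hle))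
    have hrange : y ∈ Set.range (PrimeSpectrum.comap (algebraMap Γ(U, V) (Γ(U, V) ⧸ Ideal.span ({1 - e} : Set Γ(U, V))))) := by
      rw [PrimeSpectrum.localization_away_comap_range (Γ(U, V) ⧸ Ideal.span ({1 - e} : Set Γ(U, V))) e]
      exact hey
    obtain ⟨w, hw⟩ := hrange
    refine ⟨w, ?_⟩
    rw [Scheme.Hom.comp_apply, ← hy]
    exact congrArg hV.fromSpec hw

/-- A finite clopen piece through every point. -/
theorem exists_finite_clopen (X : Over (Spec (CommRingCat.of R))) (hX : TwC.IsTwConst TwC.Topology.etale X) :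
    ∀ x : X.left, ∃ Z : X.left.Opens, x ∈ Z ∧ IsClosed (Z : Set X.left) ∧ IsFinite (Z.ι ≫ X.hom) := by
  obtain ⟨S', f, hf, ⟨a, ha⟩, I, ⟨e⟩⟩ := hX (closedPoint R)
  haveI := hf
  obtain ⟨W, g, hfin, het, w₀, hw₀⟩ := exists_finite_etale_piece f a ha
  let P := (Splitting.ofIso e).pullback g
  haveI := preconnectedSpace_spec (R := R)
  haveI : Surjective (g ≫ f) := ⟨Set.range_eq_univ.1 (IsClopen.eq_univ
    ⟨(g ≫ f).isClosedMap.isClosed_range, (g ≫ f).isOpenMap.isOpen_range⟩ ⟨_, w₀, rfl⟩)⟩
  have hfpqc : TwC.IsTwConst TwC.Topology.fpqc X := by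
    refine ⟨W, g ≫ f, inferInstance, inferInstance, fun V hV => ⟨(g ≫ f) ⁻¹ᵁ V,
      (g ≫ f).isCompact_preimage hV.isCompact, Set.image_preimage_eq _ (g ≫ f).surjective⟩, fun v =>
      ⟨⊤, trivial, I, ?_⟩⟩
    exact (P.pullback (⊤ : W.Opens).ι).nonempty_iso
  intro x
  obtain ⟨y, rfl⟩ := (pullback.fst X.hom (g ≫ f)).surjective x
  obtain ⟨m, b, rfl⟩ := P.cover y
  haveI := P.isOpen
  let σ := P.σ m
  have hclr : IsClosed (Set.range (sec σ (P.comm m))) := by
    rw [← isOpen_compl_iff]
    have h : (Set.range (sec σ (P.comm m)))ᶜ = ⋃ j ∈ {j | j ≠ m}, Set.range (sec (P.σ j) (P.comm j)) := by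
      ext w
      simp only [Set.mem_compl_iff, Set.mem_iUnion, Set.mem_setOf_eq, exists_prop]
      refine ⟨fun hw => ?_, ?_⟩
      · obtain ⟨j, c, hc⟩ := P.cover w
        exact ⟨j, by rintro rfl; exact hw ⟨c, hc⟩, c, hc⟩
      · rintro ⟨j, hj, c, hc⟩ ⟨d, hd⟩
        exact hj (P.disj j m c d (hc.trans hd.symm))
    rw [h]
    exact isOpen_biUnion fun j _ => (sec (P.σ j) (P.comm j)).isOpenEmbedding.isOpen_range
  have hrange : Set.range σ = pullback.fst X.hom (g ≫ f) '' Set.range (sec σ (P.comm m)) := by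
    rw [← Set.range_comp]
    conv_lhs => rw [← sec_fst σ (P.comm m)]
    rfl
  let Z : X.left.Opens := ⟨Set.range σ, by
    rw [hrange]; exact (pullback.fst X.hom (g ≫ f)).isOpenMap _ (sec σ (P.comm m)).isOpenEmbedding.isOpen_range⟩
  have hZc : IsClosed (Z : Set X.left) := by
    show IsClosed (Set.range σ)
    rw [hrange]; exact (pullback.fst X.hom (g ≫ f)).isClosedMap _ hclr
  haveI : IsClosedImmersion Z.ι := IsClosedImmersion.of_isPreimmersion Z.ι (by rw [Scheme.Opens.range_ι]; exact hZc)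
  haveI : QuasiCompact (Z.ι ≫ X.hom) := by
    rw [quasiCompact_iff_forall_isAffineOpen]
    intro V hV
    let σ' : W ⟶ Z := IsOpenImmersion.lift Z.ι σ (by rw [Scheme.Opens.range_ι]; rfl)
    have hσ' : σ' ≫ Z.ι = σ := IsOpenImmersion.lift_fac _ _ _
    have hsurj : Function.Surjective σ' := fun z => by
      obtain ⟨c, hc⟩ := z.2
      exact ⟨c, Z.ι.isOpenEmbedding.injective ((Scheme.Hom.comp_apply σ' _ c).symm.trans
        ((congrArg (fun φ => φ c) hσ').trans hc))⟩
    have he : σ' ≫ Z.ι ≫ X.hom = g ≫ f := by rw [← Category.assoc, hσ']; exact P.comm m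
    rw [← Set.image_preimage_eq (((Z.ι ≫ X.hom) ⁻¹ᵁ V : (Z : Scheme.{u}).Opens) : Set _) hsurj]
    refine IsCompact.image ?_ σ'.continuous
    have := (g ≫ f).isCompact_preimage hV.isCompact
    rw [← he] at this
    exact this
  refine ⟨Z, ⟨b, ?_⟩, hZc, GrpSchLib.TwConstClosed.isFinite_of_twConst X hfpqc Z.ι⟩
  rw [← Scheme.Hom.comp_apply, sec_fst]

/-- In a finite scheme over a henselian local ring the local schemes of closed points are clopen. -/
theorem fromSpecStalk_clopen (X : Over (Spec (CommRingCat.of R))) (Z : X.left.Opens) (hZc : IsClosed (Z : Set X.left))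
    [IsFinite (Z.ι ≫ X.hom)] {x : X.left} (hxZ : x ∈ Z) (hx : X.hom x = closedPoint R) :
    IsOpenImmersion (X.left.fromSpecStalk x) ∧ IsClosedImmersion (X.left.fromSpecStalk x) := by
  have hZ : IsAffineOpen Z := isAffine_of_isAffineHom (Z.ι ≫ X.hom)
  haveI : IsClosedImmersion hZ.fromSpec := IsClosedImmersion.of_isPreimmersion _ (by rw [hZ.range_fromSpec]; exact hZc)
  obtain ⟨φ, hφ⟩ := Spec.map_surjective (hZ.fromSpec ≫ X.hom)
  letI := φ.hom.toAlgebra
  haveI : Module.Finite R Γ(X.left, Z) := by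
    have : IsFinite (Spec.map φ) := by
      rw [hφ, IsAffineOpen.fromSpec, Category.assoc]
      infer_instance
    exact (IsFinite.SpecMap_iff φ).1 this
  obtain ⟨hfm, e, he, hM⟩ := Hensel.exists_idempotents_of_henselian R Γ(X.left, Z)
  have hcomap : (hZ.primeIdealOf ⟨x, hxZ⟩).asIdeal.comap (algebraMap R Γ(X.left, Z)) = maximalIdeal R := by
    have : Spec.map φ (hZ.primeIdealOf ⟨x, hxZ⟩) = closedPoint R := by
      rw [hφ, Scheme.Hom.comp_apply, hZ.fromSpec_primeIdealOf]; exact hx
    exact congrArg PrimeSpectrum.asIdeal this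
  haveI hmax : (hZ.primeIdealOf ⟨x, hxZ⟩).asIdeal.IsMaximal :=
    Ideal.isMaximal_of_isIntegral_of_isMaximal_comap (R := R) _ (hcomap ▸ inferInstance)
  let M : MaximalSpectrum Γ(X.left, Z) := ⟨_, hmax⟩
  haveI : IsLocalization.AtPrime (Γ(X.left, Z) ⧸ Ideal.span {1 - e M}) (hZ.primeIdealOf ⟨x, hxZ⟩).asIdeal :=
    Hensel.isLocalization_atPrime_quotient_one_sub he.idem hM M
  haveI := hZ.isLocalization_stalk ⟨x, hxZ⟩
  letI : Algebra Γ(X.left, Z) (X.left.presheaf.stalk x) := TopCat.Presheaf.algebra_section_stalk X.left.presheaf ⟨x, hxZ⟩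
  let ψ := IsLocalization.algEquiv (hZ.primeIdealOf ⟨x, hxZ⟩).asIdeal.primeCompl
    (Γ(X.left, Z) ⧸ Ideal.span {1 - e M}) (X.left.presheaf.stalk x)
  have hsurj : Function.Surjective (algebraMap Γ(X.left, Z) (X.left.presheaf.stalk x)) := fun y => by
    obtain ⟨z, hz⟩ := Ideal.Quotient.mk_surjective (ψ.symm y)
    exact ⟨z, ((ψ.commutes z).symm.trans (congrArg ψ hz)).trans (ψ.apply_symm_apply y)⟩
  have hker : RingHom.ker (algebraMap Γ(X.left, Z) (X.left.presheaf.stalk x)) = Ideal.span {1 - e M} := by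
    ext z
    rw [RingHom.mem_ker, ← ψ.commutes z, map_eq_zero_iff _ ψ.injective]
    exact Ideal.Quotient.eq_zero_iff_mem
  haveI := IsLocalization.away_of_isIdempotentElem (he.idem M) hker hsurj
  haveI : IsOpenImmersion (Spec.map (X.left.presheaf.germ Z x hxZ)) :=
    IsOpenImmersion.of_isLocalization (S := X.left.presheaf.stalk x) (e M)
  haveI : IsClosedImmersion (Spec.map (X.left.presheaf.germ Z x hxZ)) := IsClosedImmersion.spec_of_surjective _ hsurj
  rw [← hZ.fromSpecStalk_eq_fromSpecStalk hxZ]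
  exact ⟨inferInstanceAs (IsOpenImmersion (_ ≫ _)), inferInstanceAs (IsClosedImmersion (_ ≫ _))⟩

/-- A finite etale morphism to a connected base with a trivial fibre is an isomorphism. -/
theorem isIso_of_point {A S : Scheme.{u}} [PreconnectedSpace S] (p : A ⟶ S) [IsFinite p] [Etale p]
    {K : Type u} [Field K] (j : Spec (CommRingCat.of K) ⟶ S) [IsPreimmersion j]
    (τ : Spec (CommRingCat.of K) ⟶ A) (hτ : τ ≫ p = j)
    (huniq : ∀ c d : A, p c = j (closedPoint K) → p d = j (closedPoint K) → c = d) : IsIso p := by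
  haveI := FibDim.subsingleton_spec_field K
  haveI : Subsingleton ↥(pullback p j) := by
    refine ⟨fun a b => (pullback.fst p j).isEmbedding.injective (huniq _ _ ?_ ?_)⟩ <;>
      rw [← Scheme.Hom.comp_apply, pullback.condition, Scheme.Hom.comp_apply] <;>
      exact congrArg j (Subsingleton.elim (α := ↥(Spec (CommRingCat.of K))) _ _)
  let σ := pullback.lift τ (𝟙 _) (hτ.trans (Category.id_comp j).symm)
  have hσ : σ ≫ pullback.snd p j = 𝟙 _ := pullback.lift_snd _ _ _
  haveI : IsIso (pullback.snd p j) := by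
    haveI : Etale (pullback.snd p j) := inferInstance
    haveI : Etale (σ ≫ pullback.snd p j) := by rw [hσ]; infer_instance
    haveI : Etale σ := Etale.of_comp σ (pullback.snd p j)
    haveI : IsClosedImmersion (σ ≫ pullback.snd p j) := by rw [hσ]; infer_instance
    haveI : IsClosedImmersion σ := IsClosedImmersion.of_comp σ (pullback.snd p j)
    haveI : IsOpenImmersion σ := AlgebraicGeometry.IsOpenImmersion.of_flat_of_mono σ
    haveI : IsIso σ := isIso_of_isOpenImmersion_of_opensRange_eq_top _ (eq_top_iff.mpr fun z _ =>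
      ⟨closedPoint K, Subsingleton.elim _ z⟩)
    have : pullback.snd p j = inv σ := by rw [← cancel_epi σ, hσ, IsIso.hom_inv_id]
    rw [this]; infer_instance
  rw [Scheme.Hom.isIso_iff_finrank_eq]
  funext s
  have h1 : p.finrank (j (closedPoint K)) = 1 := by
    rw [← Scheme.Hom.finrank_pullback_snd p j, Scheme.Hom.finrank_eq_one_of_isIso]; rfl
  rw [(p.isLocallyConstant_finrank).apply_eq_of_preconnectedSpace s (j (closedPoint K))]
  exact h1

/-- The structure of twisted constant schemes over a henselian local ring. -/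
theorem structure_of_henselian (X : Over (Spec (CommRingCat.of R))) (hX : TwC.IsTwConst TwC.Topology.etale X) :
    (∀ x : X.left, X.hom x = closedPoint R →
      IsOpenImmersion (X.left.fromSpecStalk x) ∧ IsClosedImmersion (X.left.fromSpecStalk x) ∧
        IsFinite (X.left.fromSpecStalk x ≫ X.hom) ∧ Etale (X.left.fromSpecStalk x ≫ X.hom) ∧
        Surjective (X.left.fromSpecStalk x ≫ X.hom)) ∧
    (∀ y : X.left, ∃! x : X.left, X.hom x = closedPoint R ∧ y ∈ Set.range (X.left.fromSpecStalk x)) := by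
  haveI := etale_of_isTwConst X hX
  haveI := preconnectedSpace_spec (R := R)
  have part1 : ∀ x : X.left, X.hom x = closedPoint R →
      IsOpenImmersion (X.left.fromSpecStalk x) ∧ IsClosedImmersion (X.left.fromSpecStalk x) ∧
        IsFinite (X.left.fromSpecStalk x ≫ X.hom) ∧ Etale (X.left.fromSpecStalk x ≫ X.hom) ∧
        Surjective (X.left.fromSpecStalk x ≫ X.hom) := by
    intro x hx
    obtain ⟨Z, hxZ, hZc, hfin⟩ := exists_finite_clopen X hX x
    haveI := hfin
    obtain ⟨hopen, hclosed⟩ := fromSpecStalk_clopen X Z hZc hxZ hx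
    haveI := hopen
    haveI := hclosed
    have hr : Set.range (X.left.fromSpecStalk x) ⊆ Set.range Z.ι := by
      rw [Scheme.range_fromSpecStalk, Scheme.Opens.range_ι]
      exact fun y hy => Specializes.mem_open hy Z.isOpen hxZ
    let k := IsOpenImmersion.lift Z.ι (X.left.fromSpecStalk x) hr
    have hk : k ≫ Z.ι = X.left.fromSpecStalk x := IsOpenImmersion.lift_fac _ _ _
    haveI : IsClosedImmersion (k ≫ Z.ι) := by rw [hk]; infer_instance
    haveI : IsClosedImmersion k := IsClosedImmersion.of_comp k Z.ι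
    haveI hfin' : IsFinite (X.left.fromSpecStalk x ≫ X.hom) := by
      rw [← hk, Category.assoc]; infer_instance
    haveI : Etale (X.left.fromSpecStalk x ≫ X.hom) := inferInstance
    refine ⟨hopen, hclosed, hfin', inferInstance, ⟨Set.range_eq_univ.1 ?_⟩⟩
    exact IsClopen.eq_univ ⟨(X.left.fromSpecStalk x ≫ X.hom).isClosedMap.isClosed_range,
      (X.left.fromSpecStalk x ≫ X.hom).isOpenMap.isOpen_range⟩ (Set.range_nonempty _)
  refine ⟨part1, fun y => ?_⟩
  obtain ⟨Z, hyZ, hZc, hfin⟩ := exists_finite_clopen X hX y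
  haveI := hfin
  obtain ⟨x₀, hspec, hx₀⟩ : ∃ x₀ : (Z : Scheme.{u}), (⟨y, hyZ⟩ : (Z : Scheme.{u})) ⤳ x₀ ∧
      (Z.ι ≫ X.hom) x₀ = closedPoint R :=
    (Z.ι ≫ X.hom).isClosedMap.specializingMap (specializes_closedPoint _)
  rw [Scheme.Hom.comp_apply] at hx₀
  have hyx : y ⤳ Z.ι x₀ := hspec.map Z.ι.continuous
  refine ⟨Z.ι x₀, ⟨hx₀, by rw [Scheme.range_fromSpecStalk]; exact hyx⟩, ?_⟩
  rintro x' ⟨hx', hyx'⟩
  rw [Scheme.range_fromSpecStalk] at hyx'
  have key : ∀ a b : X.left, X.hom a = closedPoint R → y ⤳ a → y ⤳ b → b ⤳ a := by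
    intro a b ha hya hyb
    haveI := (part1 a ha).2.1
    have hcl := (X.left.fromSpecStalk a).isClosedEmbedding.isClosed_range
    rw [Scheme.range_fromSpecStalk] at hcl
    exact hyb.mem_closed hcl hya
  exact ((key _ _ hx₀ hyx hyx').antisymm (key _ _ hx' hyx' hyx)).eq

/-- Sections over a henselian local ring are determined by their closed point, and every closed point lifts. -/
theorem sections_of_henselian (X : Over (Spec (CommRingCat.of R))) (hX : TwC.IsTwConst TwC.Topology.etale X)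
    (τ : Spec (CommRingCat.of (ResidueField R)) ⟶ X.left)
    (hτ : τ ≫ X.hom = Spec.map (CommRingCat.ofHom (residue R))) :
    ∃! σ : Spec (CommRingCat.of R) ⟶ X.left, σ ≫ X.hom = 𝟙 _ ∧ Spec.map (CommRingCat.ofHom (residue R)) ≫ σ = τ := by
  let j := Spec.map (CommRingCat.ofHom (residue R))
  haveI : IsClosedImmersion j := IsClosedImmersion.spec_of_surjective _ residue_surjective
  haveI := FibDim.subsingleton_spec_field (ResidueField R)
  haveI := preconnectedSpace_spec (R := R)
  have hj : j (closedPoint (ResidueField R)) = closedPoint R := PrimeSpectrum.ext (by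
    show (closedPoint (ResidueField R)).asIdeal.comap (residue R) = maximalIdeal R
    rw [show (closedPoint (ResidueField R)).asIdeal = ⊥ from maximalIdeal_eq_bot, ← RingHom.ker_eq_comap_bot]
    exact ker_residue)
  obtain ⟨part1, part2⟩ := structure_of_henselian X hX
  let x := τ (closedPoint (ResidueField R))
  have hx : X.hom x = closedPoint R := by rw [← Scheme.Hom.comp_apply, hτ]; exact hj
  obtain ⟨hopen, hclosed, hfin, het, -⟩ := part1 x hx
  haveI := hopen
  haveI := hfin
  haveI := het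
  let k := X.left.fromSpecStalk x
  have hxr : ∀ y : X.left, y ⤳ x → y ∈ Set.range k := fun y hy => by rw [Scheme.range_fromSpecStalk]; exact hy
  have hrτ : Set.range τ ⊆ Set.range k := by
    rintro _ ⟨a, rfl⟩
    rw [Subsingleton.elim (α := ↥(Spec (CommRingCat.of (ResidueField R)))) a (closedPoint (ResidueField R))]
    exact hxr _ specializes_rfl
  let τ' := IsOpenImmersion.lift k τ hrτ
  have hτ' : τ' ≫ k ≫ X.hom = j := by rw [← Category.assoc, IsOpenImmersion.lift_fac, hτ]
  have hiso : IsIso (k ≫ X.hom) := isIso_of_point (k ≫ X.hom) j τ' hτ' fun c d hc hd => by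
    rw [hj, Scheme.Hom.comp_apply] at hc hd
    refine k.isOpenEmbedding.injective ?_
    obtain ⟨m, -, hm⟩ := part2 (k c)
    obtain ⟨m', -, hm'⟩ := part2 (k d)
    have hmem : ∀ e, k e ∈ Set.range k := fun e => ⟨e, rfl⟩
    have h1 : k c = x :=
      (hm (k c) ⟨hc, by rw [Scheme.range_fromSpecStalk]; exact specializes_rfl⟩).trans (hm x ⟨hx, hmem c⟩).symm
    have h2 : k d = x :=
      (hm' (k d) ⟨hd, by rw [Scheme.range_fromSpecStalk]; exact specializes_rfl⟩).trans (hm' x ⟨hx, hmem d⟩).symm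
    rw [h1, h2]
  refine ⟨inv (k ≫ X.hom) ≫ k, ⟨by rw [Category.assoc, IsIso.inv_hom_id], ?_⟩, ?_⟩
  · have h : IsOpenImmersion.lift k τ hrτ = j ≫ inv (k ≫ X.hom) := by
      rw [← cancel_mono (k ≫ X.hom), Category.assoc j, IsIso.inv_hom_id, Category.comp_id]
      exact hτ'
    rw [← Category.assoc, ← h, IsOpenImmersion.lift_fac]
  · rintro σ ⟨hσ, hjσ⟩
    have hr : Set.range σ ⊆ Set.range k := by
      rintro _ ⟨a, rfl⟩
      refine hxr _ ?_
      have hx' : σ (closedPoint R) = x := by
        rw [← hj, ← Scheme.Hom.comp_apply, hjσ]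
      rw [← hx']
      exact (specializes_closedPoint a).map σ.continuous
    have hl : IsOpenImmersion.lift k σ hr = inv (k ≫ X.hom) := by
      rw [← cancel_mono (k ≫ X.hom), IsIso.inv_hom_id, ← Category.assoc, IsOpenImmersion.lift_fac, hσ]
    rw [← hl, IsOpenImmersion.lift_fac]

end Groth.Agent.GrpFieldLib.TwSplit
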