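import Groth.Agent.GrpFieldLib.TwSplit
import Groth.Agent.GrpSchLib.TwConstClopen
import Groth.Agent.UnibEtale.Chart
import Groth.Agent.UnibEtale.Comp

/-!
# Components of twisted constant schemes over geometrically unibranch bases
-/

set_option autoImplicit false
set_option backward.isDefEq.respectTransparency false
set_option backward.isDefEq.respectTransparency.types false

universe u

open CategoryTheory CategoryTheory.Limits AlgebraicGeometry TopologicalSpace

namespace Groth.Agent.GrpFieldLib.TwSplit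

/-- With irreducible local rings the irreducible components are open. -/
theorem isOpen_irreducibleComponent {X : Scheme.{u}} [IsLocallyNoetherian X]
    (hu : ∀ x : X, (nilradical (X.presheaf.stalk x)).IsPrime) {Z : Set X} (hZ : Z ∈ irreducibleComponents ↥X) :
    IsOpen Z := by
  refine isOpen_iff_forall_mem_open.2 fun x hx => ?_
  obtain ⟨A, hA, hxA, -⟩ := exists_isAffineOpen_mem_and_subset (show x ∈ (⊤ : X.Opens) from trivial)
  haveI : IsNoetherianRing Γ(X, A) := IsLocallyNoetherian.component_noetherian ⟨A, hA⟩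
  haveI : NoetherianSpace ↥(A : Scheme.{u}) := noetherianSpace_of_isAffineOpen A hA
  let T := {Z' ∈ irreducibleComponents ↥(A : Scheme.{u}) | x ∉ A.ι '' Z'}
  have hT : T.Finite := NoetherianSpace.finite_irreducibleComponents.subset fun _ h => h.1
  have hcl : IsClosed (⋃ Z' ∈ T, Z') :=
    hT.isClosed_biUnion fun Z' h => isClosed_of_mem_irreducibleComponents _ h.1
  refine ⟨A.ι '' (⋃ Z' ∈ T, Z')ᶜ, ?_, A.ι.isOpenEmbedding.isOpenMap _ hcl.isOpen_compl,
    ⟨⟨x, hxA⟩, ?_, rfl⟩⟩
  · rintro _ ⟨y, hy, rfl⟩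
    have hC := irreducibleComponent_mem_irreducibleComponents y
    have hxC : (⟨x, hxA⟩ : (A : Scheme.{u})) ∈ irreducibleComponent y := by
      by_contra h
      refine hy (Set.mem_iUnion₂.2 ⟨_, ⟨hC, ?_⟩, mem_irreducibleComponent⟩)
      rintro ⟨a, ha, hax⟩
      exact h ((A.ι.isOpenEmbedding.injective (hax.trans rfl) : a = ⟨x, hxA⟩) ▸ ha)
    have hirr : IsIrreducible (A.ι '' irreducibleComponent y) :=
      isIrreducible_irreducibleComponent.image _ A.ι.continuous.continuousOn
    obtain ⟨Z₁, h1, h2⟩ := exists_preirreducible (A.ι '' irreducibleComponent y) hirr.isPreirreducible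
    have hZ₁ : Z₁ ∈ irreducibleComponents ↥X :=
      ⟨⟨hirr.nonempty.mono h2.1, h1⟩, fun W hW hle => (h2.2 W hW.isPreirreducible hle).le⟩
    rw [H23.FinCondSch.unique_component (hu x) hZ hZ₁ hx (h2.1 ⟨_, hxC, rfl⟩)]
    exact h2.1 ⟨y, mem_irreducibleComponent, rfl⟩
  · intro h
    obtain ⟨Z', hZ', hxZ'⟩ := Set.mem_iUnion₂.1 h
    exact hZ'.2 ⟨_, hxZ', rfl⟩

/-- With irreducible local rings the connected components are irreducible. -/
theorem connectedComponent_eq {X : Scheme.{u}} [IsLocallyNoetherian X]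
    (hu : ∀ x : X, (nilradical (X.presheaf.stalk x)).IsPrime) (x : X) :
    connectedComponent x = irreducibleComponent x := by
  refine subset_antisymm ?_ (isIrreducible_irreducibleComponent.isConnected.subset_connectedComponent
    mem_irreducibleComponent)
  exact IsClopen.connectedComponent_subset ⟨isClosed_irreducibleComponent,
    isOpen_irreducibleComponent hu (irreducibleComponent_mem_irreducibleComponents x)⟩ mem_irreducibleComponent

theorem nilradical_isPrime {A : Type u} [CommRing A] [IsLocalRing A] (h : CAlg2.IsGeomUnibranch A) :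
    (nilradical A).IsPrime :=
  (Ideal.Quotient.isDomain_iff_prime _).1 h.1.1

/-- Twisted constant schemes are etale. -/
theorem etale_of_isTwConst {S : Scheme.{u}} (P : Over S) (hP : TwC.IsTwConst TwC.Topology.etale P) :
    Etale P.hom := by
  choose S' f hf hs I hI using hP
  haveI : ∀ s, Etale (f s) := hf
  let O : S → S.Opens := fun s => ⟨Set.range (f s), (f s).isOpenMap.isOpen_range⟩
  rw [IsZariskiLocalAtTarget.iff_of_iSup_eq_top (P := @Etale) O
    (eq_top_iff.mpr fun x _ => Opens.mem_iSup.mpr ⟨x, hs x⟩)]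
  intro s
  obtain ⟨e⟩ := hI s
  let f₀ : S' s ⟶ O s := IsOpenImmersion.lift (O s).ι (f s) (by rw [Scheme.Opens.range_ι]; rfl)
  have hf₀ : f₀ ≫ (O s).ι = f s := IsOpenImmersion.lift_fac _ _ _
  haveI : Etale f₀ := by
    haveI : Etale (f₀ ≫ (O s).ι) := by rw [hf₀]; infer_instance
    exact Etale.of_comp f₀ (O s).ι
  haveI : Surjective f₀ := ⟨fun x => by
    obtain ⟨a, ha⟩ := x.2
    refine ⟨a, (O s).ι.isOpenEmbedding.injective ?_⟩
    rw [← Scheme.Hom.comp_apply, hf₀]
    exact ha⟩
  have h1 : Etale (pullback.snd P.hom (f s)) := by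
    have h2 : e.hom.left ≫ (Sigma.desc fun _ : I s => 𝟙 (S' s)) = pullback.snd P.hom (f s) := Over.w e.hom
    rw [← h2]
    haveI : Etale (Sigma.desc fun _ : I s => 𝟙 (S' s)) :=
      IsZariskiLocalAtSource.sigmaDesc (P := @Etale) fun _ => inferInstance
    infer_instance
  have hsq : IsPullback (pullback.fst (P.hom ∣_ O s) f₀ ≫ (P.hom ⁻¹ᵁ O s).ι) (pullback.snd (P.hom ∣_ O s) f₀)
      P.hom (f s) := by
    rw [← hf₀]
    exact (IsPullback.of_hasPullback (P.hom ∣_ O s) f₀).paste_horiz (isPullback_morphismRestrict P.hom (O s)).flip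
  refine MorphismProperty.of_isPullback_of_descendsAlong (P := @Etale)
    (Q := @Surjective ⊓ @Flat ⊓ @LocallyOfFinitePresentation) (IsPullback.of_hasPullback (P.hom ∣_ O s) f₀).flip
    ⟨⟨inferInstance, inferInstance⟩, inferInstance⟩ ?_
  rw [← hsq.isoPullback_hom_snd]
  infer_instance

/-- Etale twisted constant schemes are stable under open restriction of the base. -/
theorem isTwConst_bc {S : Scheme.{u}} (P : Over S) (hP : TwC.IsTwConst TwC.Topology.etale P) (U : S.Opens) :
    TwC.IsTwConst TwC.Topology.etale (Red.bc U.ι P) := by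
  intro x
  obtain ⟨S', f, hf, ⟨a, ha⟩, I, ⟨e⟩⟩ := hP (U.ι x)
  haveI := hf
  obtain ⟨Q⟩ := ((Splitting.ofIso e).pullback (f ⁻¹ᵁ U).ι).congr (morphismRestrict_ι f U).symm _ rfl
    (fun i => by rw [((Splitting.ofIso e).pullback (f ⁻¹ᵁ U).ι).comm i, morphismRestrict_ι]) |>.nonempty_iso
  haveI : Etale (f ∣_ U) := IsZariskiLocalAtTarget.restrict hf U
  refine ⟨(f ⁻¹ᵁ U : S'.Opens), f ∣_ U, inferInstance,
    ⟨⟨a, show f a ∈ U by rw [ha]; exact x.2⟩, ?_⟩, I, ⟨((Over.pullbackComp (f ∣_ U) U.ι).app P).symm ≪≫ Q⟩⟩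
  refine U.ι.isOpenEmbedding.injective ?_
  show U.ι ((f ∣_ U) _) = U.ι x
  rw [← Scheme.Hom.comp_apply, morphismRestrict_ι]
  exact ha

/-- Connected components of twisted constant schemes over geometrically unibranch bases are finite. -/
theorem connectedComponent_finite {S : Scheme.{u}} [IsLocallyNoetherian S]
    (hS : ∀ s : S, CAlg2.IsGeomUnibranch (S.presheaf.stalk s)) (P : Over S)
    (hP : TwC.IsTwConst TwC.Topology.etale P) (x : P.left) :
    ∃ U : P.left.Opens, (U : Set P.left) = connectedComponent x ∧ IsFinite (U.ι ≫ P.hom) := by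
  haveI := etale_of_isTwConst P hP
  haveI := UnibEtale.locallyQuasiFinite_of_formallyUnramified P.hom
  haveI : IsLocallyNoetherian P.left := LocallyOfFiniteType.isLocallyNoetherian P.hom
  have hPu : ∀ y : P.left, (nilradical (P.left.presheaf.stalk y)).IsPrime := fun y => by
    haveI : Etale ((⊤ : P.left.Opens).ι ≫ P.hom) := inferInstance
    exact nilradical_isPrime (UnibEtale.stalk_of_etale P.hom y ⊤ trivial (hS _)).1
  have hSu : ∀ y : S, (nilradical (S.presheaf.stalk y)).IsPrime := fun y => nilradical_isPrime (hS y)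
  haveI : LocallyConnectedSpace P.left := locallyConnectedSpace_of_isLocallyNoetherian _
  haveI : LocallyConnectedSpace S := locallyConnectedSpace_of_isLocallyNoetherian _
  let C : P.left.Opens := ⟨connectedComponent x, isOpen_connectedComponent⟩
  let S₀ : S.Opens := ⟨connectedComponent (P.hom x), isOpen_connectedComponent⟩
  haveI : ConnectedSpace (S₀ : Scheme.{u}) := isConnected_iff_connectedSpace.mp isConnected_connectedComponent
  have hCS : C ≤ P.hom ⁻¹ᵁ S₀ := fun y hy =>
    P.hom.continuous.image_connectedComponent_subset x ⟨y, hy, rfl⟩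
  let z : (C : Scheme.{u}) ⟶ (Red.bc S₀.ι P).left :=
    pullback.lift C.ι (P.hom.resLE S₀ C hCS) (Scheme.Hom.resLE_comp_ι _ _).symm
  have hz : z ≫ pullback.fst P.hom S₀.ι = C.ι := pullback.lift_fst _ _ _
  haveI : IsOpenImmersion z := by
    haveI : IsOpenImmersion (z ≫ pullback.fst P.hom S₀.ι) := by rw [hz]; infer_instance
    exact IsOpenImmersion.of_comp z (pullback.fst P.hom S₀.ι)
  haveI : IsClosedImmersion z := IsClosedImmersion.of_isPreimmersion z (by
    have h : Set.range z = pullback.fst P.hom S₀.ι ⁻¹' connectedComponent x := by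
      refine subset_antisymm ?_ fun w hw => ?_
      · rintro _ ⟨c, rfl⟩
        have e : pullback.fst P.hom S₀.ι (z c) = C.ι c :=
          (Scheme.Hom.comp_apply z _ c).symm.trans (congrArg (fun m => m c) hz)
        rw [Set.mem_preimage, e]
        exact c.2
      · let c : (C : Scheme.{u}) := ⟨_, hw⟩
        exact ⟨c, (pullback.fst P.hom S₀.ι).isOpenEmbedding.injective
          ((Scheme.Hom.comp_apply z _ c).symm.trans (congrArg (fun m => m c) hz))⟩
    rw [h]
    exact isClosed_connectedComponent.preimage (pullback.fst P.hom S₀.ι).continuous)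
  -- the fibre over the generic point
  have hS₀ : IsIrreducible (S₀ : Set S) := by
    rw [show (S₀ : Set S) = irreducibleComponent (P.hom x) from connectedComponent_eq hSu _]
    exact isIrreducible_irreducibleComponent
  have hC : IsIrreducible (C : Set P.left) := by
    rw [show (C : Set P.left) = irreducibleComponent x from connectedComponent_eq hPu _]
    exact isIrreducible_irreducibleComponent
  obtain ⟨η, hη⟩ := QuasiSober.sober hS₀ isClosed_connectedComponent
  obtain ⟨lam, hlam⟩ := QuasiSober.sober hC isClosed_connectedComponent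
  have hηS : η ∈ S₀ := hη.mem
  have hfin : ((z ≫ (Red.bc S₀.ι P).hom) ⁻¹' {(⟨η, hηS⟩ : (S₀ : Scheme.{u}))}).Finite := by
    refine Set.Subsingleton.finite ?_
    have key : ∀ c : (C : Scheme.{u}), (z ≫ (Red.bc S₀.ι P).hom) c = ⟨η, hηS⟩ → c.1 = lam := by
      intro c hc
      have hc' : P.hom c.1 = η := by
        have h1 : z ≫ (Red.bc S₀.ι P).hom = P.hom.resLE S₀ C hCS := pullback.lift_snd _ _ _
        rw [h1] at hc
        have h2 := congrArg S₀.ι hc
        rw [← Scheme.Hom.comp_apply, Scheme.Hom.resLE_comp_ι] at h2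
        exact h2
      have hsp : lam ⤳ c.1 := hlam.specializes c.2
      have hl : P.hom lam = η := by
        have h1 : P.hom lam ⤳ η := hc' ▸ hsp.map P.hom.continuous
        exact (h1.antisymm (hη.specializes (hCS hlam.mem))).eq
      haveI : DiscreteTopology ↥(P.hom ⁻¹' {η}) := (P.hom.isDiscrete_preimage_singleton η).to_subtype
      have hs : (⟨lam, hl⟩ : ↥(P.hom ⁻¹' {η})) ⤳ ⟨c.1, hc'⟩ :=
        (Topology.IsInducing.subtypeVal.specializes_iff).1 hsp
      exact (congrArg Subtype.val hs.eq).symm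
    intro c hc d hd
    exact Subtype.ext ((key c hc).trans (key d hd).symm)
  haveI := GrpSchLib.TwConstClopen.main (Red.bc S₀.ι P) (isTwConst_bc P hP S₀) z ⟨_, hfin⟩
  haveI : IsClosedImmersion S₀.ι := IsClosedImmersion.of_isPreimmersion S₀.ι (by
    rw [Scheme.Opens.range_ι]; exact isClosed_connectedComponent)
  refine ⟨C, rfl, ?_⟩
  have h : C.ι ≫ P.hom = (z ≫ (Red.bc S₀.ι P).hom) ≫ S₀.ι := by
    rw [show z ≫ (Red.bc S₀.ι P).hom = P.hom.resLE S₀ C hCS from pullback.lift_snd _ _ _, Scheme.Hom.resLE_comp_ι]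
  rw [h]
  infer_instance

end Groth.Agent.GrpFieldLib.TwSplit
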