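import Groth.Agent.GrpFieldLib.TwIrred
import Mathlib.RingTheory.Valuation.ValuationRing

/-!
# The valuative criterion for twisted constant schemes
-/

set_option autoImplicit false
set_option backward.isDefEq.respectTransparency false
set_option backward.isDefEq.respectTransparency.types false

universe u

open CategoryTheory CategoryTheory.Limits AlgebraicGeometry TopologicalSpace

namespace Groth.Agent.GrpFieldLib.TwSplit

/-- Integrally closed local domains are geometrically unibranch. -/
theorem isGeomUnibranch_of_isIntegrallyClosed (A : Type u) [CommRing A] [IsDomain A] [IsLocalRing A]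
    [IsIntegrallyClosed A] : CAlg2.IsGeomUnibranch A := by
  have h0 : nilradical A = ⊥ := nilradical_eq_zero A
  let e : A ≃+* CAlg2.red A := ((Ideal.quotEquivOfEq h0).trans (RingEquiv.quotientBot A)).symm
  haveI : IsDomain (CAlg2.red A) := e.symm.toMulEquiv.isDomain _
  haveI : IsIntegrallyClosed (CAlg2.red A) := IsIntegrallyClosed.of_equiv e
  haveI : IsLocalRing (CAlg2.red A) := .of_surjective' e.toRingHom e.surjective
  have hs : Function.Surjective (algebraMap (CAlg2.red A) (CAlg2.normRed A)) := fun x => by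
    obtain ⟨y, hy⟩ := IsIntegrallyClosed.algebraMap_eq_of_integral (R := CAlg2.red A) x.2
    exact ⟨y, Subtype.ext hy⟩
  haveI : IsLocalRing (CAlg2.normRed A) := .of_surjective' _ hs
  refine ⟨⟨inferInstance, inferInstance⟩, fun m' _ x => ⟨0, ?_⟩⟩
  obtain ⟨y, rfl⟩ := Ideal.Quotient.mk_surjective x
  obtain ⟨z, rfl⟩ := hs y
  obtain ⟨w, rfl⟩ := Ideal.Quotient.mk_surjective z
  exact ⟨w, by simp⟩

/-- The local rings of the spectrum of an integrally closed domain are geometrically unibranch. -/
theorem isGeomUnibranch_stalk_spec (R : Type u) [CommRing R] [IsDomain R] [IsIntegrallyClosed R]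
    (x : Spec (CommRingCat.of R)) : CAlg2.IsGeomUnibranch ((Spec (CommRingCat.of R)).presheaf.stalk x) := by
  haveI : x.asIdeal.IsPrime := x.isPrime
  haveI : IsDomain (Localization.AtPrime x.asIdeal) :=
    IsLocalization.isDomain_localization x.asIdeal.primeCompl_le_nonZeroDivisors
  haveI : IsIntegrallyClosed (Localization.AtPrime x.asIdeal) :=
    isIntegrallyClosed_of_isLocalization _ x.asIdeal.primeCompl x.asIdeal.primeCompl_le_nonZeroDivisors
  letI : Algebra R ((Spec (CommRingCat.of R)).presheaf.stalk x) :=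
    StructureSheaf.stalkAlgebra R x
  haveI : IsLocalization.AtPrime ((Spec (CommRingCat.of R)).presheaf.stalk x) x.asIdeal :=
    StructureSheaf.IsLocalization.to_stalk R x
  exact UnibEtale.isGeomUnibranch_of_ringEquiv
    (IsLocalization.algEquiv x.asIdeal.primeCompl (Localization.AtPrime x.asIdeal)
      ((Spec (CommRingCat.of R)).presheaf.stalk x)).toRingEquiv (isGeomUnibranch_of_isIntegrallyClosed _)

/-- Twisted constant schemes satisfy the valuative criterion. -/
theorem valuativeCriterion {S : Scheme.{u}} (X : Over S) (hX : TwC.IsTwConst TwC.Topology.etale X) :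
    ValuativeCriterion X.hom := by
  haveI := isSeparated_of_isTwConst X hX
  refine ValuativeCriterion.iff.2 ⟨?_, IsSeparated.valuativeCriterion X.hom⟩
  intro sq
  let g := sq.i₂
  let V := Spec (CommRingCat.of sq.R)
  let j := Spec.map (CommRingCat.ofHom (algebraMap sq.R sq.K))
  haveI : IsPreimmersion j := IsPreimmersion.of_isLocalization (nonZeroDivisors sq.R)
  haveI : IrreducibleSpace ↥(Spec (CommRingCat.of sq.R)) := inferInstanceAs (IrreducibleSpace (PrimeSpectrum sq.R))
  have hP : TwC.IsTwConst TwC.Topology.etale (Red.bc g X) := by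
    intro v
    obtain ⟨S', f, hf, ⟨a, ha⟩, I, ⟨e⟩⟩ := hX (g v)
    haveI := hf
    obtain ⟨Q⟩ := ((Splitting.ofIso e).pullback (pullback.snd g f)).congr pullback.condition.symm _ rfl
      (fun i => by rw [((Splitting.ofIso e).pullback (pullback.snd g f)).comm i, pullback.condition]) |>.nonempty_iso
    obtain ⟨w, hw, -⟩ := Scheme.Pullback.exists_preimage_pullback (f := g) (g := f) v a ha.symm
    exact ⟨pullback g f, pullback.fst g f, inferInstance, ⟨w, hw⟩, I,
      ⟨((Over.pullbackComp (pullback.fst g f) g).app X).symm ≪≫ Q⟩⟩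
  have hj : j (IsLocalRing.closedPoint sq.K) = genericPoint (Spec (CommRingCat.of sq.R)) := by
    refine IsGenericPoint.eq ?_ (genericPoint_spec _)
    rw [isGenericPoint_def, ← PrimeSpectrum.zeroLocus_vanishingIdeal_eq_closure, PrimeSpectrum.vanishingIdeal_singleton]
    rw [show (j (IsLocalRing.closedPoint sq.K)).asIdeal = ⊥ from ?_, PrimeSpectrum.zeroLocus_bot]
    show (IsLocalRing.closedPoint sq.K).asIdeal.comap (algebraMap sq.R sq.K) = ⊥
    rw [show (IsLocalRing.closedPoint sq.K).asIdeal = ⊥ from IsLocalRing.maximalIdeal_eq_bot, ← RingHom.ker_eq_comap_bot]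
    exact (RingHom.injective_iff_ker_eq_bot _).1 (IsFractionRing.injective sq.R sq.K)
  let τ : Spec (CommRingCat.of sq.K) ⟶ (Red.bc g X).left := pullback.lift sq.i₁ j sq.commSq.w
  obtain ⟨σ, hσ, hjσ⟩ := exists_section (fun v => isGeomUnibranch_stalk_spec sq.R v) hP j hj τ (pullback.lift_snd _ _ _)
  refine ⟨⟨⟨σ ≫ pullback.fst X.hom g, ?_, ?_⟩⟩⟩
  · show j ≫ σ ≫ pullback.fst X.hom g = sq.i₁
    rw [← Category.assoc, hjσ]
    exact pullback.lift_fst _ _ _
  · show (σ ≫ pullback.fst X.hom g) ≫ X.hom = g
    rw [Category.assoc, pullback.condition, ← Category.assoc]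
    exact (congrArg (· ≫ g) hσ).trans (Category.id_comp g)

end Groth.Agent.GrpFieldLib.TwSplit
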