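import Groth.Agent.GrpFieldLib.WzKer
import Groth.Agent.GrpFieldLib.JordanNilp

/-! The Weitzenböck theorem for a nilpotent matrix. -/

namespace Groth.Agent.GrpFieldLib.Wz

universe u

/-- **Weitzenböck**: the kernel of a linear locally nilpotent derivation is finitely generated. -/
theorem weitzenbock (k : Type u) [Field k] [CharZero k]
    (n : ℕ) (M : Matrix (Fin n) (Fin n) k) (hM : IsNilpotent M) :
    ∃ S : Subalgebra k (MvPolynomial (Fin n) k), S.FG ∧
      ∀ f : MvPolynomial (Fin n) k, f ∈ S ↔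
        MvPolynomial.mkDerivation k
          (fun j : Fin n => ∑ i : Fin n, M i j • (MvPolynomial.X i : MvPolynomial (Fin n) k)) f = 0 := by
  classical
  obtain ⟨J, hJ, e, b, hb0, hb1⟩ := Groth.Agent.GrpFieldLib.exists_chain_basis k (Matrix.toLin' M)
    (hM.map Matrix.toLinAlgEquiv'.toRingEquiv.toRingHom)
  let δ := MvPolynomial.mkDerivation k
    (fun j : Fin n => ∑ i : Fin n, M i j • (MvPolynomial.X i : MvPolynomial (Fin n) k))
  let L : (Fin n → k) →ₗ[k] MvPolynomial (Fin n) k :=
    Fintype.linearCombination k (fun i => (MvPolynomial.X i : MvPolynomial (Fin n) k))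
  have hL : ∀ i, L (Pi.single i 1) = MvPolynomial.X i := fun i => by simp [L]
  have hδL : ∀ v, δ (L v) = L (Matrix.toLin' M v) := by
    intro v
    suffices h : δ.toLinearMap ∘ₗ L = L ∘ₗ Matrix.toLin' M from LinearMap.congr_fun h v
    refine (Pi.basisFun k (Fin n)).ext fun j => ?_
    simp [L, δ, Fintype.linearCombination_apply, Matrix.col_apply]
  let fc : Var e → k := fun t => ((Nat.factorial t.2 : ℕ) : k)
  have hfc : ∀ t, fc t ≠ 0 := fun t => Nat.cast_ne_zero.2 (Nat.factorial_ne_zero _)
  let L' : (Fin n → k) →ₗ[k] MvPolynomial (Var e) k :=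
    b.constr k (fun t => (fc t)⁻¹ • (MvPolynomial.X t : MvPolynomial (Var e) k))
  let θ : MvPolynomial (Var e) k →ₐ[k] MvPolynomial (Fin n) k :=
    MvPolynomial.aeval (fun t => fc t • L (b t))
  let θ' : MvPolynomial (Fin n) k →ₐ[k] MvPolynomial (Var e) k :=
    MvPolynomial.aeval (fun i => L' (Pi.single i 1))
  have hθ'L : ∀ v, θ' (L v) = L' v := by
    intro v
    suffices h : θ'.toLinearMap ∘ₗ L = L' from LinearMap.congr_fun h v
    refine (Pi.basisFun k (Fin n)).ext fun j => ?_
    simp [L, θ']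
  have hθL' : ∀ v, θ (L' v) = L v := by
    intro v
    suffices h : θ.toLinearMap ∘ₗ L' = L from LinearMap.congr_fun h v
    refine b.ext fun t => ?_
    simp only [L', LinearMap.comp_apply, Module.Basis.constr_basis, AlgHom.toLinearMap_apply, map_smul, θ,
      MvPolynomial.aeval_X, smul_smul, inv_mul_cancel₀ (hfc t), one_smul]
  have hinv1 : ∀ g, θ' (θ g) = g := by
    intro g
    suffices h : θ'.comp θ = AlgHom.id k _ from AlgHom.congr_fun h g
    refine MvPolynomial.algHom_ext fun t => ?_
    simp only [AlgHom.comp_apply, AlgHom.id_apply, θ, MvPolynomial.aeval_X, map_smul, hθ'L]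
    simp only [L', Module.Basis.constr_basis, smul_smul, mul_inv_cancel₀ (hfc t), one_smul]
  have hinv2 : ∀ g, θ (θ' g) = g := by
    intro g
    suffices h : θ.comp θ' = AlgHom.id k _ from AlgHom.congr_fun h g
    refine MvPolynomial.algHom_ext fun i => ?_
    simp only [AlgHom.comp_apply, AlgHom.id_apply, θ', MvPolynomial.aeval_X, hθL', hL]
  have hcomm : ∀ g, δ (θ g) = θ (derE e k g) := by
    intro g
    induction g using MvPolynomial.induction_on with
    | C a => simp
    | add p q hp hq => simp [hp, hq]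
    | mul_X p t hp =>
      obtain ⟨l, j, hj⟩ := t
      have hX : δ (θ (MvPolynomial.X ⟨l, ⟨j, hj⟩⟩)) = θ (derE e k (MvPolynomial.X ⟨l, ⟨j, hj⟩⟩)) := by
        simp only [θ, MvPolynomial.aeval_X, Derivation.map_smul]
        rw [hδL]
        rcases j with _ | j
        · rw [hb0 l hj, derE_X_zero e k l _ rfl]; simp
        · rw [hb1 l j hj, derE_X_succ e k l j hj, map_zsmul, MvPolynomial.aeval_X, natCast_zsmul,
            ← Nat.cast_smul_eq_nsmul k, smul_smul]
          congr 1
          simp [fc, Nat.factorial_succ]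
      simp only [Derivation.leibniz, map_mul, map_add, smul_eq_mul, hp, hX]
  suffices hs : ∃ S : Subalgebra k (MvPolynomial (Fin n) k), S.FG ∧ ∀ f, f ∈ S ↔ δ f = 0 from hs
  clear_value δ θ θ'
  obtain ⟨G, hG0, hG⟩ := exists_generators_ker e k
  refine ⟨Subalgebra.map θ (Algebra.adjoin k (G : Set (MvPolynomial (Var e) k))),
    Subalgebra.FG.map θ (Subalgebra.fg_adjoin_finset G), fun f => ?_⟩
  constructor
  · rintro ⟨g, hg, rfl⟩
    change δ (θ g) = 0
    rw [hcomm]
    have : Set.EqOn (derE e k) (0 : Derivation k (MvPolynomial (Var e) k) (MvPolynomial (Var e) k))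
        (G : Set (MvPolynomial (Var e) k)) := fun g' hg' => hG0 g' hg'
    rw [Derivation.eqOn_adjoin this hg]
    simp
  · intro hf
    refine ⟨θ' f, hG _ ?_, hinv2 f⟩
    have h := hcomm (θ' f)
    rw [hinv2, hf] at h
    have h2 := congrArg θ' h
    rw [map_zero, hinv1] at h2
    exact h2.symm

end Groth.Agent.GrpFieldLib.Wz
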