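import Mathlib

/-! Linear derivations of polynomial rings and the Fischer form over `ℚ`. -/

namespace Groth.Agent.GrpFieldLib.Wz

open MvPolynomial Finset

noncomputable section

variable {τ : Type*} [Fintype τ] {K : Type*} [Field K] [CharZero K]

/-- The derivation with `X t ↦ ∑ s, c s t • X s`. -/
def linDer (K : Type*) [Field K] (c : τ → τ → ℤ) :
    Derivation K (MvPolynomial τ K) (MvPolynomial τ K) :=
  mkDerivation K fun t => ∑ s, c s t • (X s : MvPolynomial τ K)

omit [CharZero K] in
lemma linDer_X (c : τ → τ → ℤ) (t : τ) : linDer K c (X t) = ∑ s, c s t • (X s : MvPolynomial τ K) :=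
  mkDerivation_X _ _ _

omit [CharZero K] in
lemma linDer_apply (c : τ → τ → ℤ) (f : MvPolynomial τ K) :
    linDer K c f = ∑ t, ∑ s, c s t • (X s * pderiv t f) := by
  induction f using MvPolynomial.induction_on with
  | C a => simp
  | add p q hp hq => simp [map_add, hp, hq, mul_add, smul_add, Finset.sum_add_distrib]
  | mul_X p i hp =>
    classical
    rw [Derivation.leibniz, hp, linDer_X]
    simp only [smul_eq_mul, pderiv_mul, pderiv_X, mul_add, smul_add, Finset.sum_add_distrib,
      Finset.mul_sum, mul_smul_comm]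
    rw [add_comm]
    congr 1
    · exact Finset.sum_congr rfl fun t _ => Finset.sum_congr rfl fun s _ => by
        rw [mul_comm (X i), mul_assoc]
    · symm
      rw [Finset.sum_eq_single i]
      · exact Finset.sum_congr rfl fun s _ => by simp [mul_comm]
      · intro b _ hb
        simp [Pi.single_eq_of_ne' hb]
      · simp

omit [CharZero K] in
lemma isHomogeneous_linDer (c : τ → τ → ℤ) {f : MvPolynomial τ K} {d : ℕ}
    (hf : f.IsHomogeneous d) : (linDer K c f).IsHomogeneous d := by
  rw [linDer_apply]
  refine IsHomogeneous.sum _ _ _ fun t _ => IsHomogeneous.sum _ _ _ fun s _ => ?_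
  refine (mem_homogeneousSubmodule d _).1 (zsmul_mem ?_ (c s t))
  rw [mem_homogeneousSubmodule]
  rcases d with _ | d
  · obtain ⟨a, rfl⟩ : ∃ a, f = C a :=
      ⟨coeff 0 f, (totalDegree_eq_zero_iff_eq_C).1 (Nat.le_zero.1 hf.totalDegree_le)⟩
    simp [isHomogeneous_zero]
  · simpa [add_comm] using (isHomogeneous_X K s).mul (hf.pderiv (i := t))

/-- Apply a `ℚ`-linear functional to all coefficients. -/
def coeffMap (φ : K →ₗ[ℚ] ℚ) : MvPolynomial τ K →+ MvPolynomial τ ℚ :=
  AddMonoidHom.mk' (fun f => ∑ a ∈ f.support, monomial a (φ (coeff a f))) (by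
    intro f g
    classical
    have key : ∀ p : MvPolynomial τ K, ∀ b,
        coeff b (∑ a ∈ p.support, monomial a (φ (coeff a p))) = φ (coeff b p) := by
      intro p b
      rw [coeff_sum, Finset.sum_eq_single b]
      · simp
      · intro a _ h; simp [coeff_monomial, h]
      · intro h; simp [notMem_support_iff.1 h]
    ext b
    rw [coeff_add, key, key, key, coeff_add, map_add])

omit [Fintype τ] in
lemma coeff_coeffMap (φ : K →ₗ[ℚ] ℚ) (f : MvPolynomial τ K) (b : τ →₀ ℕ) :
    coeff b (coeffMap φ f) = φ (coeff b f) := by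
  classical
  change coeff b (∑ a ∈ f.support, monomial a (φ (coeff a f))) = _
  rw [coeff_sum, Finset.sum_eq_single b]
  · simp
  · intro a _ h; simp [coeff_monomial, h]
  · intro h; simp [notMem_support_iff.1 h]

omit [Fintype τ] in
lemma coeffMap_monomial (φ : K →ₗ[ℚ] ℚ) (a : τ →₀ ℕ) (r : K) :
    coeffMap φ (monomial a r) = monomial a (φ r) := by
  classical
  ext b
  simp [coeff_coeffMap, coeff_monomial, apply_ite φ]

lemma coeffMap_linDer (φ : K →ₗ[ℚ] ℚ) (c : τ → τ → ℤ) (f : MvPolynomial τ K) :
    coeffMap φ (linDer K c f) = linDer ℚ c (coeffMap φ f) := by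
  induction f using MvPolynomial.induction_on' with
  | add p q hp hq => simp [map_add, hp, hq]
  | monomial a r =>
    simp only [linDer_apply, map_sum, map_zsmul, coeffMap_monomial, pderiv_monomial, X,
      monomial_mul, one_mul]
    refine Finset.sum_congr rfl fun t _ => Finset.sum_congr rfl fun s _ => ?_
    have h : r * (a t : K) = (a t) • r := by rw [nsmul_eq_mul, mul_comm]
    rw [h, map_nsmul, nsmul_eq_mul, mul_comm (φ r)]

omit [Fintype τ] in
lemma eq_zero_of_forall_coeffMap (f : MvPolynomial τ K)
    (h : ∀ φ : K →ₗ[ℚ] ℚ, coeffMap φ f = 0) : f = 0 := by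
  ext b
  rw [coeff_zero]
  apply (Module.forall_dual_apply_eq_zero_iff ℚ (coeff b f)).1
  intro φ
  rw [← coeff_coeffMap, h φ, coeff_zero]

/-- Fischer weight of a monomial. -/
def fw (w : τ → ℚ) (a : τ →₀ ℕ) : ℚ := ∏ i, ((a i).factorial : ℚ) * w i ^ (a i)

lemma fw_pos {w : τ → ℚ} (hw : ∀ i, 0 < w i) (a : τ →₀ ℕ) : 0 < fw w a :=
  Finset.prod_pos fun i _ => mul_pos (by exact_mod_cast Nat.factorial_pos _) (pow_pos (hw i) _)

lemma fw_add_single (w : τ → ℚ) (a : τ →₀ ℕ) (i : τ) :
    fw w (a + Finsupp.single i 1) = w i * (a i + 1) * fw w a := by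
  classical
  unfold fw
  conv_lhs => rw [← Finset.mul_prod_erase _ _ (Finset.mem_univ i)]
  conv_rhs => rw [← Finset.mul_prod_erase _ _ (Finset.mem_univ i)]
  rw [Finset.prod_congr rfl (g := fun j => ((a j).factorial : ℚ) * w j ^ (a j))]
  · simp [Nat.factorial_succ, pow_succ]; ring
  · intro j hj
    simp [Finsupp.single_eq_of_ne (Finset.ne_of_mem_erase hj)]

/-- The Fischer form. -/
def fischer (w : τ → ℚ) (f g : MvPolynomial τ ℚ) : ℚ :=
  ∑ a ∈ f.support, coeff a f * coeff a g * fw w a

lemma fischer_eq (w : τ → ℚ) (f g : MvPolynomial τ ℚ) (s : Finset (τ →₀ ℕ)) (hs : f.support ⊆ s) :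
    fischer w f g = ∑ a ∈ s, coeff a f * coeff a g * fw w a :=
  Finset.sum_subset hs fun a _ ha => by simp [notMem_support_iff.1 ha]

lemma fischer_symm (w : τ → ℚ) (f g : MvPolynomial τ ℚ) : fischer w f g = fischer w g f := by
  classical
  rw [fischer_eq w f g (f.support ∪ g.support) Finset.subset_union_left,
    fischer_eq w g f (f.support ∪ g.support) Finset.subset_union_right]
  exact Finset.sum_congr rfl fun a _ => by ring

lemma fischer_add_left (w : τ → ℚ) (f f' g : MvPolynomial τ ℚ) :
    fischer w (f + f') g = fischer w f g + fischer w f' g := by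
  classical
  rw [fischer_eq w (f + f') g (f.support ∪ f'.support) MvPolynomial.support_add,
    fischer_eq w f g (f.support ∪ f'.support) Finset.subset_union_left,
    fischer_eq w f' g (f.support ∪ f'.support) Finset.subset_union_right, ← Finset.sum_add_distrib]
  exact Finset.sum_congr rfl fun a _ => by rw [coeff_add]; ring

/-- The Fischer form, additive in the first variable. -/
def fischerHom (w : τ → ℚ) (g : MvPolynomial τ ℚ) : MvPolynomial τ ℚ →+ ℚ :=
  AddMonoidHom.mk' (fun f => fischer w f g) fun f f' => fischer_add_left w f f' g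

lemma fischer_monomial (w : τ → ℚ) (a : τ →₀ ℕ) (r : ℚ) (g : MvPolynomial τ ℚ) :
    fischer w (monomial a r) g = r * coeff a g * fw w a := by
  classical
  rw [fischer_eq w _ g {a} (support_monomial_subset)]
  simp

lemma fischer_self_eq_zero {w : τ → ℚ} (hw : ∀ i, 0 < w i) {f : MvPolynomial τ ℚ}
    (h : fischer w f f = 0) : f = 0 := by
  ext a
  rw [coeff_zero]
  by_contra ha
  refine absurd h (ne_of_gt (Finset.sum_pos' (fun b _ => ?_) ⟨a, mem_support_iff.2 ha, ?_⟩))
  · exact mul_nonneg (mul_self_nonneg _) (fw_pos hw b).le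
  · exact mul_pos (mul_self_pos.2 ha) (fw_pos hw a)

lemma fischer_self_nonneg {w : τ → ℚ} (hw : ∀ i, 0 < w i) (f : MvPolynomial τ ℚ) :
    0 ≤ fischer w f f :=
  Finset.sum_nonneg fun b _ => mul_nonneg (mul_self_nonneg _) (fw_pos hw b).le

lemma fischer_X_mul (w : τ → ℚ) (i : τ) (f g : MvPolynomial τ ℚ) :
    fischer w (X i * f) g = w i * fischer w f (pderiv i g) := by
  classical
  induction f using MvPolynomial.induction_on' with
  | add p q hp hq => rw [mul_add, fischer_add_left, fischer_add_left, hp, hq, mul_add]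
  | monomial a r =>
    rw [X, monomial_mul, one_mul, fischer_monomial, fischer_monomial, add_comm _ a]
    induction g using MvPolynomial.induction_on' with
    | add p q hp hq => simp only [map_add, coeff_add, mul_add, add_mul, hp, hq]
    | monomial b r' =>
      rw [pderiv_monomial, coeff_monomial, coeff_monomial]
      by_cases hb : b = a + Finsupp.single i 1
      · subst hb
        rw [if_pos rfl, if_pos (by simp), fw_add_single]
        simp; ring
      · rw [if_neg hb]
        by_cases hb2 : b - Finsupp.single i 1 = a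
        · have hi : b i = 0 := by
            by_contra hi
            apply hb
            rw [← hb2]
            ext j
            by_cases hj : j = i
            · subst hj; simp; omega
            · simp [Finsupp.single_eq_of_ne hj]
          simp [hi]
        · simp [if_neg hb2]

/-- `linDer c` and `linDer c'` are adjoint. -/
lemma fischer_linDer {w : τ → ℚ} (hw : ∀ i, 0 < w i) (c c' : τ → τ → ℤ)
    (h : ∀ s t, w s * c s t = w t * c' t s) (f g : MvPolynomial τ ℚ) :
    fischer w (linDer ℚ c f) g = fischer w f (linDer ℚ c' g) := by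
  have hsum : ∀ (F : MvPolynomial τ ℚ) (d : τ → τ → ℤ) (G : MvPolynomial τ ℚ),
      fischer w (linDer ℚ d F) G = ∑ t, ∑ s, (d s t : ℚ) * fischer w (X s * pderiv t F) G := by
    intro F d G
    change fischerHom w G (linDer ℚ d F) = _
    rw [linDer_apply, map_sum]
    refine Finset.sum_congr rfl fun t _ => ?_
    rw [map_sum]
    refine Finset.sum_congr rfl fun s _ => ?_
    rw [map_zsmul, zsmul_eq_mul]
    rfl
  rw [hsum, fischer_symm w f, hsum, Finset.sum_comm]
  refine Finset.sum_congr rfl fun s _ => Finset.sum_congr rfl fun t _ => ?_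
  rw [fischer_X_mul, fischer_X_mul, fischer_symm w (pderiv t f), ← mul_assoc, ← mul_assoc,
    mul_comm (c s t : ℚ), h s t, mul_comm (w t)]

end

end Groth.Agent.GrpFieldLib.Wz
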