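import Groth.Agent.GrpFieldLib.WzSl2

/-! The Weitzenböck theorem in chain coordinates: the kernel of the raising derivation is finitely
generated, being the image of the invariants of the sum with the standard representation. -/

namespace Groth.Agent.GrpFieldLib.Wz

open MvPolynomial

noncomputable section

variable {ι : Type*} [Fintype ι] [DecidableEq ι] (e : ι → ℕ) (K : Type*) [Field K] [CharZero K]

omit [CharZero K] in
/-- Derivations and algebra maps that agree on generators commute. -/
lemma map_derivation_eq {σ σ' : Type*} (φ : MvPolynomial σ K →ₐ[K] MvPolynomial σ' K)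
    (D : Derivation K (MvPolynomial σ K) (MvPolynomial σ K))
    (D' : Derivation K (MvPolynomial σ' K) (MvPolynomial σ' K))
    (h : ∀ t, D' (φ (X t)) = φ (D (X t))) (f : MvPolynomial σ K) : D' (φ f) = φ (D f) := by
  induction f using MvPolynomial.induction_on with
  | C a => simp
  | add p q hp hq => simp [hp, hq]
  | mul_X p i hp =>
    simp only [Derivation.leibniz, map_mul, map_add, smul_eq_mul, hp, h]

omit [CharZero K] in
lemma eigen_mul {A : Type*} [CommRing A] [Algebra K A] (D : Derivation K A A) {a b : A} {p q : ℤ}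
    (ha : D a = p • a) (hb : D b = q • b) : D (a * b) = (p + q) • (a * b) := by
  rw [Derivation.leibniz, ha, hb, smul_eq_mul, smul_eq_mul, mul_smul_comm, mul_smul_comm, mul_comm b,
    ← add_smul, add_comm]

omit [CharZero K] in
lemma eigen_pow {A : Type*} [CommRing A] [Algebra K A] (D : Derivation K A A) {a : A} {p : ℤ}
    (ha : D a = p • a) (k : ℕ) : D (a ^ k) = ((k : ℤ) * p) • a ^ k := by
  induction k with
  | zero => simp
  | succ k ih => rw [pow_succ, eigen_mul K D ih ha]; push_cast; rw [add_mul, one_mul]

/-- The weight of a variable. -/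
def hw (t : Var e) : ℤ := (e t.1 : ℤ) - 1 - 2 * (t.2 : ℕ)

/-- The weight of a monomial. -/
def hwMon (a : Var e →₀ ℕ) : ℤ := ∑ t, (a t : ℤ) * hw e t

omit [CharZero K] in
lemma derH_monomial (a : Var e →₀ ℕ) (r : K) :
    derH e K (monomial a r) = hwMon e a • monomial a r := by
  rw [linDer_apply, hwMon, Finset.sum_smul]
  refine Finset.sum_congr rfl fun t _ => ?_
  rw [Finset.sum_eq_single t]
  · rw [X_mul_pderiv_monomial, cH, if_pos rfl, ← natCast_zsmul, smul_smul, mul_comm]
    rfl
  · intro s _ h; simp [cH, h]
  · simp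

omit [CharZero K] in
lemma coeff_derH (g : MvPolynomial (Var e) K) (b : Var e →₀ ℕ) :
    coeff b (derH e K g) = hwMon e b • coeff b g := by
  induction g using MvPolynomial.induction_on' with
  | add p q hp hq => simp only [map_add, coeff_add, hp, hq, smul_add]
  | monomial a r =>
    rw [derH_monomial, coeff_smul, coeff_monomial]
    split_ifs with h
    · rw [h]
    · simp

lemma hwMon_eq_of_eigen {g : MvPolynomial (Var e) K} {w : ℤ} (hg : derH e K g = w • g)
    {b : Var e →₀ ℕ} (hb : coeff b g ≠ 0) : hwMon e b = w := by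
  have h := coeff_derH e K g b
  rw [hg, coeff_smul, zsmul_eq_mul, zsmul_eq_mul] at h
  exact_mod_cast (mul_right_cancel₀ hb h).symm

omit [CharZero K] in
lemma derH_derE {g : MvPolynomial (Var e) K} {w : ℤ} (hg : derH e K g = w • g) :
    derH e K (derE e K g) = (w + 2) • derE e K g := by
  have := lie_H_E e K g
  rw [sub_eq_iff_eq_add] at this
  rw [this, hg, map_zsmul, add_smul, add_comm]

omit [CharZero K] in
lemma derH_derF {g : MvPolynomial (Var e) K} {w : ℤ} (hg : derH e K g = w • g) :
    derH e K (derF e K g) = (w - 2) • derF e K g := by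
  have := lie_H_F e K g
  rw [sub_eq_iff_eq_add] at this
  rw [this, hg, map_zsmul, ← add_smul]
  congr 1
  ring

/-- Highest weight vectors have natural weight `n` and are killed by `F^(n+1)`. -/
lemma highestWeight {f : MvPolynomial (Var e) K} {d : ℕ} {m : ℤ} (hd : f.IsHomogeneous d)
    (hE : derE e K f = 0) (hH : derH e K f = m • f) (hf : f ≠ 0) :
    ∃ n : ℕ, m = n ∧ (derF e K)^[n + 1] f = 0 := by
  classical
  have heig : ∀ i, derH e K ((derF e K)^[i] f) = (m - 2 * i) • (derF e K)^[i] f := by
    intro i
    induction i with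
    | zero => simpa using hH
    | succ i ih =>
      rw [Function.iterate_succ_apply', derH_derF e K ih]
      congr 1
      push_cast
      ring
  have hhom : ∀ i, ((derF e K)^[i] f).IsHomogeneous d := by
    intro i
    induction i with
    | zero => exact hd
    | succ i ih => rw [Function.iterate_succ_apply']; exact isHomogeneous_linDer _ ih
  have hcomm : ∀ i : ℕ, derE e K ((derF e K)^[i + 1] f) =
      (((i : ℤ) + 1) * (m - i)) • (derF e K)^[i] f := by
    intro i
    induction i with
    | zero =>
      have := lie_E_F e K f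
      rw [hE, map_zero, sub_zero, hH] at this
      simpa using this
    | succ i ih =>
      rw [Function.iterate_succ_apply' _ (i + 1)]
      have := lie_E_F e K ((derF e K)^[i + 1] f)
      rw [sub_eq_iff_eq_add, ih, map_zsmul, ← Function.iterate_succ_apply' (f := ⇑(derF e K)) (n := i), heig] at this
      rw [this, ← add_smul]
      congr 1
      push_cast
      ring
  have hex : ∃ i, (derF e K)^[i] f = 0 := by
    refine ⟨(m + (d : ℤ) * ∑ t, |hw e t|).toNat + 1, ?_⟩
    by_contra hne
    obtain ⟨b, hb⟩ := MvPolynomial.ne_zero_iff.1 hne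
    have hwb := hwMon_eq_of_eigen e K (heig _) hb
    have hdeg : b.degree = d := by
      by_contra hdd
      exact hb ((hhom _).coeff_eq_zero hdd)
    have hbound : -((d : ℤ) * ∑ t, |hw e t|) ≤ hwMon e b := by
      rw [Finset.mul_sum, ← Finset.sum_neg_distrib]
      refine Finset.sum_le_sum fun t _ => ?_
      have h1 : (b t : ℤ) ≤ d := by exact_mod_cast hdeg ▸ Finsupp.le_degree t b
      have h2 := neg_abs_le (hw e t)
      have h3 : (0 : ℤ) ≤ b t := by positivity
      nlinarith [abs_nonneg (hw e t)]
    have h4 := Int.self_le_toNat (m + (d : ℤ) * ∑ t, |hw e t|)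
    have h5 : (0 : ℤ) ≤ (m + (d : ℤ) * ∑ t, |hw e t|).toNat := by positivity
    push_cast at hwb
    linarith
  obtain ⟨n, hn⟩ : ∃ n, Nat.find hex = n + 1 := by
    refine Nat.exists_eq_succ_of_ne_zero fun h => hf ?_
    simpa [h] using Nat.find_spec hex
  have hlast : (derF e K)^[n + 1] f = 0 := hn ▸ Nat.find_spec hex
  have hne : (derF e K)^[n] f ≠ 0 := Nat.find_min hex (by omega)
  have h := hcomm n
  rw [hlast, map_zero, zsmul_eq_mul, eq_comm, mul_eq_zero, or_iff_left hne, Int.cast_eq_zero,
    mul_eq_zero, or_iff_right (by positivity), sub_eq_zero] at h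
  exact ⟨n, h, hlast⟩

/-- Dimensions after adding the standard representation. -/
abbrev ext' : Option ι → ℕ := fun o => o.elim 2 e

/-- Inclusion of the variables. -/
def incl : MvPolynomial (Var e) K →ₐ[K] MvPolynomial (Var (ext' e)) K :=
  rename fun t => ⟨some t.1, t.2⟩

/-- The variable `u`. -/
def uv0 : MvPolynomial (Var (ext' e)) K := X ⟨none, ⟨0, by simp [ext']⟩⟩

/-- The variable `v`. -/
def uv1 : MvPolynomial (Var (ext' e)) K := X ⟨none, ⟨1, by simp [ext']⟩⟩

/-- Evaluation at `u = 0`, `v = 1`. -/
def ev : MvPolynomial (Var (ext' e)) K →ₐ[K] MvPolynomial (Var e) K :=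
  aeval fun t => match t with
    | ⟨some l, j⟩ => X ⟨l, j⟩
    | ⟨none, j⟩ => if (j : ℕ) = 0 then 0 else 1

omit [CharZero K] [Fintype ι] [DecidableEq ι] in
lemma incl_X (l : ι) (j : Fin (e l)) : incl e K (X ⟨l, j⟩) = X ⟨some l, j⟩ := by
  simp [incl]

omit [CharZero K] [Fintype ι] [DecidableEq ι] in
lemma ev_incl (f : MvPolynomial (Var e) K) : ev e K (incl e K f) = f := by
  rw [incl, ev, aeval_rename]
  exact aeval_X_left_apply f

omit [CharZero K] in
lemma derE_incl (f : MvPolynomial (Var e) K) :
    derE (ext' e) K (incl e K f) = incl e K (derE e K f) := by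
  refine map_derivation_eq K (incl e K) (derE e K) (derE (ext' e) K) (fun t => ?_) f
  obtain ⟨l, j, hj⟩ := t
  rw [incl_X]
  rcases j with _ | j
  · rw [derE_X_zero (ext' e) K (some l) _ rfl, derE_X_zero e K l _ rfl, map_zero]
  · rw [derE_X_succ e K l j hj, map_zsmul, incl_X]
    exact derE_X_succ (ext' e) K (some l) j hj

omit [CharZero K] in
lemma derH_incl (f : MvPolynomial (Var e) K) :
    derH (ext' e) K (incl e K f) = incl e K (derH e K f) := by
  refine map_derivation_eq K (incl e K) (derH e K) (derH (ext' e) K) (fun t => ?_) f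
  obtain ⟨l, j⟩ := t
  rw [incl_X, derH_X e K, map_zsmul, incl_X]
  exact derH_X (ext' e) K ⟨some l, j⟩

omit [CharZero K] in
lemma derE_ev (f : MvPolynomial (Var (ext' e)) K) :
    derE e K (ev e K f) = ev e K (derE (ext' e) K f) := by
  refine map_derivation_eq K (ev e K) (derE (ext' e) K) (derE e K) (fun t => ?_) f
  obtain ⟨o, j, hj⟩ := t
  cases o with
  | none =>
    rcases j with _ | j
    · rw [derE_X_zero (ext' e) K none _ rfl]; simp [ev]
    · obtain rfl : j = 0 := by simp [ext'] at hj; omega
      rw [derE_X_succ (ext' e) K none 0 hj]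
      simp [ev]
  | some l =>
    rcases j with _ | j
    · rw [derE_X_zero (ext' e) K (some l) _ rfl, map_zero]
      simp only [ev, aeval_X]
      exact derE_X_zero e K l _ rfl
    · rw [derE_X_succ (ext' e) K (some l) j hj]
      simp only [ev, aeval_X, map_zsmul]
      exact derE_X_succ e K l j hj

/-- Every homogeneous highest weight vector lifts to an invariant. -/
lemma exists_invariant_lift {f : MvPolynomial (Var e) K} {d : ℕ} {m : ℤ} (hd : f.IsHomogeneous d)
    (hE : derE e K f = 0) (hH : derH e K f = m • f) :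
    ∃ φ : MvPolynomial (Var (ext' e)) K, ∃ D : ℕ,
      IsInv (ext' e) K φ ∧ φ.IsHomogeneous D ∧ ev e K φ = f := by
  classical
  rcases eq_or_ne f 0 with rfl | hf
  · exact ⟨0, 0, (invariants (ext' e) K).zero_mem, isHomogeneous_zero _ _ _, map_zero _⟩
  obtain ⟨n, rfl, hn⟩ := highestWeight e K hd hE hH hf
  let A : ℕ → MvPolynomial (Var (ext' e)) K := fun i => incl e K ((derF e K)^[i] f)
  let c : ℕ → K := fun i => (-1) ^ i / (i.factorial : K)
  let term : ℕ → MvPolynomial (Var (ext' e)) K := fun i => A i * uv1 e K ^ (n - i) * uv0 e K ^ i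
  have heig : ∀ i, derH e K ((derF e K)^[i] f) = ((n : ℤ) - 2 * i) • (derF e K)^[i] f := by
    intro i
    induction i with
    | zero => simpa using hH
    | succ i ih =>
      rw [Function.iterate_succ_apply', derH_derF e K ih]
      congr 1
      push_cast
      ring
  have hhom : ∀ i, ((derF e K)^[i] f).IsHomogeneous d := by
    intro i
    induction i with
    | zero => exact hd
    | succ i ih => rw [Function.iterate_succ_apply']; exact isHomogeneous_linDer _ ih
  have hu : derH (ext' e) K (uv0 e K) = (1 : ℤ) • uv0 e K := by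
    rw [uv0, derH_X]; simp [ext']
  have hv : derH (ext' e) K (uv1 e K) = (-1 : ℤ) • uv1 e K := by
    rw [uv1, derH_X]; simp [ext']
  have hA : ∀ i, derH (ext' e) K (A i) = ((n : ℤ) - 2 * i) • A i := fun i => by
    simp only [A, derH_incl, heig, map_zsmul]
  have hHterm : ∀ i, i ≤ n → derH (ext' e) K (term i) = 0 := by
    intro i hi
    simp only [term]
    rw [eigen_mul K _ (eigen_mul K _ (hA i) (eigen_pow K _ hv (n - i))) (eigen_pow K _ hu i)]
    have h0 : ((n : ℤ) - 2 * i + ((n - i : ℕ) : ℤ) * -1 + (i : ℤ) * 1) = 0 := by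
      rw [Nat.cast_sub hi]; ring
    rw [h0, zero_smul]
  have hEu : derE (ext' e) K (uv0 e K) = 0 := derE_X_zero (ext' e) K none _ rfl
  have hEv : derE (ext' e) K (uv1 e K) = uv0 e K := by
    rw [uv1, derE_X_succ (ext' e) K none 0 (by simp [ext'])]
    simp [uv0]
  have hEA : ∀ i : ℕ, derE (ext' e) K (A (i + 1)) = (((i : ℤ) + 1) * ((n : ℤ) - i)) • A i := by
    intro i
    simp only [A, derE_incl, ← map_zsmul]
    congr 1
    induction i with
    | zero =>
      have := lie_E_F e K f
      rw [hE, map_zero, sub_zero, hH] at this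
      simpa using this
    | succ i ih =>
      rw [Function.iterate_succ_apply' _ (i + 1)]
      have := lie_E_F e K ((derF e K)^[i + 1] f)
      rw [sub_eq_iff_eq_add, ih, map_zsmul, ← Function.iterate_succ_apply' (f := ⇑(derF e K)) (n := i), heig] at this
      rw [this, ← add_smul]
      congr 1
      push_cast
      ring
  let T : ℕ → MvPolynomial (Var (ext' e)) K := fun i => A i * uv1 e K ^ (n - i - 1) * uv0 e K ^ (i + 1)
  have hEterm0 : derE (ext' e) K (term 0) = (n : K) • T 0 := by
    simp only [term, T, A, Function.iterate_zero_apply, pow_zero, mul_one, Nat.sub_zero,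
      Derivation.leibniz, derE_incl, hE, map_zero, smul_eq_mul, mul_zero, add_zero,
      Derivation.leibniz_pow, hEv, pow_one, zero_add, smul_eq_C_mul, map_natCast, nsmul_eq_mul]
    ring
  have hEterm : ∀ i, i < n → derE (ext' e) K (term (i + 1)) =
      (((i : K) + 1) * ((n : K) - i)) • T i + ((n : K) - (i + 1)) • T (i + 1) := by
    intro i hi
    simp only [term, T, Derivation.leibniz, hEA, hEu, smul_eq_mul, mul_zero, add_zero, zero_add,
      Derivation.leibniz_pow, hEv, smul_eq_C_mul, zsmul_eq_mul, nsmul_eq_mul, map_mul, map_add,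
      map_one, map_sub, map_natCast]
    obtain ⟨k, rfl⟩ : ∃ k, n = i + 1 + k := ⟨n - (i + 1), by omega⟩
    rw [Nat.add_sub_cancel_left, show i + 1 + k - i - 1 = k by omega]
    push_cast
    ring
  refine ⟨∑ i ∈ Finset.range (n + 1), c i • term i, d + n, ?_⟩
  set φ := ∑ i ∈ Finset.range (n + 1), c i • term i with hφ
  have hφE : derE (ext' e) K φ = 0 := by
    rw [hφ, map_sum, Finset.sum_range_succ', Derivation.map_smul, hEterm0]
    have h1 : ∀ i ∈ Finset.range n, derE (ext' e) K (c (i + 1) • term (i + 1)) =
        (c (i + 1) * ((n : K) - ((i + 1 : ℕ) : K))) • T (i + 1) - (c i * ((n : K) - (i : K))) • T i := by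
      intro i hi
      have h0 : c (i + 1) * (((i : K) + 1) * ((n : K) - i)) = -(c i * ((n : K) - i)) := by
        have : ((i : K) + 1) ≠ 0 := Nat.cast_add_one_ne_zero i
        simp only [c, pow_succ, Nat.factorial_succ, Nat.cast_mul, Nat.cast_add, Nat.cast_one]
        field_simp
      rw [Derivation.map_smul, hEterm i (Finset.mem_range.1 hi), smul_add, smul_smul, smul_smul, add_comm,
        h0, neg_smul, ← sub_eq_add_neg, Nat.cast_add, Nat.cast_one]
    rw [Finset.sum_congr rfl h1, Finset.sum_range_sub (fun i => (c i * ((n : K) - (i : K))) • T i)]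
    simp [c]
  have hφH : derH (ext' e) K φ = (0 : ℤ) • φ := by
    rw [zero_smul, hφ, map_sum]
    refine Finset.sum_eq_zero fun i hi => ?_
    rw [Derivation.map_smul, hHterm i (by simp at hi; omega), smul_zero]
  have hφd : φ.IsHomogeneous (d + n) := by
    refine IsHomogeneous.sum _ _ _ fun i hi => ?_
    refine (mem_homogeneousSubmodule _ _).1 (Submodule.smul_mem _ _ ((mem_homogeneousSubmodule _ _).2 ?_))
    have := ((((hhom i).rename_isHomogeneous (f := fun t : Var e => (⟨some t.1, t.2⟩ : Var (ext' e)))).mul
      ((isHomogeneous_X K (⟨none, ⟨1, by simp [ext']⟩⟩ : Var (ext' e))).pow (n - i))).mul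
      ((isHomogeneous_X K (⟨none, ⟨0, by simp [ext']⟩⟩ : Var (ext' e))).pow i))
    convert this using 1
    · rfl
    · simp at hi; omega
  refine ⟨⟨hφE, ?_, by simpa using hφH⟩, hφd, ?_⟩
  · rcases eq_or_ne φ 0 with h | h
    · simp [h]
    · obtain ⟨k, hk, hk'⟩ := highestWeight (ext' e) K hφd hφE hφH h
      obtain rfl : k = 0 := by exact_mod_cast hk.symm
      simpa using hk'
  · rw [hφ, map_sum, Finset.sum_eq_single 0]
    · simp only [term, A, c, map_smul, map_mul, map_pow, ev_incl, Function.iterate_zero_apply, pow_zero,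
        mul_one, Nat.factorial_zero, Nat.cast_one, div_one, one_smul, uv1]
      simp [ev]
    · intro i _ hi
      simp only [term, map_smul, map_mul, map_pow, uv0]
      simp [ev, zero_pow hi]
    · simp

/-- **Weitzenböck**, in chain coordinates. -/
theorem exists_generators_ker :
    ∃ G : Finset (MvPolynomial (Var e) K), (∀ g ∈ G, derE e K g = 0) ∧
      ∀ f : MvPolynomial (Var e) K, derE e K f = 0 →
        f ∈ Algebra.adjoin K (G : Set (MvPolynomial (Var e) K)) := by
  classical
  obtain ⟨G, hGi, hG⟩ := exists_generators (ext' e) K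
  refine ⟨G.image (ev e K), fun g hg => ?_, fun f hf => ?_⟩
  · obtain ⟨g', hg', rfl⟩ := Finset.mem_image.1 hg
    rw [derE_ev, (hGi g' hg').1, map_zero]
  have key : ∀ (d : ℕ) (m : ℤ) (p : MvPolynomial (Var e) K), p.IsHomogeneous d → derE e K p = 0 →
      derH e K p = m • p → p ∈ Algebra.adjoin K ((G.image (ev e K) : Finset _) : Set _) := by
    intro d m p hp hpE hpH
    obtain ⟨φ, D, hφi, hφd, rfl⟩ := exists_invariant_lift e K hp hpE hpH
    have := hG D φ hφi hφd
    rw [Finset.coe_image, ← AlgHom.map_adjoin]
    exact ⟨φ, this, rfl⟩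
  -- homogeneous components
  have hcomp : ∀ (d : ℕ) (p : MvPolynomial (Var e) K),
      derE e K (homogeneousComponent d p) = homogeneousComponent d (derE e K p) := by
    intro d p
    induction p using MvPolynomial.induction_on' with
    | add p q hp hq => simp only [map_add, hp, hq]
    | monomial a r =>
      have h1 : (monomial a r : MvPolynomial (Var e) K) ∈ homogeneousSubmodule (Var e) K a.degree :=
        (mem_homogeneousSubmodule _ _).2 (isHomogeneous_monomial r rfl)
      have h2 : derE e K (monomial a r) ∈ homogeneousSubmodule (Var e) K a.degree :=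
        (mem_homogeneousSubmodule _ _).2 (isHomogeneous_linDer _ (isHomogeneous_monomial r rfl))
      rw [homogeneousComponent_of_mem h1, homogeneousComponent_of_mem h2]
      split_ifs <;> simp
  rw [← sum_homogeneousComponent f]
  refine sum_mem fun d _ => ?_
  set p := homogeneousComponent d f
  have hpE : derE e K p = 0 := by rw [hcomp, hf, map_zero]
  have hpd : p.IsHomogeneous d := homogeneousComponent_isHomogeneous _ _
  rw [← support_sum_monomial_coeff p,
    ← Finset.sum_fiberwise_of_maps_to (t := p.support.image (hwMon e)) (g := hwMon e)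
      (fun a ha => Finset.mem_image_of_mem _ ha)]
  refine sum_mem fun w _ => ?_
  set q := ∑ a ∈ p.support with hwMon e a = w, monomial a (coeff a p)
  have hqH : derH e K q = w • q := by
    simp only [q, map_sum, Finset.smul_sum]
    refine Finset.sum_congr rfl fun a ha => ?_
    rw [derH_monomial, (Finset.mem_filter.1 ha).2]
  refine key d w q ?_ ?_ hqH
  · refine IsHomogeneous.sum _ _ _ fun a ha => isHomogeneous_monomial _ ?_
    by_contra hne
    exact MvPolynomial.mem_support_iff.1 (Finset.mem_filter.1 ha).1 (hpd.coeff_eq_zero hne)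
  · ext b
    rw [coeff_zero]
    by_cases hb : hwMon e b = w + 2
    · have h0 : coeff b (derE e K p) = 0 := by rw [hpE, coeff_zero]
      rw [← h0]
      conv_rhs => rw [← support_sum_monomial_coeff p]
      simp only [q, map_sum, coeff_sum]
      refine Finset.sum_subset (Finset.filter_subset _ _) fun a ha hna => ?_
      by_contra hne
      have := hwMon_eq_of_eigen e K (derH_derE e K (derH_monomial e K a _)) hne
      exact hna (Finset.mem_filter.2 ⟨ha, by omega⟩)
    · by_contra hne
      exact hb (hwMon_eq_of_eigen e K (derH_derE e K hqH) hne)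

end

end Groth.Agent.GrpFieldLib.Wz
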