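import Groth.Agent.GrpFieldLib.WzDerivation

/-! The `sl₂` action on the polynomial ring of a sum of standard irreducible representations, and finite
generation of its invariants (Fischer form over `ℚ`, Casimir operator). -/

namespace Groth.Agent.GrpFieldLib.Wz

open MvPolynomial

noncomputable section

variable {ι : Type*} [Fintype ι] [DecidableEq ι] (e : ι → ℕ)

/-- Variables. -/
abbrev Var : Type _ := Σ l : ι, Fin (e l)

/-- Coefficients of `E`. -/
def cE (s t : Var e) : ℤ := if s.1 = t.1 ∧ (s.2 : ℕ) + 1 = t.2 then ((t.2 : ℕ) : ℤ) else 0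

/-- Coefficients of `F`. -/
def cF (s t : Var e) : ℤ :=
  if s.1 = t.1 ∧ (t.2 : ℕ) + 1 = s.2 then (e t.1 : ℤ) - 1 - (t.2 : ℕ) else 0

/-- Coefficients of `H`. -/
def cH (s t : Var e) : ℤ := if s = t then (e t.1 : ℤ) - 1 - 2 * (t.2 : ℕ) else 0

variable (K : Type*) [Field K] [CharZero K]

/-- The raising derivation. -/
abbrev derE : Derivation K (MvPolynomial (Var e) K) (MvPolynomial (Var e) K) := linDer K (cE e)

/-- The lowering derivation. -/
abbrev derF : Derivation K (MvPolynomial (Var e) K) (MvPolynomial (Var e) K) := linDer K (cF e)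

/-- The weight derivation. -/
abbrev derH : Derivation K (MvPolynomial (Var e) K) (MvPolynomial (Var e) K) := linDer K (cH e)

omit [CharZero K] in
lemma derH_X (t : Var e) :
    derH e K (X t) = ((e t.1 : ℤ) - 1 - 2 * (t.2 : ℕ)) • (X t : MvPolynomial (Var e) K) := by
  rw [linDer_X, Finset.sum_eq_single t]
  · simp [cH]
  · intro s _ h; simp [cH, h]
  · simp

omit [CharZero K] in
lemma derE_X_zero (l : ι) (j : Fin (e l)) (h : (j : ℕ) = 0) : derE e K (X ⟨l, j⟩) = 0 := by
  rw [linDer_X, Finset.sum_eq_zero]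
  intro s _
  simp [cE, h]

omit [CharZero K] in
lemma derE_X_succ (l : ι) (j : ℕ) (h : j + 1 < e l) :
    derE e K (X ⟨l, ⟨j + 1, h⟩⟩) = ((j + 1 : ℕ) : ℤ) • (X ⟨l, ⟨j, by omega⟩⟩ : MvPolynomial (Var e) K) := by
  rw [linDer_X, Finset.sum_eq_single (⟨l, ⟨j, by omega⟩⟩ : Var e)]
  · simp [cE]
  · rintro ⟨l', i⟩ _ hne
    rw [cE, if_neg, zero_zsmul]
    rintro ⟨h1, h2⟩
    simp only at h1 h2
    subst h1
    exact hne (by congr 1; ext; simp only; omega)
  · simp

omit [CharZero K] in
lemma derF_X_top (l : ι) (j : Fin (e l)) (h : (j : ℕ) + 1 = e l) : derF e K (X ⟨l, j⟩) = 0 := by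
  rw [linDer_X, Finset.sum_eq_zero]
  rintro ⟨l', i⟩ _
  rw [cF, if_neg, zero_zsmul]
  rintro ⟨h1, h2⟩
  simp only at h1 h2
  subst h1
  omega

omit [CharZero K] in
lemma derF_X_lt (l : ι) (j : ℕ) (h : j + 1 < e l) :
    derF e K (X ⟨l, ⟨j, by omega⟩⟩) =
      ((e l : ℤ) - 1 - j) • (X ⟨l, ⟨j + 1, h⟩⟩ : MvPolynomial (Var e) K) := by
  rw [linDer_X, Finset.sum_eq_single (⟨l, ⟨j + 1, h⟩⟩ : Var e)]
  · simp [cF]
  · rintro ⟨l', i⟩ _ hne
    rw [cF, if_neg, zero_zsmul]
    rintro ⟨h1, h2⟩
    simp only at h1 h2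
    subst h1
    exact hne (by congr 1; ext; simp only; omega)
  · simp

omit [CharZero K] in
lemma lie_E_F (f : MvPolynomial (Var e) K) :
    derE e K (derF e K f) - derF e K (derE e K f) = derH e K f := by
  have : ⁅derE e K, derF e K⁆ = derH e K := by
    refine derivation_ext fun t => ?_
    obtain ⟨l, j, hj⟩ := t
    rw [Derivation.commutator_apply, derH_X]
    rcases Nat.lt_or_ge (j + 1) (e l) with h | h
    · rw [derF_X_lt e K l j h, map_zsmul, derE_X_succ]
      rcases j with _ | j
      · rw [derE_X_zero e K l _ rfl, map_zero, sub_zero, smul_smul]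
        simp
      · rw [derE_X_succ e K l j hj, map_zsmul, derF_X_lt e K l j hj, smul_smul, smul_smul, ← sub_smul]
        congr 1
        push_cast
        ring
    · have h' : j + 1 = e l := by omega
      rw [derF_X_top e K l ⟨j, hj⟩ h', map_zero, zero_sub]
      rcases j with _ | j
      · rw [derE_X_zero e K l _ rfl, map_zero, neg_zero]
        simp [← h']
      · rw [derE_X_succ e K l j hj, map_zsmul, derF_X_lt e K l j hj, smul_smul, ← neg_smul]
        congr 1
        simp only [← h']
        push_cast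
        ring
  rw [← this, Derivation.commutator_apply]

omit [CharZero K] in
lemma lie_H_E (f : MvPolynomial (Var e) K) :
    derH e K (derE e K f) - derE e K (derH e K f) = (2 : ℤ) • derE e K f := by
  have : ⁅derH e K, derE e K⁆ = (2 : ℤ) • derE e K := by
    refine derivation_ext fun t => ?_
    obtain ⟨l, j, hj⟩ := t
    rw [Derivation.commutator_apply, derH_X, map_zsmul, Derivation.smul_apply]
    rcases j with _ | j
    · rw [derE_X_zero e K l _ rfl]; simp
    · rw [derE_X_succ e K l j hj, map_zsmul, derH_X, smul_smul, smul_smul, smul_smul, ← sub_smul]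
      congr 1
      push_cast
      ring
  rw [← Derivation.commutator_apply, this, Derivation.smul_apply]

omit [CharZero K] in
lemma lie_H_F (f : MvPolynomial (Var e) K) :
    derH e K (derF e K f) - derF e K (derH e K f) = (-2 : ℤ) • derF e K f := by
  have : ⁅derH e K, derF e K⁆ = (-2 : ℤ) • derF e K := by
    refine derivation_ext fun t => ?_
    obtain ⟨l, j, hj⟩ := t
    rw [Derivation.commutator_apply, derH_X, map_zsmul, Derivation.smul_apply]
    rcases Nat.lt_or_ge (j + 1) (e l) with h | h
    · rw [derF_X_lt e K l j h, map_zsmul, derH_X, smul_smul, smul_smul, smul_smul, ← sub_smul]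
      congr 1
      push_cast
      ring
    · rw [derF_X_top e K l ⟨j, hj⟩ (by simp only; omega)]; simp
  rw [← Derivation.commutator_apply, this, Derivation.smul_apply]

/-- Invariants. -/
def IsInv (f : MvPolynomial (Var e) K) : Prop :=
  derE e K f = 0 ∧ derF e K f = 0 ∧ derH e K f = 0

/-- The Casimir operator. -/
def casimir : MvPolynomial (Var e) K →ₗ[K] MvPolynomial (Var e) K :=
  (derE e K).toLinearMap ∘ₗ (derF e K).toLinearMap + (derF e K).toLinearMap ∘ₗ (derE e K).toLinearMap
    + (derH e K).toLinearMap ∘ₗ (derH e K).toLinearMap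

omit [CharZero K] in
lemma casimir_apply (f : MvPolynomial (Var e) K) :
    casimir e K f = derE e K (derF e K f) + derF e K (derE e K f) + derH e K (derH e K f) := rfl

omit [CharZero K] in
lemma casimir_eq_zero_of_isInv {f : MvPolynomial (Var e) K} (h : IsInv e K f) : casimir e K f = 0 := by
  simp [casimir_apply, h.1, h.2.1, h.2.2]

/-- Fischer weights. -/
def wt (s : Var e) : ℚ := (Nat.factorial s.2 : ℚ) * (Nat.factorial (e s.1 - 1 - s.2) : ℚ)

lemma wt_pos (s : Var e) : 0 < wt e s :=
  mul_pos (by exact_mod_cast Nat.factorial_pos _) (by exact_mod_cast Nat.factorial_pos _)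

lemma wt_cE (s t : Var e) : wt e s * (cE e s t : ℚ) = wt e t * (cF e t s : ℚ) := by
  obtain ⟨l, i, hi⟩ := s
  obtain ⟨l', j, hj⟩ := t
  unfold cE cF wt
  by_cases h : l = l' ∧ i + 1 = j
  · obtain ⟨rfl, rfl⟩ := h
    rw [if_pos ⟨rfl, rfl⟩, if_pos ⟨rfl, rfl⟩]
    obtain ⟨r, hr⟩ := Nat.exists_eq_add_of_lt hj
    simp only
    rw [show e l - 1 - i = r + 1 by omega, show e l - 1 - (i + 1) = r by omega,
      show (e l : ℤ) = ((i + 1 + r + 1 : ℕ) : ℤ) by exact_mod_cast hr]
    simp only [Nat.factorial_succ]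
    push_cast
    ring
  · rw [if_neg h, if_neg (fun h' => h ⟨h'.1.symm, h'.2⟩)]
    simp

lemma fischer_E (f g : MvPolynomial (Var e) ℚ) :
    fischer (wt e) (derE e ℚ f) g = fischer (wt e) f (derF e ℚ g) :=
  fischer_linDer (wt_pos e) _ _ (wt_cE e) f g

lemma fischer_F (f g : MvPolynomial (Var e) ℚ) :
    fischer (wt e) (derF e ℚ f) g = fischer (wt e) f (derE e ℚ g) := by
  rw [fischer_symm, ← fischer_E, fischer_symm]

lemma fischer_H (f g : MvPolynomial (Var e) ℚ) :
    fischer (wt e) (derH e ℚ f) g = fischer (wt e) f (derH e ℚ g) := by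
  refine fischer_linDer (wt_pos e) _ _ (fun s t => ?_) f g
  unfold cH
  by_cases h : s = t
  · subst h; rfl
  · simp [if_neg h, if_neg (Ne.symm h)]

lemma fischer_casimir (f g : MvPolynomial (Var e) ℚ) :
    fischer (wt e) (casimir e ℚ f) g = fischer (wt e) (derF e ℚ f) (derF e ℚ g) +
      fischer (wt e) (derE e ℚ f) (derE e ℚ g) + fischer (wt e) (derH e ℚ f) (derH e ℚ g) := by
  rw [casimir_apply, fischer_add_left, fischer_add_left, fischer_E e (derF e ℚ f),
    fischer_F e (derE e ℚ f), fischer_H e (derH e ℚ f)]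

lemma isInv_of_casimir_rat {f : MvPolynomial (Var e) ℚ} (h : casimir e ℚ f = 0) : IsInv e ℚ f := by
  have h0 := fischer_casimir e f f
  have hz : fischer (wt e) (0 : MvPolynomial (Var e) ℚ) f = 0 := by simp [fischer]
  rw [h, hz] at h0
  have hF := fischer_self_nonneg (wt_pos e) (derF e ℚ f)
  have hE := fischer_self_nonneg (wt_pos e) (derE e ℚ f)
  have hH := fischer_self_nonneg (wt_pos e) (derH e ℚ f)
  exact ⟨fischer_self_eq_zero (wt_pos e) (by linarith), fischer_self_eq_zero (wt_pos e) (by linarith),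
    fischer_self_eq_zero (wt_pos e) (by linarith)⟩

lemma casimir_sq_rat {f : MvPolynomial (Var e) ℚ} (h : casimir e ℚ (casimir e ℚ f) = 0) :
    casimir e ℚ f = 0 := by
  obtain ⟨h1, h2, h3⟩ := isInv_of_casimir_rat e h
  apply fischer_self_eq_zero (wt_pos e)
  rw [fischer_casimir, h1, h2, h3]
  simp [fischer_symm _ _ (0 : MvPolynomial (Var e) ℚ), fischer]

lemma coeffMap_casimir (φ : K →ₗ[ℚ] ℚ) (f : MvPolynomial (Var e) K) :
    coeffMap φ (casimir e K f) = casimir e ℚ (coeffMap φ f) := by
  simp only [casimir_apply, map_add, coeffMap_linDer]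

lemma isInv_of_casimir {f : MvPolynomial (Var e) K} (h : casimir e K f = 0) : IsInv e K f := by
  have key : ∀ φ : K →ₗ[ℚ] ℚ, IsInv e ℚ (coeffMap φ f) := fun φ =>
    isInv_of_casimir_rat e (by rw [← coeffMap_casimir, h, map_zero])
  refine ⟨?_, ?_, ?_⟩ <;> refine eq_zero_of_forall_coeffMap _ fun φ => ?_ <;> rw [coeffMap_linDer]
  exacts [(key φ).1, (key φ).2.1, (key φ).2.2]

lemma casimir_sq {f : MvPolynomial (Var e) K} (h : casimir e K (casimir e K f) = 0) :
    casimir e K f = 0 :=
  eq_zero_of_forall_coeffMap _ fun φ => by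
    rw [coeffMap_casimir]
    exact casimir_sq_rat e (by rw [← coeffMap_casimir, ← coeffMap_casimir, h, map_zero])

omit [CharZero K] in
lemma isHomogeneous_casimir {f : MvPolynomial (Var e) K} {d : ℕ} (hf : f.IsHomogeneous d) :
    (casimir e K f).IsHomogeneous d := by
  rw [casimir_apply]
  exact ((isHomogeneous_linDer _ (isHomogeneous_linDer _ hf)).add
    (isHomogeneous_linDer _ (isHomogeneous_linDer _ hf))).add
    (isHomogeneous_linDer _ (isHomogeneous_linDer _ hf))

/-- Reynolds decomposition in each degree. -/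
lemma exists_decomp {f : MvPolynomial (Var e) K} {d : ℕ} (hf : f.IsHomogeneous d) :
    ∃ h r : MvPolynomial (Var e) K, IsInv e K h ∧ h.IsHomogeneous d ∧ f = h + casimir e K r := by
  let W := homogeneousSubmodule (Var e) K d
  haveI : Module.Finite K W := Module.Finite.iff_fg.2 (homogeneousSubmodule_fg (σ := Var e) (R := K) d)
  let C : W →ₗ[K] W := (casimir e K).restrict fun x hx =>
    (mem_homogeneousSubmodule d _).2 (isHomogeneous_casimir e K ((mem_homogeneousSubmodule d _).1 hx))
  have hdis : Disjoint (LinearMap.ker C) (LinearMap.range C) := by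
    rw [Submodule.disjoint_def]
    rintro x hx ⟨y, rfl⟩
    have h1 : casimir e K (casimir e K y.1) = 0 := congrArg Subtype.val (LinearMap.mem_ker.1 hx)
    exact Subtype.ext (casimir_sq e K h1)
  have htop := Submodule.eq_top_of_disjoint (LinearMap.ker C) (LinearMap.range C)
    (by rw [add_comm, LinearMap.finrank_range_add_finrank_ker]) hdis
  have : (⟨f, (mem_homogeneousSubmodule d _).2 hf⟩ : W) ∈ LinearMap.ker C ⊔ LinearMap.range C :=
    htop ▸ Submodule.mem_top
  obtain ⟨h, hh, _, ⟨r, rfl⟩, hsum⟩ := Submodule.mem_sup.1 this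
  exact ⟨h.1, r.1, isInv_of_casimir e K (congrArg Subtype.val (LinearMap.mem_ker.1 hh)),
    (mem_homogeneousSubmodule d _).1 h.2, (congrArg Subtype.val hsum).symm⟩

/-- The subalgebra of invariants. -/
def invariants : Subalgebra K (MvPolynomial (Var e) K) where
  carrier := {f | IsInv e K f}
  mul_mem' ha hb := by
    obtain ⟨a1, a2, a3⟩ := ha
    obtain ⟨b1, b2, b3⟩ := hb
    refine ⟨?_, ?_, ?_⟩ <;> simp [*]
  add_mem' ha hb := by
    obtain ⟨a1, a2, a3⟩ := ha
    obtain ⟨b1, b2, b3⟩ := hb
    refine ⟨?_, ?_, ?_⟩ <;> simp [*]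
  algebraMap_mem' a := ⟨Derivation.map_algebraMap _ a, Derivation.map_algebraMap _ a, Derivation.map_algebraMap _ a⟩

omit [CharZero K] in
lemma mem_invariants {f : MvPolynomial (Var e) K} : f ∈ invariants e K ↔ IsInv e K f := Iff.rfl

omit [CharZero K] in
lemma casimir_mul_of_isInv {s f : MvPolynomial (Var e) K} (hs : IsInv e K s) :
    casimir e K (s * f) = s * casimir e K f := by
  simp only [casimir_apply, Derivation.leibniz, smul_eq_mul, hs.1, hs.2.1, hs.2.2, mul_zero, add_zero,
    mul_add]

/-- **Hilbert's theorem** for `sl₂`: finitely many invariants generate all homogeneous invariants. -/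
theorem exists_generators :
    ∃ G : Finset (MvPolynomial (Var e) K), (∀ g ∈ G, IsInv e K g) ∧
      ∀ (d : ℕ) (f : MvPolynomial (Var e) K), IsInv e K f → f.IsHomogeneous d →
        f ∈ Algebra.adjoin K (G : Set (MvPolynomial (Var e) K)) := by
  classical
  let S : Set (MvPolynomial (Var e) K) := {f | IsInv e K f ∧ ∃ d, 0 < d ∧ f.IsHomogeneous d}
  obtain ⟨G, hGS, hG⟩ := (Submodule.fg_span_iff_fg_span_finset_subset S).1
    (IsNoetherian.noetherian (Ideal.span S))
  refine ⟨G, fun g hg => (hGS hg).1, fun d => ?_⟩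
  induction d using Nat.strong_induction_on with
  | _ d ih =>
  intro f hf hfd
  rcases Nat.eq_zero_or_pos d with rfl | hd
  · obtain ⟨a, rfl⟩ : ∃ a, f = C a :=
      ⟨coeff 0 f, (totalDegree_eq_zero_iff_eq_C).1 (Nat.le_zero.1 hfd.totalDegree_le)⟩
    exact Subalgebra.algebraMap_mem _ a
  have hfI : f ∈ Submodule.span (MvPolynomial (Var e) K) (G : Set (MvPolynomial (Var e) K)) := by
    rw [← hG]; exact Submodule.subset_span ⟨hf, d, hd, hfd⟩
  obtain ⟨g, -, hg⟩ := Submodule.mem_span_finset.1 hfI
  have hdeg : ∀ s ∈ G, ∃ d', 0 < d' ∧ s.IsHomogeneous d' := fun s hs => (hGS hs).2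
  choose! dg hdg hsg using hdeg
  -- replace the coefficients by homogeneous invariants
  have key : ∀ s ∈ G, ∃ h r : MvPolynomial (Var e) K, IsInv e K h ∧
      h ∈ Algebra.adjoin K (G : Set (MvPolynomial (Var e) K)) ∧
      homogeneousComponent d (g s * s) = h * s + casimir e K (s * r) := by
    intro s hs
    by_cases hle : dg s ≤ d
    · obtain ⟨h, r, hh, hhd, hsum⟩ :=
        exists_decomp e K (homogeneousComponent_isHomogeneous (d - dg s) (g s))
      refine ⟨h, r, hh, ih _ (by have := hdg s hs; omega) h hh hhd, ?_⟩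
      rw [casimir_mul_of_isInv e K (hGS hs).1, mul_comm s, ← add_mul, ← hsum]
      exact homogeneousComponent_mul_of_isHomogeneous (hsg s hs) hle
    · refine ⟨0, 0, (invariants e K).zero_mem, zero_mem _, ?_⟩
      rw [homogeneousComponent_mul_of_isHomogeneous' (hsg s hs) (by omega)]
      simp
  choose! h r hh hhA hcomp using key
  have hf' : f = ∑ s ∈ G, h s * s + casimir e K (∑ s ∈ G, s * r s) := by
    rw [map_sum, ← Finset.sum_add_distrib, ← Finset.sum_congr rfl hcomp, ← map_sum,
      show ∑ x ∈ G, g x * x = f from hg, homogeneousComponent_eq_self hfd]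
  have hinv : IsInv e K (∑ s ∈ G, h s * s) :=
    sum_mem (S := invariants e K) fun s hs => mul_mem (show h s ∈ invariants e K from hh s hs)
      (show s ∈ invariants e K from (hGS hs).1)
  have hz : casimir e K (∑ s ∈ G, s * r s) = 0 := by
    refine casimir_sq e K ?_
    have h1 := congrArg (casimir e K) hf'
    rw [map_add, casimir_eq_zero_of_isInv e K hf, casimir_eq_zero_of_isInv e K hinv, zero_add] at h1
    exact h1.symm
  rw [hf', hz, add_zero]
  exact sum_mem fun s hs => mul_mem (hhA s hs) (Algebra.subset_adjoin hs)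
where
  homogeneousComponent_mul_of_isHomogeneous {p q : MvPolynomial (Var e) K} {d dq : ℕ}
      (hq : q.IsHomogeneous dq) (hle : dq ≤ d) :
      homogeneousComponent d (p * q) = homogeneousComponent (d - dq) p * q := by
    conv_lhs => rw [← sum_homogeneousComponent p, Finset.sum_mul, map_sum]
    rw [Finset.sum_eq_single (d - dq)]
    · have := (homogeneousComponent_isHomogeneous (d - dq) p).mul hq
      rw [Nat.sub_add_cancel hle] at this
      exact homogeneousComponent_eq_self this
    · intro i _ hi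
      rw [homogeneousComponent_of_mem ((mem_homogeneousSubmodule _ _).2
        ((homogeneousComponent_isHomogeneous i p).mul hq)), if_neg (by omega)]
    · intro hi
      have h0 : homogeneousComponent (d - dq) p = 0 :=
        homogeneousComponent_eq_zero (d - dq) p (by simp only [Finset.mem_range] at hi; omega)
      simp [h0]
  homogeneousComponent_mul_of_isHomogeneous' {p q : MvPolynomial (Var e) K} {d dq : ℕ}
      (hq : q.IsHomogeneous dq) (hle : d < dq) :
      homogeneousComponent d (p * q) = 0 := by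
    conv_lhs => rw [← sum_homogeneousComponent p, Finset.sum_mul, map_sum]
    refine Finset.sum_eq_zero fun i _ => ?_
    rw [homogeneousComponent_of_mem ((mem_homogeneousSubmodule _ _).2
      ((homogeneousComponent_isHomogeneous i p).mul hq)), if_neg (by omega)]

end

end Groth.Agent.GrpFieldLib.Wz
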